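import Groth.Agent.FunFld.ASPartial

/-!
Repartitions supported at one place, modulo `A(0) + K`.
-/

namespace Groth.Agent.FunFldLib

open FunFld WithZero

variable {k : Type*} [Field k]

/-- Every rational function has a principal part at a given place. -/
theorem rat_principal_part (P : Place k (RatFunc k)) (r : RatFunc k) :
    ∃ g : RatFunc k, (∀ Q : Place k (RatFunc k), Q ≠ P → Q.1 g ≤ 1) ∧ P.1 (r - g) ≤ 1 := by
  obtain ⟨π, hπ⟩ := exists_val_eq P (-1)
  suffices H : ∀ m : ℕ, ∀ r : RatFunc k, P.1 r ≤ exp (m : ℤ) →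
      ∃ g : RatFunc k, (∀ Q : Place k (RatFunc k), Q ≠ P → Q.1 g ≤ 1) ∧ P.1 (r - g) ≤ 1 by
    rcases eq_or_ne r 0 with h | h
    · exact H 0 r (by rw [h, map_zero]; exact zero_le)
    exact H (-P.ord r).toNat r (by rw [val_eq_exp P h, exp_le_exp]; omega)
  intro m
  induction m with
  | zero => exact fun r hr => ⟨0, fun Q _ => by simp, by simpa using hr⟩
  | succ m ih =>
    intro r hr
    have hc : P.1 (r * π ^ (m + 1)) ≤ 1 := by
      rw [map_mul, map_pow, hπ]
      refine (mul_le_mul' hr le_rfl).trans_eq ?_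
      rw [← exp_nsmul, ← exp_add, ← exp_zero, exp_inj, nsmul_eq_mul]; push_cast; ring
    obtain ⟨g₁, hg1, -, hg3⟩ := rat_exists_leading P (Nat.succ_pos m) π hπ hc
    rw [← sub_mul, map_mul, map_pow, hπ, Valuation.map_sub_swap] at hg3
    obtain ⟨g₂, hg4, hg5⟩ := ih (r - g₁) (by
      rcases eq_or_ne (r - g₁) 0 with h | h
      · rw [h, map_zero]; exact zero_le
      rw [val_eq_exp P h, exp_le_exp]
      rw [val_eq_exp P h, ← exp_nsmul, ← exp_add, ← exp_zero, exp_lt_exp, nsmul_eq_mul] at hg3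
      push_cast at hg3
      omega)
    exact ⟨g₁ + g₂, fun Q hQ => (Q.1.map_add _ _).trans (max_le (hg1 Q hQ) (hg4 Q hQ)), by rwa [← sub_sub]⟩

variable {K : Type*} [Field K] [Algebra k K] [Algebra (RatFunc k) K] [IsScalarTower k (RatFunc k) K]
  [FiniteDimensional (RatFunc k) K]

open Classical in
/-- A rational component at a place with no partner is `0` modulo `A(0) + K`. -/
theorem single_rat_mem {P : Place k (RatFunc k)} {Q : Place k K} (hQ : IsOver Q P)
    (huniq : ∀ R : Place k K, IsOver R P → R = Q) (r : RatFunc k) :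
    (Pi.single Q (algebraMap (RatFunc k) K r) : Place k K → K) ∈
      AD (0 : Divisor k K) ⊔ LinearMap.range (diag k K) := by
  obtain ⟨g, hg, hrg⟩ := rat_principal_part P r
  have hA : (Pi.single Q (algebraMap (RatFunc k) K r) : Place k K → K) - diag k K (algebraMap (RatFunc k) K g) ∈
      AD (0 : Divisor k K) := fun R => by
    rw [Finsupp.zero_apply, exp_zero, Pi.sub_apply]
    show R.1 (_ - algebraMap (RatFunc k) K g) ≤ 1
    by_cases h : R = Q
    · subst h
      obtain ⟨e, he⟩ := hQ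
      rw [Pi.single_eq_same, ← map_sub, he]
      exact pow_le_one₀ zero_le hrg
    · obtain ⟨e, he⟩ := isOver_below (K := RatFunc k) R
      rw [Pi.single_eq_of_ne h, zero_sub, Valuation.map_neg, he]
      exact pow_le_one₀ zero_le (hg _ fun hP => h (huniq R (hP ▸ ⟨e, he⟩)))
  have := add_mem (Submodule.mem_sup_left hA)
    (Submodule.mem_sup_right (S := AD (0 : Divisor k K)) (LinearMap.mem_range_self (diag k K) (algebraMap (RatFunc k) K g)))
  rwa [sub_add_cancel] at this

/-- The place over a pole `α` is unique and totally ramified. -/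
theorem as_place_over (hdeg : Module.finrank (RatFunc k) K = 2) {y : K} {f : RatFunc k}
    (heq : y ^ 2 + y = algebraMap (RatFunc k) K f) {B : Finset k} {d : k → ℕ} (hd : ∀ α ∈ B, Odd (d α))
    (hpole : ∀ (p : Place k (RatFunc k)) (α : k), α ∈ B → p.1 (lin α) < 1 → p.ord f = -(d α : ℤ))
    {α : k} (hα : α ∈ B) {Q : Place k K}
    (hQ : Q.1 ((algebraMap (RatFunc k) K RatFunc.X) - algebraMap k K α) < 1) :
    ∃ P : Place k (RatFunc k), P.1 (lin α) < 1 ∧ IsOverWith Q P 2 ∧ (∀ R : Place k K, IsOver R P → R = Q) ∧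
      Q.ord y = -(d α : ℤ) := by
  obtain ⟨e, he⟩ := isOver_below (K := RatFunc k) Q
  rw [← algebraMap_lin, he] at hQ
  have hlt := (pow_lt_one_iff_of_nonneg zero_le (isOverWith_pos he).ne').1 hQ
  have hpo := hpole _ α hα hlt
  obtain ⟨m, hm⟩ := hd α hα
  have hr := as_ramified (K := K) isFunctionField_ratFunc hdeg heq (by rw [hpo]; omega)
    (by rw [hpo, odd_neg]; exact ⟨m, by omega⟩)
  exact ⟨_, hlt, (hr.2 Q ⟨e, he⟩).1, fun R hR => hr.1.unique hR ⟨e, he⟩, (hr.2 Q ⟨e, he⟩).2.2.trans hpo⟩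

end Groth.Agent.FunFldLib
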