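import Groth.Agent.FunFld.ArtinSchreier

/-!
Genus of `y ^ 2 + y = f` with all poles of odd order.
-/

namespace Groth.Agent.FunFldLib

open FunFld WithZero

variable {k : Type*} [Field k] [CharP k 2] {K : Type*} [Field K] [Algebra k K] [Algebra (RatFunc k) K]
  [IsScalarTower k (RatFunc k) K] [FiniteDimensional (RatFunc k) K]

/-- Integrality of `a + b y` above a place. -/
theorem as_intAbove_iff (hdeg : Module.finrank (RatFunc k) K = 2) {y : K}
    (hy : y ∉ Set.range (algebraMap (RatFunc k) K)) {f : RatFunc k}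
    (heq : y ^ 2 + y = algebraMap (RatFunc k) K f) (P : Place k (RatFunc k)) (d : ℤ)
    (hd : (0 ≤ P.ord f ∧ d = 0) ∨ (P.ord f < 0 ∧ P.ord f = 1 - 2 * d)) (a b : RatFunc k) :
    IntAbove P (algebraMap _ K a + algebraMap _ K b * y) ↔ P.1 a ≤ 1 ∧ P.1 b ≤ exp (-d) := by
  have hF := isFunctionField_ratFunc (k := k)
  have h2 : (2 : RatFunc k) = 0 := as_two_eq_zero k
  rcases hd with ⟨hno, rfl⟩ | ⟨hneg, hord⟩
  · have hf : P.1 f ≤ 1 := by
      rcases eq_or_ne f 0 with rfl | hf0
      · simp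
      exact (val_le_one_iff P hf0).2 hno
    rw [neg_zero, exp_zero]
    constructor
    · intro h
      have hb : P.1 b ≤ 1 := by
        have := val_trace_le_one hF h
        rwa [as_trace hdeg hy heq, h2, zero_mul, zero_sub, Valuation.map_neg] at this
      refine ⟨?_, hb⟩
      obtain ⟨Q, hQ⟩ := exists_above (K' := K) hF P
      have he := isOverWith_ramIdx hQ
      have hby : Q.1 (algebraMap (RatFunc k) K b * y) ≤ 1 := by
        rw [map_mul, he]; exact mul_le_one' (pow_le_one₀ zero_le hb) (as_y_le_one heq hf hQ)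
      have h1 := (Q.1.map_sub _ _).trans (max_le (h Q hQ) hby)
      rwa [add_sub_cancel_right, he, pow_le_one_iff_of_nonneg zero_le (isOverWith_pos he).ne'] at h1
    · rintro ⟨ha, hb⟩ Q hQ
      obtain ⟨e, he⟩ := hQ
      refine (Q.1.map_add _ _).trans (max_le ?_ ?_)
      · rw [he]; exact pow_le_one₀ zero_le ha
      · rw [map_mul, he]; exact mul_le_one' (pow_le_one₀ zero_le hb) (as_y_le_one heq hf ⟨e, he⟩)
  · obtain ⟨⟨Q, hQ, huniq⟩, hall⟩ := as_ramified (K := K) hF hdeg heq hneg (by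
      rw [hord]; exact ⟨-d, by ring⟩)
    obtain ⟨he, -, hyo⟩ := hall Q hQ
    have hy0 : y ≠ 0 := fun h => hy ⟨0, by rw [map_zero, h]⟩
    have hA : Q.1 (algebraMap (RatFunc k) K a) = P.1 a ^ 2 := he a
    have hB : Q.1 (algebraMap (RatFunc k) K b * y) = P.1 b ^ 2 * exp (2 * d - 1) := by
      rw [map_mul, he, val_eq_exp Q hy0, hyo, hord]; congr 2; ring
    have hiff : Q.1 (algebraMap _ K a + algebraMap _ K b * y) =
        max (Q.1 (algebraMap (RatFunc k) K a)) (Q.1 (algebraMap (RatFunc k) K b * y)) := by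
      rcases eq_or_ne a 0 with rfl | ha
      · simp
      rcases eq_or_ne b 0 with rfl | hb
      · simp
      refine Q.1.map_add_of_distinct_val ?_
      rw [hA, hB, val_eq_exp P ha, val_eq_exp P hb, ← exp_nsmul, ← exp_nsmul, ← exp_add, Ne, exp_inj, nsmul_eq_mul,
        nsmul_eq_mul]
      push_cast; omega
    have hkey : (P.1 b ^ 2 * exp (2 * d - 1) ≤ 1) ↔ P.1 b ≤ exp (-d) := by
      rcases eq_or_ne b 0 with rfl | hb
      · simp
      rw [val_eq_exp P hb, ← exp_nsmul, ← exp_add, ← exp_zero, exp_le_exp, exp_le_exp, nsmul_eq_mul]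
      push_cast; omega
    constructor
    · intro h
      have := h Q hQ
      rw [hiff, max_le_iff, hA, hB, hkey, pow_le_one_iff_of_nonneg zero_le two_ne_zero] at this
      exact this
    · rintro ⟨ha, hb⟩ R hR
      rw [huniq R hR, hiff, max_le_iff, hA, hB, hkey, pow_le_one_iff_of_nonneg zero_le two_ne_zero]
      exact ⟨ha, hb⟩

theorem genus_artinSchreier (hK : IsFunctionField k K) (hdeg : Module.finrank (RatFunc k) K = 2) {y : K}
    (hy : y ∉ Set.range (algebraMap (RatFunc k) K)) {f : RatFunc k}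
    (heq : y ^ 2 + y = algebraMap (RatFunc k) K f)
    (D : Divisor k (RatFunc k))
    (hD : ∀ P : Place k (RatFunc k),
      (0 ≤ P.ord f ∧ D P = 0) ∨ (P.ord f < 0 ∧ P.ord f = 1 - 2 * D P)) :
    (genus k K : ℤ) = D.deg - 1 := by
  classical
  have hF := isFunctionField_ratFunc (k := k)
  obtain ⟨Pi, hPi⟩ := rat_exists_inf (k := k)
  set n := (genus k K : ℤ) + |D.deg| + 1 with hn
  have habs := abs_nonneg D.deg
  have habs' := le_abs_self D.deg
  set N₀ : Divisor k (RatFunc k) := Finsupp.single Pi n with hN₀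
  have hN₀deg : N₀.deg = n := by rw [hN₀, deg_single, rat_deg_inf Pi hPi]; simp
  let N : Divisor k K := conorm K N₀
  have hNdeg : N.deg = 2 * n := by rw [deg_conorm hF, hN₀deg, hdeg]; norm_num
  have hmem : ∀ a b : RatFunc k, algebraMap _ K a + algebraMap _ K b * y ∈ L N ↔
      a ∈ L N₀ ∧ b ∈ L (N₀ - D) := fun a b => by
    have hP : ∀ P : Place k (RatFunc k),
        ((∀ Q : Place k K, IsOver Q P → Q.1 (algebraMap _ K a + algebraMap _ K b * y) ≤ exp (N Q)) ↔
          P.1 a ≤ exp (N₀ P) ∧ P.1 b ≤ exp ((N₀ - D) P)) := fun P => by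
      obtain ⟨c, hc⟩ := exists_val_eq P (-(N₀ P))
      have hscale : ∀ (x : RatFunc k) (m : ℤ), P.1 (c * x) ≤ exp m ↔ P.1 x ≤ exp (N₀ P + m) := fun x m => by
        rw [map_mul, hc, exp_neg, inv_mul_le_iff₀ exp_pos, ← exp_add]
      have h := as_intAbove_iff hdeg hy heq P (D P) (hD P) (c * a) (c * b)
      rw [show P.1 (c * a) ≤ 1 ↔ P.1 (c * a) ≤ exp 0 by rw [exp_zero], hscale, hscale, add_zero,
        ← sub_eq_add_neg, ← Finsupp.sub_apply] at h
      rw [← h]
      refine forall_congr' fun Q => forall_congr' fun hQ => ?_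
      rw [map_mul (algebraMap (RatFunc k) K), map_mul (algebraMap (RatFunc k) K), mul_assoc, ← mul_add, map_mul,
        show N Q = conorm K N₀ Q from rfl, conorm_apply hF, (isOver_iff_below Q P).1 hQ, isOverWith_ramIdx hQ, hc,
        ← exp_nsmul, nsmul_eq_mul, mul_neg, exp_neg, inv_mul_le_iff₀ exp_pos, mul_one, mul_comm (N₀ P)]
    constructor
    · intro h
      exact ⟨fun P => ((hP P).1 fun Q _ => h Q).1, fun P => ((hP P).1 fun Q _ => h Q).2⟩
    · rintro ⟨ha, hb⟩ Q
      exact (hP _).2 ⟨ha _, hb _⟩ Q (isOver_below Q)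
  let j : RatFunc k →ₗ[k] K := (Algebra.linearMap (RatFunc k) K).restrictScalars k
  let Φ : (L N₀ × L (N₀ - D)) →ₗ[k] K :=
    (j ∘ₗ (L N₀).subtype).coprod (LinearMap.mulRight k y ∘ₗ j ∘ₗ (L (N₀ - D)).subtype)
  have hΦ : ∀ p, Φ p = algebraMap (RatFunc k) K p.1.1 + algebraMap (RatFunc k) K p.2.1 * y := fun p => rfl
  have hinj : Function.Injective Φ := by
    rw [injective_iff_map_eq_zero]
    intro p hp
    rw [hΦ] at hp
    have hb : (p.2.1 : RatFunc k) = 0 := by
      by_contra hb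
      refine hy ⟨-p.1.1 / p.2.1, ?_⟩
      rw [map_div₀, map_neg, div_eq_iff (by simpa using hb)]
      linear_combination -hp
    rw [hb, map_zero, zero_mul, add_zero, map_eq_zero] at hp
    exact Prod.ext (Subtype.ext hp) (Subtype.ext hb)
  have hrange : LinearMap.range Φ = L N := by
    apply le_antisymm
    · rintro _ ⟨p, rfl⟩
      rw [hΦ, hmem]; exact ⟨p.1.2, p.2.2⟩
    · intro u hu
      obtain ⟨a, b, rfl⟩ := quad_repr hdeg hy u
      exact ⟨(⟨a, ((hmem a b).1 hu).1⟩, ⟨b, ((hmem a b).1 hu).2⟩), rfl⟩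
  have h1 : (ell N₀ : ℤ) = n + 1 := by rw [rat_ell (by omega), hN₀deg]
  have hdsub : (N₀ - D).deg = n - D.deg := by rw [deg_sub, hN₀deg]
  have h2 : (ell (N₀ - D) : ℤ) = n - D.deg + 1 := by rw [rat_ell (by rw [hdsub]; omega), hdsub]
  have : FiniteDimensional k (L N₀) := Module.finite_of_finrank_pos (show 0 < ell N₀ by omega)
  have : FiniteDimensional k (L (N₀ - D)) := Module.finite_of_finrank_pos (show 0 < ell (N₀ - D) by omega)
  have hell : ell N = ell N₀ + ell (N₀ - D) := by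
    rw [ell, ← hrange, LinearMap.finrank_range_of_inj hinj, Module.finrank_prod]; rfl
  have hRR := ell_eq_of_deg_ge hK (D := N) (by rw [hNdeg]; omega)
  rw [hNdeg, hell, Nat.cast_add, h1, h2] at hRR
  omega

end Groth.Agent.FunFldLib
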