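import Groth.Agent.FunFld.QuadDiff

/-!
`y ^ 2 + y = f` over an algebraically closed field with poles at finitely many finite points.
-/

namespace Groth.Agent.FunFldLib

open FunFld WithZero

variable {k : Type*} [Field k]

/-- The factor `x - α`. -/
noncomputable def lin (α : k) : RatFunc k := RatFunc.X - RatFunc.C α

theorem lin_eq_polR (α : k) : lin α = polR (Polynomial.X - Polynomial.C α) := by
  simp [lin, polR]

theorem lin_ne_zero (α : k) : lin α ≠ 0 := by
  rw [lin_eq_polR]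
  exact (map_ne_zero_iff _ (RatFunc.algebraMap_injective k)).2 (Polynomial.X_sub_C_ne_zero α)

theorem rat_val_lin_self {P : Place k (RatFunc k)} {α : k} (h : P.1 (lin α) < 1) : P.1 (lin α) = exp (-1) := by
  rw [lin_eq_polR] at h ⊢
  exact rat_val_prime P (Polynomial.irreducible_X_sub_C α) h

theorem rat_X_le_of_lin {P : Place k (RatFunc k)} {α : k} (h : P.1 (lin α) < 1) : P.1 RatFunc.X ≤ 1 := by
  rw [lin_eq_polR] at h
  exact rat_val_X_of_prime P (Polynomial.X_sub_C_ne_zero α) h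

theorem rat_val_lin_other {P : Place k (RatFunc k)} {α β : k} (h : P.1 (lin α) < 1) (hne : β ≠ α) :
    P.1 (lin β) = 1 := by
  rw [lin_eq_polR] at h ⊢
  refine rat_val_eq_one P (Polynomial.irreducible_X_sub_C α) h fun hd => hne ?_
  rw [Polynomial.dvd_iff_isRoot] at hd
  simpa [sub_eq_zero, eq_comm] using hd

theorem rat_val_lin_inf {P : Place k (RatFunc k)} (hX : 1 < P.1 RatFunc.X) (α : k) : P.1 (lin α) = exp 1 := by
  rw [lin_eq_polR, rat_val_pol_inf P hX (Polynomial.X_sub_C_ne_zero α), rat_val_X_inf P hX,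
    Polynomial.natDegree_X_sub_C, pow_one]

theorem rat_exists_lin [IsAlgClosed k] {P : Place k (RatFunc k)} (hX : P.1 RatFunc.X ≤ 1) :
    ∃ α : k, P.1 (lin α) < 1 := by
  obtain ⟨t, htv, ⟨-, p, hp, rfl⟩ | ⟨h, -⟩⟩ := exists_ratParam P
  · obtain ⟨α, hα⟩ := IsAlgClosed.exists_root p (fun h => hp.natDegree_pos.ne'
      (Polynomial.natDegree_eq_zero_iff_degree_le_zero.2 h.le))
    obtain ⟨q, hq⟩ := Polynomial.dvd_iff_isRoot.2 hα
    refine ⟨α, ?_⟩
    have hu : IsUnit q := (hp.isUnit_or_isUnit hq).resolve_left (Polynomial.not_isUnit_X_sub_C α)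
    obtain ⟨c, hc, rfl⟩ := Polynomial.isUnit_iff.1 hu
    have h1 : P.1 (polR (Polynomial.C c)) = 1 := by
      rw [polR, ← Polynomial.algebraMap_eq, ← IsScalarTower.algebraMap_apply]
      exact val_algebraMap P hc.ne_zero
    rw [hq, polR, map_mul, map_mul] at htv
    rw [lin_eq_polR, polR]
    rw [show P.1 (algebraMap _ _ (Polynomial.C c)) = 1 from h1, mul_one] at htv
    rw [htv, ← exp_zero, exp_lt_exp]; norm_num
  · exact absurd hX (not_le.2 h)

theorem rat_place_unique {p : Polynomial k} (hp : Irreducible p) {P P' : Place k (RatFunc k)}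
    (h : P.1 (polR p) < 1) (h' : P'.1 (polR p) < 1) : P = P' := by
  refine place_ext fun z hz => ?_
  rcases eq_or_ne z 0 with rfl | hz0
  · simp
  have hnd : ¬ p ∣ z.denom := fun hd => by
    have hnn : ¬ p ∣ z.num := fun hn => hp.not_isUnit ((RatFunc.isCoprime_num_denom z).isUnit_of_dvd' hn hd)
    have e := congrArg P.1 (RatFunc.num_div_denom z)
    rw [map_div₀, show P.1 (algebraMap _ _ z.num) = 1 from rat_val_eq_one P hp h hnn] at e
    obtain ⟨w, hw⟩ := hd
    have hlt : P.1 (polR z.denom) < 1 := by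
      rw [hw, polR, map_mul, map_mul]
      exact lt_of_le_of_lt (mul_le_of_le_one_right' (rat_val_pol_le_one P (rat_val_X_of_prime P hp.ne_zero h) w)) h
    rw [← e, one_div, inv_le_one₀ (zero_lt_iff.2 (val_ne_zero P (by simpa using z.denom_ne_zero)))] at hz
    exact absurd hlt (not_lt.2 hz)
  rw [← RatFunc.num_div_denom z, map_div₀, show P'.1 (algebraMap _ _ z.denom) = 1 from rat_val_eq_one P' hp h' hnd,
    div_one]
  exact rat_val_pol_le_one P' (rat_val_X_of_prime P' hp.ne_zero h') _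

theorem rat_lin_place_unique {α : k} {P P' : Place k (RatFunc k)} (h : P.1 (lin α) < 1) (h' : P'.1 (lin α) < 1) :
    P = P' := by
  rw [lin_eq_polR] at h h'
  exact rat_place_unique (Polynomial.irreducible_X_sub_C α) h h'

theorem rat_lin_exists_place (α : k) : ∃ P : Place k (RatFunc k), P.1 (lin α) < 1 := by
  rw [lin_eq_polR]
  exact rat_exists_place (Polynomial.irreducible_X_sub_C α)

/-- A polynomial small at `α` and of small degree vanishes. -/
theorem rat_pol_eq_zero_of_val {P : Place k (RatFunc k)} {α : k} (h : P.1 (lin α) < 1) {m : ℕ} {g : Polynomial k}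
    (hv : P.1 (polR g) ≤ exp (-(m : ℤ))) (hd : g = 0 ∨ g.natDegree < m) : g = 0 := by
  by_contra hg
  have hlt := hd.resolve_left hg
  obtain ⟨n, a, hna, rfl⟩ := WfDvdMonoid.max_power_factor' hg (Polynomial.irreducible_X_sub_C α).not_isUnit
  have hva : P.1 (polR a) = 1 := rat_val_eq_one P (Polynomial.irreducible_X_sub_C α) (by rw [← lin_eq_polR]; exact h) hna
  rw [polR, map_mul, map_pow, map_mul, map_pow,
    show P.1 (algebraMap _ _ (Polynomial.X - Polynomial.C α)) = exp (-1) from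
      (congrArg P.1 (lin_eq_polR α)).symm.trans (rat_val_lin_self h), show P.1 (algebraMap _ _ a) = 1 from hva, mul_one, ← exp_nsmul,
    exp_le_exp, nsmul_eq_mul] at hv
  have hdeg : n ≤ ((Polynomial.X - Polynomial.C α) ^ n * a).natDegree := by
    have := Polynomial.natDegree_le_of_dvd (dvd_mul_right ((Polynomial.X - Polynomial.C α) ^ n) a) hg
    rwa [Polynomial.natDegree_pow, Polynomial.natDegree_X_sub_C, mul_one] at this
  omega

variable [IsAlgClosed k] {B : Finset k} {d : k → ℕ} {f : RatFunc k}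

/-- The pole divisor data. -/
theorem as_partial_data (hd : ∀ α ∈ B, Odd (d α))
    (hpole : ∀ (p : Place k (RatFunc k)) (α : k), α ∈ B → p.1 (lin α) < 1 → p.ord f = -(d α : ℤ))
    (hint : ∀ p : Place k (RatFunc k), (∀ α ∈ B, 1 ≤ p.1 (lin α)) → p.1 f ≤ 1) :
    ∃ D : Divisor k (RatFunc k),
      (∀ P : Place k (RatFunc k), (0 ≤ P.ord f ∧ D P = 0) ∨ (P.ord f < 0 ∧ P.ord f = 1 - 2 * D P)) ∧
      (∀ P : Place k (RatFunc k), ∀ α ∈ B, P.1 (lin α) < 1 → D P = (((d α + 1) / 2 : ℕ) : ℤ)) ∧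
      (∀ P : Place k (RatFunc k), (∀ α ∈ B, 1 ≤ P.1 (lin α)) → D P = 0) ∧
      (∀ P : Place k (RatFunc k), P.1 RatFunc.X ≤ 1 →
        P.ord (polR (∏ α ∈ B, (Polynomial.X - Polynomial.C α) ^ ((d α + 1) / 2))) = D P) ∧
      D.deg = ((∑ α ∈ B, (d α + 1) / 2 : ℕ) : ℤ) := by
  classical
  have hno : ∀ P : Place k (RatFunc k), (∀ α ∈ B, 1 ≤ P.1 (lin α)) → 0 ≤ P.ord f := fun P hP => by
    rcases eq_or_ne f 0 with h | h
    · simp [h]
    exact (val_le_one_iff P h).1 (hint P hP)
  obtain ⟨D, hD⟩ := as_exists_D f fun P hP => by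
    by_cases h : ∀ α ∈ B, 1 ≤ P.1 (lin α)
    · exact absurd hP (not_lt.2 (hno P h))
    push Not at h
    obtain ⟨α, hα, hlt⟩ := h
    rw [hpole P α hα hlt, odd_neg]
    exact_mod_cast hd α hα
  have h1 : ∀ P : Place k (RatFunc k), ∀ α ∈ B, P.1 (lin α) < 1 → D P = (((d α + 1) / 2 : ℕ) : ℤ) := fun P α hα h => by
    obtain ⟨m, hm⟩ := hd α hα
    rcases hD P with ⟨h1, h2⟩ | ⟨h1, h2⟩ <;> rw [hpole P α hα h] at h1 <;> [skip; rw [hpole P α hα h] at h2] <;> omega
  have h0 : ∀ P : Place k (RatFunc k), (∀ α ∈ B, 1 ≤ P.1 (lin α)) → D P = 0 := fun P hP => by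
    rcases hD P with ⟨-, h2⟩ | ⟨h3, -⟩
    · exact h2
    · exact absurd h3 (not_lt.2 (hno P hP))
  set q := ∏ α ∈ B, (Polynomial.X - Polynomial.C α) ^ ((d α + 1) / 2)
  have hq : ∀ P : Place k (RatFunc k), P.1 RatFunc.X ≤ 1 → P.ord (polR q) = D P := fun P hP => by
    obtain ⟨β, hβ⟩ := rat_exists_lin hP
    have hv : P.1 (polR q) = ∏ α ∈ B, P.1 (lin α) ^ ((d α + 1) / 2) := by
      simp only [q, polR, map_prod, map_pow, lin_eq_polR]
    have hbad : β ∉ B → ∀ α ∈ B, P.1 (lin α) = 1 := fun hb α hα =>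
      rat_val_lin_other hβ fun he => hb (he ▸ hα)
    by_cases hb : β ∈ B
    · rw [Finset.prod_eq_single_of_mem β hb fun α _ hne => by rw [rat_val_lin_other hβ hne, one_pow],
        rat_val_lin_self hβ, ← exp_nsmul] at hv
      rw [ord_eq_of_val P hv, h1 P β hb hβ]; simp
    · rw [Finset.prod_eq_one fun α hα => by rw [hbad hb α hα, one_pow]] at hv
      rw [ord_eq_of_val P (n := 0) (by rw [hv, exp_zero]), h0 P fun α hα => (hbad hb α hα).ge]; simp
  refine ⟨D, hD, h1, h0, hq, ?_⟩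
  obtain ⟨Pi, hPi⟩ := rat_exists_inf (k := k)
  have hmonic : ∀ α ∈ B, ((Polynomial.X - Polynomial.C α) ^ ((d α + 1) / 2)).Monic :=
    fun α _ => (Polynomial.monic_X_sub_C α).pow _
  rw [rat_pole_deg (Polynomial.monic_prod_of_monic _ _ hmonic).ne_zero hPi hq,
    Polynomial.natDegree_prod_of_monic _ _ hmonic, h0 Pi fun α _ => by
      rw [rat_val_lin_inf hPi, ← exp_zero, exp_le_exp]; norm_num, add_zero]
  congr 1
  exact Finset.sum_congr rfl fun α _ => by rw [Polynomial.natDegree_pow, Polynomial.natDegree_X_sub_C, mul_one]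

variable {K : Type*} [Field K] [Algebra k K] [Algebra (RatFunc k) K] [IsScalarTower k (RatFunc k) K]

omit [IsAlgClosed k] in
theorem algebraMap_lin (α : k) :
    algebraMap (RatFunc k) K (lin α) = algebraMap (RatFunc k) K RatFunc.X - algebraMap k K α := by
  rw [lin, map_sub, ← RatFunc.algebraMap_eq_C, ← IsScalarTower.algebraMap_apply k (RatFunc k) K]

end Groth.Agent.FunFldLib
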