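import Groth.Agent.FunFld.Constants
import Groth.Prelude.Def_W4bk4goldsch23Ext
import Groth.Prelude.Def_W4bk4goldsch45

/-!
Places in a finite extension: existence below and above, `∑ e deg Q = n deg P`, conorms.
-/

namespace Groth.Agent.FunFldLib

open FunFld WithZero

section Uniq

variable {k K K' : Type*} [Field k] [Field K] [Field K'] [Algebra k K] [Algebra K K'] [Algebra k K']

theorem isOverWith_pos {Q : Place k K'} {P : Place k K} {e : ℕ} (h : IsOverWith Q P e) : 0 < e := by
  by_contra h0
  obtain rfl : e = 0 := by omega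
  have := h 0
  simp at this

theorem isOverWith_ord {Q : Place k K'} {P : Place k K} {e : ℕ} (h : IsOverWith Q P e) {z : K}
    (hz : z ≠ 0) : Q.ord (algebraMap K K' z) = e * P.ord z := by
  refine (ord_eq_of_val Q (n := -(e * P.ord z)) ?_).trans (neg_neg _)
  rw [h z, val_eq_exp P hz, ← exp_nsmul, nsmul_eq_mul, mul_neg]

theorem isOverWith_of_ord {Q : Place k K'} {P : Place k K} {e : ℕ} (he : 0 < e)
    (h : ∀ z : K, z ≠ 0 → Q.ord (algebraMap K K' z) = e * P.ord z) : IsOverWith Q P e := fun z => by
  rcases eq_or_ne z 0 with rfl | hz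
  · simp [he.ne']
  rw [val_eq_exp Q (by simpa using hz), h z hz, val_eq_exp P hz, ← exp_nsmul, nsmul_eq_mul, mul_neg]

theorem isOverWith_unique {Q : Place k K'} {P P' : Place k K} {e e' : ℕ} (h : IsOverWith Q P e)
    (h' : IsOverWith Q P' e') : P = P' ∧ e = e' := by
  have hP : P = P' := place_ext fun x hx => by
    by_contra hlt
    have h1 : Q.1 (algebraMap K K' x) ≤ 1 := by rw [h]; exact pow_le_one₀ zero_le hx
    rw [h'] at h1
    exact hlt ((pow_le_one_iff_of_nonneg zero_le (isOverWith_pos h').ne').1 h1)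
  subst hP
  obtain ⟨t, ht⟩ := exists_val_eq P (-1)
  have ht0 := ne_zero_of_val P ht
  have h1 := isOverWith_ord h ht0
  rw [isOverWith_ord h' ht0, ord_eq_of_val P ht] at h1
  exact ⟨rfl, by omega⟩

theorem ramIdx_eq {Q : Place k K'} {P : Place k K} {e : ℕ} (h : IsOverWith Q P e) : ramIdx Q P = e := by
  classical
  have hex : IsOver Q P := ⟨e, h⟩
  rw [ramIdx, dif_pos hex]
  exact (isOverWith_unique (Nat.find_spec hex) h).2

theorem isOverWith_ramIdx {Q : Place k K'} {P : Place k K} (h : IsOver Q P) : IsOverWith Q P (ramIdx Q P) := by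
  obtain ⟨e, he⟩ := h
  rwa [ramIdx_eq he]

theorem isOverWith_trans {K'' : Type*} [Field K''] [Algebra k K''] [Algebra K' K''] [Algebra K K'']
    [IsScalarTower K K' K''] {R : Place k K''} {Q : Place k K'} {P : Place k K} {e e' : ℕ}
    (h : IsOverWith R Q e) (h' : IsOverWith Q P e') : IsOverWith R P (e' * e) := fun x => by
  rw [IsScalarTower.algebraMap_apply K K' K'', h, h', pow_mul]

theorem eq_of_isOver {Q : Place k K'} {P P' : Place k K} (h : IsOver Q P) (h' : IsOver Q P') : P = P' :=
  (isOverWith_unique (isOverWith_ramIdx h) (isOverWith_ramIdx h')).1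

end Uniq

variable {k K K' : Type*} [Field k] [Field K] [Field K'] [Algebra k K] [Algebra K K'] [Algebra k K']
  [IsScalarTower k K K'] [FiniteDimensional K K']

/-- Every place of `K'` lies over a place of `K`. -/
theorem exists_below (Q : Place k K') : ∃ (P : Place k K) (e : ℕ), IsOverWith Q P e := by
  classical
  have hne : ∃ z : K, z ≠ 0 ∧ Q.ord (algebraMap K K' z) ≠ 0 := by
    by_contra hall
    push Not at hall
    obtain ⟨t, ht⟩ := exists_val_eq Q (-1)
    have ht0 := ne_zero_of_val Q ht
    have hint : IsIntegral K t := .of_finite K t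
    have hv : ∀ z : K, z ≠ 0 → Q.1 (algebraMap K K' z) = 1 := fun z hz => by
      rw [val_eq_exp Q (by simpa using hz), hall z hz, neg_zero, exp_zero]
    have h0 : (minpoly K t).coeff 0 ≠ 0 := minpoly.coeff_zero_ne_zero hint ht0
    have hsum := minpoly.aeval K t
    rw [Polynomial.aeval_eq_sum_range] at hsum
    have h := Q.1.map_sum_eq_of_lt (f := fun i => (minpoly K t).coeff i • t ^ i)
      (s := Finset.range ((minpoly K t).natDegree + 1)) (j := 0) (by simp) fun i hi => by
        simp only [Finset.mem_sdiff, Finset.mem_range, Finset.mem_singleton] at hi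
        simp only [Algebra.smul_def, map_mul, map_pow, pow_zero, mul_one, hv _ h0]
        rcases eq_or_ne ((minpoly K t).coeff i) 0 with h | h
        · simp [h]
        · rw [hv _ h, one_mul, ht]; exact pow_lt_one₀ zero_le (by rw [← exp_zero, exp_lt_exp]; norm_num) hi.2
    rw [hsum, map_zero, pow_zero, Algebra.smul_def, mul_one, hv _ h0] at h
    exact zero_ne_one h
  let H : AddSubgroup ℤ :=
    { carrier := {n | ∃ z : K, z ≠ 0 ∧ Q.ord (algebraMap K K' z) = n}
      add_mem' := by
        rintro a b ⟨x, hx, rfl⟩ ⟨y, hy, rfl⟩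
        exact ⟨x * y, mul_ne_zero hx hy, by rw [map_mul, ord_mul Q (by simpa) (by simpa)]⟩
      zero_mem' := ⟨1, one_ne_zero, by simp⟩
      neg_mem' := by
        rintro a ⟨x, hx, rfl⟩
        exact ⟨x⁻¹, inv_ne_zero hx, by rw [map_inv₀, ord_inv]⟩ }
  obtain ⟨g, hg⟩ := Int.subgroup_cyclic H
  obtain ⟨z₀, hz₀, hz₀o⟩ := hne
  have hgmem : ∀ n, n ∈ H ↔ g ∣ n := fun n => by
    rw [hg, ← AddSubgroup.zmultiples_eq_closure, Int.mem_zmultiples_iff]
  have hg0 : g ≠ 0 := fun h0 => hz₀o (by
    have := (hgmem _).1 ⟨z₀, hz₀, rfl⟩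
    rwa [h0, zero_dvd_iff] at this)
  set e := g.natAbs
  have he : 0 < e := Int.natAbs_pos.2 hg0
  have hdvd : ∀ z : K, z ≠ 0 → (e : ℤ) ∣ Q.ord (algebraMap K K' z) := fun z hz =>
    Int.natAbs_dvd.2 ((hgmem _).1 ⟨z, hz, rfl⟩)
  let v : K → WithZero (Multiplicative ℤ) :=
    fun z => if z = 0 then 0 else exp (-(Q.ord (algebraMap K K' z) / e))
  have hvne : ∀ z : K, z ≠ 0 → v z = exp (-(Q.ord (algebraMap K K' z) / e)) := fun z hz => if_neg hz
  let V : Valuation K (WithZero (Multiplicative ℤ)) :=
    { toFun := v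
      map_zero' := if_pos rfl
      map_one' := by rw [hvne 1 one_ne_zero]; simp
      map_mul' := fun x y => by
        rcases eq_or_ne x 0 with rfl | hx
        · simp [v]
        rcases eq_or_ne y 0 with rfl | hy
        · simp [v]
        rw [hvne _ hx, hvne _ hy, hvne _ (mul_ne_zero hx hy), map_mul, ord_mul Q (by simpa) (by simpa),
          Int.add_ediv_of_dvd_left (hdvd x hx), neg_add, exp_add]
      map_add_le_max' := fun x y => by
        rcases eq_or_ne x 0 with rfl | hx
        · simp
        rcases eq_or_ne y 0 with rfl | hy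
        · simp
        rcases eq_or_ne (x + y) 0 with h | hxy
        · show v (x + y) ≤ _
          rw [show v (x + y) = 0 from if_pos h]; exact zero_le
        rw [hvne _ hx, hvne _ hy, hvne _ hxy, le_max_iff, exp_le_exp, exp_le_exp]
        have := Q.1.map_add (algebraMap K K' x) (algebraMap K K' y)
        rw [← map_add, val_eq_exp Q ((map_ne_zero (algebraMap K K')).2 hxy), val_eq_exp Q (by simpa using hx),
          val_eq_exp Q (by simpa using hy), le_max_iff, exp_le_exp, exp_le_exp] at this
        refine this.imp (fun h => ?_) (fun h => ?_) <;>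
          exact neg_le_neg (Int.ediv_le_ediv (by exact_mod_cast he) (by omega)) }
  have hk : ∀ c : k, V (algebraMap k K c) ≤ 1 := fun c => by
    rcases eq_or_ne c 0 with rfl | hc
    · simp
    show v _ ≤ 1
    rw [hvne _ (by simpa using hc), ← IsScalarTower.algebraMap_apply,
      ord_eq_of_val Q (n := 0) (by rw [val_algebraMap Q hc, exp_zero])]
    simp
  have hs : Function.Surjective V := fun a => by
    rcases eq_or_ne a 0 with rfl | ha
    · exact ⟨0, map_zero V⟩
    obtain ⟨z, hz, hzo⟩ := (hgmem (-(log a) * e)).2 (Dvd.dvd.mul_left (Int.dvd_natAbs.2 dvd_rfl) _)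
    refine ⟨z, ?_⟩
    show v z = a
    rw [hvne z hz, hzo, Int.mul_ediv_cancel _ (by exact_mod_cast he.ne'), neg_neg, exp_log ha]
  refine ⟨⟨V, hk, hs⟩, e, isOverWith_of_ord he fun z hz => ?_⟩
  show _ = (e : ℤ) * -(log (v z))
  rw [hvne z hz, log_exp, neg_neg, Int.mul_ediv_cancel' (hdvd z hz)]

/-- The place below. -/
noncomputable def below (Q : Place k K') : Place k K := (exists_below Q).choose

theorem isOver_below (Q : Place k K') : IsOver Q (below (K := K) Q) := (exists_below Q).choose_spec

theorem isOver_iff_below (Q : Place k K') (P : Place k K) : IsOver Q P ↔ below (K := K) Q = P :=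
  ⟨fun h => eq_of_isOver (isOver_below Q) h, fun h => h ▸ isOver_below Q⟩

omit [FiniteDimensional K K'] in
theorem transcendental_algebraMap {x : K} (hx : Transcendental k x) : Transcendental k (algebraMap K K' x) :=
  fun h => hx ((isAlgebraic_algebraMap_iff (algebraMap K K').injective).1 h)

omit [FiniteDimensional K K'] in
theorem finrank_adjoin_algebraMap (x : K) :
    Module.finrank (IntermediateField.adjoin k ({algebraMap K K' x} : Set K')) K' =
      Module.finrank (IntermediateField.adjoin k ({x} : Set K)) K * Module.finrank K K' := by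
  set F := IntermediateField.adjoin k ({x} : Set K)
  set F' := IntermediateField.adjoin k ({algebraMap K K' x} : Set K')
  rw [Module.finrank_mul_finrank F K K']
  have hmap : F.map (IsScalarTower.toAlgHom k K K') = F' := by
    rw [IntermediateField.adjoin_map, Set.image_singleton]; rfl
  let e : F ≃+* F' := ((IntermediateField.equivMap F (IsScalarTower.toAlgHom k K K')).trans
    (IntermediateField.equivOfEq hmap)).toRingEquiv
  exact (Algebra.finrank_eq_of_equiv_equiv e (RingEquiv.refl K') (RingHom.ext fun z => rfl)).symm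

theorem isFF_of_finite (hK : IsFunctionField k K) : IsFF k K' := by
  obtain ⟨x, hx, hfin⟩ := hK.1
  refine ⟨algebraMap K K' x, transcendental_algebraMap hx, Module.finite_of_finrank_pos ?_⟩
  rw [finrank_adjoin_algebraMap]
  exact Nat.mul_pos Module.finrank_pos Module.finrank_pos

theorem finite_isOver_and_sum (hK : IsFunctionField k K) (P : Place k K) :
    {Q : Place k K' | IsOver Q P}.Finite ∧
      ∀ Qs : Finset (Place k K'), (∀ Q, Q ∈ Qs ↔ IsOver Q P) →
        (∑ Q ∈ Qs, ramIdx Q P * Q.deg) = Module.finrank K K' * P.deg := by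
  classical
  -- a function with poles only at `P`
  obtain ⟨x, hxL, hxt⟩ : ∃ x, x ∈ L (Finsupp.single P ((2 * genus k K + 1 : ℕ) : ℤ)) ∧ Transcendental k x := by
    refine exists_transcendental_mem_L hK ?_
    have hp := deg_pos hK P
    have h1 : (2 * genus k K + 1 : ℕ) ≤ (2 * genus k K + 1) * P.deg := Nat.le_mul_of_pos_right _ hp
    have h3 : Divisor.deg (Finsupp.single P ((2 * genus k K + 1 : ℕ) : ℤ) : Divisor k K) =
        (((2 * genus k K + 1) * P.deg : ℕ) : ℤ) := by rw [deg_single]; push_cast; ring
    have h2 := ell_eq_of_deg_ge hK (D := Finsupp.single P ((2 * genus k K + 1 : ℕ) : ℤ)) (by rw [h3]; omega)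
    rw [h3] at h2
    omega
  have hx0 : x ≠ 0 := by rintro rfl; exact hxt isAlgebraic_zero
  have hother : ∀ R, R ≠ P → 0 ≤ R.ord x := fun R hR => by
    simpa [Finsupp.single_eq_of_ne hR] using (mem_L_iff hx0).1 hxL R
  have hPx : P.ord x < 0 := by
    obtain ⟨R, hR⟩ := (exists_zero_pole hK (x := x) fun ⟨c, hc⟩ => hxt (hc ▸ isAlgebraic_algebraMap c)).2
    rcases eq_or_ne R P with rfl | hne
    · exact hR
    · exact absurd (hother R hne) (not_le.2 hR)
  have hK' := isFF_of_finite (K' := K') hK
  have hiff : ∀ Q : Place k K', IsOver Q P ↔ Q.ord (algebraMap K K' x) < 0 := fun Q => by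
    obtain ⟨e, he⟩ := isOver_below (K := K) Q
    rw [isOverWith_ord he hx0]
    have hpos : (0 : ℤ) < e := by exact_mod_cast isOverWith_pos he
    constructor
    · intro h
      rw [(isOver_iff_below Q P).1 h]
      exact mul_neg_of_pos_of_neg hpos hPx
    · intro h
      refine (isOver_iff_below Q P).2 (by_contra fun hne => ?_)
      exact absurd (mul_nonneg hpos.le (hother _ hne)) (not_le.2 h)
  refine ⟨(finite_poles_ff hK' (algebraMap K K' x)).subset fun Q hQ => (hiff Q).1 hQ, fun Qs hQs => ?_⟩
  have h1 := sum_poles_ff hK' (transcendental_algebraMap (K' := K') hxt) Qs fun Q hQ => (hQs Q).2 ((hiff Q).2 hQ)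
  have h2 : (Module.finrank (IntermediateField.adjoin k ({x} : Set K)) K : ℤ) = -P.ord x * P.deg := by
    rw [← deg_poles hK hxt, show polesDiv k x = Finsupp.single P (-P.ord x) from ?_, deg_single]
    ext R
    rw [polesDiv_apply hK]
    rcases eq_or_ne R P with rfl | hR
    · rw [Finsupp.single_eq_same]; omega
    · rw [Finsupp.single_eq_of_ne hR]; have := hother R hR; omega
  rw [finrank_adjoin_algebraMap, Nat.cast_mul, h2] at h1
  have h3 : ∀ Q ∈ Qs, max (-Q.ord (algebraMap K K' x)) 0 * (Q.deg : ℤ) = -P.ord x * ((ramIdx Q P : ℤ) * Q.deg) :=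
    fun Q hQ => by
      have he := isOverWith_ramIdx ((hQs Q).1 hQ)
      rw [isOverWith_ord he hx0, max_eq_left (by
        have : (0 : ℤ) ≤ (ramIdx Q P : ℤ) := Int.natCast_nonneg _
        nlinarith)]
      ring
  rw [Finset.sum_congr rfl h3, ← Finset.mul_sum] at h1
  have h4 : ∑ Q ∈ Qs, (ramIdx Q P : ℤ) * (Q.deg : ℤ) = (Module.finrank K K' : ℤ) * P.deg :=
    mul_left_cancel₀ (show -P.ord x ≠ 0 by omega) (by rw [h1]; ring)
  exact_mod_cast h4

theorem exists_above (hK : IsFunctionField k K) (P : Place k K) : ∃ Q : Place k K', IsOver Q P := by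
  classical
  obtain ⟨hfin, hsum⟩ := finite_isOver_and_sum (K' := K') hK P
  by_contra h
  push Not at h
  have h0 := hsum ∅ fun Q => by simp [h Q]
  have := Nat.mul_pos (Module.finrank_pos (R := K) (M := K')) (deg_pos hK P)
  rw [Finset.sum_empty] at h0
  omega

open scoped Classical in
theorem conorm_single_apply
    (hf : ∀ P : Place k K, {Q : Place k K' | IsOver Q P}.Finite) (P : Place k K) (n : ℤ) (Q : Place k K') :
    conorm K' (Finsupp.single P n) Q = if below (K := K) Q = P then n * ramIdx Q P else 0 := by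
  classical
  have hfin := hf P
  rw [conorm, Finsupp.sum_single_index (by simp), dif_pos hfin, Finsupp.smul_apply, Finsupp.finsetSum_apply]
  simp only [Finsupp.smul_apply, Finsupp.single_apply, smul_eq_mul, mul_ite, mul_one, mul_zero]
  rw [Finset.sum_ite_eq']
  simp [isOver_iff_below]

open scoped Classical in
theorem conorm_add (D E : Divisor k K) : conorm K' (D + E) = conorm K' D + conorm K' E := by
  rw [conorm, conorm, conorm, Finsupp.sum_add_index]
  · simp
  · intro a _ b₁ b₂
    split_ifs <;> simp [add_smul]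

theorem conorm_apply' (hf : ∀ P : Place k K, {Q : Place k K' | IsOver Q P}.Finite) (D : Divisor k K)
    (Q : Place k K') :
    conorm K' D Q = D (below (K := K) Q) * ramIdx Q (below (K := K) Q) := by
  classical
  induction D using Finsupp.induction_linear with
  | zero => simp [conorm]
  | add f g hf hg => rw [conorm_add, Finsupp.add_apply, hf, hg, Finsupp.add_apply, add_mul]
  | single P n =>
    rw [conorm_single_apply hf, Finsupp.single_apply]
    by_cases h : below (K := K) Q = P
    · rw [if_pos h, if_pos h.symm, h]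
    · rw [if_neg h, if_neg (Ne.symm h), zero_mul]

theorem finite_isOver (hK : IsFunctionField k K) (P : Place k K) : {Q : Place k K' | IsOver Q P}.Finite :=
  (finite_isOver_and_sum hK P).1

theorem conorm_apply (hK : IsFunctionField k K) (D : Divisor k K) (Q : Place k K') :
    conorm K' D Q = D (below (K := K) Q) * ramIdx Q (below (K := K) Q) :=
  conorm_apply' (finite_isOver hK) D Q

theorem deg_conorm (hK : IsFunctionField k K) (D : Divisor k K) :
    (conorm K' D).deg = Module.finrank K K' * D.deg := by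
  classical
  induction D using Finsupp.induction_linear with
  | zero => simp [conorm, deg_zero]
  | add f g hf hg => rw [conorm_add, deg_add, hf, hg, deg_add, mul_add]
  | single P n =>
    obtain ⟨hfin, hsum⟩ := finite_isOver_and_sum (K' := K') hK P
    have h := hsum hfin.toFinset fun Q => hfin.mem_toFinset
    rw [conorm, Finsupp.sum_single_index (by simp), dif_pos hfin, deg_zsmul, deg_eq_degHom_sum, map_sum,
      deg_single]
    simp only [map_zsmul, Finsupp.liftAddHom_apply_single, AddMonoidHom.mulRight_apply, one_mul, smul_eq_mul]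
    have h' : ∑ Q ∈ hfin.toFinset, (ramIdx Q P : ℤ) * (Q.deg : ℤ) = (Module.finrank K K' : ℤ) * P.deg := by
      exact_mod_cast h
    rw [h']; ring

theorem div_algebraMap (hK : IsFunctionField k K) (x : K) :
    div k (algebraMap K K' x) = conorm K' (div k x) := by
  ext Q
  rw [conorm_apply hK, div_apply hK, div_apply_ff (isFF_of_finite hK)]
  rcases eq_or_ne x 0 with rfl | hx
  · simp
  rw [isOverWith_ord (isOverWith_ramIdx (isOver_below Q)) hx]; ring

theorem mapDiv_apply {ι : Type*} [Fintype ι] [Nonempty ι] (hK : IsFF k K) (φ : ι → K) (P : Place k K) :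
    mapDiv k φ P = -Finset.univ.inf' Finset.univ_nonempty fun i => P.ord (φ i) := by
  have hfin : (Function.support fun P : Place k K =>
      -Finset.univ.inf' Finset.univ_nonempty (fun i => P.ord (φ i))).Finite := by
    refine (Set.finite_iUnion fun i => finite_support_ord_ff hK (φ i)).subset fun P hP => ?_
    obtain ⟨i, -, hi⟩ := Finset.exists_mem_eq_inf' Finset.univ_nonempty (fun i => P.ord (φ i))
    refine Set.mem_iUnion.2 ⟨i, ?_⟩
    simp only [Function.mem_support, hi] at hP ⊢
    omega
  rw [mapDiv, dif_pos hfin, Finsupp.ofSupportFinite_coe]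

/-- The divisor of a map read in a bigger field is the conorm. -/
theorem mapDiv_algebraMap {ι : Type*} [Fintype ι] [Nonempty ι] (hK : IsFunctionField k K) (φ : ι → K)
    (hφ : ∀ i, φ i ≠ 0) : mapDiv k (fun i => algebraMap K K' (φ i)) = conorm K' (mapDiv k φ) := by
  ext Q
  rw [conorm_apply hK, mapDiv_apply (isFF_of_finite hK), mapDiv_apply hK.1, neg_mul, mul_comm, neg_inj]
  set e := ramIdx Q (below (K := K) Q)
  refine Eq.trans (Finset.inf'_congr _ rfl fun i _ =>
    isOverWith_ord (isOverWith_ramIdx (isOver_below Q)) (hφ i)) ?_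
  exact (Finset.apply_inf'_eq_inf'_comp Finset.univ_nonempty (fun x : ℤ => (e : ℤ) * x)
    (fun a b => mul_min_of_nonneg a b (Int.natCast_nonneg e))).symm

theorem deg_mapDiv_algebraMap {ι : Type*} [Fintype ι] [Nonempty ι] (hK : IsFunctionField k K) (φ : ι → K)
    (hφ : ∀ i, φ i ≠ 0) :
    (mapDiv k fun i => algebraMap K K' (φ i)).deg = Module.finrank K K' * (mapDiv k φ).deg := by
  rw [mapDiv_algebraMap hK φ hφ, deg_conorm hK]

omit [Algebra K K'] [IsScalarTower k K K'] [FiniteDimensional K K'] in
theorem deg_mapDiv_algHom {ι : Type*} [Fintype ι] [Nonempty ι] (hK : IsFunctionField k K) (τ : K →ₐ[k] K')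
    [FiniteDimensional τ.fieldRange K'] (φ : ι → K) (hφ : ∀ i, φ i ≠ 0) :
    (mapDiv k (τ ∘ φ)).deg = Module.finrank τ.fieldRange K' * (mapDiv k φ).deg := by
  let e : K ≃+* τ.fieldRange := RingEquiv.ofBijective
    (τ.toRingHom.codRestrict τ.fieldRange fun x => ⟨x, rfl⟩)
    ⟨fun a b h => τ.injective (congrArg Subtype.val h), fun ⟨y, a, ha⟩ => ⟨a, Subtype.ext ha⟩⟩
  let alg : Algebra K K' := τ.toRingHom.toAlgebra
  have : IsScalarTower k K K' := IsScalarTower.of_algebraMap_eq fun c => (τ.commutes c).symm
  have heq : Module.finrank K K' = Module.finrank τ.fieldRange K' :=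
    Algebra.finrank_eq_of_equiv_equiv e (RingEquiv.refl K') (RingHom.ext fun z => rfl)
  have : FiniteDimensional K K' := Module.finite_of_finrank_pos (by rw [heq]; exact Module.finrank_pos)
  rw [← heq]
  exact deg_mapDiv_algebraMap hK φ hφ

end Groth.Agent.FunFldLib
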