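import Groth.Agent.FunFld.DivDiff
import Groth.Agent.FunFld.Over

/-!
The different exponent computed on differentials, at places with an expansion.
-/

namespace Groth.Agent.FunFldLib

open FunFld WithZero LaurentSeries

set_option linter.unusedSectionVars false

variable {k K K' : Type*} [Field k] [Field K] [Field K'] [Algebra k K] [Algebra K K'] [Algebra k K']
  [IsScalarTower k K K'] [FiniteDimensional K K'] [Algebra.IsSeparable K K']

theorem D_smul_expansion {k K F : Type*} [Field k] [Field K] [Algebra k K] [Field F] [Algebra k F]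
    (φ : K →ₐ[k] F⸨X⸩) {a u x : K} (h : KaehlerDifferential.D k K u = a • KaehlerDifferential.D k K x) :
    LocRes.D F (φ u) = φ a * LocRes.D F (φ x) := by
  let _i := φ.toRingHom.toAlgebra
  have _t : IsScalarTower k K F⸨X⸩ := LocRes.isScalarTower_exp φ
  have h1 := congrArg (fun ω => (LocRes.dExp φ).liftKaehlerDifferential ω) h
  simp only [map_smul, Derivation.liftKaehlerDifferential_comp_D] at h1
  exact h1

theorem exists_kaehler_ratio (hK : IsFunctionField k K) (hg : IsGeometric k K) {x : K}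
    (hx : KaehlerDifferential.D k K x ≠ 0) (u : K) :
    ∃ a : K, KaehlerDifferential.D k K u = a • KaehlerDifferential.D k K x := by
  obtain ⟨s, hs, hsep⟩ := exists_sepVar hK hg
  have := finiteDimensional_adjoin hK hs
  obtain ⟨H, hH⟩ := exists_hasseFamily hs hsep
  have hu := kaehler_eq_hasseD_smul hH hsep u
  have hx' := kaehler_eq_hasseD_smul hH hsep x
  have hc : LocRes.hasseD H 1 x ≠ 0 := fun h => hx (by rw [hx', h, zero_smul])
  refine ⟨LocRes.hasseD H 1 u / LocRes.hasseD H 1 x, ?_⟩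
  rw [hu, hx', smul_smul, div_mul_cancel₀ _ hc]

theorem kaehler_ne_of_vDiff {k K F : Type*} [Field k] [Field K] [Algebra k K] [Field F] [Algebra k F]
    {φ : K →ₐ[k] F⸨X⸩} {u x : K} (h : LocRes.vDiff φ u x ≠ 0) : KaehlerDifferential.D k K x ≠ 0 := fun h0 => by
  have h1 := D_smul_expansion φ (a := 0) (u := x) (x := x) (by rw [h0, smul_zero])
  rw [map_zero, zero_mul] at h1
  exact h (by rw [LocRes.vDiff, h1, mul_zero, map_zero])

theorem val_D_le_one {F : Type*} [Field F] {f : F⸨X⸩} (hf : Valued.v f ≤ 1) : Valued.v (LocRes.D F f) ≤ 1 := by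
  rw [← exp_zero, ← neg_zero, LaurentSeries.valuation_le_iff_coeff_lt_eq_zero] at hf ⊢
  intro n hn
  rw [LocRes.D_coeff]
  rcases lt_or_ge (n + 1) 0 with h | h
  · rw [hf _ (by simpa using h), smul_zero]
  · rw [show n + 1 = 0 by omega, zero_smul]

/-- The leading term of the derivative. -/
theorem val_D_of_val_eq_exp {F : Type*} [Field F] {f : F⸨X⸩} {e : ℕ} (hf : Valued.v f = exp (-(e : ℤ))) :
    ((e : F) ≠ 0 → Valued.v (LocRes.D F f) = exp (1 - (e : ℤ))) ∧
      ((e : F) = 0 → Valued.v (LocRes.D F f) ≤ exp (-(e : ℤ))) := by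
  have hlow := (LaurentSeries.valuation_le_iff_coeff_lt_eq_zero F).1 hf.le
  have he : f.coeff (e : ℤ) ≠ 0 := fun h => by
    have h2 : Valued.v f ≤ exp (-((e + 1 : ℕ) : ℤ)) := (LaurentSeries.valuation_le_iff_coeff_lt_eq_zero F).2 fun n hn => by
      rcases lt_or_ge n (e : ℤ) with h' | h'
      · exact hlow n h'
      · rw [show n = (e : ℤ) by push_cast at hn; omega, h]
    rw [hf, exp_le_exp] at h2
    omega
  have hDlow : Valued.v (LocRes.D F f) ≤ exp (-((e : ℤ) - 1)) :=
    (LaurentSeries.valuation_le_iff_coeff_lt_eq_zero F).2 fun n hn => by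
      rw [LocRes.D_coeff, hlow _ (by omega), smul_zero]
  refine ⟨fun hne => ?_, fun h0 => ?_⟩
  · refine le_antisymm (hDlow.trans_eq (by congr 1; ring)) (not_lt.1 fun hlt => ?_)
    have h2 : Valued.v (LocRes.D F f) ≤ exp (-(e : ℤ)) := by
      rcases eq_or_ne (LocRes.D F f) 0 with h0 | h0
      · simp [h0]
      · rw [← exp_log ((Valuation.ne_zero_iff Valued.v).2 h0)] at hlt ⊢
        rw [exp_lt_exp] at hlt
        rw [exp_le_exp]; omega
    have := (LaurentSeries.valuation_le_iff_coeff_lt_eq_zero F).1 h2 ((e : ℤ) - 1) (by omega)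
    rw [LocRes.D_coeff, sub_add_cancel, zsmul_eq_mul, Int.cast_natCast] at this
    exact mul_ne_zero hne he this
  · refine (LaurentSeries.valuation_le_iff_coeff_lt_eq_zero F).2 fun n hn => ?_
    rw [LocRes.D_coeff]
    rcases lt_or_ge (n + 1) (e : ℤ) with h | h
    · rw [hlow _ h, smul_zero]
    · rw [show n + 1 = (e : ℤ) by omega, zsmul_eq_mul, Int.cast_natCast, h0, zero_mul]

section Exponent

variable (hK : IsFunctionField k K) (hg : IsGeometric k K)
variable {F F' : Type*} [Field F] [Algebra k F] [Field F'] [Algebra k F']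
variable {P : Place k K} {Q : Place k K'} {e : ℕ} (he : IsOverWith Q P e)
variable {φ : K →ₐ[k] F⸨X⸩} (hφ : LocRes.IsExpansionAt P.1 φ)
variable {ψ : K' →ₐ[k] F'⸨X⸩} (hψ : LocRes.IsExpansionAt Q.1 ψ)
variable {x : K} (hx : LocRes.vDiff φ 1 x ≠ 0) (hx' : LocRes.vDiff ψ 1 (algebraMap K K' x) ≠ 0)
variable {t : K} (ht : P.1 t = exp (-1))

include hK hg he hφ hψ hx hx' ht in
/-- The different exponent is the order of `dt` above, for a parameter `t` below. -/
theorem diffExp_eq_ord_param :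
    LocRes.D F' (ψ (algebraMap K K' t)) ≠ 0 ∧
      LocRes.diffExp φ ψ e x = -log (Valued.v (LocRes.D F' (ψ (algebraMap K K' t)))) := by
  have hDt : Valued.v (LocRes.D F (φ t)) = 1 := val_D_of_val_eq ((hφ.1 t).trans ht)
  have hdt : KaehlerDifferential.D k K t ≠ 0 := kaehler_ne_of_vDiff (φ := φ) (u := 1) (by
    rw [LocRes.vDiff, map_one, one_mul, hDt]; exact one_ne_zero)
  obtain ⟨h, hh⟩ := exists_kaehler_ratio hK hg hdt x
  have h1 := D_smul_expansion φ hh
  have h2 : LocRes.D F' (ψ (algebraMap K K' x)) = ψ (algebraMap K K' h) * LocRes.D F' (ψ (algebraMap K K' t)) :=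
    D_smul_expansion (ψ.comp (IsScalarTower.toAlgHom k K K')) hh
  rw [LocRes.vDiff, map_one, one_mul, h1, map_mul, hDt, mul_one, hφ.1] at hx
  rw [LocRes.vDiff, map_one, one_mul, h2, map_mul] at hx'
  have hDψ := right_ne_zero_of_mul hx'
  refine ⟨(Valuation.ne_zero_iff Valued.v).1 hDψ, ?_⟩
  rw [LocRes.diffExp, LocRes.ordDiff, LocRes.ordDiff, LocRes.vDiff, LocRes.vDiff, map_one, map_one, one_mul, one_mul,
    h1, h2, map_mul, map_mul, hDt, mul_one, hφ.1, log_mul (left_ne_zero_of_mul hx') hDψ, hψ.1, he, log_pow,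
    nsmul_eq_mul]
  ring

include hK hg he hφ hψ hx hx' in
theorem diffExp_tame_wild :
    (¬(ringChar K ∣ e) → LocRes.diffExp φ ψ e x = (e : ℤ) - 1) ∧
      (ringChar K ∣ e → (e : ℤ) ≤ LocRes.diffExp φ ψ e x) := by
  obtain ⟨t, ht⟩ := exists_val_eq P (-1)
  obtain ⟨hne, hd⟩ := diffExp_eq_ord_param hK hg he hφ hψ hx hx' ht
  have hf : Valued.v (ψ (algebraMap K K' t)) = exp (-(e : ℤ)) := by
    rw [hψ.1, he, ht, ← exp_nsmul]; simp
  obtain ⟨h1, h2⟩ := val_D_of_val_eq_exp hf
  have hiff : (e : F') = 0 ↔ ringChar K ∣ e := by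
    rw [← ringChar.spec K, ← map_natCast (algebraMap k F'), ← map_natCast (algebraMap k K), map_eq_zero, map_eq_zero]
  refine ⟨fun h => ?_, fun h => ?_⟩
  · rw [hd, h1 (mt hiff.1 h), log_exp]; ring
  · have h3 := h2 (hiff.2 h)
    rw [← exp_log ((Valuation.ne_zero_iff Valued.v).2 hne), exp_le_exp] at h3
    rw [hd]; omega

include hK hg he hφ hψ hx hx' in
theorem diffExp_indep {x₂ : K} (hx2 : LocRes.vDiff φ 1 x₂ ≠ 0)
    (hx2' : LocRes.vDiff ψ 1 (algebraMap K K' x₂) ≠ 0) :
    LocRes.diffExp φ ψ e x = LocRes.diffExp φ ψ e x₂ := by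
  obtain ⟨t, ht⟩ := exists_val_eq P (-1)
  rw [(diffExp_eq_ord_param hK hg he hφ hψ hx hx' ht).2, (diffExp_eq_ord_param hK hg he hφ hψ hx2 hx2' ht).2]

include hK hg he hφ hψ hx hx' in
theorem diffExp_totallyRamified (hn : e = Module.finrank K K') {s : K'} (hs : Q.1 s = exp (-1)) :
    Q.ord (Polynomial.aeval s (Polynomial.derivative (minpoly K s))) = LocRes.diffExp φ ψ e x := by
  classical
  have hint : IsIntegral K s := .of_finite K s
  have hs0 := ne_zero_of_val Q hs
  set g := minpoly K s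
  have hgm : g.Monic := minpoly.monic hint
  have hepos : 0 < e := isOverWith_pos he
  -- the valuations of the terms
  let T : ℕ → K' := fun i => algebraMap K K' (g.coeff i) * s ^ i
  have hT : ∀ i, g.coeff i ≠ 0 → Q.1 (T i) = exp (-((e : ℤ) * P.ord (g.coeff i) + i)) := fun i hi => by
    rw [map_mul, map_pow, he, val_eq_exp P hi, hs, ← exp_nsmul, ← exp_nsmul, ← exp_add]
    congr 1; simp; ring
  have hdist : ∀ i < e, ∀ j < e, i ≠ j → g.coeff i ≠ 0 → g.coeff j ≠ 0 → Q.1 (T i) ≠ Q.1 (T j) := by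
    intro i hi j hj hij hi0 hj0 h
    rw [hT i hi0, hT j hj0, exp_inj] at h
    refine hij ?_
    have hi' : ((e : ℤ) * P.ord (g.coeff i) + i) % e = i := by
      rw [add_comm, Int.add_mul_emod_self_left, Int.emod_eq_of_lt (by omega) (by omega)]
    have hj' : ((e : ℤ) * P.ord (g.coeff j) + j) % e = j := by
      rw [add_comm, Int.add_mul_emod_self_left, Int.emod_eq_of_lt (by omega) (by omega)]
    rw [neg_inj.1 h] at hi'
    exact_mod_cast hi'.symm.trans hj'
  have hmax : ∀ S : Finset ℕ, (∀ i ∈ S, i < e) → (∃ i ∈ S, g.coeff i ≠ 0) →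
      ∃ j ∈ S, g.coeff j ≠ 0 ∧ Q.1 (∑ i ∈ S, T i) = Q.1 (T j) ∧ ∀ i ∈ S, Q.1 (T i) ≤ Q.1 (T j) := by
    intro S hS ⟨i₀, hi₀, hi₀'⟩
    obtain ⟨j, hj, hjmax⟩ := Finset.exists_max_image S (fun i => Q.1 (T i)) ⟨i₀, hi₀⟩
    have hj0 : g.coeff j ≠ 0 := fun h => by
      have := hjmax i₀ hi₀
      simp [T, h, hT i₀ hi₀'] at this
    refine ⟨j, hj, hj0, Q.1.map_sum_eq_of_lt hj fun i hi => ?_, hjmax⟩
    simp only [Finset.mem_sdiff, Finset.mem_singleton] at hi
    rcases eq_or_ne (g.coeff i) 0 with h | h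
    · rw [show T i = 0 by simp [T, h], map_zero, hT j hj0]; exact exp_pos
    · exact lt_of_le_of_ne (hjmax i hi.1) (hdist i (hS i hi.1) j (hS j hj) hi.2 h hj0)
  have hzero : ∑ i ∈ Finset.range (g.natDegree + 1), T i = 0 := by
    refine Eq.trans (Finset.sum_congr rfl fun i _ => ?_)
      ((Polynomial.aeval_eq_sum_range (p := g) s).symm.trans (minpoly.aeval K s))
    rw [Algebra.smul_def]
  have hdeg : g.natDegree = e := by
    refine le_antisymm (hn ▸ minpoly.natDegree_le s) (not_lt.1 fun hlt => ?_)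
    obtain ⟨j, -, hj0, hj, -⟩ := hmax (Finset.range (g.natDegree + 1))
      (fun i hi => by rw [Finset.mem_range] at hi; omega)
      ⟨g.natDegree, by simp, by rw [hgm.coeff_natDegree]; exact one_ne_zero⟩
    rw [hzero, map_zero, hT j hj0] at hj
    exact exp_ne_zero hj.symm
  rw [Finset.sum_range_succ, hdeg] at hzero
  have hTe : T e = s ^ e := by simp [T, ← hdeg, hgm.coeff_natDegree]
  have hc00 : g.coeff 0 ≠ 0 := minpoly.coeff_zero_ne_zero hint hs0
  obtain ⟨j, hj, hj0, hjv, hjmax⟩ := hmax (Finset.range e) (fun i hi => Finset.mem_range.1 hi)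
    ⟨0, Finset.mem_range.2 hepos, hc00⟩
  rw [eq_neg_of_add_eq_zero_left hzero, Valuation.map_neg, hTe, map_pow, hs, ← exp_nsmul, hT j hj0, exp_inj] at hjv
  rw [Finset.mem_range] at hj
  have hjv' : (e : ℤ) * (P.ord (g.coeff j) - 1) = -(j : ℤ) := by simp at hjv; linarith
  have hj1 : j = 0 := by
    by_contra hne
    have : 1 ≤ j := Nat.one_le_iff_ne_zero.2 hne
    rcases le_or_gt (P.ord (g.coeff j) - 1) (-1) with h | h
    · nlinarith
    · nlinarith
  subst hj1
  have ho1 : P.ord (g.coeff 0) = 1 := by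
    simp at hjv'
    rcases hjv' with h | h
    · omega
    · linarith
  have hint' : ∀ i, P.1 (g.coeff i) ≤ 1 := fun i => by
    rcases lt_trichotomy i e with hi | rfl | hi
    · rcases eq_or_ne (g.coeff i) 0 with h | h
      · simp [h]
      have h1 := hjmax i (Finset.mem_range.2 hi)
      rw [hT i h, hT 0 hc00, ho1, exp_le_exp] at h1
      rw [val_le_one_iff P h]
      by_contra hneg
      push Not at hneg
      push_cast at h1
      nlinarith
    · rw [← hdeg, hgm.coeff_natDegree, map_one]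
    · rw [Polynomial.coeff_eq_zero_of_natDegree_lt (by omega), map_zero]; exact zero_le
  -- differentiate
  obtain ⟨t, ht⟩ := exists_val_eq P (-1)
  obtain ⟨hne, hd⟩ := diffExp_eq_ord_param hK hg he hφ hψ hx hx' ht
  have hDt : Valued.v (LocRes.D F (φ t)) = 1 := val_D_of_val_eq ((hφ.1 t).trans ht)
  have hdt : KaehlerDifferential.D k K t ≠ 0 := kaehler_ne_of_vDiff (φ := φ) (u := 1) (by
    rw [LocRes.vDiff, map_one, one_mul, hDt]; exact one_ne_zero)
  choose h hh using fun i => exists_kaehler_ratio hK hg hdt (g.coeff i)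
  have hv : ∀ i, P.1 (h i) = Valued.v (LocRes.D F (φ (g.coeff i))) := fun i => by
    rw [D_smul_expansion φ (hh i), map_mul, hDt, mul_one, hφ.1]
  set Dψt := LocRes.D F' (ψ (algebraMap K K' t))
  set W := ∑ i ∈ Finset.range (e + 1), algebraMap K K' (h i) * s ^ i
  have hW : Q.1 W = 1 := by
    have h0 : Q.1 (algebraMap K K' (h 0) * s ^ 0) = 1 := by
      rw [pow_zero, mul_one, he, hv, val_D_of_val_eq ((hφ.1 _).trans (by rw [val_eq_exp P hc00, ho1])), one_pow]
    rw [Q.1.map_sum_eq_of_lt (j := 0) (by simp) fun i hi => ?_, h0]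
    simp only [Finset.mem_sdiff, Finset.mem_singleton] at hi
    rw [h0, map_mul, map_pow, he, hv, hs]
    refine (mul_le_of_le_one_left' (pow_le_one₀ zero_le (val_D_le_one (by rw [hφ.1]; exact hint' i)))).trans_lt ?_
    exact pow_lt_one₀ zero_le (by rw [← exp_zero, exp_lt_exp]; omega) hi.2
  have hdiff : ψ (Polynomial.aeval s (Polynomial.derivative g)) * LocRes.D F' (ψ s) + ψ W * Dψt = 0 := by
    have h0 : LocRes.D F' (ψ (Polynomial.aeval s g)) = 0 := by
      rw [show g = minpoly K s from rfl, minpoly.aeval, map_zero, map_zero]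
    rw [← h0, Polynomial.aeval_eq_sum_range' (p := g) (n := e + 1) (by omega), map_sum, map_sum,
      Polynomial.aeval_eq_sum_range' (p := Polynomial.derivative g) (n := e + 1)
        (by have := Polynomial.natDegree_derivative_le g; omega), map_sum, map_sum, Finset.sum_mul, Finset.sum_mul]
    have hsh : ∑ i ∈ Finset.range (e + 1), (ψ ((Polynomial.derivative g).coeff i • s ^ i) * LocRes.D F' (ψ s)) =
        ∑ i ∈ Finset.range (e + 1), ψ (algebraMap K K' (g.coeff i)) * ((i : ℕ) * ψ s ^ (i - 1)) * LocRes.D F' (ψ s) := by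
      rw [Finset.sum_range_succ (fun i => ψ ((Polynomial.derivative g).coeff i • s ^ i) * LocRes.D F' (ψ s)),
        Polynomial.coeff_derivative, Polynomial.coeff_eq_zero_of_natDegree_lt (p := g) (by omega),
        zero_mul, zero_smul, map_zero, zero_mul, add_zero, Finset.sum_range_succ']
      simp only [Polynomial.coeff_derivative, Algebra.smul_def, map_mul, map_add, map_natCast, map_one,
        map_pow, Nat.cast_zero, zero_mul, mul_zero, add_zero, Nat.cast_add, Nat.cast_one, Nat.add_sub_cancel]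
      exact Finset.sum_congr rfl fun i _ => by ring
    rw [hsh, ← Finset.sum_add_distrib]
    refine Finset.sum_congr rfl fun i _ => ?_
    rw [Algebra.smul_def]
    simp only [map_mul, map_pow]
    rw [Derivation.leibniz, Derivation.leibniz_pow, smul_eq_mul, smul_eq_mul, smul_eq_mul,
      show LocRes.D F' (ψ (algebraMap K K' (g.coeff i))) = ψ (algebraMap K K' (h i)) * Dψt from
        D_smul_expansion (ψ.comp (IsScalarTower.toAlgHom k K K')) (hh i)]
    simp only [nsmul_eq_mul]
    ring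
  have hvv := congrArg Valued.v (eq_neg_of_add_eq_zero_left hdiff)
  rw [map_mul, Valuation.map_neg, map_mul, val_D_of_val_eq ((hψ.1 s).trans hs), hψ.1, hψ.1, hW, one_mul, mul_one] at hvv
  rw [hd, Place.ord, hvv]

end Exponent

end Groth.Agent.FunFldLib
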