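import Groth.Agent.FunFld.Rational
import Groth.Prelude.Def_W4bk4goldsch45
import Mathlib.RingTheory.Nakayama

/-!
Projective maps of a function field: base-point-free pencils, surjectivity of `s L(G) + t L(G) = L(G+F)`,
a nonsingularity criterion, and the local ring of a projective map.
-/

namespace Groth.Agent.FunFldLib

open FunFld WithZero

variable {k K : Type*} [Field k] [Field K] [Algebra k K]

/-! ### Pencils -/

theorem exists_exact_finset [Infinite k] {W : Submodule k K} {F : Divisor k K} (hW : W ≤ L F)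
    (hbpf : ∀ Q : Place k K, ∃ y ∈ W, Q.1 y = exp (F Q)) (S : Finset (Place k K)) :
    ∃ y ∈ W, ∀ Q ∈ S, Q.1 y = exp (F Q) := by
  classical
  induction S using Finset.induction_on with
  | empty => exact ⟨0, zero_mem _, by simp⟩
  | @insert R S _ ih =>
    obtain ⟨y, hy, hyS⟩ := ih
    obtain ⟨y', hy', hyR⟩ := hbpf R
    let bad : Place k K → Set k := fun Q =>
      {c | (Q.1 y = exp (F Q) ∨ Q.1 y' = exp (F Q)) ∧ Q.1 (y + c • y') < exp (F Q)}
    have hbad : ∀ Q, (bad Q).Subsingleton := by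
      rintro Q c ⟨hor, hc⟩ d ⟨-, hd⟩
      by_contra hne
      have h1 : Q.1 y' < exp (F Q) := by
        have h := Q.1.map_sub_lt hc hd
        rw [add_sub_add_left_eq_sub, ← sub_smul, Algebra.smul_def, map_mul,
          val_algebraMap Q (sub_ne_zero.2 hne), one_mul] at h
        exact h
      have h2 : Q.1 y < exp (F Q) := by
        have h3 : Q.1 (c • y') < exp (F Q) := by
          rw [Algebra.smul_def, map_mul]
          exact (mul_le_of_le_one_left' (Q.2.1 c)).trans_lt h1
        have := Q.1.map_sub_lt hc h3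
        rwa [add_sub_cancel_right] at this
      rcases hor with h | h
      · exact h2.ne h
      · exact h1.ne h
    have hfin : (⋃ Q ∈ (insert R S : Finset (Place k K)), bad Q).Finite :=
      Set.Finite.biUnion (Finset.finite_toSet _) fun Q _ => (hbad Q).finite
    obtain ⟨c, hc⟩ := hfin.infinite_compl.nonempty
    refine ⟨y + c • y', add_mem hy (W.smul_mem c hy'), fun Q hQ => ?_⟩
    have hle : Q.1 (y + c • y') ≤ exp (F Q) := hW (add_mem hy (W.smul_mem c hy')) Q
    refine le_antisymm hle (not_lt.1 fun hlt => hc (Set.mem_biUnion hQ ⟨?_, hlt⟩))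
    rcases Finset.mem_insert.1 hQ with rfl | hQS
    · exact Or.inr hyR
    · exact Or.inl (hyS Q hQS)

theorem exists_pencil [Infinite k] (hK : IsFunctionField k K) {W : Submodule k K} {F : Divisor k K}
    (hW : W ≤ L F) (hbpf : ∀ Q : Place k K, ∃ y ∈ W, Q.1 y = exp (F Q)) :
    ∃ s ∈ W, ∃ t ∈ W, s ≠ 0 ∧ t ≠ 0 ∧ ∀ Q : Place k K, Q.1 s = exp (F Q) ∨ Q.1 t = exp (F Q) := by
  classical
  obtain ⟨P⟩ := exists_place hK
  obtain ⟨s, hs, hsP⟩ := hbpf P
  have hs0 : s ≠ 0 := ne_zero_of_val P hsP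
  let S : Finset (Place k K) := insert P ((finite_support_ord hK s).toFinset ∪ F.support)
  obtain ⟨t, ht, htS⟩ := exists_exact_finset hW hbpf S
  refine ⟨s, hs, t, ht, hs0, ne_zero_of_val P (htS P (Finset.mem_insert_self _ _)), fun Q => ?_⟩
  by_cases hQ : Q ∈ S
  · exact Or.inr (htS Q hQ)
  refine Or.inl ?_
  simp only [S, Finset.mem_insert, Finset.mem_union, Set.Finite.mem_toFinset, Function.mem_support,
    Finsupp.mem_support_iff, not_or, not_not] at hQ
  rw [val_eq_exp Q hs0, hQ.2.1, hQ.2.2, neg_zero]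

/-- The base-point-free pencil trick. -/
theorem pencil_surjective (hK : IsFunctionField k K) {F G : Divisor k K} {s t : K} (hs0 : s ≠ 0)
    (ht0 : t ≠ 0) (hs : s ∈ L F) (ht : t ∈ L F)
    (hF : ∀ Q : Place k K, Q.1 s = exp (F Q) ∨ Q.1 t = exp (F Q))
    (hG : 2 * (genus k K : ℤ) - 1 ≤ G.deg - F.deg) {z : K} (hz : z ∈ L (G + F)) :
    ∃ a ∈ L G, ∃ b ∈ L G, z = s * a + t * b := by
  have hdF : 0 ≤ F.deg := by
    have := deg_nonneg (nonneg_of_mem_L hK hs0 hs)
    rwa [deg_add, deg_div hK, add_zero] at this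
  have hfG := finiteDimensional_L hK G
  have hfGF := finiteDimensional_L hK (G + F)
  have hfGmF := finiteDimensional_L hK (G - F)
  let Φ : (↥(L G) × ↥(L G)) →ₗ[k] K :=
    ((LinearMap.mulLeft k s).comp (L G).subtype).coprod ((LinearMap.mulLeft k t).comp (L G).subtype)
  have hrange : LinearMap.range Φ ≤ L (G + F) := by
    rintro _ ⟨⟨a, b⟩, rfl⟩
    have ha : s * a.1 ∈ L (G + F) := by
      rw [add_comm]; exact W4c6gradedringsgw_mul hs a.2
    have hb : t * b.1 ∈ L (G + F) := by
      rw [add_comm]; exact W4c6gradedringsgw_mul ht b.2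
    exact add_mem ha hb
  let ι : ↥(L (G - F)) →ₗ[k] ↥(LinearMap.ker Φ) :=
    { toFun := fun u => ⟨(⟨t * u.1, by
          simpa using W4c6gradedringsgw_mul ht u.2⟩, ⟨-(s * u.1), neg_mem (by
          simpa using W4c6gradedringsgw_mul hs u.2)⟩), by
          show s * (t * u.1) + t * -(s * u.1) = 0
          ring⟩
      map_add' := fun u v => by
        ext <;> simp <;> ring
      map_smul' := fun c u => by
        ext <;> simp [Algebra.smul_def] <;> ring }
  have hι : Function.Surjective ι := by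
    rintro ⟨⟨a, b⟩, hab⟩
    have hab' : s * a.1 + t * b.1 = 0 := hab
    have hb : b.1 = -(s * (a.1 / t)) := by field_simp; linear_combination hab'
    refine ⟨⟨a.1 / t, fun Q => ?_⟩, ?_⟩
    · rcases hF Q with h | h
      · have hbQ := b.2 Q
        rw [hb, Valuation.map_neg, map_mul, h] at hbQ
        rw [Finsupp.sub_apply, exp_sub, le_div_iff₀ exp_pos, mul_comm]
        exact hbQ
      · rw [map_div₀, h, Finsupp.sub_apply, exp_sub]
        exact div_le_div_of_nonneg_right (a.2 Q) exp_pos.le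
    · apply Subtype.ext
      refine Prod.ext (Subtype.ext ?_) (Subtype.ext ?_)
      · show t * (a.1 / t) = a.1
        field_simp
      · exact hb.symm
  have hker : Module.finrank k (LinearMap.ker Φ) ≤ ell (G - F) := by
    have h1 := LinearMap.finrank_range_le ι
    rwa [LinearMap.range_eq_top.2 hι, finrank_top] at h1
  have hrn := LinearMap.finrank_range_add_finrank_ker Φ
  rw [Module.finrank_prod] at hrn
  have h1 := ell_eq_of_deg_ge hK (D := G) (by omega)
  have h2 := ell_eq_of_deg_ge hK (D := G - F) (by rw [deg_sub]; omega)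
  have h3 := ell_eq_of_deg_ge hK (D := G + F) (by rw [deg_add]; omega)
  rw [deg_sub] at h2
  rw [deg_add] at h3
  have heq : LinearMap.range Φ = L (G + F) :=
    Submodule.eq_of_le_of_finrank_le hrange (by simp only [ell] at *; omega)
  rw [← heq] at hz
  obtain ⟨⟨a, b⟩, rfl⟩ := hz
  exact ⟨a.1, a.2, b.1, b.2, rfl⟩
where
  W4c6gradedringsgw_mul {D E : Divisor k K} {x y : K} (hx : x ∈ L D) (hy : y ∈ L E) :
      x * y ∈ L (D + E) := fun P => by
    rw [map_mul, Finsupp.add_apply, exp_add]; exact mul_le_mul' (hx P) (hy P)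

theorem mul_mem_L {D E : Divisor k K} {x y : K} (hx : x ∈ L D) (hy : y ∈ L E) :
    x * y ∈ L (D + E) := fun P => by
  rw [map_mul, Finsupp.add_apply, exp_add]; exact mul_le_mul' (hx P) (hy P)

/-! ### The algebra `⋃ L(m E)` -/

theorem exists_span_multiples [Infinite k] (hK : IsFunctionField k K) {Y : Submodule k K}
    {E : Divisor k K} (hYE : Y ≤ L E) (h1 : (1 : K) ∈ Y)
    (hbpf : ∀ Q : Place k K, ∃ y ∈ Y, Q.1 y = exp (E Q)) (hE : 0 < E.deg) :
    ∃ N : ℕ, ∀ m : ℕ, (L ((m : ℤ) • E) : Set K) ⊆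
      Submodule.span (Algebra.adjoin k (Y : Set K)) (L ((N : ℤ) • E) : Set K) := by
  have hE0 : 0 ≤ E := fun Q => by
    have := hYE h1 Q
    rw [map_one, ← exp_zero, exp_le_exp] at this
    exact this
  obtain ⟨s, hs, t, ht, hs0, ht0, hst⟩ := exists_pencil hK hYE hbpf
  refine ⟨2 * genus k K + 1, fun m => ?_⟩
  induction m with
  | zero =>
    exact (SetLike.coe_subset_coe.2 (L_mono (by
      rw [Nat.cast_zero, zero_smul]; exact smul_nonneg (Int.natCast_nonneg _) hE0))).trans Submodule.subset_span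
  | succ m ih =>
    rcases le_or_gt (m + 1) (2 * genus k K + 1) with h | h
    · exact (SetLike.coe_subset_coe.2 (L_mono (smul_le_smul_of_nonneg_right (by exact_mod_cast h) hE0))).trans
        Submodule.subset_span
    intro z hz
    have hz' : z ∈ L ((m : ℤ) • E + E) := by
      rwa [SetLike.mem_coe, Nat.cast_succ, add_smul, one_smul] at hz
    obtain ⟨a, ha, b, hb, rfl⟩ := pencil_surjective hK hs0 ht0 (hYE hs) (hYE ht) hst (G := (m : ℤ) • E) (by
      rw [deg_zsmul]
      have h2 : (2 * (genus k K : ℤ)) * 1 ≤ ((m : ℤ) - 1) * E.deg :=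
        mul_le_mul (by omega) (by omega) zero_le_one (by omega)
      linarith) hz'
    exact add_mem (Submodule.smul_mem _ (⟨s, Algebra.subset_adjoin hs⟩ : Algebra.adjoin k (Y : Set K)) (ih ha))
      (Submodule.smul_mem _ (⟨t, Algebra.subset_adjoin ht⟩ : Algebra.adjoin k (Y : Set K)) (ih hb))

theorem adjoin_val_le_one {Y : Submodule k K} {E : Divisor k K} (hYE : Y ≤ L E) {P : Place k K}
    (hP : E P = 0) {r : K} (hr : r ∈ Algebra.adjoin k (Y : Set K)) : P.1 r ≤ 1 := by
  induction hr using Algebra.adjoin_induction with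
  | mem y hy => simpa [hP] using hYE hy P
  | algebraMap c => exact P.2.1 c
  | add a b _ _ ha hb => exact P.1.map_add_le ha hb
  | mul a b _ _ ha hb => rw [map_mul]; exact mul_le_one' ha hb

/-- From a conductor not vanishing at `P`: every element integral at `P` is a fraction. -/
theorem exists_frac_of_conductor (hK : IsFunctionField k K) {R : Subalgebra k K} {E : Divisor k K}
    (hE0 : 0 ≤ E) (hE : 0 < E.deg) {P : Place k K} (hPd : P.deg = 1) (hP : E P = 0) {w : K}
    (hwR : ∀ m : ℕ, ∀ a ∈ L ((m : ℤ) • E), w * a ∈ R) (hw : P.1 w = 1) {z : K} (hz : P.1 z ≤ 1) :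
    ∃ u ∈ R, ∃ v ∈ R, P.1 v = 1 ∧ z * v = u := by
  classical
  set B := polesDiv k z
  have hB : 0 ≤ B := polesDiv_nonneg z
  have hBP : B P = 0 := by
    rw [polesDiv_apply hK]
    rcases eq_or_ne z 0 with rfl | h0
    · simp
    · have := (val_le_one_iff P h0).1 hz; omega
  obtain ⟨m, hm⟩ : ∃ m : ℕ, 2 * (genus k K : ℤ) + B.deg < (m : ℤ) :=
    ⟨(2 * (genus k K : ℤ) + B.deg).toNat + 1, by omega⟩
  have hmd : (m : ℤ) * 1 ≤ m * E.deg := mul_le_mul_of_nonneg_left (by omega) (Int.natCast_nonneg m)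
  set D := (m : ℤ) • E - B with hD
  have hDdeg : D.deg = m * E.deg - B.deg := by rw [hD, deg_sub, deg_zsmul]
  have h1 := ell_eq_of_deg_ge hK (D := D) (by omega)
  have h2 := ell_eq_of_deg_ge hK (D := D - Finsupp.single P 1) (by rw [deg_sub, deg_single, hPd]; omega)
  rw [deg_sub, deg_single, hPd] at h2
  obtain ⟨a, ha, ha0, hao⟩ := exists_mem_L_ord_eq hK (D := D) (P := P) (by omega)
  have hDP : D P = 0 := by rw [hD, Finsupp.sub_apply, Finsupp.smul_apply, hP, hBP]; simp
  have haA : a ∈ L ((m : ℤ) • E) := L_mono (sub_le_self _ hB) ha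
  have hzaA : z * a ∈ L ((m : ℤ) • E) := by
    rcases eq_or_ne z 0 with rfl | h0
    · simp
    refine (mem_L_iff (mul_ne_zero h0 ha0)).2 fun Q => ?_
    have h3 := (mem_L_iff ha0).1 ha Q
    rw [ord_mul Q h0 ha0]
    simp only [hD, B, Finsupp.sub_apply, polesDiv_apply hK] at h3
    omega
  refine ⟨w * (z * a), hwR m _ hzaA, w * a, hwR m _ haA, ?_, by ring⟩
  rw [map_mul, hw, one_mul, val_eq_exp P ha0, hao, hDP, neg_neg, exp_zero]

/-- A conductor for `⋃ L(m E)` over `k[Y]` not vanishing at `P`. -/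
theorem exists_conductor [IsAlgClosed k] (hK : IsFunctionField k K) {Y : Submodule k K}
    {E : Divisor k K} (hYE : Y ≤ L E) (h1 : (1 : K) ∈ Y)
    (hbpf : ∀ Q : Place k K, ∃ y ∈ Y, Q.1 y = exp (E Q)) (hE : 0 < E.deg) {P : Place k K}
    (hP : E P = 0)
    (hsep : ∀ Q : Place k K, ∃ y ∈ Y ⊓ L (E - Finsupp.single P 1),
      Q.1 y = exp ((E - Finsupp.single P 1 : Divisor k K) Q)) :
    ∃ w : K, P.1 w = 1 ∧ ∀ m : ℕ, ∀ a ∈ L ((m : ℤ) • E), w * a ∈ Algebra.adjoin k (Y : Set K) := by
  classical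
  have hPd := deg_eq_one hK P
  obtain ⟨N, hN⟩ := exists_span_multiples hK hYE h1 hbpf hE
  obtain ⟨s, hs, t, ht, hs0, ht0, hst⟩ :=
    exists_pencil hK (inf_le_right : Y ⊓ L (E - Finsupp.single P 1) ≤ _) hsep
  set R := Algebra.adjoin k (Y : Set K) with hR
  have hE0 : 0 ≤ E := fun Q => by
    have := hYE h1 Q
    rw [map_one, ← exp_zero, exp_le_exp] at this
    exact this
  let I : Ideal R :=
    { carrier := {r | P.1 (r : K) < 1}
      add_mem' := fun {a b} ha hb => P.1.map_add_lt ha hb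
      zero_mem' := by simp
      smul_mem' := fun c r hr => by
        show P.1 ((c : K) * (r : K)) < 1
        rw [map_mul]
        exact (mul_le_of_le_one_left' (adjoin_val_le_one hYE hP c.2)).trans_lt hr }
  let M := Submodule.span R (L ((N : ℤ) • E) : Set K)
  have hfg : M.FG := by
    have := finiteDimensional_L hK ((N : ℤ) • E)
    obtain ⟨S, hS⟩ := (Module.Finite.iff_fg.1 this : (L ((N : ℤ) • E)).FG)
    refine ⟨S, le_antisymm (Submodule.span_mono (hS ▸ Submodule.subset_span)) (Submodule.span_le.2 ?_)⟩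
    rw [← hS]
    exact Submodule.span_subset_span k R _
  let q := Submodule.mkQ (1 : Submodule R K)
  have hle : M.map q ≤ I • M.map q := by
    rw [Submodule.map_span, Submodule.span_le]
    rintro _ ⟨a, ha, rfl⟩
    obtain ⟨c, hc⟩ := exists_sub_const_val_lt_one hK P hPd
      (x := a) (by simpa [hP] using ha P)
    set m := N + 2 * genus k K + 2
    have hac : a - algebraMap k K c ∈ L ((m : ℤ) • E + (E - Finsupp.single P 1)) := by
      rcases eq_or_ne (a - algebraMap k K c) 0 with h | h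
      · rw [h]; exact zero_mem _
      refine (mem_L_iff h).2 fun Q => ?_
      have hEQ : 0 ≤ E Q := hE0 Q
      have h3 : a - algebraMap k K c ∈ L ((N : ℤ) • E) := sub_mem ha (by
        intro R'
        refine (R'.2.1 c).trans ?_
        rw [← exp_zero, exp_le_exp, Finsupp.smul_apply]
        exact smul_nonneg (Int.natCast_nonneg N) (hE0 R'))
      have h4 := (mem_L_iff h).1 h3 Q
      have hNm : (N : ℤ) * E Q ≤ (m : ℤ) * E Q := mul_le_mul_of_nonneg_right (by omega) hEQ
      rcases eq_or_ne Q P with rfl | hQ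
      · have h5 := (val_lt_one_iff Q h).1 hc
        simp [hP]; omega
      · simp [Finsupp.single_eq_of_ne hQ] at h4 ⊢
        omega
    obtain ⟨x, hx, y, hy, hxy⟩ := pencil_surjective hK hs0 ht0 hs.2 ht.2 hst (by
      rw [deg_sub, deg_zsmul, deg_single, hPd]
      have : (2 * (genus k K : ℤ) + 1) * 1 ≤ ((m : ℤ) - 1) * E.deg :=
        mul_le_mul (by omega) (by omega) zero_le_one (by omega)
      linarith) hac
    let sR : R := ⟨s, Algebra.subset_adjoin hs.1⟩
    let tR : R := ⟨t, Algebra.subset_adjoin ht.1⟩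
    have hlt : ∀ {y : K}, y ∈ L (E - Finsupp.single P 1) → P.1 y < 1 := fun hy => by
      refine (hy P).trans_lt ?_
      rw [Finsupp.sub_apply, hP, Finsupp.single_eq_same, ← exp_zero, exp_lt_exp]; omega
    have hqa : q a = sR • q x + tR • q y := by
      rw [← map_smul, ← map_smul, ← map_add]
      refine (Submodule.Quotient.eq _).2 (Submodule.mem_one.2 ⟨algebraMap k R c, ?_⟩)
      show algebraMap k K c = a - (s * x + t * y)
      rw [← hxy]; ring
    rw [SetLike.mem_coe, hqa, ← Submodule.map_span]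
    exact add_mem (Submodule.smul_mem_smul (hlt hs.2) (Submodule.mem_map_of_mem (hN m hx)))
      (Submodule.smul_mem_smul (hlt ht.2) (Submodule.mem_map_of_mem (hN m hy)))
  obtain ⟨r, hr, hr0⟩ := Submodule.exists_sub_one_mem_and_smul_eq_zero_of_fg_of_le_smul I (M.map q)
    (hfg.map q) hle
  refine ⟨r, ?_, fun m a ha => ?_⟩
  · have h2 : P.1 ((r : K) - 1) < 1 := hr
    simpa using P.1.map_one_add_of_lt h2
  · have h3 := hr0 _ (Submodule.mem_map_of_mem (hN m ha))
    rw [← map_smul, Submodule.mkQ_apply, Submodule.Quotient.mk_eq_zero, Submodule.mem_one] at h3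
    obtain ⟨u, hu⟩ := h3
    have hu' : (u : K) = (r : K) * a := hu
    rw [← hu']; exact u.2

/-! ### Projective maps -/

section Maps

variable {ι : Type*} {φ : ι → K}

/-- `D` is the divisor of the map `φ`: all entries in `L(D)` and no base point. -/
def IsMapDiv (φ : ι → K) (D : Divisor k K) : Prop :=
  (∀ i, φ i ∈ L D) ∧ ∀ Q : Place k K, ∃ i, Q.1 (φ i) = exp (D Q)

theorem isMapDiv_mapDiv [Fintype ι] [Nonempty ι] (hK : IsFunctionField k K) (hφ : ∀ i, φ i ≠ 0) :
    IsMapDiv φ (mapDiv k φ) := by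
  have hfin : (Function.support fun P : Place k K =>
      -Finset.univ.inf' Finset.univ_nonempty (fun i => P.ord (φ i))).Finite := by
    refine (Set.finite_iUnion fun i => finite_support_ord hK (φ i)).subset fun P hP => ?_
    obtain ⟨i, -, hi⟩ := Finset.exists_mem_eq_inf' Finset.univ_nonempty (fun i => P.ord (φ i))
    refine Set.mem_iUnion.2 ⟨i, ?_⟩
    simp only [Function.mem_support, hi] at hP ⊢
    omega
  have happ : ∀ P : Place k K, mapDiv k φ P =
      -Finset.univ.inf' Finset.univ_nonempty (fun i => P.ord (φ i)) := fun P => by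
    rw [mapDiv, dif_pos hfin, Finsupp.ofSupportFinite_coe]
  refine ⟨fun i => (mem_L_iff (hφ i)).2 fun P => ?_, fun Q => ?_⟩
  · rw [happ, neg_neg]; exact Finset.inf'_le _ (Finset.mem_univ i)
  · obtain ⟨i, -, hi⟩ := Finset.exists_mem_eq_inf' Finset.univ_nonempty (fun i => Q.ord (φ i))
    exact ⟨i, by rw [val_eq_exp Q (hφ i), happ, hi]⟩

/-- Normalisation at the entry `j`. -/
theorem normalise (hK : IsFunctionField k K) {D : Divisor k K} (hD : IsMapDiv φ D) {j : ι}
    (hj : φ j ≠ 0) :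
    (1 : K) ∈ Submodule.span k (Set.range fun i => φ i / φ j) ∧
      Submodule.span k (Set.range fun i => φ i / φ j) ≤ L (D + div k (φ j)) ∧
      ∀ Q : Place k K, ∃ y ∈ Submodule.span k (Set.range fun i => φ i / φ j),
        Q.1 y = exp ((D + div k (φ j)) Q) := by
  refine ⟨Submodule.subset_span ⟨j, div_self hj⟩, Submodule.span_le.2 ?_, fun Q => ?_⟩
  · rintro _ ⟨i, rfl⟩
    refine (mul_mem_L_iff hK D _ hj).1 ?_
    rw [mul_div_cancel₀ _ hj]; exact hD.1 i
  · obtain ⟨i, hi⟩ := hD.2 Q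
    refine ⟨_, Submodule.subset_span ⟨i, rfl⟩, ?_⟩
    rw [map_div₀, hi, val_eq_exp Q hj, Finsupp.add_apply, div_apply hK, ← exp_sub]
    congr 1; ring

theorem extremal_iff (hK : IsFunctionField k K) {D : Divisor k K} (hD : IsMapDiv φ D) {j : ι}
    (hj : φ j ≠ 0) (P : Place k K) :
    (∀ i, P.1 (φ i) ≤ P.1 (φ j)) ↔ (D + div k (φ j)) P = 0 := by
  obtain ⟨i₀, h₀⟩ := hD.2 P
  have h1 : P.1 (φ j) ≤ exp (D P) := hD.1 j P
  rw [Finsupp.add_apply, div_apply hK]
  constructor
  · intro h
    have h2 := le_antisymm h1 (h₀ ▸ h i₀)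
    rw [ord_eq_of_val P h2]; ring
  · intro h i
    rw [val_eq_exp P hj, show -P.ord (φ j) = D P by omega]
    exact hD.1 i P

theorem deg_pos_of_not_const (hK : IsFunctionField k K) {E : Divisor k K} (hE : 0 ≤ E) {x : K}
    (hx : x ∈ L E) (hxc : x ∉ Set.range (algebraMap k K)) : 0 < E.deg := by
  refine lt_of_le_of_ne (deg_nonneg hE) fun h => hxc ?_
  have : E = 0 := (eq_of_le_of_deg_le hK hE (by rw [deg_zero, ← h])).symm
  rw [this, L_zero hK, Submodule.mem_one] at hx
  exact hx

/-- The criterion: a map separating points and tangents at `P` is nonsingular there. -/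
theorem isNonsingularAt_of_sep [IsAlgClosed k] (hK : IsFunctionField k K) {D : Divisor k K}
    (hD : IsMapDiv φ D) (P : Place k K)
    (hsep : ∀ Q : Place k K, ∃ y ∈ Submodule.span k (Set.range φ) ⊓ L (D - Finsupp.single P 1),
      Q.1 y = exp ((D - Finsupp.single P 1 : Divisor k K) Q)) :
    IsNonsingularAt φ P := by
  classical
  obtain ⟨j, hjP⟩ := hD.2 P
  have hj : φ j ≠ 0 := ne_zero_of_val P hjP
  obtain ⟨h1, hYE, hbpf⟩ := normalise hK hD hj
  set E := D + div k (φ j)
  set Y := Submodule.span k (Set.range fun i => φ i / φ j)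
  have hext : ∀ i, P.1 (φ i) ≤ P.1 (φ j) := fun i => (hD.1 i P).trans_eq hjP.symm
  have hEP : E P = 0 := (extremal_iff hK hD hj P).1 hext
  have hmem : ∀ y ∈ Submodule.span k (Set.range φ), y / φ j ∈ Y := by
    intro y hy
    induction hy using Submodule.span_induction with
    | mem x hx => obtain ⟨i, rfl⟩ := hx; exact Submodule.subset_span ⟨i, rfl⟩
    | zero => simp
    | add a b _ _ ha hb => rw [add_div]; exact add_mem ha hb
    | smul c a _ ha => rw [smul_div_assoc]; exact Submodule.smul_mem _ c ha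
  have hsep' : ∀ Q : Place k K, ∃ y ∈ Y ⊓ L (E - Finsupp.single P 1),
      Q.1 y = exp ((E - Finsupp.single P 1 : Divisor k K) Q) := fun Q => by
    obtain ⟨y, ⟨hyW, hyL⟩, hy⟩ := hsep Q
    refine ⟨y / φ j, ⟨hmem y hyW, ?_⟩, ?_⟩
    · show y / φ j ∈ L (E - Finsupp.single P 1)
      have : E - Finsupp.single P 1 = D - Finsupp.single P 1 + div k (φ j) := sub_add_eq_add_sub .. |>.symm
      rw [this]
      refine (mul_mem_L_iff hK _ _ hj).1 ?_
      rw [mul_div_cancel₀ _ hj]; exact hyL
    · rw [map_div₀, hy, val_eq_exp Q hj, ← exp_sub, exp_inj]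
      simp [E, div_apply hK]; ring
  have hE0 : 0 ≤ E := fun Q => by
    have := hYE h1 Q
    rw [map_one, ← exp_zero, exp_le_exp] at this
    exact this
  obtain ⟨y, hy, hyP⟩ := hsep' P
  have hy0 : y ≠ 0 := ne_zero_of_val P hyP
  have hEpos : 0 < E.deg := deg_pos_of_not_const hK hE0 (hYE hy.1) (by
    rintro ⟨c, rfl⟩
    have hc : c ≠ 0 := by rintro rfl; exact hy0 (map_zero _)
    rw [val_algebraMap P hc, eq_comm, exp_eq_one, Finsupp.sub_apply, hEP, Finsupp.single_eq_same] at hyP
    omega)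
  obtain ⟨w, hw, hwR⟩ := exists_conductor hK hYE h1 hbpf hEpos hEP hsep'
  intro z hz
  obtain ⟨u, hu, v, hv, hv1, huv⟩ :=
    exists_frac_of_conductor hK hE0 hEpos (deg_eq_one hK P) hEP hwR hw hz
  rw [Algebra.adjoin_span] at hu hv
  exact ⟨j, hj, hext, u, hu, v, hv, hv1, huv⟩

theorem mem_pow_mul_adjoin {j j' : ι} (hj : φ j ≠ 0) (hj' : φ j' ≠ 0) {u : K}
    (hu : u ∈ Algebra.adjoin k (Set.range fun i => φ i / φ j')) :
    ∃ N : ℕ, (φ j' / φ j) ^ N * u ∈ Algebra.adjoin k (Set.range fun i => φ i / φ j) := by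
  set R := Algebra.adjoin k (Set.range fun i => φ i / φ j)
  have hc : φ j' / φ j ∈ R := Algebra.subset_adjoin ⟨j', rfl⟩
  induction hu using Algebra.adjoin_induction with
  | mem x hx =>
    obtain ⟨i, rfl⟩ := hx
    refine ⟨1, ?_⟩
    have : (φ j' / φ j) ^ 1 * (φ i / φ j') = φ i / φ j := by field_simp
    rw [this]; exact Algebra.subset_adjoin ⟨i, rfl⟩
  | algebraMap c => exact ⟨0, by simp [Subalgebra.algebraMap_mem]⟩
  | add a b _ _ ha hb =>
    obtain ⟨M, hM⟩ := ha
    obtain ⟨N, hN⟩ := hb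
    refine ⟨M + N, ?_⟩
    rw [mul_add, show (φ j' / φ j) ^ (M + N) * a = (φ j' / φ j) ^ N * ((φ j' / φ j) ^ M * a) by ring,
      show (φ j' / φ j) ^ (M + N) * b = (φ j' / φ j) ^ M * ((φ j' / φ j) ^ N * b) by ring]
    exact add_mem (mul_mem (pow_mem hc N) hM) (mul_mem (pow_mem hc M) hN)
  | mul a b _ _ ha hb =>
    obtain ⟨M, hM⟩ := ha
    obtain ⟨N, hN⟩ := hb
    refine ⟨M + N, ?_⟩
    rw [show (φ j' / φ j) ^ (M + N) * (a * b) = ((φ j' / φ j) ^ M * a) * ((φ j' / φ j) ^ N * b) by ring]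
    exact mul_mem hM hN

/-- The local ring can be computed from any extremal entry. -/
theorem exists_frac_of_inLocRing {P : Place k K} {j : ι} (hj : φ j ≠ 0)
    (hext : ∀ i, P.1 (φ i) ≤ P.1 (φ j)) {z : K} (hz : InLocRing φ P z) :
    ∃ u ∈ Algebra.adjoin k (Set.range fun i => φ i / φ j),
      ∃ w ∈ Algebra.adjoin k (Set.range fun i => φ i / φ j), P.1 w = 1 ∧ z * w = u := by
  obtain ⟨j', hj', hext', u, hu, w, hw, hw1, huw⟩ := hz
  have hc1 : P.1 (φ j' / φ j) = 1 := by
    rw [map_div₀, le_antisymm (hext j') (hext' j), div_self (val_ne_zero P hj)]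
  obtain ⟨M, hM⟩ := mem_pow_mul_adjoin hj hj' hu
  obtain ⟨N, hN⟩ := mem_pow_mul_adjoin hj hj' hw
  set R := Algebra.adjoin k (Set.range fun i => φ i / φ j)
  have hc : φ j' / φ j ∈ R := Algebra.subset_adjoin ⟨j', rfl⟩
  refine ⟨(φ j' / φ j) ^ N * ((φ j' / φ j) ^ M * u), mul_mem (pow_mem hc N) hM,
    (φ j' / φ j) ^ M * ((φ j' / φ j) ^ N * w), mul_mem (pow_mem hc M) hN, ?_, ?_⟩
  · simp [map_mul, map_pow, hc1, hw1]
  · rw [← huw]; ring

/-- If all ratios are congruent to constants at both places then they have the same local behaviour. -/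
theorem eq_of_same_values {P Q : Place k K} {j : ι} (hj : φ j ≠ 0)
    (hext : ∀ i, P.1 (φ i) ≤ P.1 (φ j))
    (hval : ∀ i, ∃ c : k, P.1 (φ i / φ j - algebraMap k K c) < 1 ∧ Q.1 (φ i / φ j - algebraMap k K c) < 1)
    {z : K} (hz : InLocRing φ P z) : Q.1 z ≤ 1 := by
  obtain ⟨u, hu, w, hw, hw1, huw⟩ := exists_frac_of_inLocRing hj hext hz
  have key : ∀ r ∈ Algebra.adjoin k (Set.range fun i => φ i / φ j),
      ∃ c : k, P.1 (r - algebraMap k K c) < 1 ∧ Q.1 (r - algebraMap k K c) < 1 := by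
    intro r hr
    induction hr using Algebra.adjoin_induction with
    | mem y hy => obtain ⟨i, rfl⟩ := hy; exact hval i
    | algebraMap c => exact ⟨c, by simp⟩
    | add a b _ _ ha hb =>
      obtain ⟨c, hc⟩ := ha
      obtain ⟨d, hd⟩ := hb
      refine ⟨c + d, ?_, ?_⟩ <;> rw [map_add, add_sub_add_comm]
      · exact P.1.map_add_lt hc.1 hd.1
      · exact Q.1.map_add_lt hc.2 hd.2
    | mul a b _ _ ha hb =>
      obtain ⟨c, hc⟩ := ha
      obtain ⟨d, hd⟩ := hb
      have aux : ∀ S : Place k K, S.1 (a - algebraMap k K c) < 1 → S.1 (b - algebraMap k K d) < 1 →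
          S.1 (a * b - algebraMap k K (c * d)) < 1 := by
        intro S h1 h2
        rw [map_mul, show a * b - algebraMap k K c * algebraMap k K d =
          (a - algebraMap k K c) * b + algebraMap k K c * (b - algebraMap k K d) by ring]
        have hb1 : S.1 b ≤ 1 := by
          have := S.1.map_add_le h2.le (S.2.1 d)
          rwa [sub_add_cancel] at this
        refine S.1.map_add_lt ?_ ?_
        · rw [map_mul]; exact (mul_le_of_le_one_right' hb1).trans_lt h1
        · rw [map_mul]; exact (mul_le_of_le_one_left' (S.2.1 c)).trans_lt h2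
      exact ⟨c * d, aux P hc.1 hd.1, aux Q hc.2 hd.2⟩
  obtain ⟨c, hc⟩ := key u hu
  obtain ⟨d, hd⟩ := key w hw
  have hd0 : d ≠ 0 := by
    rintro rfl
    rw [map_zero, sub_zero] at hd
    exact hd.1.ne hw1
  have hQw : Q.1 w = 1 := by
    have := Q.1.map_add_eq_of_lt_left (x := algebraMap k K d) (y := w - algebraMap k K d)
      (by rw [val_algebraMap Q hd0]; exact hd.2)
    rwa [add_sub_cancel, val_algebraMap Q hd0] at this
  have hQu : Q.1 u ≤ 1 := by
    have := Q.1.map_add_le hc.2.le (Q.2.1 c)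
    rwa [sub_add_cancel] at this
  rw [← huw, map_mul, hQw, mul_one] at hQu
  exact hQu

/-- If all ratios are constant to second order at `P`, there is no local parameter in the local ring. -/
theorem no_uniformizer {P : Place k K} {j : ι} (hj : φ j ≠ 0)
    (hext : ∀ i, P.1 (φ i) ≤ P.1 (φ j))
    (hval : ∀ i, ∃ c : k, P.1 (φ i / φ j - algebraMap k K c) ≤ exp (-2))
    {z : K} (hz : InLocRing φ P z) : P.1 z ≠ exp (-1) := by
  obtain ⟨u, hu, w, hw, hw1, huw⟩ := exists_frac_of_inLocRing hj hext hz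
  have key : ∀ r ∈ Algebra.adjoin k (Set.range fun i => φ i / φ j),
      ∃ c : k, P.1 (r - algebraMap k K c) ≤ exp (-2) := by
    intro r hr
    induction hr using Algebra.adjoin_induction with
    | mem y hy => obtain ⟨i, rfl⟩ := hy; exact hval i
    | algebraMap c => exact ⟨c, by simp⟩
    | add a b _ _ ha hb =>
      obtain ⟨c, hc⟩ := ha
      obtain ⟨d, hd⟩ := hb
      exact ⟨c + d, by rw [map_add, add_sub_add_comm]; exact P.1.map_add_le hc hd⟩
    | mul a b _ _ ha hb =>
      obtain ⟨c, hc⟩ := ha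
      obtain ⟨d, hd⟩ := hb
      refine ⟨c * d, ?_⟩
      rw [map_mul, show a * b - algebraMap k K c * algebraMap k K d =
          (a - algebraMap k K c) * b + algebraMap k K c * (b - algebraMap k K d) by ring]
      have hb1 : P.1 b ≤ 1 := by
        have h2 : exp (-2 : ℤ) ≤ 1 := by rw [← exp_zero, exp_le_exp]; omega
        have := P.1.map_add_le (hd.trans h2) (P.2.1 d)
        rwa [sub_add_cancel] at this
      refine P.1.map_add_le ?_ ?_
      · rw [map_mul]; exact (mul_le_of_le_one_right' hb1).trans hc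
      · rw [map_mul]; exact (mul_le_of_le_one_left' (P.2.1 c)).trans hd
  obtain ⟨c, hc⟩ := key u hu
  intro hz1
  have hu1 : P.1 u = exp (-1) := by rw [← huw, map_mul, hz1, hw1, mul_one]
  rcases eq_or_ne c 0 with rfl | hc0
  · rw [map_zero, sub_zero, hu1, exp_le_exp] at hc; omega
  · have h1 : P.1 (algebraMap k K c) ≤ exp (-1) := by
      rw [show algebraMap k K c = u - (u - algebraMap k K c) by ring]
      exact P.1.map_sub_le hu1.le (hc.trans (exp_le_exp.2 (by omega)))
    rw [val_algebraMap P hc0, ← exp_zero, exp_le_exp] at h1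
    omega

/-- A place `Q ≠ P` which is not separated from `P` has the same values. -/
theorem same_values_of_not_sep (hK : IsFunctionField k K) {D : Divisor k K} (hD : IsMapDiv φ D)
    {P Q : Place k K} (hPd : P.deg = 1) {j : ι} (hj : φ j ≠ 0)
    (hext : ∀ i, P.1 (φ i) ≤ P.1 (φ j)) (hQP : Q ≠ P)
    (hno : ¬ ∃ y ∈ Submodule.span k (Set.range φ) ⊓ L (D - Finsupp.single P 1),
      Q.1 y = exp ((D - Finsupp.single P 1 : Divisor k K) Q)) :
    ∀ i, ∃ c : k, P.1 (φ i / φ j - algebraMap k K c) < 1 ∧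
      Q.1 (φ i / φ j - algebraMap k K c) < 1 := by
  classical
  have hDP : exp (D P) = P.1 (φ j) := by
    obtain ⟨i, hi⟩ := hD.2 P
    exact le_antisymm (hi ▸ hext i) (hD.1 j P)
  have key : ∀ i, ∃ c : k, P.1 (φ i / φ j - algebraMap k K c) < 1 ∧
      Q.1 (φ i - algebraMap k K c * φ j) < exp (D Q) := by
    intro i
    obtain ⟨c, hc⟩ := exists_sub_const_val_lt_one hK P hPd (x := φ i / φ j) (by
      rw [map_div₀]; exact div_le_one_of_le₀ (hext i) zero_le)
    refine ⟨c, hc, ?_⟩
    have hy : φ i - algebraMap k K c * φ j ∈ Submodule.span k (Set.range φ) := by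
      rw [← Algebra.smul_def]
      exact sub_mem (Submodule.subset_span ⟨i, rfl⟩) (Submodule.smul_mem _ c (Submodule.subset_span ⟨j, rfl⟩))
    have hyL : φ i - algebraMap k K c * φ j ∈ L (D - Finsupp.single P 1) := by
      intro R
      rcases eq_or_ne R P with rfl | hR
      · have h1 : φ i - algebraMap k K c * φ j = (φ i / φ j - algebraMap k K c) * φ j := by field_simp
        rw [h1, map_mul, Finsupp.sub_apply, Finsupp.single_eq_same]
        rcases eq_or_ne (φ i / φ j - algebraMap k K c) 0 with h0 | h0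
        · simp [h0]
        have h3 := (val_lt_one_iff R h0).1 hc
        rw [← hDP, val_eq_exp R h0, ← exp_add, exp_le_exp]; omega
      · rw [Finsupp.sub_apply, Finsupp.single_eq_of_ne hR, sub_zero]
        refine R.1.map_sub_le (hD.1 i R) ?_
        rw [map_mul]
        exact (mul_le_mul' (R.2.1 c) (hD.1 j R)).trans_eq (one_mul _)
    refine lt_of_le_of_ne ?_ fun h => hno ⟨_, ⟨hy, hyL⟩, ?_⟩
    · simpa [Finsupp.single_eq_of_ne hQP] using hyL Q
    · rw [h, Finsupp.sub_apply, Finsupp.single_eq_of_ne hQP, sub_zero]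
  choose c hc hcQ using key
  -- `φ j` is extremal at `Q` as well
  have hjQ : Q.1 (φ j) = exp (D Q) := by
    refine le_antisymm (hD.1 j Q) (not_lt.1 fun hlt => ?_)
    obtain ⟨i, hi⟩ := hD.2 Q
    have h1 : Q.1 (algebraMap k K (c i) * φ j) < exp (D Q) := by
      rw [map_mul]; exact (mul_le_of_le_one_left' (Q.2.1 _)).trans_lt hlt
    have h2 := Q.1.map_add_lt (hcQ i) h1
    rw [sub_add_cancel, hi] at h2
    exact lt_irrefl _ h2
  intro i
  refine ⟨c i, hc i, ?_⟩
  have h1 : φ i / φ j - algebraMap k K (c i) = (φ i - algebraMap k K (c i) * φ j) / φ j := by field_simp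
  rw [h1, map_div₀, hjQ, div_lt_one₀ exp_pos]
  exact hcQ i

/-- Away from a finite set of places a birational map is nonsingular. -/
theorem finite_singular [Infinite k] (hK : IsFunctionField k K) {D : Divisor k K} (hD : IsMapDiv φ D)
    (hdeg1 : ∀ P : Place k K, P.deg = 1) (j : ι) (hj : φ j ≠ 0)
    (hnc : ∃ i, φ i / φ j ∉ Set.range (algebraMap k K))
    (hbir : IntermediateField.adjoin k (Set.range fun i => φ i / φ j) = ⊤) :
    {P : Place k K | ¬ IsNonsingularAt φ P}.Finite := by
  classical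
  obtain ⟨h1, hYE, hbpf⟩ := normalise hK hD hj
  set E := D + div k (φ j)
  set R := Algebra.adjoin k (Set.range fun i => φ i / φ j) with hR
  have hE0 : 0 ≤ E := fun Q => by
    have := hYE h1 Q
    rw [map_one, ← exp_zero, exp_le_exp] at this
    exact this
  obtain ⟨i, hi⟩ := hnc
  have hE : 0 < E.deg := deg_pos_of_not_const hK hE0 (hYE (Submodule.subset_span ⟨i, rfl⟩)) hi
  obtain ⟨N, hN⟩ := exists_span_multiples hK hYE h1 hbpf hE
  rw [Algebra.adjoin_span] at hN
  have hfr : ∀ a : K, ∃ s ∈ R, s ≠ 0 ∧ s * a ∈ R := by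
    intro a
    open IntermediateField.algebraAdjoinAdjoin in
    obtain ⟨⟨r, s⟩, hrs⟩ := IsLocalization.surj (M := nonZeroDivisors R)
      (⟨a, hbir ▸ IntermediateField.mem_top⟩ : IntermediateField.adjoin k (Set.range fun i => φ i / φ j))
    refine ⟨(s : R), s.1.2, fun h => nonZeroDivisors.coe_ne_zero s (Subtype.ext h), ?_⟩
    have h2 : a * ((s : R) : K) = (r : K) := congrArg Subtype.val hrs
    rw [mul_comm, h2]; exact r.2
  choose s hsR hs0 hsa using hfr
  have := finiteDimensional_L hK ((N : ℤ) • E)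
  obtain ⟨S, hS⟩ := (Module.Finite.iff_fg.1 this : (L ((N : ℤ) • E)).FG)
  let w := ∏ a ∈ S, s a
  have hw0 : w ≠ 0 := Finset.prod_ne_zero_iff.2 fun a _ => hs0 a
  have hwR : ∀ m : ℕ, ∀ a ∈ L ((m : ℤ) • E), w * a ∈ R := by
    intro m a ha
    have h2 : ∀ b ∈ L ((N : ℤ) • E), w * b ∈ R := by
      intro b hb
      rw [← hS] at hb
      induction hb using Submodule.span_induction with
      | mem x hx =>
        rw [show w * x = (∏ b ∈ S.erase x, s b) * (s x * x) by
          rw [← mul_assoc, Finset.prod_erase_mul _ _ hx]]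
        exact mul_mem (prod_mem fun b _ => hsR b) (hsa x)
      | zero => rw [mul_zero]; exact zero_mem _
      | add x y _ _ hx hy => rw [mul_add]; exact add_mem hx hy
      | smul c x _ hx => rw [Algebra.mul_smul_comm]; exact R.smul_mem hx c
    have h3 := hN m ha
    clear ha
    induction h3 using Submodule.span_induction with
    | mem x hx => exact h2 x hx
    | zero => rw [mul_zero]; exact zero_mem _
    | add x y _ _ hx hy => rw [mul_add]; exact add_mem hx hy
    | smul c x _ hx =>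
      show w * ((c : K) * x) ∈ R
      rw [mul_left_comm]
      exact mul_mem c.2 hx
  refine (E.support.finite_toSet.union (finite_support_ord hK w)).subset fun P hP => ?_
  by_contra hPS
  rw [Set.mem_union, Finset.mem_coe, Finsupp.mem_support_iff, Function.mem_support, not_or, not_not,
    not_not] at hPS
  refine hP fun z hz => ?_
  have hext := (extremal_iff hK hD hj P).2 hPS.1
  obtain ⟨u, hu, v, hv, hv1, huv⟩ := exists_frac_of_conductor hK hE0 hE (hdeg1 P) hPS.1 hwR
    (by rw [val_eq_exp P hw0, hPS.2, neg_zero, exp_zero]) hz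
  exact ⟨j, hj, hext, u, hu, v, hv, hv1, huv⟩

end Maps

end Groth.Agent.FunFldLib
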