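import Groth.Agent.FunFld.PlanePoly
import Groth.Agent.FunFld.Embedding
import Mathlib.RingTheory.DedekindDomain.Different

/-!
The adjoint divisor of a plane model: it is effective and vanishes exactly at the nonsingular places.
-/

namespace Groth.Agent.FunFldLib

open FunFld WithZero
open scoped Pointwise

/-! ### Fractions with a denominator which is a unit at a place -/

section LocAt

variable {k K : Type*} [Field k] [Field K] [Algebra k K]

/-- The fractions of elements of `R` whose denominator is a unit at `Q`. -/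
def locAt (R : Subalgebra k K) (Q : Place k K) : Subalgebra k K where
  carrier := {z | ∃ u ∈ R, ∃ w ∈ R, Q.1 w = 1 ∧ z * w = u}
  one_mem' := ⟨1, one_mem R, 1, one_mem R, map_one _, one_mul 1⟩
  zero_mem' := ⟨0, zero_mem R, 1, one_mem R, map_one _, zero_mul 1⟩
  mul_mem' := by
    rintro a b ⟨u, hu, w, hw, hw1, rfl⟩ ⟨u', hu', w', hw', hw1', rfl⟩
    exact ⟨_, mul_mem hu hu', _, mul_mem hw hw', by rw [map_mul, hw1, hw1', one_mul], by ring⟩
  add_mem' := by
    rintro a b ⟨u, hu, w, hw, hw1, rfl⟩ ⟨u', hu', w', hw', hw1', rfl⟩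
    exact ⟨_, add_mem (mul_mem hu hw') (mul_mem hu' hw), _, mul_mem hw hw',
      by rw [map_mul, hw1, hw1', one_mul], by ring⟩
  algebraMap_mem' c := ⟨_, R.algebraMap_mem c, 1, one_mem R, map_one _, mul_one _⟩

theorem le_locAt (R : Subalgebra k K) (Q : Place k K) : R ≤ locAt R Q :=
  fun z hz => ⟨z, hz, 1, one_mem R, map_one _, mul_one z⟩

theorem div_mem_locAt {R : Subalgebra k K} {Q : Place k K} {a b : K} (ha : a ∈ locAt R Q)
    (hb : b ∈ locAt R Q) (hb1 : Q.1 b = 1) : a / b ∈ locAt R Q := by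
  obtain ⟨u, hu, w, hw, hw1, hau⟩ := ha
  obtain ⟨u', hu', w', hw', hw1', hbu⟩ := hb
  have hb0 : b ≠ 0 := fun h => by rw [h, map_zero] at hb1; exact zero_ne_one hb1
  refine ⟨u * w', mul_mem hu hw', w * u', mul_mem hw hu', ?_, ?_⟩
  · rw [map_mul, hw1, ← hbu, map_mul, hb1, hw1', one_mul, one_mul]
  · rw [← hau, ← hbu]; field_simp

theorem val_aeval_eq_one {Q : Place k K} {x : K} {b : k} (hb : Q.1 (x - algebraMap k K b) < 1)
    {q : Polynomial k} (hq : q.eval b ≠ 0) : Q.1 (Polynomial.aeval x q) = 1 := by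
  obtain ⟨r, hr⟩ : Polynomial.X - Polynomial.C b ∣ q - Polynomial.C (q.eval b) :=
    Polynomial.dvd_iff_isRoot.2 (by simp)
  have hx : Q.1 x ≤ 1 := by
    have := Q.1.map_add_le hb.le (Q.2.1 b)
    rwa [sub_add_cancel] at this
  rw [show q = Polynomial.C (q.eval b) + (Polynomial.X - Polynomial.C b) * r by rw [← hr]; ring,
    map_add, map_mul, map_sub, Polynomial.aeval_C, Polynomial.aeval_X, Polynomial.aeval_C]
  refine (Q.1.map_add_eq_of_lt_left ?_).trans (val_algebraMap Q hq)
  rw [val_algebraMap Q hq, map_mul]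
  exact (mul_le_of_le_one_right' (val_aeval_le_one' Q hx r)).trans_lt hb

/-- A rational function of `x` integral at `Q` is such a fraction. -/
theorem div_aeval_mem_locAt {R : Subalgebra k K} {Q : Place k K} {x : K} {b : k}
    (hb : Q.1 (x - algebraMap k K b) < 1) (hxR : x ∈ R) (hxt : Transcendental k x) (r s : Polynomial k)
    (h : Q.1 (Polynomial.aeval x r / Polynomial.aeval x s) ≤ 1) :
    Polynomial.aeval x r / Polynomial.aeval x s ∈ locAt R Q := by
  classical
  rcases eq_or_ne r 0 with rfl | hr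
  · simp
  rcases eq_or_ne s 0 with rfl | hs
  · simp
  have hR : ∀ p : Polynomial k, Polynomial.aeval x p ∈ R := fun p => by
    rw [Polynomial.aeval_eq_sum_range]
    exact sum_mem fun i _ => R.smul_mem (pow_mem hxR i) _
  obtain ⟨r', hr', hnr⟩ := Polynomial.exists_eq_pow_rootMultiplicity_mul_and_not_dvd r hr b
  obtain ⟨s', hs', hns⟩ := Polynomial.exists_eq_pow_rootMultiplicity_mul_and_not_dvd s hs b
  rw [Polynomial.dvd_iff_isRoot] at hnr hns
  set i := r.rootMultiplicity b
  set j := s.rootMultiplicity b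
  have h1 := val_aeval_eq_one hb hnr
  have h2 := val_aeval_eq_one hb hns
  have hu0 : x - algebraMap k K b ≠ 0 := sub_ne_zero.2 fun h0 => hxt (h0 ▸ isAlgebraic_algebraMap b)
  have hji : j ≤ i := by
    by_contra hlt
    push Not at hlt
    rw [hr', hs', map_mul, map_mul, map_div₀, map_mul, map_mul, h1, h2, map_pow, map_pow, map_pow, map_pow,
      map_sub, Polynomial.aeval_X, Polynomial.aeval_C, mul_one, mul_one,
      div_le_one₀ (pow_pos (zero_lt_iff.2 (val_ne_zero Q hu0)) _)] at h
    exact (pow_lt_pow_right_of_lt_one₀ (zero_lt_iff.2 (val_ne_zero Q hu0)) hb hlt).not_ge h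
  have hs0 : Polynomial.aeval x s' ≠ 0 := fun h0 => by rw [h0, map_zero] at h2; exact zero_ne_one h2
  have he : Polynomial.aeval x r / Polynomial.aeval x s =
      Polynomial.aeval x ((Polynomial.X - Polynomial.C b) ^ (i - j) * r') / Polynomial.aeval x s' := by
    rw [hr', hs', ← Nat.sub_add_cancel hji]
    simp only [pow_add, map_mul, map_pow, map_sub, Polynomial.aeval_X, Polynomial.aeval_C, Nat.add_sub_cancel]
    field_simp
  rw [he]
  exact div_mem_locAt (le_locAt R Q (hR _)) (le_locAt R Q (hR _)) h2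

end LocAt

/-! ### The conductor of a generator -/

section Conductor

variable {k K K' : Type*} [Field k] [Field K] [Field K'] [Algebra k K] [Algebra K K'] [Algebra k K']
  [IsScalarTower k K K'] [FiniteDimensional K K'] [Algebra.IsSeparable K K']

omit [Algebra.IsSeparable K K'] in
theorem adjoin_eq_top_of_natDegree {θ : K'} (h : (minpoly K θ).natDegree = Module.finrank K K') :
    Algebra.adjoin K ({θ} : Set K') = ⊤ := by
  have hint : IsIntegral K θ := .of_finite K θ
  rw [← IntermediateField.adjoin_simple_toSubalgebra_of_isAlgebraic hint.isAlgebraic,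
    IntermediateField.eq_of_le_of_finrank_eq (le_top : IntermediateField.adjoin K ({θ} : Set K') ≤ ⊤)
      (by rw [IntermediateField.adjoin.finrank hint, h, IntermediateField.finrank_top'])]
  rfl

/-- The quotient of the differents carries the integral closure into `O_P[y]`. -/
theorem conductor_of_generators (hK : IsFunctionField k K) (P : Place k K) [Algebra P.O K']
    [IsScalarTower P.O K K'] {y θ : K'} (hy : IntAbove P y) (hytop : Algebra.adjoin K ({y} : Set K') = ⊤)
    (hθtop : Algebra.adjoin K ({θ} : Set K') = ⊤) (hθ : IntAbove P θ)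
    (hθmax : ∀ z, IntAbove P z → z ∈ Algebra.adjoin P.O ({θ} : Set K')) (z : K') (hz : IntAbove P z) :
    Polynomial.aeval y (Polynomial.derivative (minpoly K y)) /
      Polynomial.aeval θ (Polynomial.derivative (minpoly K θ)) * z ∈ Algebra.adjoin P.O ({y} : Set K') := by
  have hyi := (isIntegral_iff_intAbove hK P y).2 hy
  have hθi := (isIntegral_iff_intAbove hK P θ).2 hθ
  have hle : Subalgebra.toSubmodule (Algebra.adjoin P.O ({y} : Set K')) ≤
      Subalgebra.toSubmodule (Algebra.adjoin P.O ({θ} : Set K')) := fun u hu =>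
    hθmax u ((isIntegral_iff_intAbove hK P u).1 (adjoin_le_integralClosure hyi hu))
  set δy := Polynomial.aeval y (Polynomial.derivative (minpoly K y))
  set δθ := Polynomial.aeval θ (Polynomial.derivative (minpoly K θ))
  have hδy : δy ≠ 0 := (Algebra.IsSeparable.isSeparable K y).aeval_derivative_ne_zero (minpoly.aeval K y)
  have h1 : δθ⁻¹ * z ∈ (Algebra.traceForm K K').dualSubmodule
      (Subalgebra.toSubmodule (Algebra.adjoin P.O ({θ} : Set K'))) := by
    rw [traceForm_dualSubmodule_adjoin P.O K hθtop hθi]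
    exact Submodule.smul_mem_pointwise_smul _ _ _ (hθmax z hz)
  have h2 : δθ⁻¹ * z ∈ (Algebra.traceForm K K').dualSubmodule
      (Subalgebra.toSubmodule (Algebra.adjoin P.O ({y} : Set K'))) := fun u hu => h1 u (hle hu)
  rw [traceForm_dualSubmodule_adjoin P.O K hytop hyi] at h2
  obtain ⟨w, hw, hwe⟩ := h2
  have : δy / δθ * z = w := by
    have h3 : δy⁻¹ * w = δθ⁻¹ * z := hwe
    rw [div_eq_mul_inv, mul_assoc, ← h3, mul_inv_cancel_left₀ hδy]
  rw [this]
  exact hw

end Conductor

/-! ### The affine part -/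

section Affine

variable {k K : Type*} [Field k] [IsAlgClosed k] [Field K] [Algebra k K]
variable (hK : IsFunctionField k K) {x y : K} (htop : IntermediateField.adjoin k ({x, y} : Set K) = ⊤)
variable {f : MvPolynomial (Fin 2) k} (hfxy : MvPolynomial.aeval ![x, y] f = 0)

omit [IsAlgClosed k] in
include htop in
/-- A derivation is not killed on both generators. -/
theorem hasseD_ne_zero_or {t : K} {Ht : K →ₐ[k] PowerSeries K} (hHt : LocRes.IsHasseFamily t Ht) :
    LocRes.hasseD Ht 1 x ≠ 0 ∨ LocRes.hasseD Ht 1 y ≠ 0 := by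
  by_contra h
  push Not at h
  have hp : ∀ g : MvPolynomial (Fin 2) k, LocRes.hasseD Ht 1 (MvPolynomial.aeval ![x, y] g) = 0 := fun g => by
    rw [hasseD_aeval hHt, h.1, h.2, mul_zero, mul_zero, add_zero]
  have hall : ∀ z : K, LocRes.hasseD Ht 1 z = 0 := fun z => by
    have hz : z ∈ IntermediateField.adjoin k (Set.range ![x, y]) := by
      have : Set.range ![x, y] = {x, y} := by
        simp [Matrix.range_cons, Matrix.range_empty, Set.pair_comm]
      rw [this, htop]; trivial
    obtain ⟨r, s, rfl⟩ := (IntermediateField.mem_adjoin_range_iff _ _ z).1 hz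
    rcases eq_or_ne (MvPolynomial.aeval ![x, y] s) 0 with h0 | h0
    · simp [h0, LocRes.hasseD]
    · have := hasseD_one_mul Ht hHt.2 (MvPolynomial.aeval ![x, y] r / MvPolynomial.aeval ![x, y] s)
        (MvPolynomial.aeval ![x, y] s)
      rw [div_mul_cancel₀ _ h0, hp, hp, mul_zero, zero_add] at this
      exact (mul_eq_zero.1 this.symm).resolve_left h0
  exact one_ne_zero ((hasseD_one_self hHt).symm.trans (hall t))

variable (hfy : MvPolynomial.aeval ![x, y] (MvPolynomial.pderiv 1 f) ≠ 0)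

include hK htop hfxy hfy in
/-- At an affine place `Dx / f_y` has no zero, and it is a unit only at nonsingular places. -/
theorem affine_core (Q : Place k K) (hx : Q.1 x ≤ 1) (hy : Q.1 y ≤ 1) {t : K} (ht : Q.1 t = exp (-1))
    {Ht : K →ₐ[k] PowerSeries K} (hHt : LocRes.IsHasseFamily t Ht) :
    LocRes.hasseD Ht 1 x ≠ 0 ∧
    Q.1 (MvPolynomial.aeval ![x, y] (MvPolynomial.pderiv 1 f)) ≤ Q.1 (LocRes.hasseD Ht 1 x) ∧
    (Q.1 (MvPolynomial.aeval ![x, y] (MvPolynomial.pderiv 1 f)) = Q.1 (LocRes.hasseD Ht 1 x) →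
      ∀ z : K, Q.1 z ≤ 1 → z ∈ locAt (Algebra.adjoin k (Set.range ![(1 : K), x, y])) Q) := by
  classical
  have hf0 : f ≠ 0 := fun h => hfy (by rw [h, map_zero, map_zero])
  set fx := MvPolynomial.aeval ![x, y] (MvPolynomial.pderiv 0 f)
  set fy := MvPolynomial.aeval ![x, y] (MvPolynomial.pderiv 1 f)
  set D := LocRes.hasseD Ht 1
  have hrel : fx * D x + fy * D y = 0 := by
    have := hasseD_aeval hHt x y f
    rw [hfxy] at this
    exact this.symm.trans (by simp [LocRes.hasseD])
  -- the projection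
  have : Infinite k := IsAlgClosed.instInfinite
  have hbad : {c : k | fy - algebraMap k K c * fx = 0}.Finite := by
    refine Set.Subsingleton.finite fun c hc d hd => ?_
    by_contra hne
    have h1 : algebraMap k K (c - d) * fx = 0 := by
      rw [map_sub]; rw [Set.mem_ofPred_eq] at hc hd; linear_combination hd - hc
    rcases mul_eq_zero.1 h1 with h | h
    · exact sub_ne_zero.2 hne ((map_eq_zero _).1 h)
    · exact hfy (by simpa [h] using hc)
  obtain ⟨c, hc⟩ := ((finite_bad_slant hf0).union hbad).exists_notMem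
  simp only [Set.mem_union, Set.mem_ofPred_eq, not_or, not_not] at hc
  obtain ⟨⟨a, ha, hca⟩, hsl⟩ := hc
  set x₁ := x + algebraMap k K c * y with hx₁_def
  have hD1 : D x₁ = D x + algebraMap k K c * D y := hasseD_slant hHt x y c
  have hDx : D x ≠ 0 := fun h0 => by
    rw [h0, mul_zero, zero_add] at hrel
    rcases hasseD_ne_zero_or htop hHt with h | h
    · exact h h0
    · exact h ((mul_eq_zero.1 hrel).resolve_left hfy)
  have hratio : D x₁ * fy = D x * (fy - algebraMap k K c * fx) := by
    rw [hD1]; linear_combination algebraMap k K c * hrel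
  have hDx₁ : D x₁ ≠ 0 := fun h0 => by
    rw [h0, zero_mul, eq_comm, mul_eq_zero] at hratio
    exact hratio.elim hDx hsl
  have hx₁t := transcendental_slant hK htop hfxy ha hca
  -- the tower `k(x₁) ⊆ K`
  set K₀ := IntermediateField.adjoin k ({x₁} : Set K)
  have := finiteDimensional_adjoin hK hx₁t
  obtain ⟨h0, htop0⟩ := isFunctionField_adjoin hK hx₁t
  set g₁ : K₀ := ⟨x₁, IntermediateField.mem_adjoin_simple_self k x₁⟩
  obtain ⟨P, hQP⟩ : ∃ P : Place k K₀, IsOver Q P := ⟨_, isOver_below Q⟩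
  have hx₁1 : Q.1 x₁ ≤ 1 := Q.1.map_add_le hx (by
    rw [map_mul]; exact mul_le_one' (Q.2.1 c) hy)
  have hover : ∀ (R : Place k K), IsOver R P → ∀ u : K₀, R.1 (u : K) ≤ 1 ↔ P.1 u ≤ 1 := fun R hR u => by
    show R.1 (algebraMap K₀ K u) ≤ 1 ↔ _
    rw [isOverWith_ramIdx hR, pow_le_one_iff_of_nonneg zero_le (isOverWith_pos (isOverWith_ramIdx hR)).ne']
  obtain ⟨Pi, hPi, hrat⟩ := rat_places h0 htop0
  have hg₁ : P.1 g₁ ≤ 1 := (hover Q hQP g₁).1 hx₁1
  obtain ⟨-, b, hb⟩ := hrat P fun h => by
    rw [h, hPi, ← exp_zero, exp_le_exp] at hg₁; omega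
  set tP := g₁ - algebraMap k K₀ b
  have hQb : Q.1 (x₁ - algebraMap k K b) < 1 := by
    show Q.1 (algebraMap K₀ K tP) < 1
    rw [isOverWith_ramIdx hQP, hb]
    exact pow_lt_one₀ zero_le (by rw [← exp_zero, exp_lt_exp]; omega) (isOverWith_pos (isOverWith_ramIdx hQP)).ne'
  -- `y` over `k(x₁)`
  have hyint : IntAbove P y := fun R hR =>
    (val_le_of_proj hfxy ha hca R).trans (max_le le_rfl ((hover R hR g₁).2 hg₁))
  let _ : Algebra P.O K := ((algebraMap K₀ K).comp P.O.subtype).toAlgebra
  have : IsScalarTower P.O K₀ K := IsScalarTower.of_algebraMap_eq fun _ => rfl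
  have : FaithfulSMul P.O K := (faithfulSMul_iff_algebraMap_injective _ _).2
    ((algebraMap K₀ K).injective.comp Subtype.val_injective)
  let xO : P.O := ⟨g₁, hg₁⟩
  let _ : Algebra k P.O := (((algebraMap k K₀)).codRestrict P.O.toSubring fun c' => P.2.1 c').toAlgebra
  have : IsScalarTower k P.O K := IsScalarTower.of_algebraMap_eq fun _ => rfl
  set q := (projPoly f c a).map (Polynomial.aeval xO).toRingHom with hq_def
  have hφ : (algebraMap P.O K).comp (Polynomial.aeval xO).toRingHom = (Polynomial.aeval x₁).toRingHom :=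
    Polynomial.ringHom_ext (fun (c' : k) => by simp [← IsScalarTower.algebraMap_apply k P.O K]) (by simp; rfl)
  have hq0 : Polynomial.aeval y q = 0 := by
    rw [Polynomial.aeval_def, hq_def, Polynomial.eval₂_map, hφ]; exact projPoly_eval hfxy
  have hq' : Polynomial.aeval y (Polynomial.derivative q) = algebraMap k K a⁻¹ * (fy - algebraMap k K c * fx) := by
    rw [Polynomial.aeval_def, hq_def, Polynomial.derivative_map, Polynomial.eval₂_map, hφ, projPoly,
      Polynomial.derivative_C_mul, Polynomial.eval₂_mul, Polynomial.eval₂_C, eval₂_derivative_slant]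
    simp [fy, fx]
  have hyi := (isIntegral_iff_intAbove h0 P y).2 hyint
  obtain ⟨hO, hhO⟩ := minpoly.isIntegrallyClosed_dvd hyi hq0
  set δy := Polynomial.aeval y (Polynomial.derivative (minpoly K₀ y))
  have hδyO : Polynomial.aeval y (Polynomial.derivative (minpoly P.O y)) = δy := by
    show _ = Polynomial.aeval y _
    rw [minpoly.isIntegrallyClosed_eq_field_fractions' K₀ hyi, Polynomial.derivative_map,
      Polynomial.aeval_map_algebraMap]
  have hfac : algebraMap k K a⁻¹ * (fy - algebraMap k K c * fx) = δy * Polynomial.aeval y hO := by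
    rw [← hq', hhO, Polynomial.derivative_mul, map_add, map_mul, map_mul, minpoly.aeval, zero_mul, add_zero,
      hδyO]
  have hδy : δy ≠ 0 := fun h => by
    rw [h, zero_mul, mul_eq_zero] at hfac
    exact hfac.elim ((map_ne_zero _).2 (inv_ne_zero ha)) hsl
  have hyK : IsIntegral K₀ y := .of_finite K₀ y
  have htopy : IntermediateField.adjoin K₀ ({y} : Set K) = ⊤ := by
    refine eq_top_iff.2 fun z _ => ?_
    have hle : IntermediateField.adjoin k ({x₁, y} : Set K) ≤
        (IntermediateField.adjoin K₀ ({y} : Set K)).restrictScalars k :=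
      IntermediateField.adjoin_le_iff.2 (by
        rintro u (rfl | rfl)
        · exact (IntermediateField.adjoin K₀ ({y} : Set K)).algebraMap_mem g₁
        · exact IntermediateField.mem_adjoin_simple_self K₀ _)
    exact hle (by rw [adjoin_slant htop c]; trivial)
  have hysep : IsSeparable K₀ y :=
    (Polynomial.separable_iff_derivative_ne_zero (minpoly.irreducible hyK)).2 fun h => hδy (by
      show Polynomial.aeval y _ = 0
      rw [h, map_zero])
  have : Algebra.IsSeparable K₀ K := ⟨fun z => by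
    have hle : IntermediateField.adjoin K₀ ({y} : Set K) ≤ separableClosure K₀ K :=
      IntermediateField.adjoin_simple_le_iff.2 (mem_separableClosure_iff.2 hysep)
    exact mem_separableClosure_iff.1 (hle (by rw [htopy]; trivial))⟩
  have hytop : Algebra.adjoin K₀ ({y} : Set K) = ⊤ := by
    rw [← IntermediateField.adjoin_simple_toSubalgebra_of_isAlgebraic hyK.isAlgebraic, htopy]; rfl
  -- parameters upstairs
  choose π₀ hπ₀ using fun R : Place k K => exists_val_eq R (-1)
  choose H₀ hH₀ using fun R : Place k K => exists_hasse_param hK (hπ₀ R)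
  have hπ : ∀ R : Place k K, R.1 (Function.update π₀ Q t R) = exp (-1) := fun R => by
    rcases eq_or_ne R Q with rfl | h <;> simp [*]
  have hH : ∀ R : Place k K, LocRes.IsHasseFamily (Function.update π₀ Q t R) (Function.update H₀ Q Ht R) :=
    fun R => by rcases eq_or_ne R Q with rfl | h <;> simp [*]
  obtain ⟨hfin, -⟩ := finite_isOver_and_sum (K' := K) h0 P
  obtain ⟨θ, hθint, hli, hloc, -, hdegθ, hordθ⟩ := exists_local_generator h0 P hb hK _ hπ _ hH hfin.toFinset
    fun R => by simp
  have hQmem : Q ∈ hfin.toFinset := by simpa using hQP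
  set δθ := Polynomial.aeval θ (Polynomial.derivative (minpoly K₀ θ))
  have hδθ : δθ ≠ 0 := (Algebra.IsSeparable.isSeparable K₀ θ).aeval_derivative_ne_zero (minpoly.aeval K₀ θ)
  have hδθv : Q.1 δθ = Q.1 (D x₁) := by
    have h := hordθ Q hQmem
    rw [Function.update_self] at h
    have hD : LocRes.hasseD Ht 1 (algebraMap K₀ K tP) = D x₁ := by
      show LocRes.hasseD Ht 1 (x₁ - algebraMap k K b) = _
      simp [D, LocRes.hasseD, PowerSeries.algebraMap_apply]
    rw [hD] at h
    rw [val_eq_exp Q hδθ, val_eq_exp Q hDx₁, h]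
  have hθtop := adjoin_eq_top_of_natDegree hdegθ
  have hθmax : ∀ z, IntAbove P z → z ∈ Algebra.adjoin P.O ({θ} : Set K) := fun z hz => by
    let B := basisOfLinearIndependentOfCardEqFinrank' _ hli (Fintype.card_fin _)
    have hB : ∀ i, B i = θ ^ (i : ℕ) := fun i => by simp [B]
    rw [← B.sum_repr z]
    refine sum_mem fun i _ => ?_
    have h1 := hloc.2 (fun i => B.repr z i) (by simpa only [← hB, B.sum_repr] using hz) i
    rw [hB, show B.repr z i • θ ^ (i : ℕ) = (⟨_, h1⟩ : P.O) • θ ^ (i : ℕ) from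
      (IsScalarTower.algebraMap_smul K₀ (⟨_, h1⟩ : P.O) (θ ^ (i : ℕ)))]
    exact Subalgebra.smul_mem _ (pow_mem (Algebra.self_mem_adjoin_singleton _ _) _) _
  set γ := δy / δθ
  have hγ : ∀ z, IntAbove P z → γ * z ∈ Algebra.adjoin P.O ({y} : Set K) :=
    conductor_of_generators h0 P hyint hytop hθtop hθint hθmax
  have hadj : ∀ u ∈ Algebra.adjoin P.O ({y} : Set K), IntAbove P u := fun u hu =>
    (isIntegral_iff_intAbove h0 P u).1 (adjoin_le_integralClosure hyi hu)
  have hγ1 : Q.1 γ ≤ 1 := by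
    have := hadj _ (hγ 1 fun R _ => (map_one R.1).le) Q hQP
    rwa [mul_one] at this
  have hδyθ : Q.1 δy ≤ Q.1 (D x₁) := by
    rw [← hδθv]
    rwa [map_div₀, div_le_one₀ (zero_lt_iff.2 (val_ne_zero Q hδθ))] at hγ1
  have hhint : Q.1 (Polynomial.aeval y hO) ≤ 1 :=
    hadj _ (Polynomial.aeval_mem_adjoin_singleton _ _) Q hQP
  have hsl_le : Q.1 (fy - algebraMap k K c * fx) ≤ Q.1 δy := by
    have := congrArg Q.1 hfac
    rw [map_mul, val_algebraMap Q (inv_ne_zero ha), one_mul, map_mul] at this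
    rw [this]
    exact mul_le_of_le_one_right' hhint
  have hratiov := congrArg Q.1 hratio
  rw [map_mul, map_mul] at hratiov
  have hsl0 : 0 < Q.1 (fy - algebraMap k K c * fx) := zero_lt_iff.2 (val_ne_zero Q hsl)
  refine ⟨hDx, ?_, fun heq z hz => ?_⟩
  · refine le_of_mul_le_mul_right ?_ hsl0
    rw [← hratiov, mul_comm]
    exact mul_le_mul_of_nonneg_right (hsl_le.trans hδyθ) zero_le
  · rw [heq] at hratiov
    have hkey : Q.1 (D x₁) = Q.1 (fy - algebraMap k K c * fx) :=
      mul_right_cancel₀ (val_ne_zero Q hDx) (hratiov.trans (mul_comm _ _))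
    have hγeq : Q.1 γ = 1 := by
      rw [map_div₀, hδθv, le_antisymm hδyθ (hkey.le.trans hsl_le), div_self (val_ne_zero Q hDx₁)]
    -- clear the other places above `P`
    obtain ⟨e, he⟩ := exists_approx_eq hfin.toFinset (fun _ => (0 : K))
      (fun R => if R = Q then 0 else min 0 (R.ord z))
    have hev : ∀ R, IsOver R P → R.1 e = exp (if R = Q then 0 else min 0 (R.ord z)) := fun R hR => by
      simpa using he R (by simpa using hR)
    have heint : IntAbove P e := fun R hR => by
      rw [hev R hR, ← exp_zero, exp_le_exp]; split_ifs <;> omega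
    have hezint : IntAbove P (e * z) := fun R hR => by
      rcases eq_or_ne z 0 with rfl | hz0
      · simp
      rw [map_mul, hev R hR]
      split_ifs with h
      · rw [exp_zero, one_mul, h]; exact hz
      · rw [val_eq_exp R hz0, ← exp_add, ← exp_zero, exp_le_exp]; omega
    have hloc' : Algebra.adjoin P.O ({y} : Set K) ≤
        { (locAt (Algebra.adjoin k (Set.range ![(1 : K), x, y])) Q).toSubsemiring with
          algebraMap_mem' := fun u => by
            obtain ⟨r, s, hrs⟩ := (IntermediateField.mem_adjoin_simple_iff k ((u : K₀) : K)).1 (u : K₀).2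
            show ((u : K₀) : K) ∈ locAt _ Q
            rw [hrs]
            refine div_aeval_mem_locAt hQb ?_ hx₁t r s (hrs ▸ (hover Q hQP _).2 u.2)
            rw [hx₁_def]
            exact add_mem (Algebra.subset_adjoin ⟨1, rfl⟩)
              (mul_mem (Subalgebra.algebraMap_mem _ c) (Algebra.subset_adjoin ⟨2, rfl⟩)) } := by
      refine Algebra.adjoin_le ?_
      rintro _ rfl
      exact le_locAt _ Q (Algebra.subset_adjoin ⟨2, rfl⟩)
    have h1 := hloc' (hγ (e * z) hezint)
    have h2 := hloc' (hγ e heint)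
    have he1 : Q.1 (γ * e) = 1 := by rw [map_mul, hγeq, hev Q hQP, if_pos rfl, exp_zero, one_mul]
    have hne : γ * e ≠ 0 := fun h => by rw [h, map_zero] at he1; exact zero_ne_one he1
    have := div_mem_locAt h1 h2 he1
    rwa [← mul_assoc, mul_div_cancel_left₀ _ hne] at this

end Affine

/-! ### The divisor of a plane map and its charts -/

section Charts

variable {k K : Type*} [Field k] [Field K] [Algebra k K]

theorem isNonsingularAt_iff_locAt {ι : Type*} {φ : ι → K} {Q : Place k K} {j : ι} (hj : φ j ≠ 0)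
    (hext : ∀ i, Q.1 (φ i) ≤ Q.1 (φ j)) :
    IsNonsingularAt φ Q ↔
      ∀ z : K, Q.1 z ≤ 1 → z ∈ locAt (Algebra.adjoin k (Set.range fun i => φ i / φ j)) Q :=
  ⟨fun h z hz => exists_frac_of_inLocRing hj hext (h z hz), fun h z hz => ⟨j, hj, hext, h z hz⟩⟩

theorem isNonsingularAt_affine {x y : K} {Q : Place k K} (hx : Q.1 x ≤ 1) (hy : Q.1 y ≤ 1) :
    IsNonsingularAt ![(1 : K), x, y] Q ↔
      ∀ z : K, Q.1 z ≤ 1 → z ∈ locAt (Algebra.adjoin k (Set.range ![(1 : K), x, y])) Q := by
  rw [isNonsingularAt_iff_locAt (j := 0) (by simp) (fun i => by fin_cases i <;> simp [hx, hy])]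
  simp

variable (hK : IsFunctionField k K)

include hK in
theorem mapDiv_three (x y : K) (P : Place k K) :
    mapDiv k ![(1 : K), x, y] P = max 0 (max (-P.ord x) (-P.ord y)) := by
  rw [mapDiv_apply hK.1]
  set m := Finset.univ.inf' Finset.univ_nonempty fun i => P.ord (![(1 : K), x, y] i)
  have h0 : m ≤ P.ord (1 : K) := Finset.inf'_le _ (Finset.mem_univ (0 : Fin 3))
  have h1 : m ≤ P.ord x := Finset.inf'_le _ (Finset.mem_univ (1 : Fin 3))
  have h2 : m ≤ P.ord y := Finset.inf'_le _ (Finset.mem_univ (2 : Fin 3))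
  obtain ⟨i, -, hi⟩ := Finset.exists_mem_eq_inf' Finset.univ_nonempty fun i => P.ord (![(1 : K), x, y] i)
  have h1' : P.ord (1 : K) = 0 := by simp [Place.ord]
  change m = _ at hi
  fin_cases i <;> simp at hi <;> omega

include hK in
theorem mapDiv_swap (x y : K) : mapDiv k ![(1 : K), y, x] = mapDiv k ![(1 : K), x, y] := by
  ext P
  rw [mapDiv_three hK, mapDiv_three hK, max_comm (-P.ord y)]

include hK in
theorem mapDiv_eq_zero {x y : K} {Q : Place k K} (hx : Q.1 x ≤ 1) (hy : Q.1 y ≤ 1) :
    mapDiv k ![(1 : K), x, y] Q = 0 := by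
  rw [mapDiv_three hK]
  have h : ∀ z : K, Q.1 z ≤ 1 → 0 ≤ Q.ord z := fun z hz => by
    rcases eq_or_ne z 0 with rfl | hz0
    · simp
    · exact (val_le_one_iff Q hz0).1 hz
  have := h x hx
  have := h y hy
  omega

include hK in
theorem val_le_exp_mapDiv (x y : K) (P : Place k K) :
    P.1 x ≤ exp (mapDiv k ![(1 : K), x, y] P) ∧ P.1 y ≤ exp (mapDiv k ![(1 : K), x, y] P) := by
  rw [mapDiv_three hK]
  constructor
  · rcases eq_or_ne x 0 with rfl | h
    · simp
    · rw [val_eq_exp P h, exp_le_exp]; omega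
  · rcases eq_or_ne y 0 with rfl | h
    · simp
    · rw [val_eq_exp P h, exp_le_exp]; omega

include hK in
theorem mapDiv_le_of_val {x y : K} {P : Place k K} {n : ℤ} (hn : 0 ≤ n) (hx : P.1 x ≤ exp n)
    (hy : P.1 y ≤ exp n) : mapDiv k ![(1 : K), x, y] P ≤ n := by
  rw [mapDiv_three hK]
  have h : ∀ z : K, P.1 z ≤ exp n → -P.ord z ≤ n := fun z hz => by
    rcases eq_or_ne z 0 with rfl | hz0
    · simpa using hn
    · rwa [val_eq_exp P hz0, exp_le_exp] at hz
  have := h x hx
  have := h y hy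
  omega

include hK in
theorem mapDiv_shear (x y : K) (c : k) :
    mapDiv k ![(1 : K), x + algebraMap k K c * y, y] = mapDiv k ![(1 : K), x, y] := by
  ext P
  have hn : ∀ u v : K, 0 ≤ mapDiv k ![(1 : K), u, v] P := fun u v => by rw [mapDiv_three hK]; omega
  have hc : ∀ {u : K} {n : ℤ}, P.1 u ≤ exp n → P.1 (algebraMap k K c * u) ≤ exp n := fun h => by
    rw [map_mul]; exact (mul_le_of_le_one_left' (P.2.1 c)).trans h
  refine le_antisymm ?_ ?_
  · obtain ⟨hx, hy⟩ := val_le_exp_mapDiv hK x y P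
    exact mapDiv_le_of_val hK (hn _ _) (P.1.map_add_le hx (hc hy)) hy
  · obtain ⟨hx, hy⟩ := val_le_exp_mapDiv hK (x + algebraMap k K c * y) y P
    refine mapDiv_le_of_val hK (hn _ _) ?_ hy
    have h := P.1.map_sub_le hx (hc hy)
    rwa [add_sub_cancel_right] at h

include hK in
theorem mapDiv_inv_chart {x : K} (hx : x ≠ 0) (y : K) :
    mapDiv k ![(1 : K), x⁻¹, y / x] = mapDiv k ![(1 : K), x, y] - (-div k x) := by
  ext P
  rw [Finsupp.sub_apply, Finsupp.neg_apply, mapDiv_three hK, mapDiv_three hK, div_apply hK]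
  have h : P.ord x⁻¹ = -P.ord x := by
    have := ord_zpow P x (-1)
    simpa using this
  rcases eq_or_ne y 0 with rfl | hy
  · simp [h]; omega
  · rw [ord_div P hy hx, h]; omega

/-- The substitution `(X, Y) ↦ (X - c Y, Y)`. -/
noncomputable def shear (c : k) : MvPolynomial (Fin 2) k →ₐ[k] MvPolynomial (Fin 2) k :=
  MvPolynomial.aeval ![MvPolynomial.X 0 - MvPolynomial.C c * MvPolynomial.X 1, MvPolynomial.X 1]

/-- It is an automorphism. -/
noncomputable def shearEquiv (c : k) : MvPolynomial (Fin 2) k ≃ₐ[k] MvPolynomial (Fin 2) k :=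
  AlgEquiv.ofAlgHom (shear c) (shear (-c))
    (MvPolynomial.algHom_ext fun i => by fin_cases i <;> simp [shear, MvPolynomial.algebraMap_eq])
    (MvPolynomial.algHom_ext fun i => by fin_cases i <;> simp [shear, MvPolynomial.algebraMap_eq])

theorem aeval_shear (x y : K) (c : k) (g : MvPolynomial (Fin 2) k) :
    MvPolynomial.aeval ![x + algebraMap k K c * y, y] (shear c g) = MvPolynomial.aeval ![x, y] g := by
  have h : (MvPolynomial.aeval ![x + algebraMap k K c * y, y]).comp (shear c) =
      (MvPolynomial.aeval ![x, y] : _ →ₐ[k] K) :=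
    MvPolynomial.algHom_ext fun i => by fin_cases i <;> simp [shear]
  exact DFunLike.congr_fun h g

theorem pderiv_shear (c : k) (g : MvPolynomial (Fin 2) k) :
    MvPolynomial.pderiv 1 (shear c g) =
      shear c (MvPolynomial.pderiv 1 g - MvPolynomial.C c * MvPolynomial.pderiv 0 g) := by
  induction g using MvPolynomial.induction_on with
  | C a => simp [shear, MvPolynomial.algebraMap_eq]
  | add p q hp hq => simp only [map_add, map_sub, map_mul, hp, hq, mul_add]; ring
  | mul_X p i hp =>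
    simp only [map_mul, Derivation.leibniz, smul_eq_mul, hp, map_sub, map_add]
    fin_cases i <;> simp [shear, MvPolynomial.algebraMap_eq] <;> ring

/-- The equation in the chart `(1/X, Y/X)`. -/
noncomputable def flipX (f : MvPolynomial (Fin 2) k) : MvPolynomial (Fin 2) k :=
  ∑ m ∈ f.support, MvPolynomial.monomial
    (Finsupp.single 0 (f.totalDegree - (m 0 + m 1)) + Finsupp.single 1 (m 1)) (f.coeff m)

theorem deg_le_totalDegree {f : MvPolynomial (Fin 2) k} {m : Fin 2 →₀ ℕ} (hm : m ∈ f.support) :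
    m 0 + m 1 ≤ f.totalDegree := by
  have := MvPolynomial.le_totalDegree hm
  rwa [Finsupp.sum_fintype _ _ (fun _ => rfl), Fin.sum_univ_two] at this

theorem totalDegree_flipX (f : MvPolynomial (Fin 2) k) : (flipX f).totalDegree ≤ f.totalDegree :=
  MvPolynomial.totalDegree_finsetSum_le fun m hm => by
    refine (MvPolynomial.totalDegree_monomial_le _ _).trans ?_
    rw [Finsupp.sum_fintype _ _ (fun _ => rfl), Fin.sum_univ_two]
    have := deg_le_totalDegree hm
    simp; omega

theorem aeval_monomial_two (u v : K) (m : Fin 2 →₀ ℕ) (a : k) :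
    MvPolynomial.aeval ![u, v] (MvPolynomial.monomial m a) = algebraMap k K a * (u ^ m 0 * v ^ m 1) := by
  rw [MvPolynomial.aeval_monomial, Finsupp.prod_fintype _ _ fun i => pow_zero _, Fin.prod_univ_two]
  rfl

theorem aeval_flipX {x : K} (hx : x ≠ 0) (y : K) (f : MvPolynomial (Fin 2) k) :
    MvPolynomial.aeval ![x⁻¹, y / x] (flipX f) = x⁻¹ ^ f.totalDegree * MvPolynomial.aeval ![x, y] f := by
  conv_rhs => arg 2; rw [f.as_sum]
  rw [flipX, map_sum, map_sum, Finset.mul_sum]
  refine Finset.sum_congr rfl fun m hm => ?_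
  obtain ⟨e, he⟩ := Nat.exists_eq_add_of_le (deg_le_totalDegree hm)
  rw [aeval_monomial_two, aeval_monomial_two, he]
  simp [pow_add, div_eq_mul_inv, mul_pow, inv_pow]
  field_simp

theorem aeval_pderiv_flipX {x : K} (hx : x ≠ 0) (y : K) (f : MvPolynomial (Fin 2) k) :
    MvPolynomial.aeval ![x⁻¹, y / x] (MvPolynomial.pderiv 1 (flipX f)) * x⁻¹ =
      x⁻¹ ^ f.totalDegree * MvPolynomial.aeval ![x, y] (MvPolynomial.pderiv 1 f) := by
  conv_rhs => arg 2; rw [f.as_sum]
  rw [flipX, map_sum, map_sum, map_sum, map_sum, Finset.sum_mul, Finset.mul_sum]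
  refine Finset.sum_congr rfl fun m hm => ?_
  obtain ⟨e, he⟩ := Nat.exists_eq_add_of_le (deg_le_totalDegree hm)
  rw [MvPolynomial.pderiv_monomial, MvPolynomial.pderiv_monomial, aeval_monomial_two, aeval_monomial_two, he]
  rcases Nat.eq_zero_or_pos (m 1) with h | h
  · simp [h]
  obtain ⟨n, hn⟩ := Nat.exists_eq_add_of_le' h
  simp [hn, pow_add, div_eq_mul_inv, mul_pow, inv_pow]
  field_simp

end Charts

/-! ### The adjoint order at every place -/

section Local

variable {k K : Type*} [Field k] [IsAlgClosed k] [Field K] [Algebra k K]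
variable (hK : IsFunctionField k K) {x y : K} {f : MvPolynomial (Fin 2) k}

/-- The adjoint order of the plane model `(1 : x : y)` with equation `f`, in the parameter of `Ht`. -/
noncomputable def adjOrd (Q : Place k K) (Ht : K →ₐ[k] PowerSeries K) (x y : K)
    (f : MvPolynomial (Fin 2) k) : ℤ :=
  ((f.totalDegree : ℤ) - 3) * mapDiv k ![(1 : K), x, y] Q -
    (Q.ord (LocRes.hasseD Ht 1 x) - Q.ord (MvPolynomial.aeval ![x, y] (MvPolynomial.pderiv 1 f)))

omit [IsAlgClosed k] in
theorem range_aeval_pair (x y : K) :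
    Algebra.adjoin k (Set.range ![(1 : K), x, y]) ≤ (MvPolynomial.aeval ![x, y]).range := by
  refine Algebra.adjoin_le ?_
  rintro _ ⟨i, rfl⟩
  fin_cases i
  · exact ⟨1, by simp⟩
  · exact ⟨MvPolynomial.X 0, by simp⟩
  · exact ⟨MvPolynomial.X 1, by simp⟩

include hK in
/-- If a coordinate gives a parameter at a nonsingular affine place, the other partial is a unit there. -/
theorem val_pderiv_eq_one (htop : IntermediateField.adjoin k ({x, y} : Set K) = ⊤)
    (hfxy : MvPolynomial.aeval ![x, y] f = 0) (hf : Irreducible f) {Q : Place k K} (hx : Q.1 x ≤ 1)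
    (hy : Q.1 y ≤ 1) (hns : IsNonsingularAt ![(1 : K), x, y] Q) {i j : Fin 2} (hij : i ≠ j) {a b : k}
    (ha : Q.1 (![x, y] i - algebraMap k K a) = exp (-1)) (hb : Q.1 (![x, y] j - algebraMap k K b) < 1) :
    Q.1 (MvPolynomial.aeval ![x, y] (MvPolynomial.pderiv j f)) = 1 := by
  set ξ := ![x, y] i - algebraMap k K a with hξ
  set η := ![x, y] j - algebraMap k K b with hη
  have hξ0 : ξ ≠ 0 := ne_zero_of_val Q ha
  have hint : ∀ g : MvPolynomial (Fin 2) k, Q.1 (MvPolynomial.aeval ![x, y] g) ≤ 1 := fun g => by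
    induction g using MvPolynomial.induction_on with
    | C c => simpa using Q.2.1 c
    | add p q hp hq => rw [map_add]; exact Q.1.map_add_le hp hq
    | mul_X p l hp =>
      rw [map_mul, MvPolynomial.aeval_X, map_mul]
      refine mul_le_one' hp ?_
      fin_cases l <;> simpa
  obtain ⟨u, hu, w, hw, hw1, huw⟩ := (isNonsingularAt_affine hx hy).1 hns (η / ξ) (by
    rw [map_div₀, ha, div_le_one₀ exp_pos]
    rcases eq_or_ne η 0 with h | h
    · simp [h]
    · rw [val_eq_exp Q h, exp_le_exp]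
      have := (val_lt_one_iff Q h).1 hb
      omega)
  obtain ⟨U, (rfl : MvPolynomial.aeval ![x, y] U = u)⟩ := range_aeval_pair x y hu
  obtain ⟨W, (rfl : MvPolynomial.aeval ![x, y] W = w)⟩ := range_aeval_pair x y hw
  set R : MvPolynomial (Fin 2) k := (MvPolynomial.X j - MvPolynomial.C b) * W - (MvPolynomial.X i - MvPolynomial.C a) * U
  have hR : MvPolynomial.aeval ![x, y] R = 0 := by
    have h2 : (η / ξ * MvPolynomial.aeval ![x, y] W) * ξ = MvPolynomial.aeval ![x, y] U * ξ := by
      rw [show η / ξ * MvPolynomial.aeval ![x, y] W = MvPolynomial.aeval ![x, y] U from huw]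
    rw [mul_right_comm, div_mul_cancel₀ _ hξ0] at h2
    simp only [R, map_sub, map_mul, MvPolynomial.aeval_X, MvPolynomial.aeval_C, ← hξ, ← hη]
    linear_combination h2
  obtain ⟨h, hh⟩ := dvd_of_relation hK htop hfxy hf hR
  have hd := congrArg (fun g => MvPolynomial.aeval ![x, y] (MvPolynomial.pderiv j g)) hh
  simp only [R, Derivation.leibniz, map_sub, smul_eq_mul, map_add, map_mul, MvPolynomial.pderiv_X_self,
    MvPolynomial.pderiv_X_of_ne hij, MvPolynomial.pderiv_C, MvPolynomial.aeval_X, MvPolynomial.aeval_C,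
    sub_zero, mul_one, mul_zero, add_zero, ← hξ, ← hη, hfxy, zero_mul, zero_add] at hd
  have hlt : ∀ (g : MvPolynomial (Fin 2) k) (z : K), Q.1 z < 1 → Q.1 (z * MvPolynomial.aeval ![x, y] g) < 1 :=
    fun g z hz => by rw [map_mul]; exact (mul_le_of_le_one_right' (hint g)).trans_lt hz
  have hξ1 : Q.1 ξ < 1 := by rw [ha, ← exp_zero, exp_lt_exp]; omega
  have hone := congrArg Q.1 hd
  rw [add_sub_right_comm, Q.1.map_add_eq_of_lt_right ?_, hw1, map_mul] at hone
  · refine le_antisymm (hint _) ?_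
    exact hone.trans_le (mul_le_of_le_one_left' (hint h))
  · rw [hw1]
    exact Q.1.map_sub_lt (hlt _ _ hb) (hlt _ _ hξ1)

include hK in
theorem local_affine (htop : IntermediateField.adjoin k ({x, y} : Set K) = ⊤)
    (hfxy : MvPolynomial.aeval ![x, y] f = 0) (hf : Irreducible f)
    (hfy : MvPolynomial.aeval ![x, y] (MvPolynomial.pderiv 1 f) ≠ 0) (Q : Place k K) (hx : Q.1 x ≤ 1)
    (hy : Q.1 y ≤ 1) {t : K} (ht : Q.1 t = exp (-1)) {Ht : K →ₐ[k] PowerSeries K}
    (hHt : LocRes.IsHasseFamily t Ht) :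
    LocRes.hasseD Ht 1 x ≠ 0 ∧ 0 ≤ adjOrd Q Ht x y f ∧
      (adjOrd Q Ht x y f = 0 ↔ IsNonsingularAt ![(1 : K), x, y] Q) := by
  obtain ⟨hDx, hle, heq⟩ := affine_core hK htop hfxy hfy Q hx hy ht hHt
  set fy := MvPolynomial.aeval ![x, y] (MvPolynomial.pderiv 1 f)
  set D := LocRes.hasseD Ht 1
  have h0 : adjOrd Q Ht x y f = Q.ord fy - Q.ord (D x) := by
    rw [adjOrd, mapDiv_eq_zero hK hx hy]; ring
  have hle' : Q.ord (D x) ≤ Q.ord fy := by
    rw [val_eq_exp Q hfy, val_eq_exp Q hDx, exp_le_exp] at hle; omega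
  refine ⟨hDx, by omega, fun h => ?_, fun hns => ?_⟩
  · exact (isNonsingularAt_affine hx hy).2 (heq (by rw [val_eq_exp Q hfy, val_eq_exp Q hDx]; congr 1; omega))
  -- a coordinate is a parameter
  obtain ⟨e⟩ := exists_paramExp hK ht
  have hD1 : ∀ (z : K) (c : k), Q.1 (z - algebraMap k K c) = exp (-1) → Q.1 (D z) = 1 := fun z c hz => by
    have h := vDiff_eq hK ht hHt e.isExp 1 (z - algebraMap k K c)
    rw [LocRes.vDiff, map_one, one_mul, val_D_of_val_eq ((e.isExp.1 _).trans hz), one_mul] at h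
    have h3 : D (z - algebraMap k K c) = D z := by simp [D, PowerSeries.algebraMap_apply]
    exact (h.trans (congrArg Q.1 h3)).symm
  obtain ⟨a, ha⟩ := exists_sub_const_val_lt_one hK Q (deg_eq_one hK Q) hx
  obtain ⟨b, hb⟩ := exists_sub_const_val_lt_one hK Q (deg_eq_one hK Q) hy
  have hpar : Q.1 (x - algebraMap k K a) = exp (-1) ∨ Q.1 (y - algebraMap k K b) = exp (-1) := by
    by_contra hno
    push Not at hno
    have h2 : ∀ z : K, Q.1 z < 1 → Q.1 z ≠ exp (-1) → Q.1 z ≤ exp (-2) := fun z hz hz' => by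
      rcases eq_or_ne z 0 with rfl | hz0
      · simp
      rw [val_eq_exp Q hz0, Ne, exp_inj] at hz'
      have := (val_lt_one_iff Q hz0).1 hz
      rw [val_eq_exp Q hz0, exp_le_exp]; omega
    refine no_uniformizer (φ := ![(1 : K), x, y]) (j := 0) (by simp)
      (fun i => by fin_cases i <;> simp [hx, hy]) (fun i => ?_) (hns t (by rw [ht, ← exp_zero, exp_le_exp]; omega)) ht
    fin_cases i
    · exact ⟨1, by simp⟩
    · exact ⟨a, by simpa using h2 _ ha hno.1⟩
    · exact ⟨b, by simpa using h2 _ hb hno.2⟩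
  have hval : Q.1 fy = Q.1 (D x) := by
    rcases hpar with h | h
    · rw [val_pderiv_eq_one hK htop hfxy hf hx hy hns (i := 0) (j := 1) (by decide) (a := a) (b := b)
        (by simpa using h) (by simpa using hb), hD1 x a h]
    · have h1 := val_pderiv_eq_one hK htop hfxy hf hx hy hns (i := 1) (j := 0) (by decide) (a := b) (b := a)
        (by simpa using h) (by simpa using ha)
      have hrel := hasseD_aeval hHt x y f
      rw [hfxy, show LocRes.hasseD Ht 1 (0 : K) = 0 by simp [LocRes.hasseD], eq_comm, add_eq_zero_iff_eq_neg] at hrel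
      have := congrArg Q.1 hrel
      rw [map_mul, Valuation.map_neg, map_mul, h1, one_mul, hD1 y b h, mul_one] at this
      exact this.symm
  rw [h0, Place.ord, Place.ord, hval, sub_self]

include hK in
theorem local_ge_x (htop : IntermediateField.adjoin k ({x, y} : Set K) = ⊤)
    (hfxy : MvPolynomial.aeval ![x, y] f = 0) (hf : Irreducible f)
    (hfy : MvPolynomial.aeval ![x, y] (MvPolynomial.pderiv 1 f) ≠ 0) (Q : Place k K) (hx : 1 < Q.1 x)
    (hyx : Q.1 y ≤ Q.1 x) {t : K} (ht : Q.1 t = exp (-1)) {Ht : K →ₐ[k] PowerSeries K}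
    (hHt : LocRes.IsHasseFamily t Ht) :
    LocRes.hasseD Ht 1 x ≠ 0 ∧ 0 ≤ adjOrd Q Ht x y f ∧
      (adjOrd Q Ht x y f = 0 ↔ IsNonsingularAt ![(1 : K), x, y] Q) := by
  have hx0 : x ≠ 0 := fun h => by rw [h, map_zero] at hx; exact not_lt_zero hx
  set u := x⁻¹ with hu
  set v := y / x with hv
  have htop' : IntermediateField.adjoin k ({u, v} : Set K) = ⊤ := by
    rw [eq_top_iff, ← htop, IntermediateField.adjoin_le_iff]
    have hxm : x ∈ IntermediateField.adjoin k ({u, v} : Set K) := by
      simpa [u] using inv_mem (IntermediateField.subset_adjoin k ({u, v} : Set K) (Set.mem_insert _ _))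
    rintro z (rfl | rfl)
    · exact hxm
    · have := mul_mem (IntermediateField.subset_adjoin k ({u, v} : Set K) (Set.mem_insert_of_mem _ rfl)) hxm
      rwa [hv, div_mul_cancel₀ _ hx0] at this
  have hfuv : MvPolynomial.aeval ![u, v] (flipX f) = 0 := by rw [aeval_flipX hx0, hfxy, mul_zero]
  set fy := MvPolynomial.aeval ![x, y] (MvPolynomial.pderiv 1 f)
  set d := f.totalDegree
  set fv := MvPolynomial.aeval ![u, v] (MvPolynomial.pderiv 1 (flipX f))
  have hfv' : fv * u = u ^ d * fy := aeval_pderiv_flipX hx0 y f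
  have hu0 : u ≠ 0 := inv_ne_zero hx0
  have hfv : fv ≠ 0 := fun h => by
    rw [h, zero_mul, eq_comm, mul_eq_zero] at hfv'
    exact hfv'.elim (pow_ne_zero _ hu0) hfy
  have hf'0 : flipX f ≠ 0 := fun h => hfv (by simp [fv, h])
  have hmap := mapDiv_inv_chart hK hx0 y
  have hdeg : (mapDiv k ![(1 : K), u, v]).deg = (mapDiv k ![(1 : K), x, y]).deg := by
    rw [hmap, deg_sub, deg_neg, deg_div hK]; ring
  -- the new equation is irreducible
  obtain ⟨p, hp, ⟨h', hdvd⟩, hp0⟩ := exists_irreducible_factor hK hf'0 hfuv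
  have hdp : p.totalDegree = d := by
    have h1 := deg_mapDiv_model hK htop' hp0 hp
    rw [hdeg, deg_mapDiv_model hK htop hfxy hf] at h1
    exact_mod_cast h1.symm
  have hh0 : h' ≠ 0 := fun h => hf'0 (by rw [hdvd, h, mul_zero])
  have hdeg' : p.totalDegree + h'.totalDegree ≤ d := by
    rw [← MvPolynomial.totalDegree_mul_of_isDomain hp.ne_zero hh0, ← hdvd]
    exact totalDegree_flipX f
  have hdf : (flipX f).totalDegree = d := by
    rw [hdvd, MvPolynomial.totalDegree_mul_of_isDomain hp.ne_zero hh0]; omega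
  have hf' : Irreducible (flipX f) := by
    rw [hdvd, irreducible_mul_isUnit]
    · exact hp
    have hC : h' = MvPolynomial.C (MvPolynomial.coeff 0 h') :=
      MvPolynomial.totalDegree_eq_zero_iff_eq_C.1 (by omega)
    rw [hC]
    exact (isUnit_iff_ne_zero.2 fun h => hh0 (by rw [hC, h, map_zero])).map MvPolynomial.C
  have hu1 : Q.1 u ≤ 1 := by rw [map_inv₀]; exact inv_le_one_of_one_le₀ hx.le
  have hv1 : Q.1 v ≤ 1 := by rw [map_div₀]; exact div_le_one_of_le₀ hyx zero_le
  obtain ⟨hDu, hnn, hiff⟩ := local_affine hK htop' hfuv hf' hfv Q hu1 hv1 ht hHt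
  have hDinv : LocRes.hasseD Ht 1 u = -(u * u * LocRes.hasseD Ht 1 x) := hasseD_inv hHt hx0
  have hDx : LocRes.hasseD Ht 1 x ≠ 0 := fun h => hDu (by rw [hDinv, h, mul_zero, neg_zero])
  have hA : adjOrd Q Ht u v (flipX f) = adjOrd Q Ht x y f := by
    rw [adjOrd, adjOrd, hdf, mapDiv_eq_zero hK hu1 hv1]
    have hm : mapDiv k ![(1 : K), x, y] Q = -Q.ord x := by
      have h1 := (one_lt_val_iff Q hx0).1 hx
      rw [mapDiv_three hK]
      rcases eq_or_ne y 0 with rfl | hy0
      · rw [ord_zero]; omega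
      · rw [val_eq_exp Q hy0, val_eq_exp Q hx0, exp_le_exp] at hyx; omega
    have hou : Q.ord u = -Q.ord x := by simpa [u] using ord_zpow Q x (-1)
    have h1 : Q.ord (LocRes.hasseD Ht 1 u) = Q.ord u + Q.ord u + Q.ord (LocRes.hasseD Ht 1 x) := by
      rw [hDinv, Place.ord, Valuation.map_neg]
      show Q.ord _ = _
      rw [ord_mul Q (mul_ne_zero hu0 hu0) hDx, ord_mul Q hu0 hu0]
    have h2 := congrArg Q.ord hfv'
    rw [ord_mul Q hfv hu0, ord_mul Q (pow_ne_zero _ hu0) hfy, ord_pow, hou] at h2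
    rw [hm, h1, hou]
    linear_combination h2
  rw [hA] at hnn hiff
  refine ⟨hDx, hnn, hiff.trans ?_⟩
  have hext : ∀ i, Q.1 (![(1 : K), x, y] i) ≤ Q.1 (![(1 : K), x, y] 1) := fun i => by
    fin_cases i <;> simp [hx.le, hyx]
  rw [isNonsingularAt_affine hu1 hv1, isNonsingularAt_iff_locAt (φ := ![(1 : K), x, y]) (j := 1) (by simpa) hext]
  have hrange : Set.range ![(1 : K), u, v] = Set.range fun i => ![(1 : K), x, y] i / ![(1 : K), x, y] 1 := by
    ext z
    constructor
    · rintro ⟨i, rfl⟩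
      fin_cases i
      · exact ⟨1, by simp [hx0]⟩
      · exact ⟨0, by simp [u]⟩
      · exact ⟨2, by simp [v]⟩
    · rintro ⟨i, rfl⟩
      fin_cases i
      · exact ⟨1, by simp [u]⟩
      · exact ⟨0, by simp [hx0]⟩
      · exact ⟨2, by simp [v]⟩
  rw [hrange]

include hK in
/-- The adjoint divisor is effective and vanishes exactly at the nonsingular places. -/
theorem plane_local (htop : IntermediateField.adjoin k ({x, y} : Set K) = ⊤)
    (hfxy : MvPolynomial.aeval ![x, y] f = 0) (hf : Irreducible f)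
    (hfy : MvPolynomial.aeval ![x, y] (MvPolynomial.pderiv 1 f) ≠ 0) (Q : Place k K)
    {t : K} (ht : Q.1 t = exp (-1)) {Ht : K →ₐ[k] PowerSeries K} (hHt : LocRes.IsHasseFamily t Ht) :
    LocRes.hasseD Ht 1 x ≠ 0 ∧ 0 ≤ adjOrd Q Ht x y f ∧
      (adjOrd Q Ht x y f = 0 ↔ IsNonsingularAt ![(1 : K), x, y] Q) := by
  rcases le_or_gt (Q.1 y) (Q.1 x) with hyx | hxy
  · rcases le_or_gt (Q.1 x) 1 with hx | hx
    · exact local_affine hK htop hfxy hf hfy Q hx (hyx.trans hx) ht hHt
    · exact local_ge_x hK htop hfxy hf hfy Q hx hyx ht hHt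
  rcases le_or_gt (Q.1 y) 1 with hy | hy
  · exact local_affine hK htop hfxy hf hfy Q (hxy.le.trans hy) hy ht hHt
  -- shear so that the first coordinate dominates
  set fx := MvPolynomial.aeval ![x, y] (MvPolynomial.pderiv 0 f)
  set fy := MvPolynomial.aeval ![x, y] (MvPolynomial.pderiv 1 f)
  have : Infinite k := IsAlgClosed.instInfinite
  have hbad : {c : k | fy - algebraMap k K c * fx = 0}.Subsingleton := fun c hc d hd => by
    by_contra hne
    rw [Set.mem_ofPred_eq] at hc hd
    have h1 : algebraMap k K (c - d) * fx = 0 := by rw [map_sub]; linear_combination hd - hc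
    rcases mul_eq_zero.1 h1 with h | h
    · exact sub_ne_zero.2 hne ((map_eq_zero _).1 h)
    · exact hfy (by simpa [h] using hc)
  obtain ⟨c, hc⟩ := (hbad.finite.insert 0).exists_notMem
  simp only [Set.mem_insert_iff, Set.mem_ofPred_eq, not_or] at hc
  obtain ⟨hc0, hc⟩ := hc
  set x' := x + algebraMap k K c * y with hx'
  have hcy : Q.1 (algebraMap k K c * y) = Q.1 y := by rw [map_mul, val_algebraMap Q hc0, one_mul]
  have hx'v : Q.1 x' = Q.1 y := by rw [hx', Q.1.map_add_eq_of_lt_right (by rw [hcy]; exact hxy), hcy]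
  have htop' := adjoin_slant htop c
  have hf' : Irreducible (shear c f) := (MulEquiv.irreducible_iff (shearEquiv c)).2 hf
  have hfxy' : MvPolynomial.aeval ![x', y] (shear c f) = 0 := by rw [aeval_shear, hfxy]
  have hfy' : MvPolynomial.aeval ![x', y] (MvPolynomial.pderiv 1 (shear c f)) = fy - algebraMap k K c * fx := by
    rw [pderiv_shear, aeval_shear]; simp [fy, fx]
  obtain ⟨hDx', hnn, hiff⟩ := local_ge_x hK htop' hfxy' hf' (by rw [hfy']; exact hc) Q
    (by rw [hx'v]; exact hy) (by rw [hx'v]) ht hHt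
  have hrel := hasseD_aeval hHt x y f
  rw [hfxy, show LocRes.hasseD Ht 1 (0 : K) = 0 by simp [LocRes.hasseD]] at hrel
  have hD1 := hasseD_slant hHt x y c
  rw [← hx'] at hD1
  have hratio : LocRes.hasseD Ht 1 x' * fy = LocRes.hasseD Ht 1 x * (fy - algebraMap k K c * fx) := by
    rw [hD1]; linear_combination -algebraMap k K c * hrel
  have hDx : LocRes.hasseD Ht 1 x ≠ 0 := fun h => by
    rw [h, zero_mul, mul_eq_zero] at hratio
    exact hratio.elim hDx' hfy
  have hdeg : (shear c f).totalDegree = f.totalDegree := by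
    have h1 := deg_mapDiv_model hK htop' hfxy' hf'
    rw [mapDiv_shear hK, deg_mapDiv_model hK htop hfxy hf] at h1
    exact_mod_cast h1.symm
  have hA : adjOrd Q Ht x' y (shear c f) = adjOrd Q Ht x y f := by
    rw [adjOrd, adjOrd, hdeg, hfy', mapDiv_shear hK]
    have h2 := congrArg Q.ord hratio
    rw [ord_mul Q hDx' hfy, ord_mul Q hDx hc] at h2
    show _ = _ - (_ - Q.ord fy)
    linear_combination -h2
  rw [hA] at hnn hiff
  refine ⟨hDx, hnn, hiff.trans ?_⟩
  have hy0 : y ≠ 0 := fun h => by rw [h, map_zero] at hy; exact not_lt_zero hy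
  rw [isNonsingularAt_iff_locAt (φ := ![(1 : K), x', y]) (j := 2) (by simpa)
      (fun i => by fin_cases i <;> simp [hy.le, hx'v]),
    isNonsingularAt_iff_locAt (φ := ![(1 : K), x, y]) (j := 2) (by simpa)
      (fun i => by fin_cases i <;> simp [hy.le, hxy.le])]
  have hR : Algebra.adjoin k (Set.range fun i => ![(1 : K), x', y] i / ![(1 : K), x', y] 2) =
      Algebra.adjoin k (Set.range fun i => ![(1 : K), x, y] i / ![(1 : K), x, y] 2) := by
    refine le_antisymm (Algebra.adjoin_le ?_) (Algebra.adjoin_le ?_) <;> rintro _ ⟨i, rfl⟩ <;> fin_cases i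
    · exact Algebra.subset_adjoin ⟨0, by simp⟩
    · have h := add_mem (Algebra.subset_adjoin (R := k)
        (s := Set.range fun i => ![(1 : K), x, y] i / ![(1 : K), x, y] 2) ⟨1, rfl⟩)
        (Subalgebra.algebraMap_mem _ c)
      simpa [hx', add_div, hy0] using h
    · exact Algebra.subset_adjoin ⟨2, by simp⟩
    · exact Algebra.subset_adjoin ⟨0, by simp⟩
    · have h := sub_mem (Algebra.subset_adjoin (R := k)
        (s := Set.range fun i => ![(1 : K), x', y] i / ![(1 : K), x', y] 2) ⟨1, rfl⟩)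
        (Subalgebra.algebraMap_mem _ c)
      simpa [hx', add_div, hy0] using h
    · exact Algebra.subset_adjoin ⟨2, by simp⟩
  rw [hR]

end Local

end Groth.Agent.FunFldLib
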