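import Groth.Agent.FunFld.CurveBasic
import Groth.Agent.FunFld.PlaneAdjoint
import Groth.Agent.FunFld.DiffExp
import Mathlib.RingTheory.MvPolynomial.EulerIdentity
import Mathlib.LinearAlgebra.Matrix.Adjugate
import Mathlib.Tactic.Module

/-!
Change of projective coordinates for the differential `dx / f_y`, the adjoint divisor, and `k K^p`.
-/

namespace Groth.Agent.FunFldLib

open FunFld WithZero

section Inseparable

variable {k K : Type*} [Field k] [Field K] [Algebra k K]

theorem purelyInseparable_degree_p_iff (p : ℕ) [Fact p.Prime] [CharP K p] (hK : IsFunctionField k K)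
    (hg : IsGeometric k K) (K₀ : IntermediateField k K) :
    (IsPurelyInseparable K₀ K ∧ Module.finrank K₀ K = p) ↔ K₀ = Epow k K p := by
  have hp : p.Prime := Fact.out
  have hE := finrank_Epow hK hg p
  constructor
  · rintro ⟨hpi, hdeg⟩
    have : CharP K₀ p := (algebraMap K₀ K).charP (algebraMap K₀ K).injective p
    have : ExpChar K₀ p := ExpChar.prime hp
    have : FiniteDimensional K₀ K := Module.finite_of_finrank_pos (by rw [hdeg]; exact hp.pos)
    have hle : Epow k K p ≤ K₀ := by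
      rw [IntermediateField.adjoin_le_iff]
      rintro _ ⟨y, rfl⟩
      obtain ⟨n, a, hn⟩ := IsPurelyInseparable.minpoly_eq_X_pow_sub_C K₀ p y
      have h0 := minpoly.aeval K₀ y
      have hd := minpoly.natDegree_le (A := K₀) y
      rw [hn, Polynomial.natDegree_sub_C, Polynomial.natDegree_X_pow, hdeg] at hd
      rw [hn, map_sub, map_pow, Polynomial.aeval_X, Polynomial.aeval_C, sub_eq_zero] at h0
      have hn1 : n ≤ 1 := by
        by_contra h
        have : p ^ 2 ≤ p ^ n := Nat.pow_le_pow_right hp.pos (by omega)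
        have := hp.one_lt
        nlinarith
      interval_cases n
      · rw [pow_zero, pow_one] at h0
        show y ^ p ∈ K₀
        rw [h0]; exact pow_mem a.2 p
      · rw [pow_one] at h0
        show y ^ p ∈ K₀
        rw [h0]; exact a.2
    have : FiniteDimensional (Epow k K p) K := Module.finite_of_finrank_pos (by rw [hE]; exact hp.pos)
    exact (IntermediateField.eq_of_le_of_finrank_eq' hle (hE.trans hdeg.symm)).symm
  · rintro rfl
    have : CharP (Epow k K p) p := (algebraMap (Epow k K p) K).charP (algebraMap (Epow k K p) K).injective p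
    have : ExpChar (Epow k K p) p := ExpChar.prime hp
    exact ⟨(isPurelyInseparable_iff_pow_mem _ p).2 fun y => ⟨1, ⟨y ^ p, IntermediateField.subset_adjoin k _ ⟨y, rfl⟩⟩,
      by simp⟩, hE⟩

theorem isSepVar_of_kaehler_ne (hK : IsFunctionField k K) (hg : IsGeometric k K) {x : K}
    (hx : KaehlerDifferential.D k K x ≠ 0) : ∃ H : K →ₐ[k] PowerSeries K, LocRes.IsHasseFamily x H := by
  obtain ⟨s, hs, hsep⟩ := exists_sepVar hK hg
  have := finiteDimensional_adjoin hK hs
  obtain ⟨H, hH⟩ := exists_hasseFamily hs hsep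
  have hDx : LocRes.hasseD H 1 x ≠ 0 := fun h => hx (by rw [kaehler_eq_hasseD_smul hH hsep x, h, zero_smul])
  have hxt : Transcendental k x := fun halg => by
    obtain ⟨c, rfl⟩ := hK.2 x halg
    exact hx (Derivation.map_algebraMap _ c)
  have := finiteDimensional_adjoin hK hxt
  refine exists_hasseFamily hxt ?_
  obtain _ | ⟨p, hp, hpK⟩ := CharP.exists' K
  · infer_instance
  · exact isSepVar_of_notMem_Epow hK hg p fun h => hDx (hasseD_one_eq_zero_of_mem hH p h)

end Inseparable

section Coord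

variable {k K : Type*} [Field k] [Field K] [Algebra k K]

theorem pderiv_subst (A : Matrix (Fin 3) (Fin 3) k) (l : Fin 3) (f : MvPolynomial (Fin 3) k) :
    MvPolynomial.pderiv l (MvPolynomial.aeval (fun i : Fin 3 => ∑ j, MvPolynomial.C (A i j) * MvPolynomial.X j) f) =
      ∑ i, MvPolynomial.C (A i l) *
        MvPolynomial.aeval (fun i : Fin 3 => ∑ j, MvPolynomial.C (A i j) * MvPolynomial.X j) (MvPolynomial.pderiv i f) := by
  induction f using MvPolynomial.induction_on with
  | C a => simp [MvPolynomial.algebraMap_eq]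
  | add p q hp hq => simp only [map_add, hp, hq, mul_add, Finset.sum_add_distrib]
  | mul_X p m hp =>
    simp only [map_mul, MvPolynomial.aeval_X, Derivation.leibniz, smul_eq_mul, hp, map_add, MvPolynomial.pderiv_X,
      mul_add, Finset.sum_add_distrib]
    fin_cases l <;> fin_cases m <;> simp [Fin.sum_univ_three] <;> ring

variable (f : MvPolynomial (Fin 3) k) {e : ℕ} (hf : f.IsHomogeneous e) {x y : K}
  (hfxy : MvPolynomial.aeval ![(1 : K), x, y] f = 0) (A : Matrix (Fin 3) (Fin 3) k) {u : Fin 3 → K}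
  (hu : ∀ i, ∑ j, algebraMap k K (A i j) * u j = ![(1 : K), x, y] i) (hu0 : u 0 ≠ 0)

include hf hu hu0 in
theorem aeval_subst_pderiv (i : Fin 3) :
    MvPolynomial.aeval ![(1 : K), u 1 / u 0, u 2 / u 0]
        (MvPolynomial.aeval (fun i : Fin 3 => ∑ j, MvPolynomial.C (A i j) * MvPolynomial.X j) (MvPolynomial.pderiv i f)) *
      u 0 ^ (e - 1) = MvPolynomial.aeval ![(1 : K), x, y] (MvPolynomial.pderiv i f) := by
  rw [← AlgHom.comp_apply, MvPolynomial.comp_aeval]
  have hfun : (fun i : Fin 3 => MvPolynomial.aeval ![(1 : K), u 1 / u 0, u 2 / u 0]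
      (∑ j, MvPolynomial.C (A i j) * MvPolynomial.X j)) = fun i => ![(1 : K), x, y] i / u 0 := by
    funext i
    rw [← hu i, Finset.sum_div, map_sum]
    refine Finset.sum_congr rfl fun j _ => ?_
    rw [map_mul, MvPolynomial.aeval_C, MvPolynomial.aeval_X, mul_div_assoc]
    congr 1
    fin_cases j <;> simp [hu0]
  rw [hfun]
  exact aeval_homogeneous_div hf.pderiv _ hu0

include hf hfxy hu hu0 in
theorem smul_D_coord_change (_hA : A.det ≠ 0)
    (hfy : MvPolynomial.aeval ![(1 : K), x, y] (MvPolynomial.pderiv 2 f) ≠ 0)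
    (hfy' : MvPolynomial.aeval ![(1 : K), u 1 / u 0, u 2 / u 0] (MvPolynomial.pderiv 2
      (MvPolynomial.aeval (fun i : Fin 3 => ∑ j, MvPolynomial.C (A i j) * MvPolynomial.X j) f)) ≠ 0) :
    (MvPolynomial.aeval ![(1 : K), x, y] (MvPolynomial.pderiv 2 f))⁻¹ • KaehlerDifferential.D k K x =
      (algebraMap k K A.det * (u 0)⁻¹ ^ ((e : ℤ) - 3) *
        (MvPolynomial.aeval ![(1 : K), u 1 / u 0, u 2 / u 0] (MvPolynomial.pderiv 2
          (MvPolynomial.aeval (fun i : Fin 3 => ∑ j, MvPolynomial.C (A i j) * MvPolynomial.X j) f)))⁻¹) •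
        KaehlerDifferential.D k K (u 1 / u 0) := by
  set d := KaehlerDifferential.D k K
  set g : Fin 3 → K := fun i => MvPolynomial.aeval ![(1 : K), x, y] (MvPolynomial.pderiv i f)
  set G := MvPolynomial.aeval ![(1 : K), u 1 / u 0, u 2 / u 0] (MvPolynomial.pderiv 2
    (MvPolynomial.aeval (fun i : Fin 3 => ∑ j, MvPolynomial.C (A i j) * MvPolynomial.X j) f))
  have hg2 : g 2 ≠ 0 := hfy
  -- the new partial
  have hG : G * u 0 ^ (e - 1) = algebraMap k K (A 0 2) * g 0 + algebraMap k K (A 1 2) * g 1 +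
      algebraMap k K (A 2 2) * g 2 := by
    show MvPolynomial.aeval _ (MvPolynomial.pderiv 2 _) * _ = _
    rw [pderiv_subst, map_sum, Finset.sum_mul, Fin.sum_univ_three]
    simp only [map_mul, MvPolynomial.aeval_C, mul_assoc, aeval_subst_pderiv f hf A hu hu0]
    rfl
  -- Euler and the chain rule
  have he0 : g 0 = -(x * g 1 + y * g 2) := by
    have h := congrArg (MvPolynomial.aeval ![(1 : K), x, y]) hf.sum_X_mul_pderiv
    rw [map_nsmul, hfxy, smul_zero, map_sum, Fin.sum_univ_three] at h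
    simp only [map_mul, MvPolynomial.aeval_X] at h
    change (1 : K) * g 0 + x * g 1 + y * g 2 = 0 at h
    linear_combination h
  have hchain : ∀ q : MvPolynomial (Fin 3) k, d (MvPolynomial.aeval ![(1 : K), x, y] q) =
      MvPolynomial.aeval ![(1 : K), x, y] (MvPolynomial.pderiv 1 q) • d x +
        MvPolynomial.aeval ![(1 : K), x, y] (MvPolynomial.pderiv 2 q) • d y := fun q => by
    induction q using MvPolynomial.induction_on with
    | C a => simp [d]
    | add p q hp hq => simp only [map_add, hp, hq]; module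
    | mul_X p m hp =>
      simp only [map_mul, Derivation.leibniz, hp, MvPolynomial.aeval_X, map_add, smul_eq_mul]
      fin_cases m <;> simp [MvPolynomial.pderiv_X] <;> module
  have hrel : g 1 • d x + g 2 • d y = 0 := by
    have := hchain f
    rw [hfxy, map_zero] at this
    exact this.symm
  have hdy : d y = -(g 1 / g 2) • d x := by
    have h := congrArg (fun v => (g 2)⁻¹ • v) hrel
    simp only [smul_add, smul_smul, inv_mul_cancel₀ hg2, one_smul, smul_zero] at h
    rw [eq_neg_of_add_eq_zero_right h, ← neg_smul, div_eq_inv_mul]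
  -- the cross product of `u` and `du`
  have hX0 := hu 0
  have hX1 := hu 1
  have hX2 := hu 2
  simp only [Fin.sum_univ_three] at hX0 hX1 hX2
  change _ = (1 : K) at hX0
  change _ = x at hX1
  change _ = y at hX2
  have hd : ∀ i, d (algebraMap k K (A i 0) * u 0 + algebraMap k K (A i 1) * u 1 + algebraMap k K (A i 2) * u 2) =
      algebraMap k K (A i 0) • d (u 0) + algebraMap k K (A i 1) • d (u 1) + algebraMap k K (A i 2) • d (u 2) :=
    fun i => by simp only [map_add, Derivation.leibniz, Derivation.map_algebraMap, d, smul_zero, add_zero]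
  have hd0 : (0 : Ω[K⁄k]) = algebraMap k K (A 0 0) • d (u 0) + algebraMap k K (A 0 1) • d (u 1) +
      algebraMap k K (A 0 2) • d (u 2) := by rw [← hd 0, hX0, Derivation.map_one_eq_zero]
  have hd1 : d x = algebraMap k K (A 1 0) • d (u 0) + algebraMap k K (A 1 1) • d (u 1) +
      algebraMap k K (A 1 2) • d (u 2) := by rw [← hd 1, hX1]
  have hd2 : d y = algebraMap k K (A 2 0) • d (u 0) + algebraMap k K (A 2 1) • d (u 1) +
      algebraMap k K (A 2 2) • d (u 2) := by rw [← hd 2, hX2]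
  have hcross : algebraMap k K A.det • (u 0 • d (u 1) - u 1 • d (u 0)) =
      algebraMap k K (A 0 2) • (x • d y - y • d x) + algebraMap k K (A 1 2) • (y • (0 : Ω[K⁄k]) - (1 : K) • d y) +
        algebraMap k K (A 2 2) • ((1 : K) • d x - x • (0 : Ω[K⁄k])) := by
    rw [hd0, hd1, hd2, ← hX0, ← hX1, ← hX2, Matrix.det_fin_three]
    simp only [map_sub, map_add, map_mul]
    module
  rw [smul_zero, smul_zero, zero_sub, sub_zero, hdy] at hcross
  have hcross' : algebraMap k K A.det • (u 0 • d (u 1) - u 1 • d (u 0)) = (G * u 0 ^ (e - 1) / g 2) • d x := by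
    rw [hcross, hG, he0]
    match_scalars
    field_simp
    ring
  have hz : d (u 1 / u 0) = ((u 0)⁻¹ ^ 2) • (u 0 • d (u 1) - u 1 • d (u 0)) := Derivation.leibniz_div _ _ _
  have hpow : (u 0)⁻¹ ^ ((e : ℤ) - 3) * ((u 0)⁻¹ ^ 2 * u 0 ^ (e - 1)) = 1 := by
    rcases Nat.eq_zero_or_pos e with rfl | hpos
    · exfalso
      have hC := MvPolynomial.totalDegree_eq_zero_iff_eq_C.1 (Nat.le_zero.1 hf.totalDegree_le)
      exact hg2 (by show MvPolynomial.aeval _ (MvPolynomial.pderiv 2 f) = 0; rw [hC]; simp)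
    · rw [inv_pow, inv_zpow, ← zpow_natCast, ← zpow_natCast, ← zpow_neg, ← zpow_neg, ← zpow_add₀ hu0,
        ← zpow_add₀ hu0, Nat.cast_sub hpos, Nat.cast_one]
      rw [show -((e : ℤ) - 3) + (-((2 : ℕ) : ℤ) + ((e : ℤ) - 1)) = 0 by push_cast; ring, zpow_zero]
  calc (g 2)⁻¹ • d x = ((u 0)⁻¹ ^ ((e : ℤ) - 3) * ((u 0)⁻¹ ^ 2 * u 0 ^ (e - 1)) * (G⁻¹ * G) * (g 2)⁻¹) • d x := by
        rw [hpow, inv_mul_cancel₀ hfy', one_mul, one_mul]
    _ = ((u 0)⁻¹ ^ ((e : ℤ) - 3) * G⁻¹ * (u 0)⁻¹ ^ 2) • ((G * u 0 ^ (e - 1) / g 2) • d x) := by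
        rw [smul_smul]; congr 1; rw [div_eq_mul_inv]; ring
    _ = (algebraMap k K A.det * (u 0)⁻¹ ^ ((e : ℤ) - 3) * G⁻¹) • d (u 1 / u 0) := by
        rw [← hcross', hz, smul_smul, smul_smul]; congr 1; ring

include hu hu0 in
theorem mapDiv_coord_change (hK : IsFunctionField k K) (hA : A.det ≠ 0) (P : Place k K) :
    mapDiv k ![(1 : K), u 1 / u 0, u 2 / u 0] P = mapDiv k ![(1 : K), x, y] P + P.ord (u 0) := by
  have hnn : ∀ a b : K, 0 ≤ mapDiv k ![(1 : K), a, b] P := fun a b => by rw [mapDiv_three hK]; omega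
  have hle : ∀ a b : K, ∀ i, P.1 (![(1 : K), a, b] i) ≤ exp (mapDiv k ![(1 : K), a, b] P) := fun a b i => by
    obtain ⟨h1, h2⟩ := val_le_exp_mapDiv hK a b P
    fin_cases i
    · simp only [Fin.zero_eta, Matrix.cons_val_zero, map_one, ← exp_zero, exp_le_exp]; exact hnn a b
    · exact h1
    · exact h2
  set M := mapDiv k ![(1 : K), x, y] P
  set M' := mapDiv k ![(1 : K), u 1 / u 0, u 2 / u 0] P
  -- `u` in terms of `X`
  have hu' : ∀ l, P.1 (u l) ≤ exp M := fun l => by
    have h : algebraMap k K A.det * u l = ∑ i, algebraMap k K (A.adjugate l i) * ![(1 : K), x, y] i := by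
      have h1 := congrFun (congrFun (Matrix.adjugate_mul A) l)
      simp only [← hu, Finset.mul_sum]
      rw [Finset.sum_comm]
      simp only [← mul_assoc, ← map_mul, ← Finset.sum_mul, ← map_sum, ← Matrix.mul_apply, Matrix.adjugate_mul]
      rw [Finset.sum_eq_single l (fun b _ hb => by simp [Ne.symm hb]) (by simp)]
      simp
    have h2 := congrArg P.1 h
    rw [map_mul, val_algebraMap P hA, one_mul] at h2
    rw [h2]
    exact P.1.map_sum_le fun i _ => by rw [map_mul]; exact (mul_le_of_le_one_left' (P.2.1 _)).trans (hle x y i)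
  have hdiv : ∀ l, P.1 (u l / u 0) ≤ exp (M + P.ord (u 0)) := fun l => by
    rw [map_div₀, val_eq_exp P hu0, div_le_iff₀ exp_pos, ← exp_add]
    exact (hu' l).trans_eq (by congr 1; ring)
  refine le_antisymm (mapDiv_le_of_val hK ?_ (hdiv 1) (hdiv 2)) ?_
  · have := hu' 0
    rw [val_eq_exp P hu0, exp_le_exp] at this
    omega
  · have hX : ∀ i, P.1 (![(1 : K), x, y] i) ≤ exp (M' - P.ord (u 0)) := fun i => by
      rw [← hu i]
      refine P.1.map_sum_le fun l _ => ?_
      have h1 : P.1 (u l / u 0) ≤ exp M' := by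
        have := hle (u 1 / u 0) (u 2 / u 0) l
        fin_cases l
        · simpa [hu0] using this
        · exact this
        · exact this
      rw [map_div₀, val_eq_exp P hu0, div_le_iff₀ exp_pos, ← exp_add] at h1
      rw [map_mul]
      exact (mul_le_of_le_one_left' (P.2.1 _)).trans (h1.trans_eq (by congr 1))
    have h0 := hX 0
    simp only [Matrix.cons_val_zero, map_one, ← exp_zero, exp_le_exp] at h0
    have := mapDiv_le_of_val hK (x := x) (y := y) h0 (hX 1) (hX 2)
    omega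

include hf hfxy hu hu0 in
theorem adjoint_coord_change [IsAlgClosed k] (hK : IsFunctionField k K) (hdx : KaehlerDifferential.D k K x ≠ 0)
    (he : (mapDiv k ![(1 : K), x, y]).deg = e) (hA : A.det ≠ 0)
    (hfy : MvPolynomial.aeval ![(1 : K), x, y] (MvPolynomial.pderiv 2 f) ≠ 0)
    (hfy' : MvPolynomial.aeval ![(1 : K), u 1 / u 0, u 2 / u 0] (MvPolynomial.pderiv 2
      (MvPolynomial.aeval (fun i : Fin 3 => ∑ j, MvPolynomial.C (A i j) * MvPolynomial.X j) f)) ≠ 0)
    (Φ : Place k K → (K →ₐ[k] LaurentSeries k)) (hΦ : ∀ P : Place k K, LocRes.IsExpansionAt P.1 (Φ P)) :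
    ((mapDiv k ![(1 : K), x, y]).deg - 3) • mapDiv k ![(1 : K), x, y] -
        divDiff Φ (MvPolynomial.aeval ![(1 : K), x, y] (MvPolynomial.pderiv 2 f))⁻¹ x =
      ((mapDiv k ![(1 : K), u 1 / u 0, u 2 / u 0]).deg - 3) • mapDiv k ![(1 : K), u 1 / u 0, u 2 / u 0] -
        divDiff Φ (MvPolynomial.aeval ![(1 : K), u 1 / u 0, u 2 / u 0] (MvPolynomial.pderiv 2
          (MvPolynomial.aeval (fun i : Fin 3 => ∑ j, MvPolynomial.C (A i j) * MvPolynomial.X j) f)))⁻¹ (u 1 / u 0) := by
  have hg := isGeometric_of_isAlgClosed (k := k) (K := K)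
  have hmain := smul_D_coord_change f hf hfxy A hu hu0 hA hfy hfy'
  set fy := MvPolynomial.aeval ![(1 : K), x, y] (MvPolynomial.pderiv 2 f)
  set G := MvPolynomial.aeval ![(1 : K), u 1 / u 0, u 2 / u 0] (MvPolynomial.pderiv 2
    (MvPolynomial.aeval (fun i : Fin 3 => ∑ j, MvPolynomial.C (A i j) * MvPolynomial.X j) f))
  set a := algebraMap k K A.det * (u 0)⁻¹ ^ ((e : ℤ) - 3) * G⁻¹
  have ha : a ≠ 0 := mul_ne_zero (mul_ne_zero ((map_ne_zero _).2 hA) (zpow_ne_zero _ (inv_ne_zero hu0))) (inv_ne_zero hfy')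
  have hx : KaehlerDifferential.D k K x = (fy * a) • KaehlerDifferential.D k K (u 1 / u 0) := by
    rw [mul_smul, ← hmain, smul_smul, mul_inv_cancel₀ hfy, one_smul]
  have hdx' : KaehlerDifferential.D k K (u 1 / u 0) ≠ 0 := fun h => hdx (by rw [hx, h, smul_zero])
  obtain ⟨H, hH⟩ := isSepVar_of_kaehler_ne hK hg hdx
  obtain ⟨H', hH'⟩ := isSepVar_of_kaehler_ne hK hg hdx'
  have hdiv : mapDiv k ![(1 : K), u 1 / u 0, u 2 / u 0] = mapDiv k ![(1 : K), x, y] + div k (u 0) :=
    Finsupp.ext fun P => by rw [Finsupp.add_apply, div_apply hK, mapDiv_coord_change A hu hu0 hK hA P]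
  rw [hdiv, deg_add, deg_div hK, add_zero, he]
  ext P
  simp only [Finsupp.sub_apply, Finsupp.smul_apply, Finsupp.add_apply, smul_eq_mul, div_apply hK]
  rw [divDiff_apply hK hH (inv_ne_zero hfy) hΦ, divDiff_apply hK hH' (inv_ne_zero hfy') hΦ]
  obtain ⟨t, ht⟩ := exists_val_eq P (-1)
  obtain ⟨Ht, hHt⟩ := exists_hasse_param hK ht
  rw [ordDiff_eq hK ht hHt (hΦ P), ordDiff_eq hK ht hHt (hΦ P)]
  have hd : LocRes.hasseD Ht 1 x = fy * a * LocRes.hasseD Ht 1 (u 1 / u 0) := by
    have hs := isSepVar_of_hasse hK hg hHt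
    have h := hx
    rw [kaehler_eq_hasseD_smul hHt hs x, kaehler_eq_hasseD_smul hHt hs (u 1 / u 0), smul_smul] at h
    exact smul_left_injective K (kaehler_D_sepVar_ne_zero hK (transcendental_of_hasse hK hHt) hs) h
  have hD' : LocRes.hasseD Ht 1 (u 1 / u 0) ≠ 0 := hasseD_one_ne_zero hK hg hH' hHt
  have hordinv : ∀ z : K, P.ord z⁻¹ = -P.ord z := fun z => by simp [Place.ord]
  rw [hd, show fy⁻¹ * (fy * a * LocRes.hasseD Ht 1 (u 1 / u 0)) = a * LocRes.hasseD Ht 1 (u 1 / u 0) by
    rw [← mul_assoc, ← mul_assoc, inv_mul_cancel₀ hfy, one_mul], ord_mul P ha hD',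
    ord_mul P (inv_ne_zero hfy') hD']
  have hdet : P.ord (algebraMap k K A.det) = 0 :=
    ord_eq_of_val P (n := 0) (by rw [val_algebraMap P hA, exp_zero]) |>.trans neg_zero
  rw [show a = algebraMap k K A.det * (u 0)⁻¹ ^ ((e : ℤ) - 3) * G⁻¹ from rfl,
    ord_mul P (mul_ne_zero ((map_ne_zero _).2 hA) (zpow_ne_zero _ (inv_ne_zero hu0))) (inv_ne_zero hfy'),
    ord_mul P ((map_ne_zero _).2 hA) (zpow_ne_zero _ (inv_ne_zero hu0)), ord_zpow, hordinv, hordinv, hdet]
  ring

end Coord

end Groth.Agent.FunFldLib
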