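import Groth.Agent.FunFld.RR
import Mathlib.Algebra.Polynomial.Basis

/-!
Degree-one places, values at places over an algebraically closed constant field, rational function fields
and the pole orders (gaps and non-gaps) at a place.
-/

namespace Groth.Agent.FunFldLib

open FunFld WithZero

variable {k K : Type*} [Field k] [Field K] [Algebra k K]

theorem deg_eq_one [IsAlgClosed k] (hK : IsFunctionField k K) (P : Place k K) : P.deg = 1 := by
  have hfin := finiteDimensional_residueField hK P
  have halg : Algebra.IsIntegral k (IsLocalRing.ResidueField P.O) :=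
    ⟨fun x => @IsIntegral.of_finite k _ _ _ _ hfin x⟩
  have hsurj := IsAlgClosed.algebraMap_bijective_of_isIntegral (k := k)
    (K := IsLocalRing.ResidueField P.O)
  have e := LinearEquiv.ofBijective (Algebra.linearMap k (IsLocalRing.ResidueField P.O)) hsurj
  exact e.finrank_eq.symm.trans (Module.finrank_self k)

/-- The value at a place of degree one. -/
theorem exists_sub_const_val_lt_one (hK : IsFunctionField k K) (P : Place k K) (hP : P.deg = 1)
    {x : K} (hx : P.1 x ≤ 1) : ∃ c : k, P.1 (x - algebraMap k K c) < 1 := by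
  have := finiteDimensional_residueField hK P
  obtain ⟨v, hv0, hv⟩ := finrank_eq_one_iff'.1 hP
  obtain ⟨a, ha⟩ := hv 1
  obtain ⟨b, hb⟩ := hv (IsLocalRing.residue P.O ⟨x, hx⟩)
  have ha0 : a ≠ 0 := by rintro rfl; rw [zero_smul] at ha; exact zero_ne_one ha
  obtain ⟨c, hc⟩ : ∃ c : k, algebraMap k (IsLocalRing.ResidueField P.O) c =
      IsLocalRing.residue P.O ⟨x, hx⟩ :=
    ⟨b / a, ((Algebra.algebraMap_eq_smul_one _).trans
      ((congrArg ((b / a) • ·) ha.symm).trans ((mul_smul (b / a) a v).symm.trans
        ((congrArg (· • v) (div_mul_cancel₀ b ha0)).trans hb))))⟩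
  refine ⟨c, ?_⟩
  have h0 : IsLocalRing.residue P.O (⟨x, hx⟩ - algebraMap k P.O c) = 0 := by
    rw [map_sub, ← hc, sub_eq_zero]; rfl
  rw [IsLocalRing.residue_eq_zero_iff, ValuationSubring.valuation_lt_one_iff] at h0
  exact (P.1.isEquiv_valuation_valuationSubring).lt_one_iff_lt_one.2 h0

theorem sub_const_unique {P : Place k K} {x : K} {c d : k} (hc : P.1 (x - algebraMap k K c) < 1)
    (hd : P.1 (x - algebraMap k K d) < 1) : c = d := by
  by_contra h
  have h1 : P.1 (algebraMap k K (c - d)) < 1 := by
    rw [map_sub, show algebraMap k K c - algebraMap k K d =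
      (x - algebraMap k K d) - (x - algebraMap k K c) by ring]
    exact P.1.map_sub_lt hd hc
  rw [val_algebraMap P (sub_ne_zero.2 h)] at h1
  exact lt_irrefl _ h1

theorem mem_range_of_ord_nonneg (hK : IsFunctionField k K) {x : K}
    (h : ∀ P : Place k K, 0 ≤ P.ord x) : x ∈ Set.range (algebraMap k K) := by
  by_contra hx
  obtain ⟨Q, hQ⟩ := (exists_zero_pole hK hx).2
  exact (h Q).not_gt hQ

theorem ell_le_add_deg (hK : IsFunctionField k K) (D : Divisor k K) (P : Place k K) :
    ell D ≤ ell (D - Finsupp.single P 1) + P.deg := by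
  have h := (L_step hK (D := D - Finsupp.single P 1) P (finiteDimensional_L hK _)).2
  rwa [sub_add_cancel] at h

theorem exists_mem_L_ord_eq (hK : IsFunctionField k K) {D : Divisor k K} {P : Place k K}
    (h : ell (D - Finsupp.single P 1) < ell D) : ∃ x ∈ L D, x ≠ 0 ∧ P.ord x = -D P := by
  classical
  have := finiteDimensional_L hK (D - Finsupp.single P 1)
  have hne : ¬ L D ≤ L (D - Finsupp.single P 1) := fun hle =>
    h.not_ge (Submodule.finrank_mono hle)
  obtain ⟨x, hx, hx'⟩ := SetLike.not_le_iff_exists.1 hne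
  have hx0 : x ≠ 0 := by rintro rfl; exact hx' (zero_mem _)
  refine ⟨x, hx, hx0, le_antisymm ?_ ((mem_L_iff hx0).1 hx P)⟩
  by_contra hlt
  refine hx' ((mem_L_iff hx0).2 fun Q => ?_)
  rcases eq_or_ne Q P with rfl | hQ
  · simp; omega
  · simpa [Finsupp.single_eq_of_ne hQ] using (mem_L_iff hx0).1 hx Q

theorem polesDiv_le (hK : IsFunctionField k K) {D : Divisor k K} (hD : 0 ≤ D) {x : K} (hx0 : x ≠ 0)
    (hx : x ∈ L D) : polesDiv k x ≤ D := fun P => by
  have := (mem_L_iff hx0).1 hx P
  have := hD P
  rw [polesDiv_apply hK]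
  simp only [Finsupp.zero_apply] at *
  omega

theorem finrank_le_deg (hK : IsFunctionField k K) {D : Divisor k K} (hD : 0 ≤ D) {x : K}
    (hx : Transcendental k x) (hxD : x ∈ L D) :
    (Module.finrank (IntermediateField.adjoin k ({x} : Set K)) K : ℤ) ≤ D.deg := by
  rw [← deg_poles hK hx]
  exact deg_mono (polesDiv_le hK hD (fun h => hx (h ▸ isAlgebraic_zero)) hxD)

theorem exists_transcendental_mem_L (hK : IsFunctionField k K) {D : Divisor k K}
    (h : 2 ≤ ell D) : ∃ x ∈ L D, Transcendental k x := by
  by_contra hc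
  push Not at hc
  have hle : L D ≤ 1 := fun x hx => by
    obtain ⟨c, rfl⟩ := hK.2 x (Classical.not_not.1 (hc x hx))
    exact Submodule.algebraMap_mem c
  have hfin : FiniteDimensional k ↥(1 : Submodule k K) := by
    rw [← L_zero hK]; exact finiteDimensional_L hK 0
  have h1 : ell D ≤ ell (0 : Divisor k K) := by
    rw [ell, ell, L_zero hK]; exact Submodule.finrank_mono hle
  rw [ell_zero hK] at h1
  omega

theorem adjoin_eq_top_of_finrank_le_one (hK : IsFunctionField k K) {x : K} (hx : Transcendental k x)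
    (h : Module.finrank (IntermediateField.adjoin k ({x} : Set K)) K ≤ 1) :
    IntermediateField.adjoin k ({x} : Set K) = ⊤ := by
  have := finiteDimensional_adjoin hK hx
  have h1 : Module.finrank (IntermediateField.adjoin k ({x} : Set K)) K = 1 :=
    le_antisymm h Module.finrank_pos
  rw [← IntermediateField.finrank_eq_one_iff_eq_top]
  exact h1

theorem not_isAlgebraic_all (hK : IsFunctionField k K) {x : K}
    (h : IntermediateField.adjoin k ({x} : Set K) = ⊤) : Transcendental k x := by
  intro halg
  obtain ⟨c, rfl⟩ := hK.2 x halg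
  obtain ⟨⟨y, hy, -⟩, -⟩ := hK
  have hy' : y ∈ IntermediateField.adjoin k ({algebraMap k K c} : Set K) := h ▸ IntermediateField.mem_top
  rw [IntermediateField.adjoin_simple_eq_bot_iff.2 (IntermediateField.algebraMap_mem ⊥ c),
    IntermediateField.mem_bot] at hy'
  obtain ⟨d, rfl⟩ := hy'
  exact hy (isAlgebraic_algebraMap d)

theorem genus_eq_zero_of_adjoin_eq_top (hK : IsFunctionField k K) {x : K}
    (h : IntermediateField.adjoin k ({x} : Set K) = ⊤) :
    genus k K = 0 ∧ (polesDiv k x).deg = 1 := by
  have hx := not_isAlgebraic_all hK h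
  have h1 : (polesDiv k x).deg = 1 := by
    rw [deg_poles hK hx, IntermediateField.finrank_eq_one_iff_eq_top.2 h]; rfl
  refine ⟨?_, h1⟩
  obtain ⟨N, hN⟩ := riemann_eventually hK
  set l := N.toNat
  have hx0 : x ≠ 0 := fun h => hx (h ▸ isAlgebraic_zero)
  have hmem : ∀ i : Fin (l + 1), x ^ (i : ℕ) ∈ L ((l : ℤ) • polesDiv k x) := fun i => by
    refine (mem_L_iff (pow_ne_zero _ hx0)).2 fun P => ?_
    rw [ord_pow, Finsupp.smul_apply, polesDiv_apply hK, smul_eq_mul]
    have hi : ((i : ℕ) : ℤ) ≤ l := by exact_mod_cast Nat.lt_succ_iff.1 i.2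
    have := le_max_left (-P.ord x) 0
    have := le_max_right (-P.ord x) 0
    nlinarith
  have := finiteDimensional_L hK ((l : ℤ) • polesDiv k x)
  have hli : LinearIndependent k fun i : Fin (l + 1) =>
      (⟨x ^ (i : ℕ), hmem i⟩ : L ((l : ℤ) • polesDiv k x)) := by
    refine LinearIndependent.of_comp (L ((l : ℤ) • polesDiv k x)).subtype ?_
    exact (linearIndependent_pow_of_transcendental hx).comp _ Fin.val_injective
  have hc := hli.fintype_card_le_finrank
  rw [Fintype.card_fin] at hc
  have hd := hN ((l : ℤ) • polesDiv k x) (by rw [deg_zsmul, h1]; omega)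
  simp only [delta, deg_zsmul, h1, ell] at hd hc
  omega
where
  linearIndependent_pow_of_transcendental {y : K} (hy : Transcendental k y) :
      LinearIndependent k fun i : ℕ => y ^ i := by
    have := (Polynomial.basisMonomials k).linearIndependent.map' (Polynomial.aeval y).toLinearMap
      (LinearMap.ker_eq_bot.2 (transcendental_iff_injective.1 hy))
    simpa [Function.comp_def, Polynomial.coe_basisMonomials, Polynomial.aeval_monomial] using this

theorem genus_eq_zero_of_simple_pole (hK : IsFunctionField k K) {x : K} {P : Place k K}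
    (hP : P.deg = 1) (hx : x ∈ L (Finsupp.single P 1)) (hxc : Transcendental k x) :
    IntermediateField.adjoin k ({x} : Set K) = ⊤ ∧ genus k K = 0 := by
  have h := finrank_le_deg hK (Finsupp.single_nonneg.2 zero_le_one) hxc hx
  rw [deg_single, hP] at h
  have h2 := adjoin_eq_top_of_finrank_le_one hK hxc (by omega)
  exact ⟨h2, (genus_eq_zero_of_adjoin_eq_top hK h2).1⟩

theorem ell_single_eq_one (hK : IsFunctionField k K) (hg : 0 < genus k K) {P : Place k K}
    (hP : P.deg = 1) : ell (Finsupp.single P 1 : Divisor k K) = 1 := by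
  have h1 : ell (0 : Divisor k K) ≤ ell (Finsupp.single P 1 : Divisor k K) :=
    ell_mono hK (Finsupp.single_nonneg.2 zero_le_one)
  rw [ell_zero hK] at h1
  by_contra hne
  obtain ⟨x, hx, hxt⟩ := exists_transcendental_mem_L hK
    (D := Finsupp.single P 1) (by omega)
  have := (genus_eq_zero_of_simple_pole hK hP hx hxt).2
  omega

/-! ### Gaps -/

/-- `n` is the order of a pole of a function regular outside `P`. -/
def IsPoleOrder (P : Place k K) (n : ℕ) : Prop :=
  ∃ x : K, x ≠ 0 ∧ x ∈ L (Finsupp.single P (n : ℤ)) ∧ P.ord x = -(n : ℤ)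

theorem isPoleOrder_zero (hK : IsFunctionField k K) (P : Place k K) : IsPoleOrder P 0 :=
  ⟨1, one_ne_zero, by simp [L_zero hK, Submodule.one_le.1 le_rfl], by simp⟩

theorem IsPoleOrder.add {P : Place k K} {m n : ℕ} (hm : IsPoleOrder P m) (hn : IsPoleOrder P n) :
    IsPoleOrder P (m + n) := by
  obtain ⟨x, hx0, hx, hxo⟩ := hm
  obtain ⟨y, hy0, hy, hyo⟩ := hn
  refine ⟨x * y, mul_ne_zero hx0 hy0, (mem_L_iff (mul_ne_zero hx0 hy0)).2 fun Q => ?_, ?_⟩
  · have h1 := (mem_L_iff hx0).1 hx Q
    have h2 := (mem_L_iff hy0).1 hy Q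
    rw [ord_mul Q hx0 hy0, Nat.cast_add, Finsupp.single_add, Finsupp.add_apply]
    omega
  · rw [ord_mul P hx0 hy0, hxo, hyo]; push_cast; ring

theorem single_sub_single (P : Place k K) (n : ℤ) :
    (Finsupp.single P n : Divisor k K) - Finsupp.single P 1 = Finsupp.single P (n - 1) := by
  rw [Finsupp.single_sub]

theorem isPoleOrder_iff_L_ne (hK : IsFunctionField k K) (P : Place k K) (n : ℕ) :
    IsPoleOrder P n ↔ L (Finsupp.single P (n : ℤ)) ≠ L (Finsupp.single P ((n : ℤ) - 1)) := by
  constructor
  · rintro ⟨x, hx0, hx, hxo⟩ heq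
    rw [heq] at hx
    have := (mem_L_iff hx0).1 hx P
    rw [Finsupp.single_eq_same] at this
    omega
  · intro hne
    have hle : L (Finsupp.single P ((n : ℤ) - 1)) ≤ L (Finsupp.single P (n : ℤ) : Divisor k K) :=
      L_mono (Finsupp.single_mono (by omega))
    have := finiteDimensional_L hK (Finsupp.single P (n : ℤ))
    have hlt : ell (Finsupp.single P (n : ℤ) - Finsupp.single P 1 : Divisor k K) <
        ell (Finsupp.single P (n : ℤ) : Divisor k K) := by
      rw [single_sub_single]
      exact Submodule.finrank_lt_finrank_of_lt (lt_of_le_of_ne hle hne.symm)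
    obtain ⟨x, hx, hx0, hxo⟩ := exists_mem_L_ord_eq hK hlt
    exact ⟨x, hx0, hx, by rw [hxo, Finsupp.single_eq_same]⟩

open scoped Classical in
theorem ell_single_eq_count (hK : IsFunctionField k K) {P : Place k K} (hP : P.deg = 1) (n : ℕ) :
    ell (Finsupp.single P (n : ℤ) : Divisor k K) =
      ((Finset.range (n + 1)).filter fun m => IsPoleOrder P m).card := by
  induction n with
  | zero =>
    rw [Finset.range_one, Finset.filter_singleton, if_pos (isPoleOrder_zero hK P), Finset.card_singleton]
    simp [ell_zero hK]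
  | succ n ih =>
    rw [Finset.range_add_one, Finset.filter_insert]
    have hle : L (Finsupp.single P (n : ℤ)) ≤ L (Finsupp.single P ((n + 1 : ℕ) : ℤ) : Divisor k K) :=
      L_mono (Finsupp.single_mono (by omega))
    have hstep := ell_le_add_deg hK (Finsupp.single P ((n + 1 : ℕ) : ℤ)) P
    rw [single_sub_single, hP, Nat.cast_add, Nat.cast_one, add_sub_cancel_right] at hstep
    have hmono : ell (Finsupp.single P (n : ℤ) : Divisor k K) ≤ ell (Finsupp.single P ((n : ℤ) + 1)) :=
      ell_mono hK (Finsupp.single_mono (by omega))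
    have := finiteDimensional_L hK (Finsupp.single P ((n + 1 : ℕ) : ℤ))
    have hiff := isPoleOrder_iff_L_ne hK P (n + 1)
    rw [Nat.cast_add, Nat.cast_one, add_sub_cancel_right] at hiff
    split_ifs with h
    · rw [Finset.card_insert_of_notMem (by simp), ← ih, Nat.cast_add, Nat.cast_one]
      have hlt := Submodule.finrank_lt_finrank_of_lt (lt_of_le_of_ne hle
        (fun he => hiff.1 h (by push_cast at he; exact he.symm)))
      push_cast at hlt hle
      simp only [ell] at *
      omega
    · rw [← ih, Nat.cast_add, Nat.cast_one, ell, ell, not_not.1 (mt hiff.2 h)]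

theorem two_mul_count_le {S : Set ℕ} {N : ℕ} (hN : N ∉ S)
    (hadd : ∀ a b, a ∈ S → b ∈ S → a + b ∈ S) [DecidablePred (· ∈ S)] :
    2 * ((Finset.Icc 1 (N - 1)).filter (· ∈ S)).card ≤ N - 1 := by
  have h : ((Finset.Icc 1 (N - 1)).filter (· ∈ S)).card ≤
      ((Finset.Icc 1 (N - 1)).filter (· ∉ S)).card := by
    refine Finset.card_le_card_of_injOn (fun m => N - m) (fun m hm => ?_) (fun a ha b hb hab => ?_)
    · simp only [Finset.coe_filter, Set.mem_ofPred_eq, Finset.mem_Icc] at hm ⊢
      refine ⟨by omega, fun hc => hN ?_⟩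
      have := hadd _ _ hm.2 hc
      rwa [show m + (N - m) = N by omega] at this
    · simp only [Finset.coe_filter, Set.mem_ofPred_eq, Finset.mem_Icc] at ha hb
      simp only at hab
      omega
  have h2 := Finset.card_filter_add_card_filter_not (s := Finset.Icc 1 (N - 1)) (· ∈ S)
  simp only [Nat.card_Icc] at h2
  omega

open scoped Classical in
theorem count_split (hK : IsFunctionField k K) {P : Place k K} (hP : P.deg = 1) (n : ℕ) :
    ell (Finsupp.single P (n : ℤ) : Divisor k K) =
      ((Finset.Icc 1 n).filter fun m => IsPoleOrder P m).card + 1 := by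
  rw [ell_single_eq_count hK hP]
  have : Finset.range (n + 1) = insert 0 (Finset.Icc 1 n) := by ext m; simp; omega
  rw [this, Finset.filter_insert, if_pos (isPoleOrder_zero hK P), Finset.card_insert_of_notMem (by simp)]

theorem clifford_point (hK : IsFunctionField k K) {P : Place k K} (hP : P.deg = 1) {n : ℕ}
    (hn : (n : ℤ) ≤ 2 * (genus k K : ℤ) - 2) :
    2 * ell (Finsupp.single P (n : ℤ) : Divisor k K) ≤ n + 2 := by
  classical
  rw [count_split hK hP n]
  by_cases hex : ∃ N, n < N ∧ ¬ IsPoleOrder P N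
  · obtain ⟨N, ⟨hnN, hN⟩, hmin⟩ : ∃ N, (n < N ∧ ¬ IsPoleOrder P N) ∧
        ∀ m, n < m → m < N → IsPoleOrder P m :=
      ⟨Nat.find hex, Nat.find_spec hex, fun m h1 h2 => by
        by_contra h3; exact Nat.find_min hex h2 ⟨h1, h3⟩⟩
    have hc := two_mul_count_le (S := {m | IsPoleOrder P m}) (N := N) hN fun a b => IsPoleOrder.add
    have hsplit : ((Finset.Icc 1 (N - 1)).filter fun m => IsPoleOrder P m).card =
        ((Finset.Icc 1 n).filter fun m => IsPoleOrder P m).card + (N - 1 - n) := by
      have he : Finset.Icc 1 (N - 1) = Finset.Icc 1 n ∪ Finset.Icc (n + 1) (N - 1) := by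
        ext m; simp; omega
      rw [he, Finset.filter_union, Finset.card_union_of_disjoint (Finset.disjoint_left.2 fun m h1 h2 => by
          simp at h1 h2; omega), Finset.filter_true_of_mem (s := Finset.Icc (n + 1) (N - 1)) fun m hm => hmin m
          (by simp at hm; omega) (by simp at hm; omega), Nat.card_Icc]
      omega
    have hcd : ((Finset.Icc 1 (N - 1)).filter (· ∈ {m | IsPoleOrder P m})).card =
        ((Finset.Icc 1 (N - 1)).filter fun m => IsPoleOrder P m).card := by congr 1
    omega
  · push Not at hex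
    set M := 2 * genus k K with hM
    have h2 := ell_eq_of_deg_ge hK (D := Finsupp.single P (M : ℤ)) (by rw [deg_single, hP]; omega)
    rw [deg_single, hP, count_split hK hP M] at h2
    have hsplit : ((Finset.Icc 1 M).filter fun m => IsPoleOrder P m).card =
        ((Finset.Icc 1 n).filter fun m => IsPoleOrder P m).card + (M - n) := by
      have he : Finset.Icc 1 M = Finset.Icc 1 n ∪ Finset.Icc (n + 1) M := by ext m; simp; omega
      rw [he, Finset.filter_union, Finset.card_union_of_disjoint (Finset.disjoint_left.2 fun m h1 h2 => by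
          simp at h1 h2; omega), Finset.filter_true_of_mem (s := Finset.Icc (n + 1) M) fun m hm => hex m (by simp at hm; omega),
        Nat.card_Icc]
      omega
    omega

theorem isPoleOrder_of_two_genus_le (hK : IsFunctionField k K) {P : Place k K} (hP : P.deg = 1)
    {n : ℕ} (hn : 2 * genus k K ≤ n) : IsPoleOrder P n := by
  rw [isPoleOrder_iff_L_ne hK]
  intro heq
  rcases Nat.eq_zero_or_pos n with rfl | hpos
  · obtain ⟨x, hx0, hx, hxo⟩ := isPoleOrder_zero hK P
    rw [heq] at hx
    have := (mem_L_iff hx0).1 hx P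
    rw [Finsupp.single_eq_same] at this
    omega
  have h1 := ell_eq_of_deg_ge hK (D := Finsupp.single P (n : ℤ)) (by rw [deg_single, hP]; omega)
  have h2 := ell_eq_of_deg_ge hK (D := Finsupp.single P ((n : ℤ) - 1)) (by rw [deg_single, hP]; omega)
  rw [deg_single, hP] at h1 h2
  rw [ell, heq] at h1
  rw [ell] at h2
  omega

end Groth.Agent.FunFldLib
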