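import Groth.Agent.FunFld.HyperGenus
import Groth.Agent.FunFld.Rational

/-!
Quadratic extensions `y ^ 2 + y = f` in characteristic two.
-/

namespace Groth.Agent.FunFldLib

open FunFld WithZero

theorem as_two_eq_zero (k : Type*) {L : Type*} [Field k] [CharP k 2] [Field L] [Algebra k L] : (2 : L) = 0 := by
  rw [← map_ofNat (algebraMap k L) 2, CharTwo.two_eq_zero, map_zero]

section General

variable {k F K : Type*} [Field k] [CharP k 2] [Field F] [Field K] [Algebra k F] [Algebra F K] [Algebra k K]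
  [IsScalarTower k F K]

omit [Field k] [CharP k 2] [Algebra k F] [Algebra k K] [IsScalarTower k F K] in
theorem as_trace (hdeg : Module.finrank F K = 2) {y : K} (hy : y ∉ Set.range (algebraMap F K)) {f : F}
    (heq : y ^ 2 + y = algebraMap F K f) (a b : F) :
    Algebra.trace F K (algebraMap F K a + algebraMap F K b * y) = 2 * a - b := by
  obtain ⟨B, h0, h1⟩ := quad_basis hdeg hy
  have hty : Algebra.trace F K y = -1 := by
    rw [Algebra.trace_eq_matrix_trace B, Matrix.trace, Fin.sum_univ_two, Matrix.diag_apply, Matrix.diag_apply,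
      Algebra.leftMulMatrix_eq_repr_mul, Algebra.leftMulMatrix_eq_repr_mul]
    have e0 : y * B 0 = B 1 := by rw [h0, h1, mul_one]
    have e1 : y * B 1 = f • B 0 - B 1 := by
      rw [h1, h0, Algebra.smul_def, mul_one, ← heq]; ring
    rw [e0, e1, map_sub, map_smul, B.repr_self, B.repr_self]
    simp
  rw [map_add, Algebra.trace_algebraMap, hdeg, ← Algebra.smul_def, map_smul, hty, two_smul, two_mul,
    smul_eq_mul, mul_neg, mul_one, sub_eq_add_neg]

variable [FiniteDimensional F K]

omit [CharP k 2] in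
/-- A pole of odd order of `f` is totally ramified, with the order of `y` equal to that of `f`. -/
theorem as_ramified (hF : IsFunctionField k F) (hdeg : Module.finrank F K = 2) {P : Place k F} {y : K} {f : F}
    (heq : y ^ 2 + y = algebraMap F K f) (hneg : P.ord f < 0) (hodd : Odd (P.ord f)) :
    (∃! Q : Place k K, IsOver Q P) ∧
      ∀ Q : Place k K, IsOver Q P → IsOverWith Q P 2 ∧ Q.deg = P.deg ∧ Q.ord y = P.ord f := by
  have hf0 : f ≠ 0 := fun h => by rw [h] at hneg; simp [Place.ord] at hneg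
  have key : ∀ Q : Place k K, IsOver Q P → ramIdx Q P = 2 ∧ Q.ord y = P.ord f := fun Q hQ => by
    have he := isOverWith_ramIdx hQ
    have h2 := (quad_ram hF hdeg hQ).1
    have h1 := isOverWith_pos he
    have hv := he f
    rw [← heq, val_eq_exp P hf0, ← exp_nsmul, nsmul_eq_mul] at hv
    have hy1 : 1 < Q.1 y := by
      by_contra hle
      rw [not_lt] at hle
      have h3 : Q.1 (y ^ 2 + y) ≤ 1 := (Q.1.map_add _ _).trans (max_le (by rw [map_pow]; exact pow_le_one₀ zero_le hle) hle)
      rw [hv, ← exp_zero, exp_le_exp] at h3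
      have : (0 : ℤ) < ramIdx Q P := by exact_mod_cast h1
      nlinarith
    have hy0 : y ≠ 0 := fun h => by rw [h, map_zero] at hy1; exact not_lt_zero hy1
    have hlt : Q.1 y < Q.1 (y ^ 2) := by
      rw [map_pow, pow_two]; exact lt_mul_of_one_lt_left (zero_lt_one.trans hy1) hy1
    rw [Q.1.map_add_eq_of_lt_left hlt, map_pow, val_eq_exp Q hy0, ← exp_nsmul, exp_inj, nsmul_eq_mul] at hv
    push_cast at hv
    rcases (show ramIdx Q P = 1 ∨ ramIdx Q P = 2 by omega) with e | e
    · rw [e] at hv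
      obtain ⟨m, hm⟩ := hodd
      push_cast at hv; omega
    · refine ⟨e, ?_⟩
      rw [e] at hv
      push_cast at hv; omega
  obtain ⟨Q, hQ⟩ := exists_above (K' := K) hF P
  refine ⟨⟨Q, hQ, fun R hR => ((quad_ram hF hdeg hQ).2 (key Q hQ).1).2 R hR⟩, fun R hR => ?_⟩
  refine ⟨?_, ((quad_ram hF hdeg hR).2 (key R hR).1).1, (key R hR).2⟩
  rw [← (key R hR).1]
  exact isOverWith_ramIdx hR

omit [FiniteDimensional F K] [CharP k 2] [IsScalarTower k F K] in
theorem as_y_le_one {y : K} {f : F} (heq : y ^ 2 + y = algebraMap F K f) {P : Place k F} (hf : P.1 f ≤ 1)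
    {Q : Place k K} (hQ : IsOver Q P) : Q.1 y ≤ 1 := by
  by_contra hlt
  rw [not_le] at hlt
  have h2 : Q.1 y < Q.1 (y ^ 2) := by
    rw [map_pow, pow_two]; exact lt_mul_of_one_lt_left (zero_lt_one.trans hlt) hlt
  have := Q.1.map_add_eq_of_lt_left h2
  rw [heq, map_pow] at this
  obtain ⟨e, he⟩ := hQ
  rw [he] at this
  exact not_le.2 (one_lt_pow₀ hlt two_ne_zero) (this ▸ pow_le_one₀ zero_le hf)

/-- No pole of `f`: unramified. -/
theorem as_unramified (hF : IsFunctionField k F) (hdeg : Module.finrank F K = 2) {P : Place k F} {y : K} {f : F}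
    (hy : y ∉ Set.range (algebraMap F K)) (heq : y ^ 2 + y = algebraMap F K f) (hf : P.1 f ≤ 1)
    {Q : Place k K} (hQ : IsOver Q P) : IsOverWith Q P 1 := by
  have he := isOverWith_ramIdx hQ
  have hle := (quad_ram hF hdeg hQ).1
  have h1 := isOverWith_pos he
  rcases (show ramIdx Q P = 1 ∨ ramIdx Q P = 2 by omega) with e | e
  · rwa [e] at he
  exfalso
  rw [e] at he
  have h20 : (2 : K) = 0 := as_two_eq_zero k
  have heven : ∀ c : F, c ≠ 0 → Even (Q.ord (algebraMap F K c)) := fun c hc =>
    ⟨P.ord c, by rw [isOverWith_ord he hc]; ring⟩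
  have hyv := as_y_le_one heq hf hQ
  obtain ⟨π, hπ⟩ := exists_val_eq Q (-1)
  obtain ⟨a, b, rfl⟩ := quad_repr hdeg hy π
  have hπ0 := ne_zero_of_val Q hπ
  have hπo : Q.ord (algebraMap F K a + algebraMap F K b * y) = 1 := by rw [ord_eq_of_val Q hπ]; norm_num
  have hb : b ≠ 0 := by
    rintro rfl
    simp only [map_zero, zero_mul, add_zero] at hπo hπ0
    obtain ⟨m, hm⟩ := heven a (by simpa using hπ0)
    omega
  set A := algebraMap F K (a / b) with hA
  have hbK : algebraMap F K b ≠ 0 := by simpa using hb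
  have hfac : algebraMap F K a + algebraMap F K b * y = algebraMap F K b * (A + y) := by
    rw [hA, map_div₀]; field_simp
  have hAy : A + y ≠ 0 := fun h => hπ0 (by rw [hfac, h, mul_zero])
  rw [hfac, ord_mul Q hbK hAy] at hπo
  obtain ⟨n, hn⟩ := heven b hb
  set m := Q.ord (A + y) with hm
  have hodd : m = 1 - 2 * n := by omega
  have hy' : A + y + 1 ≠ 0 := fun h => hy ⟨-(a / b) - 1, by rw [map_sub, map_neg, map_one, ← hA]; linear_combination -h⟩
  have hprod : (A + y) * (A + y + 1) = algebraMap F K ((a / b) ^ 2 + a / b + f) := by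
    rw [map_add, map_add, map_pow, ← hA, ← heq]
    linear_combination A * y * h20
  have hp0 : (a / b) ^ 2 + a / b + f ≠ 0 := fun h => by
    rw [h, map_zero] at hprod; exact mul_ne_zero hAy hy' hprod
  obtain ⟨l, hl⟩ := heven _ hp0
  rw [← hprod, ord_mul Q hAy hy', ← hm] at hl
  rcases lt_trichotomy m 0 with hneg | h0 | hpos
  · have hlt : Q.1 y < Q.1 (A + y) := lt_of_le_of_lt hyv ((one_lt_val_iff Q hAy).2 hneg)
    have := Q.1.map_sub_eq_of_lt_left hlt
    rw [add_sub_cancel_right] at this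
    have hA0 : A ≠ 0 := fun h => by rw [h, zero_add] at hlt; exact lt_irrefl _ hlt
    rw [val_eq_exp Q hA0, val_eq_exp Q hAy, exp_inj] at this
    obtain ⟨r, hr⟩ := heven (a / b) (fun h => hA0 (by rw [hA, h, map_zero]))
    rw [← hA] at hr
    omega
  · omega
  · have hlt : Q.1 (A + y) < Q.1 1 := by rw [map_one]; exact (val_lt_one_iff Q hAy).2 hpos
    have := Q.1.map_add_eq_of_lt_right hlt
    rw [map_one, val_eq_exp Q hy', ← exp_zero, exp_inj] at this
    omega

end General

section Rational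

variable {k : Type*} [Field k]

theorem rat_genus : genus k (RatFunc k) = 0 :=
  (genus_eq_zero_of_adjoin_eq_top isFunctionField_ratFunc RatFunc.adjoin_X).1

theorem rat_ell {D : Divisor k (RatFunc k)} (h : -1 ≤ D.deg) : (ell D : ℤ) = D.deg + 1 := by
  rw [ell_eq_of_deg_ge isFunctionField_ratFunc (by rw [rat_genus]; simpa using h), rat_genus]; simp

/-- Every leading coefficient is realised with a single pole. -/
theorem rat_exists_leading (P : Place k (RatFunc k)) {m : ℕ} (hm : 0 < m) (π : RatFunc k)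
    (hπ : P.1 π = exp (-1)) {c : RatFunc k} (hc : P.1 c ≤ 1) :
    ∃ g : RatFunc k, (∀ Q : Place k (RatFunc k), Q ≠ P → Q.1 g ≤ 1) ∧ P.1 g ≤ exp (m : ℤ) ∧
      P.1 (g * π ^ m - c) < 1 := by
  classical
  have hF := isFunctionField_ratFunc (k := k)
  have hπ0 := ne_zero_of_val P hπ
  set D : Divisor k (RatFunc k) := Finsupp.single P (m : ℤ)
  have hle : ∀ g : L D, P.1 ((g : RatFunc k) * π ^ m) ≤ 1 := fun g => by
    have h := g.2 P
    rw [show D P = (m : ℤ) from Finsupp.single_eq_same] at h
    rw [map_mul, map_pow, hπ]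
    calc P.1 g * exp (-1) ^ m ≤ exp (m : ℤ) * exp (-1) ^ m := mul_le_mul' h le_rfl
      _ = 1 := by rw [← exp_nsmul, ← exp_add, ← exp_zero, nsmul_eq_mul]; simp
  let R := IsLocalRing.ResidueField P.O
  letI modR : Module k R := Algebra.toModule
  let θ : L D →ₗ[k] R :=
    { toFun := fun g => IsLocalRing.residue P.O ⟨(g : RatFunc k) * π ^ m, hle g⟩
      map_add' := fun g g' => by
        rw [← map_add]; congr 1; exact Subtype.ext (add_mul _ _ _)
      map_smul' := fun a g => by
        rw [RingHom.id_apply, Algebra.smul_def]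
        show _ = IsLocalRing.residue P.O (algebraMap k P.O a) * _
        rw [← map_mul]; congr 1
        refine Subtype.ext ?_
        show (a • (g : RatFunc k)) * π ^ m = algebraMap k (RatFunc k) a * ((g : RatFunc k) * π ^ m)
        rw [Algebra.smul_def, mul_assoc] }
  set D' : Divisor k (RatFunc k) := Finsupp.single P ((m : ℤ) - 1)
  have hker : ∀ g : L D, θ g = 0 → (g : RatFunc k) ∈ L D' := fun g hg Q => by
    rcases eq_or_ne Q P with rfl | hQ
    · rw [show D' Q = (m : ℤ) - 1 from Finsupp.single_eq_same]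
      have h := (val_lt_one_iff_residue Q ⟨_, hle g⟩).2 hg
      rcases eq_or_ne (g : RatFunc k) 0 with h0 | h0
      · rw [h0, map_zero]; exact zero_le
      rw [map_mul, map_pow, hπ, val_eq_exp Q h0, ← exp_nsmul, ← exp_add, ← exp_zero, exp_lt_exp, nsmul_eq_mul] at h
      rw [val_eq_exp Q h0, exp_le_exp]
      omega
    · rw [show D' Q = 0 from Finsupp.single_eq_of_ne hQ]
      have := g.2 Q
      rwa [show D Q = 0 from Finsupp.single_eq_of_ne hQ] at this
  have hPpos := deg_pos hF P
  have hdD : ell D = m * P.deg + 1 := by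
    have h := rat_ell (D := D) (by
      rw [deg_single]
      have : (0 : ℤ) ≤ (m : ℤ) * P.deg := mul_nonneg (Int.natCast_nonneg _) (Int.natCast_nonneg _)
      omega)
    rw [deg_single] at h
    exact_mod_cast h
  have hdD' : ell D' = (m - 1) * P.deg + 1 := by
    have h := rat_ell (D := D') (by
      rw [deg_single]
      have : (0 : ℤ) ≤ ((m : ℤ) - 1) * P.deg := mul_nonneg (by omega) (Int.natCast_nonneg _)
      omega)
    rw [deg_single] at h
    have h2 : ((m - 1 : ℕ) : ℤ) = (m : ℤ) - 1 := by omega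
    rw [← h2] at h
    exact_mod_cast h
  have : FiniteDimensional k (L D) := Module.finite_of_finrank_pos (show 0 < ell D by omega)
  have : FiniteDimensional k (L D') := Module.finite_of_finrank_pos (show 0 < ell D' by omega)
  have hfd : FiniteDimensional k R := Module.finite_of_finrank_pos (deg_pos hF P)
  have hsurj : Function.Surjective θ := by
    rw [← LinearMap.range_eq_top]
    refine Submodule.eq_top_of_finrank_eq ?_
    have h1 := θ.finrank_range_add_finrank_ker
    have h2 : Module.finrank k θ.ker ≤ ell D' := by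
      let j : θ.ker →ₗ[k] L D' :=
        LinearMap.codRestrict (L D') ((L D).subtype ∘ₗ θ.ker.subtype) fun g => hker g.1 (LinearMap.mem_ker.1 g.2)
      exact LinearMap.finrank_le_finrank_of_injective (f := j) fun g g' h =>
        Subtype.ext (Subtype.ext (congrArg Subtype.val h :))
    have h3 : Module.finrank k (LinearMap.range θ) ≤ Module.finrank k R := Submodule.finrank_le _
    have h4 : Module.finrank k R = P.deg := rfl
    have h5 : Module.finrank k (L D) = ell D := rfl
    obtain ⟨m', rfl⟩ : ∃ m', m = m' + 1 := ⟨m - 1, by omega⟩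
    rw [Nat.add_sub_cancel] at hdD'
    rw [add_mul, one_mul] at hdD
    omega
  obtain ⟨g, hg⟩ := hsurj (IsLocalRing.residue P.O ⟨c, hc⟩)
  refine ⟨g, fun Q hQ => ?_, ?_, ?_⟩
  · have := g.2 Q
    rwa [show D Q = 0 from Finsupp.single_eq_of_ne hQ, exp_zero] at this
  · have := g.2 P
    rwa [show D P = (m : ℤ) from Finsupp.single_eq_same] at this
  · have h0 : IsLocalRing.residue P.O (⟨(g : RatFunc k) * π ^ m, hle g⟩ - ⟨c, hc⟩) = 0 := by
      rw [map_sub]; exact sub_eq_zero.2 hg
    rwa [← val_lt_one_iff_residue] at h0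

/-- The poles can be made odd by adding `g ^ 2 + g`. -/
theorem as_reduce [PerfectField k] [CharP k 2] (f : RatFunc k) :
    ∃ g : RatFunc k, ∀ P : Place k (RatFunc k), P.ord (f + g ^ 2 + g) < 0 → Odd (P.ord (f + g ^ 2 + g)) := by
  classical
  have hF := isFunctionField_ratFunc (k := k)
  suffices H : ∀ N : ℕ, ∀ f : RatFunc k, (∑ᶠ P : Place k (RatFunc k), (-P.ord f).toNat) ≤ N →
      ∃ g : RatFunc k, ∀ P : Place k (RatFunc k), P.ord (f + g ^ 2 + g) < 0 → Odd (P.ord (f + g ^ 2 + g)) from
    H _ f le_rfl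
  intro N
  induction N using Nat.strong_induction_on with
  | _ N ih =>
  intro f hN
  by_cases hall : ∀ P : Place k (RatFunc k), P.ord f < 0 → Odd (P.ord f)
  · exact ⟨0, fun P => by simpa using hall P⟩
  push Not at hall
  obtain ⟨P, hneg, heven⟩ := hall
  obtain ⟨l, hl⟩ := Int.not_odd_iff_even.1 heven
  obtain ⟨m, hm, hmf⟩ : ∃ m : ℕ, 0 < m ∧ P.ord f = -(2 * (m : ℤ)) := ⟨(-l).toNat, by omega, by omega⟩
  have hf0 : f ≠ 0 := fun h => by rw [h] at hneg; simp [Place.ord] at hneg
  obtain ⟨π, hπ⟩ := exists_val_eq P (-1)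
  have hlead : P.1 (f * π ^ (2 * m)) ≤ 1 := by
    rw [map_mul, map_pow, hπ, val_eq_exp P hf0, ← exp_nsmul, ← exp_add, ← exp_zero, exp_le_exp, nsmul_eq_mul]
    push_cast; omega
  have hfd : FiniteDimensional k (IsLocalRing.ResidueField P.O) := Module.finite_of_finrank_pos (deg_pos hF P)
  have : CharP (IsLocalRing.ResidueField P.O) 2 :=
    charP_of_injective_algebraMap (algebraMap k (IsLocalRing.ResidueField P.O)).injective 2
  have : Algebra.IsAlgebraic k (IsLocalRing.ResidueField P.O) :=
    ⟨fun t => (@IsIntegral.of_finite k _ _ _ _ hfd t).isAlgebraic⟩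
  have : PerfectField (IsLocalRing.ResidueField P.O) := Algebra.IsAlgebraic.perfectField (K := k)
  have : PerfectRing (IsLocalRing.ResidueField P.O) 2 := PerfectField.toPerfectRing 2
  obtain ⟨s, hs⟩ := surjective_frobenius (R := IsLocalRing.ResidueField P.O) (p := 2)
    (IsLocalRing.residue P.O ⟨_, hlead⟩)
  obtain ⟨c, rfl⟩ := IsLocalRing.residue_surjective s
  obtain ⟨g, hgQ, hgP, hgc⟩ := rat_exists_leading P hm π hπ c.2
  set f' := f + g ^ 2 + g with hf'
  have hgsq : ∀ Q : Place k (RatFunc k), Q ≠ P → Q.1 (g ^ 2 + g) ≤ 1 := fun Q hQ =>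
    (Q.1.map_add _ _).trans (max_le (by rw [map_pow]; exact pow_le_one₀ zero_le (hgQ Q hQ)) (hgQ Q hQ))
  have h2 : (2 : RatFunc k) = 0 := as_two_eq_zero k
  have hP' : P.1 f' < exp (2 * (m : ℤ)) := by
    have h0 : IsLocalRing.residue P.O (⟨_, hlead⟩ - c ^ 2) = 0 := by
      rw [map_sub, map_pow, sub_eq_zero, ← hs, frobenius_def]
    rw [← val_lt_one_iff_residue] at h0
    change P.1 (f * π ^ (2 * m) - (c : RatFunc k) ^ 2) < 1 at h0
    have h1 : P.1 ((g * π ^ m - c) ^ 2) < 1 := by rw [map_pow]; exact pow_lt_one₀ zero_le hgc two_ne_zero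
    have hdec : (f + g ^ 2) * π ^ (2 * m) =
        (f * π ^ (2 * m) - (c : RatFunc k) ^ 2) + (g * π ^ m - c) ^ 2 := by
      linear_combination g * π ^ m * (c : RatFunc k) * h2
    have h3 := P.1.map_add_lt h0 h1
    rw [← hdec, map_mul, map_pow, hπ, ← exp_nsmul, nsmul_eq_mul, mul_neg, mul_one, exp_neg,
      mul_inv_lt_iff₀ exp_pos, one_mul] at h3
    push_cast at h3
    exact P.1.map_add_lt h3 (hgP.trans_lt (by rw [exp_lt_exp]; omega))
  have hle : ∀ Q : Place k (RatFunc k), (-Q.ord f').toNat ≤ (-Q.ord f).toNat := fun Q => by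
    rcases eq_or_ne f' 0 with h0 | h0
    · rw [h0]; simp [Place.ord]
    rcases eq_or_ne Q P with rfl | hQ
    · rw [val_eq_exp Q h0, exp_lt_exp] at hP'; omega
    · rw [hf', add_assoc] at h0 ⊢
      have h := (Q.1.map_add f (g ^ 2 + g)).trans (max_le_max_left _ (hgsq Q hQ))
      rw [val_eq_exp Q h0, val_eq_exp Q hf0, le_max_iff, exp_le_exp, ← exp_zero, exp_le_exp] at h
      omega
  have hlt : (-P.ord f').toNat < (-P.ord f).toNat := by
    rcases eq_or_ne f' 0 with h0 | h0
    · rw [h0]; simp [Place.ord]; simpa [Place.ord] using hneg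
    · rw [val_eq_exp P h0, exp_lt_exp] at hP'; omega
  have hfin : ∀ h : RatFunc k, (Function.support fun Q : Place k (RatFunc k) => (-Q.ord h).toNat).Finite := fun h =>
    (finite_support_ord hF h).subset fun Q hQ => by simp [Function.mem_support] at hQ ⊢; omega
  have hN' : (∑ᶠ Q : Place k (RatFunc k), (-Q.ord f').toNat) < N := by
    refine lt_of_lt_of_le ?_ hN
    have hfs := finsum_eq_sum_of_support_subset (fun Q : Place k (RatFunc k) => (-Q.ord f').toNat)
      (s := (hfin f).toFinset ∪ (hfin f').toFinset) fun Q hQ => by simp [hQ]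
    have hfs' := finsum_eq_sum_of_support_subset (fun Q : Place k (RatFunc k) => (-Q.ord f).toNat)
      (s := (hfin f).toFinset ∪ (hfin f').toFinset) fun Q hQ => by simp [hQ]
    rw [hfs, hfs']
    refine Finset.sum_lt_sum (fun Q _ => hle Q) ⟨P, ?_, hlt⟩
    simp; omega
  obtain ⟨g', hg'⟩ := ih _ hN' f' le_rfl
  refine ⟨g + g', fun Q => ?_⟩
  rw [show f + (g + g') ^ 2 + (g + g') = f' + g' ^ 2 + g' by rw [hf']; linear_combination g * g' * h2]
  exact hg' Q

end Rational

end Groth.Agent.FunFldLib
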