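import Groth.Prelude.Def_W4bk4goldsch23FF
import Mathlib.RingTheory.Valuation.LocalSubring
import Mathlib.Tactic

/-!
Basic facts about places of a field over `k` (`FunFld.Place`): orders, uniformizers, distinct places
have incomparable valuation rings, weak approximation.
-/

namespace Groth.Agent.FunFldLib

open FunFld WithZero

variable {k K : Type*} [Field k] [Field K] [Algebra k K]

theorem val_ne_zero (P : Place k K) {x : K} (hx : x ≠ 0) : P.1 x ≠ 0 :=
  (Valuation.ne_zero_iff P.1).2 hx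

theorem val_eq_exp (P : Place k K) {x : K} (hx : x ≠ 0) : P.1 x = exp (-P.ord x) := by
  rw [Place.ord, neg_neg, exp_log (val_ne_zero P hx)]

@[simp] theorem ord_zero (P : Place k K) : P.ord (0 : K) = 0 := by simp [Place.ord]

@[simp] theorem ord_one (P : Place k K) : P.ord (1 : K) = 0 := by simp [Place.ord]

theorem ord_mul (P : Place k K) {x y : K} (hx : x ≠ 0) (hy : y ≠ 0) :
    P.ord (x * y) = P.ord x + P.ord y := by
  simp only [Place.ord, map_mul, log_mul (val_ne_zero P hx) (val_ne_zero P hy)]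
  ring

@[simp] theorem ord_inv (P : Place k K) (x : K) : P.ord x⁻¹ = -P.ord x := by
  simp only [Place.ord, map_inv₀, log_inv]

theorem ord_div (P : Place k K) {x y : K} (hx : x ≠ 0) (hy : y ≠ 0) :
    P.ord (x / y) = P.ord x - P.ord y := by
  rw [div_eq_mul_inv, ord_mul P hx (inv_ne_zero hy), ord_inv]; ring

theorem ord_pow (P : Place k K) (x : K) (n : ℕ) : P.ord (x ^ n) = n * P.ord x := by
  simp [Place.ord, map_pow, log_pow]

theorem ord_zpow (P : Place k K) (x : K) (n : ℤ) : P.ord (x ^ n) = n * P.ord x := by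
  simp [Place.ord, map_zpow₀, log_zpow]

theorem val_le_exp_iff (P : Place k K) {x : K} (hx : x ≠ 0) {n : ℤ} :
    P.1 x ≤ exp n ↔ -n ≤ P.ord x := by
  rw [val_eq_exp P hx, exp_le_exp]; omega

theorem val_le_one_iff (P : Place k K) {x : K} (hx : x ≠ 0) : P.1 x ≤ 1 ↔ 0 ≤ P.ord x := by
  simpa using val_le_exp_iff P hx (n := 0)

theorem val_lt_one_iff (P : Place k K) {x : K} (hx : x ≠ 0) : P.1 x < 1 ↔ 0 < P.ord x := by
  rw [val_eq_exp P hx, ← exp_zero, exp_lt_exp]; omega

theorem one_lt_val_iff (P : Place k K) {x : K} (hx : x ≠ 0) : 1 < P.1 x ↔ P.ord x < 0 := by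
  rw [val_eq_exp P hx, ← exp_zero, exp_lt_exp]; omega

theorem ord_eq_of_val (P : Place k K) {x : K} {n : ℤ} (h : P.1 x = exp n) : P.ord x = -n := by
  rw [Place.ord, h, log_exp]

theorem ne_zero_of_val (P : Place k K) {x : K} {n : ℤ} (h : P.1 x = exp n) : x ≠ 0 := by
  rintro rfl
  exact exp_ne_zero (h.symm.trans P.1.map_zero)

theorem exists_val_eq (P : Place k K) (n : ℤ) : ∃ x : K, P.1 x = exp n := P.2.2 _

theorem val_algebraMap (P : Place k K) {c : k} (hc : c ≠ 0) : P.1 (algebraMap k K c) = 1 := by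
  refine le_antisymm (P.2.1 c) ?_
  have h := P.2.1 c⁻¹
  rwa [map_inv₀, map_inv₀, inv_le_one₀ (zero_lt_iff.2 (val_ne_zero P (by simpa using hc)))] at h

@[simp] theorem ord_algebraMap (P : Place k K) (c : k) : P.ord (algebraMap k K c) = 0 := by
  rcases eq_or_ne c 0 with rfl | hc
  · simp
  · simp [Place.ord, val_algebraMap P hc]

theorem ord_smul (P : Place k K) {c : k} (hc : c ≠ 0) (x : K) : P.ord (c • x) = P.ord x := by
  rw [Algebra.smul_def, Place.ord, Place.ord, map_mul, val_algebraMap P hc, one_mul]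

theorem transcendental_of_val_lt_one {P : Place k K} {x : K} (hx : x ≠ 0) (h : P.1 x ≠ 1)
    (hk : ∀ y : K, IsAlgebraic k y → y ∈ Set.range (algebraMap k K)) : Transcendental k x := by
  intro halg
  obtain ⟨c, rfl⟩ := hk x halg
  exact h (val_algebraMap P (by rintro rfl; exact hx (map_zero _)))

/-- A place is determined by its valuation ring; containment suffices. -/
theorem place_ext {P Q : Place k K} (h : ∀ x, P.1 x ≤ 1 → Q.1 x ≤ 1) : P = Q := by
  obtain ⟨π, hπ⟩ := exists_val_eq P (-1)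
  have hπ0 : π ≠ 0 := ne_zero_of_val P hπ
  have hPπ : P.ord π = 1 := by rw [ord_eq_of_val P hπ]; ring
  have key : ∀ x : K, x ≠ 0 → Q.ord x = P.ord x * Q.ord π := by
    intro x hx
    have hu : x * π ^ (-P.ord x) ≠ 0 := mul_ne_zero hx (zpow_ne_zero _ hπ0)
    have hu0 : P.ord (x * π ^ (-P.ord x)) = 0 := by
      rw [ord_mul P hx (zpow_ne_zero _ hπ0), ord_zpow, hPπ]; ring
    have h1 : 0 ≤ Q.ord (x * π ^ (-P.ord x)) :=
      (val_le_one_iff Q hu).1 (h _ ((val_le_one_iff P hu).2 hu0.ge))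
    have h2 : 0 ≤ Q.ord (x * π ^ (-P.ord x))⁻¹ :=
      (val_le_one_iff Q (inv_ne_zero hu)).1
        (h _ ((val_le_one_iff P (inv_ne_zero hu)).2 (by rw [ord_inv, hu0]; simp)))
    have h3 : Q.ord (x * π ^ (-P.ord x)) = 0 := by rw [ord_inv] at h2; omega
    rw [ord_mul Q hx (zpow_ne_zero _ hπ0), ord_zpow] at h3
    linarith
  have hpos : 0 ≤ Q.ord π :=
    (val_le_one_iff Q hπ0).1 (h π ((val_le_one_iff P hπ0).2 (by omega)))
  obtain ⟨z, hz⟩ := exists_val_eq Q (-1)
  have hz' := key z (ne_zero_of_val Q hz)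
  rw [ord_eq_of_val Q hz, neg_neg] at hz'
  have h1 : Q.ord π = 1 := Int.eq_one_of_mul_eq_one_left hpos (by linarith)
  apply Subtype.ext
  apply Valuation.ext
  intro x
  rcases eq_or_ne x 0 with rfl | hx
  · simp
  · rw [val_eq_exp P hx, val_eq_exp Q hx, key x hx, h1, mul_one]

theorem exists_one_lt_lt_one {P Q : Place k K} (h : P ≠ Q) : ∃ z : K, 1 < P.1 z ∧ Q.1 z < 1 := by
  have h1 : ∃ a, P.1 a ≤ 1 ∧ 1 < Q.1 a := by
    by_contra hc; push Not at hc; exact h (place_ext hc)
  have h2 : ∃ b, Q.1 b ≤ 1 ∧ 1 < P.1 b := by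
    by_contra hc; push Not at hc; exact h (place_ext hc).symm
  obtain ⟨a, haP, haQ⟩ := h1
  obtain ⟨b, hbQ, hbP⟩ := h2
  have ha : a ≠ 0 := by rintro rfl; simp at haQ
  have hb : b ≠ 0 := by rintro rfl; simp at hbP
  rw [val_le_one_iff P ha] at haP
  rw [one_lt_val_iff Q ha] at haQ
  rw [val_le_one_iff Q hb] at hbQ
  rw [one_lt_val_iff P hb] at hbP
  refine ⟨b / a, ?_, ?_⟩
  · rw [one_lt_val_iff P (div_ne_zero hb ha), ord_div P hb ha]; omega
  · rw [val_lt_one_iff Q (div_ne_zero hb ha), ord_div Q hb ha]; omega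

/-- `e_P`: large at `P`, small at the other places of a finite set. -/
theorem exists_one_lt_forall_lt_one (P : Place k K) (S : Finset (Place k K)) :
    P ∉ S → ∃ z : K, 1 < P.1 z ∧ ∀ Q ∈ S, Q.1 z < 1 := by
  classical
  induction S using Finset.induction_on with
  | empty =>
    intro _
    obtain ⟨z, hz⟩ := exists_val_eq P 1
    exact ⟨z, by rw [hz, ← exp_zero, exp_lt_exp]; omega, by simp⟩
  | @insert R S hR ih =>
    intro hP
    rw [Finset.mem_insert, not_or] at hP
    obtain ⟨z, hzP, hzS⟩ := ih hP.2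
    rcases lt_or_ge (R.1 z) 1 with hlt | hge
    · exact ⟨z, hzP, by intro Q hQ; rcases Finset.mem_insert.1 hQ with rfl | hQ
                        exacts [hlt, hzS Q hQ]⟩
    obtain ⟨y, hyP, hyR⟩ := exists_one_lt_lt_one hP.1
    have hz0 : z ≠ 0 := by rintro rfl; simp at hzP
    have hy0 : y ≠ 0 := by rintro rfl; simp at hyP
    -- a uniform bound for the order of `y` on `S`
    let N : ℕ := (S.sup fun Q => (Q.ord y).natAbs) + 1
    have hN : ∀ Q ∈ S, (Q.ord y).natAbs < N := fun Q hQ =>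
      Nat.lt_succ_of_le (Finset.le_sup (f := fun Q => (Q.ord y).natAbs) hQ)
    have hN0 : (1 : ℤ) ≤ N := by simp [N]
    rw [one_lt_val_iff P hz0] at hzP
    rw [one_lt_val_iff P hy0] at hyP
    rw [val_lt_one_iff R hy0] at hyR
    rcases eq_or_lt_of_le hge with heq | hgt
    · have hRz : R.ord z = 0 := by simp [Place.ord, ← heq]
      have hne : z ^ N * y ≠ 0 := mul_ne_zero (pow_ne_zero _ hz0) hy0
      have hord : ∀ Q : Place k K, Q.ord (z ^ N * y) = N * Q.ord z + Q.ord y := fun Q => by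
        rw [ord_mul Q (pow_ne_zero _ hz0) hy0, ord_pow]
      refine ⟨z ^ N * y, ?_, ?_⟩
      · rw [one_lt_val_iff P hne, hord]; nlinarith
      · intro Q hQ
        rw [val_lt_one_iff Q hne, hord]
        rcases Finset.mem_insert.1 hQ with rfl | hQ
        · rw [hRz]; simpa using hyR
        · have h1 := (val_lt_one_iff Q hz0).1 (hzS Q hQ)
          have h2 := hN Q hQ
          have h3 : (N : ℤ) * 1 ≤ N * Q.ord z := mul_le_mul_of_nonneg_left (by omega) (by omega)
          omega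
    · rw [one_lt_val_iff R hz0] at hgt
      have hd : ∀ Q : Place k K, Q.1 z < 1 ∨ 1 < Q.1 z →
          (1 : K) + z ^ N ≠ 0 ∧ Q.ord (1 + z ^ N) = min 0 (N * Q.ord z) := by
        intro Q hQ
        have hne1 : Q.1 (z ^ N) ≠ Q.1 1 := by
          rw [map_one, val_eq_exp Q (pow_ne_zero _ hz0), ord_pow, Ne, exp_eq_one]
          rw [val_lt_one_iff Q hz0, one_lt_val_iff Q hz0] at hQ
          rcases hQ with hQ | hQ <;> nlinarith
        have hv := Q.1.map_add_of_distinct_val hne1.symm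
        have hne : (1 : K) + z ^ N ≠ 0 := by
          intro h0; rw [h0, map_zero, map_one] at hv
          exact (zero_lt_one.trans_le (le_max_left _ _)).ne hv
        refine ⟨hne, ?_⟩
        rw [map_one, val_eq_exp Q hne, val_eq_exp Q (pow_ne_zero _ hz0), ord_pow, ← exp_zero] at hv
        rcases le_total (0 : ℤ) (N * Q.ord z) with h | h
        · rw [max_eq_left (exp_le_exp.2 (by omega)), exp_inj] at hv; omega
        · rw [max_eq_right (exp_le_exp.2 (by omega)), exp_inj] at hv; omega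
      have hne1 : (1 : K) + z ^ N ≠ 0 := (hd R (Or.inr ((one_lt_val_iff R hz0).2 hgt))).1
      have hne : z ^ N / (1 + z ^ N) * y ≠ 0 :=
        mul_ne_zero (div_ne_zero (pow_ne_zero _ hz0) hne1) hy0
      have hord : ∀ Q : Place k K, Q.1 z < 1 ∨ 1 < Q.1 z →
          Q.ord (z ^ N / (1 + z ^ N) * y) = N * Q.ord z - min 0 (N * Q.ord z) + Q.ord y := by
        intro Q hQ
        rw [ord_mul Q (div_ne_zero (pow_ne_zero _ hz0) hne1) hy0,
          ord_div Q (pow_ne_zero _ hz0) hne1, ord_pow, (hd Q hQ).2]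
      refine ⟨z ^ N / (1 + z ^ N) * y, ?_, ?_⟩
      · rw [one_lt_val_iff P hne, hord P (Or.inr ((one_lt_val_iff P hz0).2 hzP)),
          min_eq_right (by nlinarith)]
        simpa using hyP
      · intro Q hQ
        rw [val_lt_one_iff Q hne]
        rcases Finset.mem_insert.1 hQ with rfl | hQ
        · rw [hord Q (Or.inr ((one_lt_val_iff Q hz0).2 hgt)), min_eq_right (by nlinarith)]
          simpa using hyR
        · have h1 := (val_lt_one_iff Q hz0).1 (hzS Q hQ)
          have h2 := hN Q hQ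
          have h3 : (N : ℤ) * 1 ≤ N * Q.ord z := mul_le_mul_of_nonneg_left (by omega) (by omega)
          rw [hord Q (Or.inl (hzS Q hQ))]
          omega

/-- An element congruent to `1` at `P` and to `0` at the other places of `S`, to any precision. -/
theorem exists_approx_idem (P : Place k K) (S : Finset (Place k K)) (hP : P ∉ S) (M : ℕ) :
    ∃ e : K, P.1 (e - 1) ≤ exp (-(M : ℤ)) ∧ ∀ Q ∈ S, Q.1 e ≤ exp (-(M : ℤ)) := by
  obtain ⟨z, hzP, hzS⟩ := exists_one_lt_forall_lt_one P S hP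
  have hz0 : z ≠ 0 := by rintro rfl; simp at hzP
  set N := M + 1 with hN
  rw [one_lt_val_iff P hz0] at hzP
  have hPN : (1 : WithZero (Multiplicative ℤ)) < P.1 (z ^ N) := by
    rw [one_lt_val_iff P (pow_ne_zero _ hz0), ord_pow]; rw [hN]; push_cast; nlinarith
  have hval : P.1 (1 + z ^ N) = P.1 (z ^ N) :=
    P.1.map_add_eq_of_lt_right (by rw [map_one]; exact hPN)
  have hne : (1 : K) + z ^ N ≠ 0 := by
    intro h; rw [h, map_zero] at hval; rw [← hval] at hPN; exact not_lt_zero hPN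
  refine ⟨z ^ N / (1 + z ^ N), ?_, ?_⟩
  · have he : z ^ N / (1 + z ^ N) - 1 = -((1 + z ^ N)⁻¹) := by field_simp; ring
    rw [he, Valuation.map_neg, map_inv₀, hval, val_eq_exp P (pow_ne_zero _ hz0), ← exp_neg,
      exp_le_exp, ord_pow, hN]
    push_cast; nlinarith
  · intro Q hQ
    have h1 := (val_lt_one_iff Q hz0).1 (hzS Q hQ)
    have h2 : Q.1 (z ^ N) < 1 := by
      rw [val_lt_one_iff Q (pow_ne_zero _ hz0), ord_pow, hN]; push_cast; nlinarith
    rw [map_div₀, Q.1.map_one_add_of_lt h2, div_one, val_eq_exp Q (pow_ne_zero _ hz0), exp_le_exp,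
      ord_pow, hN]
    push_cast; nlinarith

/-- Weak approximation. -/
theorem exists_approx (S : Finset (Place k K)) (x : Place k K → K) (m : Place k K → ℤ) :
    ∃ y : K, ∀ P ∈ S, P.1 (y - x P) ≤ exp (m P) := by
  classical
  -- a bound that works for all pairs
  let M : ℕ := S.sup fun P => S.sup fun Q => (P.ord (x Q)).natAbs + (m P).natAbs
  choose e he using fun P : S => exists_approx_idem P.1 (S.erase P.1) (Finset.notMem_erase _ _) M
  refine ⟨∑ Q : S, x Q * e Q, fun P hP => ?_⟩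
  have hsplit : (∑ Q : S, x Q * e Q) - x P =
      x P * (e ⟨P, hP⟩ - 1) + ∑ Q ∈ Finset.univ.erase (⟨P, hP⟩ : S), x Q * e Q := by
    rw [← Finset.add_sum_erase _ _ (Finset.mem_univ (⟨P, hP⟩ : S))]; ring
  have bound : ∀ Q ∈ S, ∀ t : K, P.1 t ≤ exp (-(M : ℤ)) → P.1 (x Q * t) ≤ exp (m P) := by
    intro Q hQ t ht
    rcases eq_or_ne (x Q) 0 with h0 | h0
    · simp [h0]
    rw [map_mul]
    refine (mul_le_mul' le_rfl ht).trans ?_
    rw [val_eq_exp P h0, ← exp_add, exp_le_exp]
    have h2 : (P.ord (x Q)).natAbs + (m P).natAbs ≤ M :=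
      le_trans (Finset.le_sup (f := fun Q => (P.ord (x Q)).natAbs + (m P).natAbs) hQ)
        (Finset.le_sup (f := fun P => S.sup fun Q => (P.ord (x Q)).natAbs + (m P).natAbs) hP)
    omega
  rw [hsplit]
  refine P.1.map_add_le (bound P hP _ (he ⟨P, hP⟩).1) (P.1.map_sum_le fun Q hQ => ?_)
  refine bound Q Q.2 _ ((he Q).2 P ?_)
  have hne : P ≠ (Q : Place k K) := fun h => (Finset.mem_erase.1 hQ).1 (Subtype.ext h.symm)
  simp [hne, hP]

/-- Weak approximation with exact orders. -/
theorem exists_approx_eq (S : Finset (Place k K)) (x : Place k K → K) (m : Place k K → ℤ) :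
    ∃ y : K, ∀ P ∈ S, P.1 (y - x P) = exp (m P) := by
  choose t ht using fun P : Place k K => exists_val_eq P (m P)
  obtain ⟨y, hy⟩ := exists_approx S (fun P => x P + t P) (fun P => m P - 1)
  refine ⟨y, fun P hP => ?_⟩
  have h := hy P hP
  have : y - x P = (y - (x P + t P)) + t P := by ring
  rw [this, P.1.map_add_eq_of_lt_right ?_, ht]
  rw [ht]
  exact h.trans_lt (exp_lt_exp.2 (by omega))

end Groth.Agent.FunFldLib
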