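import Groth.Agent.FunFld.LocalPower
import Groth.Agent.FunFld.Rational

/-!
The degree of `u ds` is `2g - 2`: a reduced basis over `k(s)` and its discriminant.
-/

namespace Groth.Agent.FunFldLib

open FunFld WithZero
open scoped Matrix

section Rational

variable {k K : Type*} [Field k] [IsAlgClosed k] [Field K] [Algebra k K]

/-- The places of `k(x)`. -/
theorem rat_places (hK : IsFunctionField k K) {x : K} (htop : IntermediateField.adjoin k ({x} : Set K) = ⊤) :
    ∃ Pi : Place k K, Pi.1 x = exp 1 ∧ ∀ P : Place k K, P ≠ Pi →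
      P.1 x ≤ 1 ∧ ∃ c : k, P.1 (x - algebraMap k K c) = exp (-1) := by
  have hx : Transcendental k x := not_isAlgebraic_all hK htop
  have hx0 : x ≠ 0 := fun h => hx (h ▸ isAlgebraic_zero)
  have h1 := (genus_eq_zero_of_adjoin_eq_top hK htop).2
  obtain ⟨Pi, hPi⟩ := (exists_zero_pole hK (x := x) fun ⟨c, hc⟩ => hx (hc ▸ isAlgebraic_algebraMap c)).2
  have hdeg := deg_eq_one hK (k := k) (K := K)
  have hval : ∀ (R : Place k K), 0 ≤ polesDiv k x R := fun R => polesDiv_nonneg x R
  have hord : Pi.ord x = -1 := by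
    have hle : Finsupp.single Pi (-Pi.ord x) ≤ polesDiv k x := fun R => by
      rcases eq_or_ne R Pi with rfl | hR
      · rw [Finsupp.single_eq_same, polesDiv_apply hK]; exact le_max_left _ _
      · rw [Finsupp.single_eq_of_ne hR]; exact hval R
    have := deg_mono hle
    rw [deg_single, hdeg Pi, h1] at this
    omega
  refine ⟨Pi, by rw [val_eq_exp Pi hx0, hord]; rfl, fun P hP => ?_⟩
  have hle : P.1 x ≤ 1 := by
    rw [val_le_one_iff P hx0]
    by_contra hlt
    push Not at hlt
    have hle : Finsupp.single Pi 1 + Finsupp.single P 1 ≤ polesDiv k x := fun R => by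
      rw [Finsupp.add_apply, polesDiv_apply hK]
      rcases eq_or_ne R Pi with rfl | hR
      · rw [Finsupp.single_eq_same, Finsupp.single_eq_of_ne (Ne.symm hP)]; omega
      · rw [Finsupp.single_eq_of_ne hR, zero_add]
        rcases eq_or_ne R P with rfl | hR'
        · rw [Finsupp.single_eq_same]; omega
        · rw [Finsupp.single_eq_of_ne hR']; exact le_max_right _ _
    have := deg_mono hle
    rw [deg_add, deg_single, deg_single, hdeg Pi, hdeg P, h1] at this
    omega
  refine ⟨hle, ?_⟩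
  obtain ⟨c, hc⟩ := exists_sub_const_val_lt_one hK P (hdeg P) hle
  refine ⟨c, ?_⟩
  set y := x - algebraMap k K c with hy
  have hy0 : y ≠ 0 := fun h => hx (by rw [sub_eq_zero.1 h]; exact isAlgebraic_algebraMap c)
  have hyt : IntermediateField.adjoin k ({y⁻¹} : Set K) = ⊤ := by
    rw [eq_top_iff, ← htop]
    refine IntermediateField.adjoin_simple_le_iff.2 ?_
    have hyi := inv_mem (IntermediateField.mem_adjoin_simple_self k y⁻¹)
    rw [inv_inv] at hyi
    rw [show x = y + algebraMap k K c by rw [hy, sub_add_cancel]]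
    exact add_mem hyi (IntermediateField.algebraMap_mem _ c)
  have h2 := (genus_eq_zero_of_adjoin_eq_top hK hyt).2
  have hpos := (val_lt_one_iff P hy0).1 hc
  have hsingle : Finsupp.single P (P.ord y) ≤ polesDiv k y⁻¹ := fun R => by
    rw [polesDiv_apply hK, ord_inv, neg_neg]
    rcases eq_or_ne R P with rfl | hR
    · rw [Finsupp.single_eq_same]; exact le_max_left _ _
    · rw [Finsupp.single_eq_of_ne hR]; exact le_max_right _ _
  have := deg_mono hsingle
  rw [deg_single, hdeg P, h2] at this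
  rw [val_eq_exp P hy0, show P.ord y = 1 by omega]

theorem isFunctionField_adjoin (hK : IsFunctionField k K) {s : K} (hs : Transcendental k s) :
    IsFunctionField k (IntermediateField.adjoin k ({s} : Set K)) ∧
      IntermediateField.adjoin k
        ({⟨s, IntermediateField.mem_adjoin_simple_self k s⟩} : Set (IntermediateField.adjoin k ({s} : Set K))) = ⊤ := by
  set K₀ := IntermediateField.adjoin k ({s} : Set K)
  set x₀ : K₀ := ⟨s, IntermediateField.mem_adjoin_simple_self k s⟩
  have htop : IntermediateField.adjoin k ({x₀} : Set K₀) = ⊤ := by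
    apply IntermediateField.map_injective K₀.val
    rw [IntermediateField.adjoin_map, Set.image_singleton, ← AlgHom.fieldRange_eq_map,
      IntermediateField.fieldRange_val]
    rfl
  refine ⟨⟨⟨x₀, fun h => hs ?_, ?_⟩, fun y hy => ?_⟩, htop⟩
  · exact h.algebraMap (A := K)
  · rw [htop]
    exact Module.finite_of_finrank_pos (by rw [IntermediateField.finrank_top]; exact one_pos)
  · obtain ⟨c, hc⟩ := hK.2 (y : K) (hy.algebraMap (A := K))
    exact ⟨c, Subtype.ext hc⟩

end Rational

section Degree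

variable {k K K' : Type*} [Field k] [IsAlgClosed k] [Field K] [Field K'] [Algebra k K] [Algebra K K']
  [Algebra k K'] [IsScalarTower k K K'] [FiniteDimensional K K']

omit [IsAlgClosed k] in
theorem hasseD_inv {t : K} {H : K →ₐ[k] PowerSeries K} (hH : LocRes.IsHasseFamily t H) {x : K} (hx : x ≠ 0) :
    LocRes.hasseD H 1 x⁻¹ = -(x⁻¹ * x⁻¹ * LocRes.hasseD H 1 x) := by
  have h := hasseD_one_mul H hH.2 x x⁻¹
  rw [mul_inv_cancel₀ hx, show LocRes.hasseD H 1 (1 : K) = 0 by simp [LocRes.hasseD, PowerSeries.coeff_one]] at h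
  field_simp at h ⊢
  linear_combination -h

theorem sum_ord_hasseD (hK : IsFunctionField k K) {x : K} (htop : IntermediateField.adjoin k ({x} : Set K) = ⊤)
    (hK' : IsFunctionField k K') [Algebra.IsSeparable K K'] (D : Divisor k K')
    (π : Place k K' → K') (hπ : ∀ Q : Place k K', Q.1 (π Q) = exp (-1))
    (H : Place k K' → (K' →ₐ[k] PowerSeries K')) (hH : ∀ Q, LocRes.IsHasseFamily (π Q) (H Q))
    (hne : ∀ Q, LocRes.hasseD (H Q) 1 (algebraMap K K' x) ≠ 0)
    (hD : ∀ Q, D Q = Q.ord (LocRes.hasseD (H Q) 1 (algebraMap K K' x))) :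
    D.deg = 2 * (genus k K' : ℤ) - 2 := by
  classical
  obtain ⟨Pi, hPix, hfinite⟩ := rat_places hK htop
  have hx0 : x ≠ 0 := ne_zero_of_val Pi hPix
  have hdegK := deg_eq_one hK (k := k) (K := K)
  have hdeg := deg_eq_one hK' (k := k) (K := K')
  set n := Module.finrank K K' with hn
  have hnpos : 0 < n := Module.finrank_pos
  set N : Divisor k K' := conorm K' (Finsupp.single Pi 1) with hN
  have hNdeg : N.deg = n := by rw [hN, deg_conorm hK, deg_single, hdegK, hn]; simp
  have hNapp : ∀ Q : Place k K', N Q = if IsOver Q Pi then (ramIdx Q Pi : ℤ) else 0 := fun Q => by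
    rw [hN, conorm_apply hK]
    split_ifs with h
    · rw [(isOver_iff_below Q Pi).1 h, Finsupp.single_eq_same, one_mul]
    · rw [Finsupp.single_eq_of_ne (fun h' => h ((isOver_iff_below Q Pi).2 h')), zero_mul]
  have hmem : ∀ (m : ℤ) (f : K'), f ∈ L (m • N) ↔ (∀ P : Place k K, P ≠ Pi → IntAbove P f) ∧
      ∀ Q : Place k K', IsOver Q Pi → Q.1 f ≤ exp (m * ramIdx Q Pi) := fun m f => by
    constructor
    · refine fun h => ⟨fun P hP Q hQ => ?_, fun Q hQ => ?_⟩
      · have := h Q
        rwa [Finsupp.smul_apply, hNapp, if_neg (fun h' => hP (eq_of_isOver hQ h')), smul_zero, exp_zero] at this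
      · have := h Q
        rwa [Finsupp.smul_apply, hNapp, if_pos hQ, smul_eq_mul] at this
    · rintro ⟨h1, h2⟩ Q
      rw [Finsupp.smul_apply, hNapp, smul_eq_mul]
      split_ifs with h
      · exact h2 Q h
      · rw [mul_zero, exp_zero]
        exact h1 _ (fun h' => h ((isOver_iff_below Q Pi).2 h')) Q (isOver_below Q)
  have hneg : ∀ (m : ℤ) (f : K'), f ∈ L (m • N) → m < 0 → f = 0 := fun m f hf hm => by
    have hbot := L_eq_bot_of_deg_neg hK' (D := m • N) (by rw [deg_zsmul, hNdeg]; nlinarith)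
    rw [hbot, Submodule.mem_bot] at hf; exact hf
  -- every function becomes a member after multiplying by a polynomial in `x`
  have hclear : ∀ f : K', ∃ (p : K) (m : ℤ), p ≠ 0 ∧ p • f ∈ L (m • N) := fun f => by
    rcases eq_or_ne f 0 with rfl | hf
    · exact ⟨1, 0, one_ne_zero, by simp⟩
    set S := (finite_support_ord hK' f).toFinset.filter fun Q => ¬ IsOver Q Pi with hS
    have hc : ∀ Q : Place k K', ∃ q : K, q ≠ 0 ∧ (∀ R : Place k K, R ≠ Pi → 0 ≤ R.ord q) ∧
        (¬ IsOver Q Pi → 0 < (below (K := K) Q).ord q) := fun Q => by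
      by_cases h : IsOver Q Pi
      · exact ⟨1, one_ne_zero, fun R _ => by simp, fun h' => absurd h h'⟩
      obtain ⟨-, c, hc⟩ := hfinite (below (K := K) Q) fun h' => h ((isOver_iff_below Q Pi).2 h')
      refine ⟨_, ne_zero_of_val _ hc, fun R hR => (val_le_one_iff R (ne_zero_of_val _ hc)).1
        (R.1.map_sub_le (hfinite R hR).1 (R.2.1 c)), fun _ => by rw [ord_eq_of_val _ hc]; omega⟩
    choose q hq0 hqint hqpos using hc
    set p := ∏ Q ∈ S, q Q ^ (Q.ord f).natAbs
    have hp0 : p ≠ 0 := Finset.prod_ne_zero_iff.2 fun Q _ => pow_ne_zero _ (hq0 Q)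
    have hpord : ∀ R : Place k K, R.ord p = ∑ Q ∈ S, ((Q.ord f).natAbs : ℤ) * R.ord (q Q) := fun R => by
      refine Finset.induction_on (motive := fun T => R.ord (∏ Q ∈ T, q Q ^ (Q.ord f).natAbs) =
        ∑ Q ∈ T, ((Q.ord f).natAbs : ℤ) * R.ord (q Q)) S (by simp) fun a T ha ih => ?_
      rw [Finset.prod_insert ha, Finset.sum_insert ha, ord_mul R (pow_ne_zero _ (hq0 a))
        (Finset.prod_ne_zero_iff.2 fun Q _ => pow_ne_zero _ (hq0 Q)), ord_pow, ih]
    have hpf : p • f ≠ 0 := smul_ne_zero hp0 hf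
    have hord : ∀ Q : Place k K', Q.ord (p • f) =
        (ramIdx Q (below (K := K) Q) : ℤ) * (below (K := K) Q).ord p + Q.ord f := fun Q => by
      rw [Algebra.smul_def, ord_mul Q ((map_ne_zero _).2 hp0) hf,
        isOverWith_ord (isOverWith_ramIdx (isOver_below Q)) hp0]
    obtain ⟨hfinPi, -⟩ := finite_isOver_and_sum (K' := K') hK Pi
    refine ⟨p, ∑ Q ∈ hfinPi.toFinset, |Q.ord (p • f)|, hp0, (hmem _ _).2 ⟨fun P hP Q hQ => ?_, fun Q hQ => ?_⟩⟩
    · rw [val_le_one_iff Q hpf, hord, (isOver_iff_below Q P).1 hQ]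
      have hpos : (1 : ℤ) ≤ ramIdx Q P := by exact_mod_cast isOverWith_pos (isOverWith_ramIdx hQ)
      have hnn : 0 ≤ P.ord p := by
        rw [hpord]
        exact Finset.sum_nonneg fun R _ => mul_nonneg (Int.natCast_nonneg _) (hqint R P hP)
      by_cases hfs : 0 ≤ Q.ord f
      · nlinarith
      have hnot : ¬ IsOver Q Pi := fun h => hP (eq_of_isOver hQ h)
      have hQS : Q ∈ S := Finset.mem_filter.2 ⟨(finite_support_ord hK' f).mem_toFinset.2 (by
        simp only [Function.mem_support]; omega), hnot⟩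
      have h1 : ((Q.ord f).natAbs : ℤ) * P.ord (q Q) ≤ P.ord p := by
        rw [hpord]
        exact Finset.single_le_sum (f := fun R => ((R.ord f).natAbs : ℤ) * P.ord (q R))
          (fun R _ => mul_nonneg (Int.natCast_nonneg _) (hqint R P hP)) hQS
      have h2 : 0 < P.ord (q Q) := (isOver_iff_below Q P).1 hQ ▸ hqpos Q hnot
      have h3 : ((Q.ord f).natAbs : ℤ) ≤ P.ord p := le_trans (by nlinarith) h1
      rw [show ((Q.ord f).natAbs : ℤ) = -Q.ord f by omega] at h3
      nlinarith
    · rw [val_le_exp_iff Q hpf]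
      have hpos : (1 : ℤ) ≤ ramIdx Q Pi := by exact_mod_cast isOverWith_pos (isOverWith_ramIdx hQ)
      have h1 := Finset.single_le_sum (f := fun R : Place k K' => |R.ord (p • f)|) (fun R _ => abs_nonneg _)
        (hfinPi.mem_toFinset.2 hQ)
      have h2 : -Q.ord (p • f) ≤ |Q.ord (p • f)| := neg_le_abs _
      have h3 : (0 : ℤ) ≤ |Q.ord (p • f)| := abs_nonneg _
      nlinarith [mul_le_mul_of_nonneg_left hpos (h3.trans h1)]
  -- the reduced basis
  obtain ⟨w, mw, hw⟩ : ∃ (w : ℕ → K') (mw : ℕ → ℤ), ∀ i < n,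
      w i ∈ L (mw i • N) ∧ w i ∉ Submodule.span K (Set.range fun l : Fin i => w l) ∧
      ∀ (f : K') (m : ℤ), f ∉ Submodule.span K (Set.range fun l : Fin i => w l) → f ∈ L (m • N) → mw i ≤ m := by
    suffices H : ∀ j ≤ n, ∃ (w : ℕ → K') (mw : ℕ → ℤ), ∀ i < j,
        w i ∈ L (mw i • N) ∧ w i ∉ Submodule.span K (Set.range fun l : Fin i => w l) ∧
        ∀ (f : K') (m : ℤ), f ∉ Submodule.span K (Set.range fun l : Fin i => w l) → f ∈ L (m • N) → mw i ≤ m from
      H n le_rfl
    intro j hj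
    induction j with
    | zero => exact ⟨fun _ => 0, fun _ => 0, fun i hi => absurd hi (Nat.not_lt_zero i)⟩
    | succ j ih =>
      obtain ⟨w, mw, hw⟩ := ih (by omega)
      set V := Submodule.span K (Set.range fun l : Fin j => w l)
      obtain ⟨f₀, hf₀⟩ : ∃ f, f ∉ V := by
        by_contra hall
        push Not at hall
        have h1 : Module.finrank K V ≤ j := (finrank_range_le_card _).trans (by simp)
        rw [show V = ⊤ from eq_top_iff.2 fun f _ => hall f, finrank_top] at h1
        omega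
      obtain ⟨p, m₁, hp, hm₁⟩ := hclear f₀
      obtain ⟨m, ⟨f, hfV, hfm⟩, hmin⟩ := Int.exists_least_of_bdd (P := fun m => ∃ f, f ∉ V ∧ f ∈ L (m • N))
        ⟨0, fun m ⟨f, hfV, hfm⟩ => not_lt.1 fun hm => hfV (hneg m f hfm hm ▸ V.zero_mem)⟩
        ⟨m₁, p • f₀, fun h => hf₀ ((V.smul_mem_iff hp).1 h), hm₁⟩
      refine ⟨Function.update w j f, Function.update mw j m, fun i hi => ?_⟩
      have hrange : (fun l : Fin i => Function.update w j f l) = fun l : Fin i => w l := funext fun l =>
        Function.update_of_ne (by have := l.2; omega) _ _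
      rw [hrange]
      rcases Nat.lt_succ_iff_lt_or_eq.1 hi with hij | rfl
      · rw [Function.update_of_ne hij.ne, Function.update_of_ne hij.ne]
        exact hw i hij
      · rw [Function.update_self, Function.update_self]
        exact ⟨hfm, hfV, fun g m' hg hm' => hmin m' ⟨g, hg, hm'⟩⟩
  have hmono : ∀ i j : Fin n, i ≤ j → mw i ≤ mw j := fun i j hij => by
    obtain ⟨hj1, hj2, -⟩ := hw j j.2
    refine (hw i i.2).2.2 _ _ (fun h => hj2 (Submodule.span_mono ?_ h)) hj1
    rintro _ ⟨l, rfl⟩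
    exact ⟨⟨l, lt_of_lt_of_le l.2 hij⟩, rfl⟩
  have hfin : ∀ (i : Fin n) (P : Place k K), P ≠ Pi → IntAbove P (w i) := fun i =>
    ((hmem _ _).1 (hw i i.2).1).1
  have hinf : ∀ (i : Fin n) (Q : Place k K'), IsOver Q Pi → Q.1 (w i) ≤ exp (mw i * ramIdx Q Pi) := fun i =>
    ((hmem _ _).1 (hw i i.2).1).2
  have hkey : ∀ (a : Fin n → K) (i₀ : Fin n), a i₀ ≠ 0 → (∀ i, i₀ < i → a i = 0) →
      ∑ i, a i • w i ∉ L ((mw i₀ - 1) • N) := fun a i₀ ha0 hhi hL => by
    set V := Submodule.span K (Set.range fun l : Fin (i₀ : ℕ) => w l)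
    have hnot : ∑ i, a i • w i ∉ V := fun h => (hw i₀ i₀.2).2.1 <| (V.smul_mem_iff ha0).1 <| by
      have hrest : ∑ i ∈ Finset.univ.erase i₀, a i • w i ∈ V := sum_mem fun i hi => by
        rcases lt_or_gt_of_ne (Finset.ne_of_mem_erase hi) with h' | h'
        · exact V.smul_mem _ (Submodule.subset_span ⟨⟨i, h'⟩, rfl⟩)
        · rw [hhi i h', zero_smul]; exact V.zero_mem
      rw [← Finset.add_sum_erase _ _ (Finset.mem_univ i₀)] at h
      exact (V.add_mem_iff_left hrest).1 h
    have := (hw i₀ i₀.2).2.2 _ _ hnot hL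
    omega
  have hPi' : ∀ R : Place k K, R ≠ Pi → R.1 x ≤ 1 := fun R hR => (hfinite R hR).1
  have hQval : ∀ {Q : Place k K'} {P : Place k K}, IsOver Q P → ∀ (a : K) (z : K'),
      Q.1 (a • z) = P.1 a ^ ramIdx Q P * Q.1 z := fun {Q P} hQ a z => by
    rw [Algebra.smul_def, map_mul, isOverWith_ramIdx hQ a]
  let wF : Fin n → K' := fun i => w i
  -- residual independence
  have hresfin : ∀ P : Place k K, P ≠ Pi → ∀ c : Fin n → k,
      (∀ Q : Place k K', IsOver Q P → Q.1 (∑ i, algebraMap k K (c i) • wF i) ≤ exp (-(ramIdx Q P : ℤ))) → c = 0 := by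
    intro P hP c hc
    by_contra hne
    obtain ⟨i₁, hi₁⟩ : ∃ i, c i ≠ 0 := by
      by_contra h
      push Not at h
      exact hne (funext h)
    obtain ⟨i₀, hi₀, hmax⟩ := (Finset.univ.filter fun i => c i ≠ 0).exists_max_image id ⟨i₁, by simp [hi₁]⟩
    rw [Finset.mem_filter] at hi₀
    obtain ⟨-, d, hd⟩ := hfinite P hP
    have hd0 := ne_zero_of_val P hd
    set y := x - algebraMap k K d
    have hyPi : Pi.1 y = exp 1 := by
      rw [Pi.1.map_sub_eq_of_lt_left ((Pi.2.1 d).trans_lt (by rw [hPix, ← exp_zero, exp_lt_exp]; omega)), hPix]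
    have hyR : ∀ R : Place k K, R ≠ Pi → R ≠ P → R.1 y = 1 := fun R hR hRP => by
      refine le_antisymm (R.1.map_sub_le (hPi' R hR) (R.2.1 d)) (not_lt.1 fun hlt => hRP ?_)
      -- `y` has a single zero
      by_contra hne'
      have hle : Finsupp.single R 1 + Finsupp.single P 1 ≤ polesDiv k y⁻¹ := fun T => by
        rw [Finsupp.add_apply, polesDiv_apply hK, ord_inv, neg_neg]
        have h1 := (val_lt_one_iff R hd0).1 hlt
        have h2 := ord_eq_of_val P hd
        rcases eq_or_ne T R with rfl | hT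
        · rw [Finsupp.single_eq_same, Finsupp.single_eq_of_ne hne']; omega
        · rw [Finsupp.single_eq_of_ne hT, zero_add]
          rcases eq_or_ne T P with rfl | hT'
          · rw [Finsupp.single_eq_same]; omega
          · rw [Finsupp.single_eq_of_ne hT']; exact le_max_right _ _
      have hyt : IntermediateField.adjoin k ({y⁻¹} : Set K) = ⊤ := by
        rw [eq_top_iff, ← htop]
        refine IntermediateField.adjoin_simple_le_iff.2 ?_
        have hyi := inv_mem (IntermediateField.mem_adjoin_simple_self k y⁻¹)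
        rw [inv_inv] at hyi
        rw [show x = y + algebraMap k K d from (sub_add_cancel _ _).symm]
        exact add_mem hyi (IntermediateField.algebraMap_mem _ d)
      have := deg_mono hle
      rw [deg_add, deg_single, deg_single, hdegK, hdegK, (genus_eq_zero_of_adjoin_eq_top hK hyt).2] at this
      omega
    refine hkey (fun i => y⁻¹ * algebraMap k K (c i)) i₀ (mul_ne_zero (inv_ne_zero hd0)
      ((map_ne_zero _).2 hi₀.2)) (fun i hi => ?_) ((hmem _ _).2 ⟨fun R hR Q hQ => ?_, fun Q hQ => ?_⟩)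
    · have : c i = 0 := by_contra fun h => not_lt.2 (hmax i (Finset.mem_filter.2 ⟨Finset.mem_univ _, h⟩)) hi
      simp [this]
    · simp only [mul_smul, ← Finset.smul_sum]
      rw [hQval hQ, map_inv₀]
      rcases eq_or_ne R P with rfl | hRP
      · refine (mul_le_mul' le_rfl (hc Q hQ)).trans ?_
        rw [hd, ← exp_neg, ← exp_nsmul, ← exp_add, ← exp_zero, exp_le_exp, nsmul_eq_mul]
        omega
      · rw [hyR R hR hRP, inv_one, one_pow, one_mul]
        refine Q.1.map_sum_le fun i _ => ?_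
        rw [hQval hQ]
        exact mul_le_one' (pow_le_one₀ zero_le (R.2.1 _)) (hfin i R hR Q hQ)
    · simp only [mul_smul, ← Finset.smul_sum]
      rw [hQval hQ, map_inv₀, hyPi, ← exp_neg, ← exp_nsmul, nsmul_eq_mul]
      refine (mul_le_mul' le_rfl (Q.1.map_sum_le (g := exp (mw i₀ * ramIdx Q Pi)) fun i _ => ?_)).trans ?_
      · rw [hQval hQ]
        by_cases h : c i = 0
        · simp [h, (isOverWith_pos (isOverWith_ramIdx hQ)).ne']
        refine (mul_le_of_le_one_left' (pow_le_one₀ zero_le (Pi.2.1 _))).trans ((hinf i Q hQ).trans ?_)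
        rw [exp_le_exp]
        exact mul_le_mul_of_nonneg_right (hmono i i₀ (hmax i (Finset.mem_filter.2 ⟨Finset.mem_univ _, h⟩)))
          (Int.natCast_nonneg _)
      · rw [← exp_add, exp_le_exp]; exact le_of_eq (by ring)
  let u : Fin n → K' := fun i => x ^ (-mw i) • w i
  have huint : ∀ i, IntAbove Pi (u i) := fun i Q hQ => by
    rw [hQval hQ, map_zpow₀, hPix, ← exp_zsmul, ← exp_nsmul]
    refine (mul_le_mul' le_rfl (hinf i Q hQ)).trans ?_
    rw [← exp_add, ← exp_zero, exp_le_exp, nsmul_eq_mul, zsmul_eq_mul, mul_one]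
    exact le_of_eq (by simp; ring)
  have hresinf : ∀ c : Fin n → k,
      (∀ Q : Place k K', IsOver Q Pi → Q.1 (∑ i, algebraMap k K (c i) • u i) ≤ exp (-(ramIdx Q Pi : ℤ))) → c = 0 := by
    intro c hc
    by_contra hne
    obtain ⟨i₁, hi₁⟩ : ∃ i, c i ≠ 0 := by
      by_contra h
      push Not at h
      exact hne (funext h)
    obtain ⟨i₀, hi₀, hmax⟩ := (Finset.univ.filter fun i => c i ≠ 0).exists_max_image id ⟨i₁, by simp [hi₁]⟩
    rw [Finset.mem_filter] at hi₀
    have heq : ∑ i, (algebraMap k K (c i) * x ^ (mw i₀ - mw i)) • w i =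
        x ^ mw i₀ • ∑ i, algebraMap k K (c i) • u i := by
      rw [Finset.smul_sum]
      refine Finset.sum_congr rfl fun i _ => ?_
      simp only [u, smul_smul]
      congr 1
      rw [sub_eq_add_neg, zpow_add₀ hx0]; ring
    refine hkey (fun i => algebraMap k K (c i) * x ^ (mw i₀ - mw i)) i₀
      (mul_ne_zero ((map_ne_zero _).2 hi₀.2) (zpow_ne_zero _ hx0)) (fun i hi => ?_)
      ((hmem _ _).2 ⟨fun R hR Q hQ => ?_, fun Q hQ => ?_⟩)
    · have : c i = 0 := by_contra fun h => not_lt.2 (hmax i (Finset.mem_filter.2 ⟨Finset.mem_univ _, h⟩)) hi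
      simp [this]
    · refine Q.1.map_sum_le fun i _ => ?_
      rw [hQval hQ]
      by_cases h : c i = 0
      · simp [h, (isOverWith_pos (isOverWith_ramIdx hQ)).ne']
      refine mul_le_one' (pow_le_one₀ zero_le ?_) (hfin i R hR Q hQ)
      have hle := hmono i i₀ (hmax i (Finset.mem_filter.2 ⟨Finset.mem_univ _, h⟩))
      obtain ⟨j, hj⟩ := Int.eq_ofNat_of_zero_le (sub_nonneg.2 hle)
      rw [map_mul, hj, zpow_natCast, map_pow]
      exact mul_le_one' (R.2.1 _) (pow_le_one₀ zero_le (hPi' R hR))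
    · rw [heq, hQval hQ, map_zpow₀, hPix, ← exp_zsmul, ← exp_nsmul]
      refine (mul_le_mul' le_rfl (hc Q hQ)).trans ?_
      rw [← exp_add, exp_le_exp, nsmul_eq_mul, zsmul_eq_mul, mul_one]
      exact le_of_eq (by simp; ring)
  obtain ⟨hli, hlocinf, -⟩ := localBasis_criterion hK Pi u huint hresinf
  let bu : Module.Basis (Fin n) K K' := basisOfLinearIndependentOfCardEqFinrank' u hli (Fintype.card_fin _)
  have hbu : ⇑bu = u := by simp [bu]
  obtain ⟨hliw, -, -⟩ : LinearIndependent K wF ∧ True ∧ True := by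
    refine ⟨Fintype.linearIndependent_iff.2 fun a ha i => ?_, trivial, trivial⟩
    have h0 : ∑ i, (a i * x ^ mw i) • u i = 0 := by
      rw [← ha]
      refine Finset.sum_congr rfl fun i _ => ?_
      simp only [u, smul_smul, mul_assoc, ← zpow_add₀ hx0, add_neg_cancel, zpow_zero, mul_one]
      rfl
    exact (mul_eq_zero.1 (Fintype.linearIndependent_iff.1 hli _ h0 i)).resolve_right (zpow_ne_zero _ hx0)
  let bw : Module.Basis (Fin n) K K' := basisOfLinearIndependentOfCardEqFinrank' wF hliw (Fintype.card_fin _)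
  have hbw : ⇑bw = wF := by simp [bw]
  have hlocfin : ∀ P : Place k K, P ≠ Pi → IsLocalBasis P wF := fun P hP =>
    (localBasis_criterion hK P wF (fun i => hfin i P hP) (hresfin P hP)).2.1
  -- `∑ mw i = n + g - 1`
  have hg0 := (genus_eq_zero_of_adjoin_eq_top hK htop).1
  have hsum : ∑ i : Fin n, mw i = n + (genus k K' : ℤ) - 1 := by
    set M : ℤ := 2 * (genus k K' : ℤ) + ∑ i : Fin n, |mw i| with hM
    have hMi : ∀ i : Fin n, mw i ≤ M := fun i => by
      have h1 := Finset.single_le_sum (f := fun i : Fin n => |mw i|) (fun i _ => abs_nonneg _) (Finset.mem_univ i)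
      have h2 := le_abs_self (mw i)
      omega
    have hMg : 2 * (genus k K' : ℤ) ≤ M := by
      rw [hM]; have := Finset.sum_nonneg fun (i : Fin n) (_ : i ∈ Finset.univ) => abs_nonneg (mw i); omega
    let D' : Fin n → Divisor k K := fun i => Finsupp.single Pi (M - mw i)
    let T : (∀ i, L (D' i)) →ₗ[k] K' :=
      ((Fintype.linearCombination K wF).restrictScalars k) ∘ₗ
        LinearMap.pi fun i => (L (D' i)).subtype ∘ₗ LinearMap.proj i
    have hT : ∀ g, T g = ∑ i, ((g i : K) • wF i) := fun g => by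
      simp [T, Fintype.linearCombination_apply]
    have hTinj : Function.Injective T := fun g g' h => funext fun i => Subtype.ext <| by
      rw [hT, hT] at h
      exact sub_eq_zero.1 (Fintype.linearIndependent_iff.1 hliw (fun i => (g i : K) - (g' i : K))
        (by simp only [sub_smul, Finset.sum_sub_distrib, h, sub_self]) i)
    have hrange : LinearMap.range T = L (M • N) := by
      refine le_antisymm ?_ fun f hf => ?_
      · rintro _ ⟨g, rfl⟩
        rw [hT]
        refine sum_mem fun i _ => (hmem _ _).2 ⟨fun P hP Q hQ => ?_, fun Q hQ => ?_⟩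
        · rw [hQval hQ]
          refine mul_le_one' (pow_le_one₀ zero_le ?_) (hfin i P hP Q hQ)
          have := (g i).2 P
          rwa [Finsupp.single_eq_of_ne hP, exp_zero] at this
        · rw [hQval hQ]
          have h1 := (g i).2 Pi
          rw [Finsupp.single_eq_same] at h1
          refine (mul_le_mul' (pow_le_pow_left₀ zero_le h1 _) (hinf i Q hQ)).trans ?_
          rw [← exp_nsmul, ← exp_add, exp_le_exp, nsmul_eq_mul]
          exact le_of_eq (by ring)
      obtain ⟨hf1, hf2⟩ := (hmem _ _).1 hf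
      set a := fun i => bw.repr f i
      have hfa : f = ∑ i, a i • wF i := by conv_lhs => rw [← bw.sum_repr f, hbw]
      have haP : ∀ P : Place k K, P ≠ Pi → ∀ i, P.1 (a i) ≤ 1 := fun P hP =>
        (hlocfin P hP).2 a (hfa ▸ hf1 P hP)
      have haPi : ∀ i, Pi.1 (a i * x ^ (mw i - M)) ≤ 1 := hlocinf.2 (fun i => a i * x ^ (mw i - M)) fun Q hQ => by
        have : ∑ i, (a i * x ^ (mw i - M)) • u i = x ^ (-M) • f := by
          rw [hfa, Finset.smul_sum]
          refine Finset.sum_congr rfl fun i _ => ?_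
          simp only [u, smul_smul, wF]
          congr 1
          rw [mul_assoc, ← zpow_add₀ hx0, mul_comm]
          congr 2
          ring
        rw [this, hQval hQ, map_zpow₀, hPix, ← exp_zsmul, ← exp_nsmul]
        refine (mul_le_mul' le_rfl (hf2 Q hQ)).trans ?_
        rw [← exp_add, ← exp_zero, exp_le_exp, nsmul_eq_mul, zsmul_eq_mul, mul_one]
        exact le_of_eq (by simp; ring)
      refine ⟨fun i => ⟨a i, fun P => ?_⟩, by rw [hT]; exact hfa.symm⟩
      rcases eq_or_ne P Pi with rfl | hP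
      · rw [Finsupp.single_eq_same]
        rcases eq_or_ne (a i) 0 with h0 | h0
        · simp [h0]
        have h1 := haPi i
        rw [val_le_one_iff P (mul_ne_zero h0 (zpow_ne_zero _ hx0)), ord_mul P h0 (zpow_ne_zero _ hx0), ord_zpow,
          ord_eq_of_val P hPix] at h1
        rw [val_le_exp_iff P h0]
        omega
      · rw [Finsupp.single_eq_of_ne hP, exp_zero]; exact haP P hP i
    have hdim : (ell (M • N) : ℤ) = ∑ i : Fin n, (M - mw i + 1) := by
      have hfd : ∀ i, FiniteDimensional k (L (D' i)) := fun i => finiteDimensional_L hK _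
      rw [ell, ← hrange, LinearMap.finrank_range_of_inj hTinj, Module.finrank_pi_fintype, Nat.cast_sum]
      refine Finset.sum_congr rfl fun i _ => ?_
      have h1 : (D' i).deg = M - mw i := by rw [deg_single, hdegK]; simp
      have h2 := ell_eq_of_deg_ge hK (D := D' i) (by rw [hg0, h1]; have := hMi i; omega)
      rw [h1, hg0] at h2
      simpa [ell] using h2
    have hrr := ell_eq_of_deg_ge hK' (D := M • N) (by rw [deg_zsmul, hNdeg]; nlinarith)
    rw [hdim, deg_zsmul, hNdeg, Finset.sum_add_distrib, Finset.sum_sub_distrib] at hrr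
    simp at hrr
    linarith
  -- discriminants
  set δ := Algebra.discr K wF
  have hδ0 : δ ≠ 0 := by
    rw [show δ = Algebra.discr K bw by rw [hbw]]
    exact Algebra.discr_not_zero_of_basis K bw
  choose Qs hQs using fun P : Place k K =>
    (⟨(finite_isOver_and_sum (K' := K') hK P).1.toFinset, fun Q => Set.Finite.mem_toFinset _⟩ :
      ∃ S : Finset (Place k K'), ∀ Q, Q ∈ S ↔ IsOver Q P)
  have hfinP : ∀ P : Place k K, P ≠ Pi → ∑ Q ∈ Qs P, D Q = P.ord δ := fun P hP => by
    obtain ⟨-, c, hc⟩ := hfinite P hP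
    have h := ord_discr_local hK P hc hK' bw (by rw [hbw]; exact hlocfin P hP) π hπ H hH (Qs P) (hQs P)
    rw [hbw] at h
    rw [h]
    refine Finset.sum_congr rfl fun Q _ => ?_
    rw [hD, map_sub, ← IsScalarTower.algebraMap_apply]
    congr 1
    simp [LocRes.hasseD, PowerSeries.algebraMap_apply, PowerSeries.coeff_C]
  have hinfP : ∑ Q ∈ Qs Pi, D Q = Pi.ord δ + 2 * ∑ i : Fin n, mw i - 2 * n := by
    have ht : Pi.1 x⁻¹ = exp (-1) := by rw [map_inv₀, hPix, ← exp_neg]
    have h := ord_discr_local hK Pi ht hK' bu (by rw [hbu]; exact hlocinf) π hπ H hH (Qs Pi) (hQs Pi)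
    have hu : u = wF ᵥ* (Matrix.diagonal fun i : Fin n => x ^ (-mw i)).map (algebraMap K K') := by
      funext i
      rw [Matrix.diagonal_map (map_zero _), Matrix.vecMul_diagonal]
      simp only [u, wF, Algebra.smul_def, map_zpow₀, Function.comp_apply]
      ring
    rw [hbu, hu, Algebra.discr_of_matrix_vecMul, Matrix.det_diagonal,
      ord_mul Pi (pow_ne_zero _ (Finset.prod_ne_zero_iff.2 fun i _ => zpow_ne_zero _ hx0)) hδ0, ord_pow] at h
    have hprod : Pi.ord (∏ i : Fin n, x ^ (-mw i)) = ∑ i : Fin n, mw i := by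
      refine Finset.induction_on (motive := fun T : Finset (Fin n) => Pi.ord (∏ i ∈ T, x ^ (-mw i)) = ∑ i ∈ T, mw i)
        Finset.univ (by simp) fun a T ha ih => ?_
      rw [Finset.prod_insert ha, Finset.sum_insert ha, ord_mul Pi (zpow_ne_zero _ hx0)
        (Finset.prod_ne_zero_iff.2 fun i _ => zpow_ne_zero _ hx0), ord_zpow, ord_eq_of_val Pi hPix, ih]
      ring
    rw [hprod] at h
    have hterm : ∀ Q ∈ Qs Pi, Q.ord (LocRes.hasseD (H Q) 1 (algebraMap K K' x⁻¹)) =
        D Q + 2 * ((ramIdx Q Pi : ℤ) * Q.deg) := fun Q hQ => by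
      have hxQ0 : algebraMap K K' x ≠ 0 := (map_ne_zero _).2 hx0
      have hne := hne Q
      rw [map_inv₀, hasseD_inv (hH Q) hxQ0, hD, show Q.ord (-((algebraMap K K' x)⁻¹ * (algebraMap K K' x)⁻¹ *
          LocRes.hasseD (H Q) 1 (algebraMap K K' x))) = Q.ord ((algebraMap K K' x)⁻¹ * (algebraMap K K' x)⁻¹ *
          LocRes.hasseD (H Q) 1 (algebraMap K K' x)) by simp only [Place.ord, Valuation.map_neg],
        ord_mul Q (mul_ne_zero (inv_ne_zero hxQ0) (inv_ne_zero hxQ0)) hne,
        ord_mul Q (inv_ne_zero hxQ0) (inv_ne_zero hxQ0), ord_inv,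
        isOverWith_ord (isOverWith_ramIdx ((hQs Pi Q).1 hQ)) hx0, ord_eq_of_val Pi hPix, hdeg]
      push_cast; ring
    rw [Finset.sum_congr rfl hterm, Finset.sum_add_distrib, ← Finset.mul_sum] at h
    have hs := (finite_isOver_and_sum (K' := K') hK Pi).2 (Qs Pi) (hQs Pi)
    have hs' : ∑ Q ∈ Qs Pi, (ramIdx Q Pi : ℤ) * (Q.deg : ℤ) = n := by
      rw [hn]; rw [hdegK Pi, mul_one] at hs; exact_mod_cast hs
    rw [hs'] at h
    push_cast at h
    linarith
  -- summation
  let Ts : Finset (Place k K) := (D.support.image fun Q => below (K := K) Q) ∪ (div k δ).support ∪ {Pi}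
  have hDdeg : D.deg = ∑ P ∈ Ts, ∑ Q ∈ Qs P, D Q := by
    rw [← Finset.sum_biUnion fun P _ P' _ hne => Finset.disjoint_left.2 fun Q h1 h2 =>
      hne (eq_of_isOver ((hQs P Q).1 h1) ((hQs P' Q).1 h2)), Divisor.deg, Finsupp.sum]
    refine Eq.trans (Finset.sum_congr rfl fun Q _ => by rw [hdeg, Nat.cast_one, mul_one])
      (Finset.sum_subset (fun Q hQ => Finset.mem_biUnion.2 ⟨below (K := K) Q, ?_, (hQs _ Q).2 (isOver_below Q)⟩)
        fun Q _ hQ => Finsupp.notMem_support_iff.1 hQ)
    exact Finset.mem_union_left _ (Finset.mem_union_left _ (Finset.mem_image_of_mem _ hQ))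
  have hδdeg : ∑ P ∈ Ts, P.ord δ = 0 := by
    refine Eq.trans ?_ (deg_div hK δ)
    rw [Divisor.deg, Finsupp.sum]
    refine Eq.trans (Finset.sum_subset ?_ fun P _ hP => ?_).symm
      (Finset.sum_congr rfl fun P _ => by rw [hdegK, Nat.cast_one, mul_one, div_apply hK])
    · exact fun P hP => Finset.mem_union_left _ (Finset.mem_union_right _ hP)
    · rw [← div_apply hK]; exact Finsupp.notMem_support_iff.1 hP
  have hPiT : Pi ∈ Ts := Finset.mem_union_right _ (Finset.mem_singleton_self Pi)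
  rw [hDdeg, ← Finset.add_sum_erase _ _ hPiT, hinfP,
    Finset.sum_congr rfl fun P hP => hfinP P (Finset.ne_of_mem_erase hP)]
  rw [← Finset.add_sum_erase _ _ hPiT] at hδdeg
  rw [hsum]
  linarith

end Degree

/-- `deg (u ds) = 2g - 2`. -/
theorem deg_divDiff {k K : Type*} [Field k] [IsAlgClosed k] [Field K] [Algebra k K] (hK : IsFunctionField k K)
    {s : K} {H : K →ₐ[k] PowerSeries K} (hH : LocRes.IsHasseFamily s H) {u : K} (hu : u ≠ 0)
    {Φ : Place k K → (K →ₐ[k] LaurentSeries k)} (hΦ : ∀ P : Place k K, LocRes.IsExpansionAt P.1 (Φ P)) :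
    (divDiff Φ u s).deg = 2 * (genus k K : ℤ) - 2 := by
  have hg := isGeometric_of_isAlgClosed (k := k) (K := K)
  have hs := transcendental_of_hasse hK hH
  have hsep : IsSepVar k s := isSepVar_of_hasse hK hg hH
  have := finiteDimensional_adjoin hK hs
  obtain ⟨h0, htop⟩ := isFunctionField_adjoin hK hs
  choose π hπ using fun Q : Place k K => exists_val_eq Q (-1)
  choose Hf hHf using fun Q : Place k K => exists_hasse_param hK (hπ Q)
  have hne : ∀ Q, LocRes.hasseD (Hf Q) 1 s ≠ 0 := fun Q => hasseD_one_ne_zero hK hg hH (hHf Q)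
  have h1 : divDiff Φ u s = div k u + divDiff Φ 1 s := by
    ext P
    rw [Finsupp.add_apply, divDiff_apply hK hH hu hΦ, divDiff_apply hK hH one_ne_zero hΦ,
      ordDiff_eq hK (hπ P) (hHf P) (hΦ P), ordDiff_eq hK (hπ P) (hHf P) (hΦ P), ord_mul P hu (hne P),
      one_mul, div_apply hK]
  rw [h1, deg_add, deg_div hK, zero_add]
  exact sum_ord_hasseD h0 htop hK _ π hπ Hf hHf hne fun Q => by
    rw [divDiff_apply hK hH one_ne_zero hΦ, ordDiff_eq hK (hπ Q) (hHf Q) (hΦ Q), one_mul]; rfl

end Groth.Agent.FunFldLib
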