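import Groth.Agent.FunFld.Embedding
import Groth.Agent.FunFld.Rational
import Groth.Agent.FunFld.Over
import Groth.Agent.S11064

/-!
The tuple of a basis of `L D`: its divisor, and birationality for `deg D ≥ 2g + 1`.
-/

namespace Groth.Agent.FunFldLib

open FunFld WithZero

variable {k K : Type*} [Field k] [IsAlgClosed k] [Field K] [Algebra k K] (hK : IsFunctionField k K)
include hK

/-- A basis of `L D` as a map: it has divisor `D` when `D` has no base point. -/
theorem exists_basis_map {D : Divisor k K} {n : ℕ} (hn : ell D = n + 1)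
    (hD : 2 * (genus k K : ℤ) ≤ D.deg) :
    ∃ φ : Fin (n + 1) → K, LinearIndependent k φ ∧ Submodule.span k (Set.range φ) = L D ∧
      IsMapDiv φ D ∧ mapDiv k φ = D := by
  have := finiteDimensional_L hK D
  let b : Module.Basis (Fin (n + 1)) k (L D) := Module.finBasisOfFinrankEq k (L D) hn
  let φ : Fin (n + 1) → K := fun i => (b i : K)
  have hli : LinearIndependent k φ := b.linearIndependent.map' (L D).subtype (Submodule.ker_subtype _)
  have hspan : Submodule.span k (Set.range φ) = L D := by
    rw [show Set.range φ = (L D).subtype '' Set.range b by rw [← Set.range_comp]; rfl, ← Submodule.map_span,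
      b.span_eq, Submodule.map_top, Submodule.range_subtype]
  have hmap : IsMapDiv φ D := ⟨fun i => (b i).2, fun Q => by
    have hlt : ell (D - Finsupp.single Q 1) < ell D := by
      have h1 := ell_eq_of_deg_ge hK (D := D) (by omega)
      have hd : (D - Finsupp.single Q 1).deg = D.deg - 1 := by
        rw [deg_sub, deg_single, deg_eq_one hK Q]; simp
      have h2 := ell_eq_of_deg_ge hK (D := D - Finsupp.single Q 1) (by rw [hd]; omega)
      omega
    obtain ⟨f, hf, hf0, hford⟩ := exists_mem_L_ord_eq hK hlt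
    by_contra hno
    push Not at hno
    have hall : ∀ i, Q.1 (φ i) ≤ exp (D Q - 1) := fun i => by
      have h := lt_of_le_of_ne ((b i).2 Q) (hno i)
      rw [val_eq_exp Q (hli.ne_zero i), exp_lt_exp] at h
      rw [val_eq_exp Q (hli.ne_zero i), exp_le_exp]
      omega
    rw [← hspan] at hf
    obtain ⟨a, rfl⟩ := (Submodule.mem_span_range_iff_exists_fun k).1 hf
    have h2 : Q.1 (∑ i, a i • φ i) ≤ exp (D Q - 1) := Q.1.map_sum_le fun i _ => by
      rw [Algebra.smul_def, map_mul]; exact (mul_le_of_le_one_left' (Q.2.1 _)).trans (hall i)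
    rw [val_eq_exp Q hf0, hford, exp_le_exp] at h2
    omega⟩
  refine ⟨φ, hli, hspan, hmap, Finsupp.ext fun Q => ?_⟩
  obtain ⟨i, hi⟩ := hmap.2 Q
  rw [mapDiv_apply hK.1, neg_eq_iff_eq_neg]
  refine le_antisymm (Finset.inf'_le_of_le _ (Finset.mem_univ i) ?_) (Finset.le_inf' _ _ fun j _ => ?_)
  · rw [ord_eq_of_val Q hi]
  · have := (mem_L_iff (hli.ne_zero j)).1 ((b j).2) Q
    omega

theorem adjoin_ratios_eq_top {n : ℕ} {φ : Fin (n + 1) → K} {D : Divisor k K} (hli : LinearIndependent k φ)
    (hspan : Submodule.span k (Set.range φ) = L D) (hmap : IsMapDiv φ D)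
    (hD : 2 * (genus k K : ℤ) + 1 ≤ D.deg) :
    IntermediateField.adjoin k (Set.range fun i => φ i / φ 0) = ⊤ := by
  obtain ⟨P⟩ := exists_place hK
  refine S11064.result k K hK φ (hli.ne_zero 0) P (isNonsingularAt_of_sep hK hmap P fun Q => ?_)
  have hd : (D - Finsupp.single P 1).deg = D.deg - 1 := by rw [deg_sub, deg_single, deg_eq_one hK P]; simp
  have hlt : ell (D - Finsupp.single P 1 - Finsupp.single Q 1) < ell (D - Finsupp.single P 1) := by
    have hd2 : (D - Finsupp.single P 1 - Finsupp.single Q 1).deg = D.deg - 2 := by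
      rw [deg_sub, hd, deg_single, deg_eq_one hK Q]; simp; ring
    have h1 := ell_eq_of_deg_ge hK (D := D - Finsupp.single P 1) (by rw [hd]; omega)
    have h2 := ell_eq_of_deg_ge hK (D := D - Finsupp.single P 1 - Finsupp.single Q 1) (by rw [hd2]; omega)
    omega
  obtain ⟨f, hf, hf0, hford⟩ := exists_mem_L_ord_eq hK hlt
  refine ⟨f, ⟨?_, hf⟩, by rw [val_eq_exp Q hf0, hford, neg_neg]⟩
  rw [hspan]
  exact L_mono (sub_le_self _ (Finsupp.single_nonneg.2 zero_le_one)) hf

omit hK in
theorem eq_id_of_smul_eq {n : ℕ} {φ : Fin (n + 1) → K} (h0 : φ 0 ≠ 0)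
    (hbir : IntermediateField.adjoin k (Set.range fun i => φ i / φ 0) = ⊤) (τ : K →ₐ[k] K) {y : K}
    (hy : ∀ i, τ (φ i) = y * φ i) : τ = AlgHom.id k K := by
  refine AlgHom.ext fun z => ?_
  have hz : z ∈ IntermediateField.adjoin k (Set.range fun i => φ i / φ 0) := hbir ▸ IntermediateField.mem_top
  show τ z = z
  induction hz using IntermediateField.adjoin_induction with
  | mem z hz =>
    obtain ⟨i, rfl⟩ := hz
    have hy0 : y ≠ 0 := fun h => h0 ((map_eq_zero τ).1 (by rw [hy 0, h, zero_mul]))
    show τ (φ i / φ 0) = φ i / φ 0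
    rw [map_div₀, hy, hy, mul_div_mul_left _ _ hy0]
  | algebraMap c => exact τ.commutes c
  | add a b _ _ ha hb => rw [map_add, ha, hb]
  | inv a _ ha => rw [map_inv₀, ha]
  | mul a b _ _ ha hb => rw [map_mul, ha, hb]

end Groth.Agent.FunFldLib
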