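import Groth.Agent.FunFld.LocalHasse
import Groth.Agent.FunFld.Rational

/-!
The divisor of a differential read through expansions: local formula and finiteness.
-/

namespace Groth.Agent.FunFldLib

open FunFld WithZero LaurentSeries

variable {k K : Type*} [Field k] [IsAlgClosed k] [Field K] [Algebra k K]

omit [IsAlgClosed k] in
theorem val_D_of_val_eq {f : k⸨X⸩} (hf : Valued.v f = exp (-1)) : Valued.v (LocRes.D k f) = 1 := by
  have hle : Valued.v f ≤ exp (-((1 : ℕ) : ℤ)) := by rw [hf]; rfl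
  have hlow := (LaurentSeries.valuation_le_iff_coeff_lt_eq_zero k).1 hle
  have h1 : f.coeff 1 ≠ 0 := fun h => by
    have h2 : Valued.v f ≤ exp (-((2 : ℕ) : ℤ)) := (LaurentSeries.valuation_le_iff_coeff_lt_eq_zero k).2 fun n hn => by
      rcases lt_or_ge n 1 with h' | h'
      · exact hlow n (by exact_mod_cast h')
      · rw [show n = 1 by push_cast at hn; omega, h]
    rw [hf, exp_le_exp] at h2
    omega
  refine le_antisymm ?_ ?_
  · rw [← exp_zero, ← neg_zero, LaurentSeries.valuation_le_iff_coeff_lt_eq_zero]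
    intro n hn
    rw [LocRes.D_coeff]
    rcases lt_or_ge (n + 1) (1 : ℤ) with h' | h'
    · rw [hlow _ (by exact_mod_cast h'), smul_zero]
    · omega
  · by_contra hlt
    push Not at hlt
    have h2 : Valued.v (LocRes.D k f) ≤ exp (-((1 : ℕ) : ℤ)) := by
      rcases eq_or_ne (LocRes.D k f) 0 with h0 | h0
      · simp [h0]
      · rw [← exp_log ((Valuation.ne_zero_iff Valued.v).2 h0)] at hlt ⊢
        rw [← exp_zero, exp_lt_exp] at hlt
        rw [exp_le_exp]; omega
    have := (LaurentSeries.valuation_le_iff_coeff_lt_eq_zero k).1 h2 0 (by simp)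
    rw [LocRes.D_coeff] at this
    simp at this
    exact h1 this

theorem vDiff_eq (hK : IsFunctionField k K) {P : Place k K} {t : K} (ht : P.1 t = exp (-1))
    {Ht : K →ₐ[k] PowerSeries K} (hHt : LocRes.IsHasseFamily t Ht) {Φ : K →ₐ[k] k⸨X⸩}
    (hΦ : LocRes.IsExpansionAt P.1 Φ) (u s : K) :
    LocRes.vDiff Φ u s = P.1 (u * LocRes.hasseD Ht 1 s) := by
  rw [LocRes.vDiff, D_expansion (sepVar_param hK ht) hHt Φ s, ← mul_assoc, map_mul, map_mul, hΦ.1, hΦ.1,
    val_D_of_val_eq ((hΦ.1 t).trans ht), mul_one, ← map_mul]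

theorem ordDiff_eq (hK : IsFunctionField k K) {P : Place k K} {t : K} (ht : P.1 t = exp (-1))
    {Ht : K →ₐ[k] PowerSeries K} (hHt : LocRes.IsHasseFamily t Ht) {Φ : K →ₐ[k] k⸨X⸩}
    (hΦ : LocRes.IsExpansionAt P.1 Φ) (u s : K) :
    LocRes.ordDiff Φ u s = P.ord (u * LocRes.hasseD Ht 1 s) := by
  rw [LocRes.ordDiff, vDiff_eq hK ht hHt hΦ]; rfl

/-- Almost everywhere a separating variable minus its value is a local parameter. -/
theorem finite_hasseD_param (hK : IsFunctionField k K) {s : K} {H : K →ₐ[k] PowerSeries K}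
    (hH : LocRes.IsHasseFamily s H) :
    {P : Place k K | ¬ ∀ (t : K) (Ht : K →ₐ[k] PowerSeries K), P.1 t = exp (-1) → LocRes.IsHasseFamily t Ht →
      P.1 (LocRes.hasseD Ht 1 s) = 1}.Finite := by
  classical
  obtain ⟨P₀⟩ := exists_place hK
  set g := genus k K
  set D : Divisor k K := Finsupp.single P₀ (2 * (g : ℤ) + 1) with hD
  have := finiteDimensional_L hK D
  let b := Module.finBasis k ↥(L D)
  let S : Set (Place k K) := ({P₀} : Set (Place k K)) ∪ {P | ¬ P.1 s ≤ 1} ∪
    ⋃ i, {P | ¬ P.1 (LocRes.hasseD H 1 (b i : K)) ≤ 1}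
  have hS : S.Finite := ((Set.finite_singleton _).union (finite_not_integral hK s)).union
    (Set.finite_iUnion fun i => finite_not_integral hK _)
  refine hS.subset fun P hP => by_contra fun hPS => hP fun t Ht ht hHt => ?_
  simp only [S, Set.mem_union, Set.mem_singleton_iff, Set.mem_ofPred_eq, Set.mem_iUnion, not_or,
    not_exists, not_not] at hPS
  obtain ⟨⟨hP0, hs1⟩, hb⟩ := hPS
  obtain ⟨e⟩ := exists_paramExp hK ht
  refine le_antisymm (e.hasseD_le_one hK ht hHt hs1 1) ?_
  by_contra hlt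
  push Not at hlt
  -- an element of `L D` with a simple zero at `P`
  have hP1 := deg_eq_one hK P
  have hdeg : D.deg = 2 * (g : ℤ) + 1 := by rw [hD, deg_single, deg_eq_one hK P₀]; simp
  have hd1 : (D - Finsupp.single P 1).deg = 2 * (g : ℤ) := by rw [deg_sub, hdeg, deg_single, hP1]; simp
  have hd2 : (D - Finsupp.single P 1 - Finsupp.single P 1).deg = 2 * (g : ℤ) - 1 := by
    rw [deg_sub, hd1, deg_single, hP1]; simp
  have hl1 := ell_eq_of_deg_ge hK (D := D - Finsupp.single P 1) (by rw [hd1]; omega)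
  have hl2 := ell_eq_of_deg_ge hK (D := D - Finsupp.single P 1 - Finsupp.single P 1) (by rw [hd2])
  rw [hd1] at hl1
  rw [hd2] at hl2
  obtain ⟨f, hf, hf0, hford⟩ := exists_mem_L_ord_eq hK (P := P) (D := D - Finsupp.single P 1) (by omega)
  rw [Finsupp.sub_apply, hD, Finsupp.single_eq_of_ne (Ne.symm (by simpa using hP0) |>.symm), Finsupp.single_eq_same] at hford
  have hfD : f ∈ L D := L_mono (sub_le_self D (Finsupp.single_nonneg.2 zero_le_one)) hf
  have hfv : P.1 f = exp (-((1 : ℕ) : ℤ)) := by rw [val_eq_exp P hf0, hford]; rfl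
  -- its derivative vanishes at `P`
  have hDs : P.1 (LocRes.hasseD H 1 f) ≤ 1 := by
    have hrep := b.sum_repr (⟨f, hfD⟩ : ↥(L D))
    have h2 : f = ∑ i, b.repr ⟨f, hfD⟩ i • (b i : K) := by
      have := congrArg Subtype.val hrep
      rw [Submodule.coe_sum] at this
      exact this.symm
    rw [h2]
    simp only [LocRes.hasseD, map_sum]
    refine P.1.map_sum_le fun i _ => ?_
    have hlin : PowerSeries.coeff 1 (H (b.repr ⟨f, hfD⟩ i • (b i : K))) =
        algebraMap k K (b.repr ⟨f, hfD⟩ i) * PowerSeries.coeff 1 (H (b i : K)) := by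
      simp [Algebra.smul_def, PowerSeries.algebraMap_apply]
    rw [hlin, map_mul]
    exact mul_le_one' (P.2.1 _) (hb i)
  have hD1 : e.φ (LocRes.hasseD Ht 1 f) = e.φ (LocRes.hasseD H 1 f) * e.φ (LocRes.hasseD Ht 1 s) := by
    have h1 := D_expansion (sepVar_param hK ht) hHt e.φ f
    have h2 := D_expansion (isSepVar_of_hasse hK isGeometric_of_isAlgClosed hH) hH e.φ f
    rw [D_expansion (sepVar_param hK ht) hHt e.φ s] at h2
    have hne : LocRes.D k (e.φ t) ≠ 0 := fun h0 => by
      have := val_D_of_val_eq ((e.isExp.1 t).trans ht)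
      rw [h0, map_zero] at this
      exact zero_ne_one this
    exact mul_right_cancel₀ hne (by rw [← h1, h2]; ring)
  rw [← map_mul] at hD1
  have hcf := congrArg (fun z : k⸨X⸩ => z.coeff ((0 : ℕ) : ℤ)) hD1
  change e.cf 0 (LocRes.hasseD Ht 1 f) = e.cf 0 (_ * _) at hcf
  rw [e.cf_zero_mul hDs hlt.le, (e.lt_one_iff hlt.le).1 hlt, mul_zero,
    e.cf_hasseD hK ht hHt (by rw [hfv, ← exp_zero, exp_le_exp]; omega)] at hcf
  simp at hcf
  exact ((e.eq_exp_iff 1).1 hfv).2.2 hcf

/-- The divisor of `u ds` at a place. -/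
theorem divDiff_apply (hK : IsFunctionField k K) {s : K} {H : K →ₐ[k] PowerSeries K}
    (hH : LocRes.IsHasseFamily s H) {u : K} (hu : u ≠ 0) {Φ : Place k K → (K →ₐ[k] LaurentSeries k)}
    (hΦ : ∀ P : Place k K, LocRes.IsExpansionAt P.1 (Φ P)) (P : Place k K) :
    divDiff Φ u s P = LocRes.ordDiff (Φ P) u s := by
  have hfin : (Function.support fun Q : Place k K => LocRes.ordDiff (Φ Q) u s).Finite := by
    refine ((finite_hasseD_param hK hH).union (finite_support_ord hK u)).subset fun Q hQ => ?_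
    by_contra hn
    simp only [Set.mem_union, Set.mem_ofPred_eq, not_or, not_not, Function.mem_support] at hn
    obtain ⟨t, ht⟩ := exists_val_eq Q (-1)
    obtain ⟨Ht, hHt⟩ := exists_hasse_param hK ht
    refine hQ ?_
    show LocRes.ordDiff (Φ Q) u s = 0
    have h1 := hn.1 t Ht ht hHt
    have hne : LocRes.hasseD Ht 1 s ≠ 0 := fun h => by rw [h, map_zero] at h1; exact zero_ne_one h1
    rw [ordDiff_eq hK ht hHt (hΦ Q), ord_mul Q hu hne, hn.2, ord_eq_of_val Q (n := 0) (by rw [h1, exp_zero])]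
    rfl
  rw [divDiff, dif_pos hfin, Finsupp.ofSupportFinite_coe]

end Groth.Agent.FunFldLib
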