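import Groth.Agent.FunFld.LocalWr
import Groth.Agent.FunFld.DivDiff
import Groth.Agent.FunFld.Over

/-!
The Weierstrass divisor: coefficients and independence of the choices.
-/

namespace Groth.Agent.FunFldLib

open FunFld WithZero

variable {k K : Type*} [Field k] [IsAlgClosed k] [Field K] [Algebra k K]
  (hK : IsFunctionField k K) {n : ℕ} (τ : K →ₐ[k] K)
include hK

omit [IsAlgClosed k] in
theorem mapDiv_apply_ff' {φ : Fin (n + 1) → K} (P : Place k K) :
    mapDiv k φ P = -Finset.univ.inf' Finset.univ_nonempty fun i => P.ord (φ i) :=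
  mapDiv_apply hK.1 φ P

omit [IsAlgClosed k] in
theorem mapDiv_smul {φ : Fin (n + 1) → K} (hφ : ∀ i, φ i ≠ 0) {y : K} (hy : y ≠ 0) (P : Place k K) :
    mapDiv k (y • φ) P = mapDiv k φ P - P.ord y := by
  rw [mapDiv_apply hK.1, mapDiv_apply hK.1]
  have h : (Finset.univ.inf' Finset.univ_nonempty fun i => P.ord ((y • φ) i)) =
      P.ord y + Finset.univ.inf' Finset.univ_nonempty fun i => P.ord (φ i) := by
    rw [Finset.inf'_congr Finset.univ_nonempty rfl fun i _ => show P.ord ((y • φ) i) = P.ord y + P.ord (φ i) from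
      ord_mul P hy (hφ i)]
    exact (Finset.apply_inf'_eq_inf'_comp Finset.univ_nonempty (fun x => P.ord y + x)
      (fun a b => (min_add_add_left (P.ord y) a b).symm)).symm
  rw [h]; ring

omit [IsAlgClosed k] in
theorem mapDiv_eq_zero_of_unit {φ : Fin (n + 1) → K} {P : Place k K} (hint : ∀ i, P.1 (φ i) ≤ 1)
    (h1 : (1 : K) ∈ Submodule.span k (Set.range φ)) : mapDiv k φ P = 0 := by
  rw [mapDiv_apply hK.1, neg_eq_zero]
  refine le_antisymm ?_ (Finset.le_inf' _ _ fun i _ => ?_)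
  · by_contra hlt
    push Not at hlt
    obtain ⟨a, ha⟩ := (Submodule.mem_span_range_iff_exists_fun k).1 h1
    have hall : ∀ i, P.1 (φ i) ≤ exp (-1) := fun i => by
      rcases eq_or_ne (φ i) 0 with h | h
      · simp [h]
      rw [val_le_exp_iff P h]
      have := hlt.trans_le (Finset.inf'_le (fun i => P.ord (φ i)) (Finset.mem_univ i))
      omega
    have h2 : P.1 (1 : K) ≤ exp (-1) := ha ▸ P.1.map_sum_le fun i _ => by
      rw [Algebra.smul_def, map_mul]; exact (mul_le_of_le_one_left' (P.2.1 _)).trans (hall i)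
    rw [map_one, ← exp_zero, exp_le_exp] at h2
    omega
  · rcases eq_or_ne (φ i) 0 with h | h
    · simp [h]
    exact (val_le_one_iff P h).1 (hint i)

theorem wDiv_apply {φ : Fin (n + 1) → K} (J : Fin n → ℕ) {s : K} {H : K →ₐ[k] PowerSeries K}
    (hH : LocRes.IsHasseFamily s H) {Φ : Place k K → (K →ₐ[k] LaurentSeries k)}
    (hΦ : ∀ P : Place k K, LocRes.IsExpansionAt P.1 (Φ P)) (P : Place k K) {t : K} (ht : P.1 t = exp (-1))
    {Ht : K →ₐ[k] PowerSeries K} (hHt : LocRes.IsHasseFamily t Ht) :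
    wDiv τ H Φ s φ J P = P.ord (wrMat τ H φ J).det + mapDiv k (τ ∘ φ) P + n * mapDiv k φ P +
      (∑ l, (J l : ℤ)) * P.ord (LocRes.hasseD Ht 1 s) := by
  rw [wDiv, Finsupp.add_apply, Finsupp.add_apply, Finsupp.add_apply, Finsupp.smul_apply, Finsupp.smul_apply,
    div_apply hK, divDiff_apply hK hH one_ne_zero hΦ, ordDiff_eq hK ht hHt (hΦ P), one_mul, smul_eq_mul,
    smul_eq_mul]

/-- Independence of the separating variable. -/
theorem wDiv_change {φ : Fin (n + 1) → K} (hφ : LinearIndependent k φ) {J : Fin n → ℕ}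
    {s : K} {Hs : K →ₐ[k] PowerSeries K} (hHs : LocRes.IsHasseFamily s Hs)
    {t : K} {Ht : K →ₐ[k] PowerSeries K} (hHt : LocRes.IsHasseFamily t Ht)
    (hJ : IsOrders K (hcol τ Hs φ) J) {Φ : Place k K → (K →ₐ[k] LaurentSeries k)}
    (hΦ : ∀ P : Place k K, LocRes.IsExpansionAt P.1 (Φ P)) :
    wDiv τ Ht Φ t φ J = wDiv τ Hs Φ s φ J := by
  have hg := isGeometric_of_isAlgClosed (k := k) (K := K)
  ext P
  obtain ⟨u, hu⟩ := exists_val_eq P (-1)
  obtain ⟨Hu, hHu⟩ := exists_hasse_param hK hu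
  have hc := hasseD_one_ne_zero hK hg hHs hHt
  have hct := hasseD_one_ne_zero hK hg hHt hHu
  obtain ⟨e⟩ := exists_paramExp hK hu
  have hmul : LocRes.hasseD Hu 1 s = LocRes.hasseD Ht 1 s * LocRes.hasseD Hu 1 t := by
    refine e.φ.toRingHom.injective ?_
    have hne : LocRes.D k (e.φ u) ≠ 0 := fun h0 => by
      have := val_D_of_val_eq ((e.isExp.1 u).trans hu)
      rw [h0, map_zero] at this
      exact zero_ne_one this
    have h1 := D_expansion (sepVar_param hK hu) hHu e.φ s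
    have h2 := D_expansion (isSepVar_of_hasse hK hg hHt) hHt e.φ s
    rw [D_expansion (sepVar_param hK hu) hHu e.φ t, ← mul_assoc, ← map_mul] at h2
    exact mul_right_cancel₀ hne (h1.symm.trans h2)
  rw [wDiv_apply hK τ J hHt hΦ P hu hHu, wDiv_apply hK τ J hHs hΦ P hu hHu, det_change τ hK hg hHs hHt hφ hJ,
    ord_mul P (pow_ne_zero _ hc) (det_orders_ne_zero τ hφ hJ), ord_pow, hmul,
    ord_mul P hc hct]
  push_cast
  ring

/-- Invariance under scaling. -/
theorem wDiv_smul {φ : Fin (n + 1) → K} (hφ : LinearIndependent k φ) {J : Fin n → ℕ}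
    {s : K} {H : K →ₐ[k] PowerSeries K} (hH : LocRes.IsHasseFamily s H) (hJ : IsOrders K (hcol τ H φ) J)
    {Φ : Place k K → (K →ₐ[k] LaurentSeries k)} (hΦ : ∀ P : Place k K, LocRes.IsExpansionAt P.1 (Φ P))
    {y : K} (hy : y ≠ 0) : wDiv τ H Φ s (y • φ) J = wDiv τ H Φ s φ J := by
  ext P
  obtain ⟨u, hu⟩ := exists_val_eq P (-1)
  obtain ⟨Hu, hHu⟩ := exists_hasse_param hK hu
  have hτy : τ y ≠ 0 := (map_ne_zero τ).2 hy
  have hcomp : (τ ∘ (y • φ)) = τ y • (τ ∘ φ) := funext fun i => map_mul τ y (φ i)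
  rw [wDiv_apply hK τ J hH hΦ P hu hHu, wDiv_apply hK τ J hH hΦ P hu hHu, det_smul τ hH hφ y hJ, hcomp,
    mapDiv_smul hK hφ.ne_zero hy, mapDiv_smul hK (φ := τ ∘ φ) (fun i => (map_ne_zero τ).2 (hφ.ne_zero i)) hτy,
    ord_mul P (mul_ne_zero hτy (pow_ne_zero _ hy)) (det_orders_ne_zero τ hφ hJ),
    ord_mul P hτy (pow_ne_zero _ hy), ord_pow]
  ring

/-- Invariance under a change of coordinates. -/
theorem wDiv_linear {φ φ' : Fin (n + 1) → K} (hφ : LinearIndependent k φ) {J : Fin n → ℕ}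
    {s : K} {H : K →ₐ[k] PowerSeries K} (hH : LocRes.IsHasseFamily s H) (hJ : IsOrders K (hcol τ H φ) J)
    {Φ : Place k K → (K →ₐ[k] LaurentSeries k)} (hΦ : ∀ P : Place k K, LocRes.IsExpansionAt P.1 (Φ P))
    {A : Matrix (Fin (n + 1)) (Fin (n + 1)) k} (hA : A.det ≠ 0) (hφ' : ∀ i, φ' i = ∑ j, A i j • φ j) :
    wDiv τ H Φ s φ' J = wDiv τ H Φ s φ J := by
  classical
  -- both tuples span the same space
  have hB : ∀ j, φ j = ∑ i, A⁻¹ j i • φ' i := fun j => by
    simp only [hφ', Finset.smul_sum, smul_smul]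
    rw [Finset.sum_comm]
    simp only [← Finset.sum_smul]
    have h1 : A⁻¹ * A = 1 := Matrix.nonsing_inv_mul A (isUnit_iff_ne_zero.2 hA)
    have h2 : ∀ q, ∑ i, A⁻¹ j i * A i q = if j = q then 1 else 0 := fun q => by
      rw [← Matrix.mul_apply, h1, Matrix.one_apply]
    simp [h2]
  have hφ'li : LinearIndependent k φ' := by
    rw [linearIndependent_iff_card_eq_finrank_span]
    rw [show Set.finrank k (Set.range φ') = Set.finrank k (Set.range φ) from ?_]
    · exact (linearIndependent_iff_card_eq_finrank_span.1 hφ)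
    unfold Set.finrank
    suffices h : Submodule.span k (Set.range φ') = Submodule.span k (Set.range φ) by rw [h]
    refine le_antisymm (Submodule.span_le.2 ?_) (Submodule.span_le.2 ?_) <;> rintro _ ⟨i, rfl⟩
    · rw [hφ']; exact Submodule.sum_mem _ fun q _ => Submodule.smul_mem _ _ (Submodule.subset_span ⟨q, rfl⟩)
    · rw [hB]; exact Submodule.sum_mem _ fun q _ => Submodule.smul_mem _ _ (Submodule.subset_span ⟨q, rfl⟩)
  -- the least order is the same on both tuples
  have hmap : ∀ {ψ ψ' : Fin (n + 1) → K} (B : Matrix (Fin (n + 1)) (Fin (n + 1)) k) (_ : ∀ i, ψ i ≠ 0)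
      (_ : ∀ i, ψ' i ≠ 0) (_ : ∀ i, ψ' i = ∑ j, B i j • ψ j) (P : Place k K),
      mapDiv k ψ' P ≤ mapDiv k ψ P := fun {ψ ψ'} B hψ0 hψ'0 hψ' P => by
    rw [mapDiv_apply hK.1, mapDiv_apply hK.1, neg_le_neg_iff]
    refine Finset.le_inf' _ _ fun i _ => ?_
    set m := Finset.univ.inf' Finset.univ_nonempty fun i => P.ord (ψ i)
    have : P.1 (ψ' i) ≤ exp (-m) := hψ' i ▸ P.1.map_sum_le fun j _ => by
      rw [Algebra.smul_def, map_mul]
      refine (mul_le_of_le_one_left' (P.2.1 _)).trans ?_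
      rw [val_le_exp_iff P (hψ0 j)]
      simpa [m] using Finset.inf'_le (fun i => P.ord (ψ i)) (Finset.mem_univ j)
    rw [val_le_exp_iff P (hψ'0 i)] at this
    omega
  ext P
  obtain ⟨u, hu⟩ := exists_val_eq P (-1)
  obtain ⟨Hu, hHu⟩ := exists_hasse_param hK hu
  have e1 : mapDiv k φ' P = mapDiv k φ P :=
    le_antisymm (hmap A hφ.ne_zero hφ'li.ne_zero hφ' P) (hmap A⁻¹ hφ'li.ne_zero hφ.ne_zero hB P)
  have hne : ∀ {ψ : Fin (n + 1) → K}, LinearIndependent k ψ → ∀ i, (τ ∘ ψ) i ≠ 0 :=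
    fun {ψ} h i => (map_ne_zero τ).2 (h.ne_zero i)
  have e2 : mapDiv k (τ ∘ φ') P = mapDiv k (τ ∘ φ) P :=
    le_antisymm (hmap A (hne hφ) (hne hφ'li) (fun i => by simp [hφ', map_sum]) P)
      (hmap A⁻¹ (hne hφ'li) (hne hφ) (fun i => by simp only [Function.comp_apply]; rw [hB i, map_sum]; simp) P)
  rw [wDiv_apply hK τ J hH hΦ P hu hHu, wDiv_apply hK τ J hH hΦ P hu hHu, det_linear τ H φ φ' A hφ' J, e1, e2,
    ord_mul P (by simpa using hA) (det_orders_ne_zero τ hφ hJ),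
    ord_eq_of_val P (n := 0) (by rw [val_algebraMap P hA, exp_zero])]
  ring

/-- At a fixed point where the tuple is normalised the coefficient is the order of the Wronskian. -/
theorem wDiv_apply_normalized {φ : Fin (n + 1) → K} (J : Fin n → ℕ) {P : Place k K} (hP : IsFixedPt τ P)
    (hint : ∀ i, P.1 (φ i) ≤ 1) (heff : (1 : K) ∈ Submodule.span k (Set.range φ)) {t : K} (ht : P.1 t = exp (-1))
    {Ht : K →ₐ[k] PowerSeries K} (hHt : LocRes.IsHasseFamily t Ht) {Φ : Place k K → (K →ₐ[k] LaurentSeries k)}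
    (hΦ : ∀ P : Place k K, LocRes.IsExpansionAt P.1 (Φ P)) :
    wDiv τ Ht Φ t φ J P = P.ord (wrMat τ Ht φ J).det := by
  obtain ⟨e⟩ := exists_paramExp hK ht
  have h1 : mapDiv k φ P = 0 := mapDiv_eq_zero_of_unit hK hint heff
  have h2 : mapDiv k (τ ∘ φ) P = 0 := by
    refine mapDiv_eq_zero_of_unit hK (fun i => val_map_le e τ hP (hint i)) ?_
    have := Submodule.mem_map_of_mem (f := τ.toLinearMap) heff
    rwa [Submodule.map_span, ← Set.range_comp, show τ.toLinearMap (1 : K) = 1 from map_one τ] at this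
  rw [wDiv_apply hK τ J hHt hΦ P ht hHt, h1, h2, hasseD_one_self hHt, ord_one]
  ring

end Groth.Agent.FunFldLib

namespace Groth.Agent.FunFldLib

open FunFld

theorem val_det_le_one' {k K : Type*} [Field k] [Field K] [Algebra k K] (P : Place k K) {n : Type*} [Fintype n]
    [DecidableEq n] (M : Matrix n n K) (h : ∀ i j, P.1 (M i j) ≤ 1) : P.1 M.det ≤ 1 := by
  let M' : Matrix n n P.O := Matrix.of fun i j => ⟨M i j, h i j⟩
  have : M.det = P.O.subtype M'.det := by rw [RingHom.map_det]; rfl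
  rw [this]
  exact M'.det.2

end Groth.Agent.FunFldLib
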