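import Groth.Agent.FunFld.Classical
import Groth.Agent.FunFld.VeryAmple
import Groth.Agent.S12608

/-!
The canonical map: gaps, weights, hyperelliptic points, fixed points of automorphisms.
-/

namespace Groth.Agent.FunFldLib

open FunFld WithZero

variable {k K : Type*} [Field k] [IsAlgClosed k] [Field K] [Algebra k K] (hK : IsFunctionField k K)
include hK

theorem genus_pos_of_tuple {C : Divisor k K} (hC : IsCanonical k K C) {n : ℕ} {φ : Fin (n + 1) → K}
    (hφ : LinearIndependent k φ) (hspan : Submodule.span k (Set.range φ) = L C) : genus k K = n + 1 := by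
  have h := (canonical_ell_deg hK hC).1
  rw [ell, ← hspan, finrank_span_eq_card hφ, Fintype.card_fin] at h
  exact_mod_cast h.symm

theorem ell_canonical_sub_single {C : Divisor k K} (hC : IsCanonical k K C) (hg : 0 < genus k K) (P : Place k K) :
    ell (C - Finsupp.single P 1) + 1 = genus k K := by
  have h := riemann_roch hK hC (Finsupp.single P 1)
  rw [deg_single, deg_eq_one hK P, ell_single_eq_one hK hg (deg_eq_one hK P)] at h
  simp at h
  omega

/-- The canonical map has no base point. -/
theorem mapDiv_canonical {C : Divisor k K} (hC : IsCanonical k K C) {n : ℕ} {φ : Fin (n + 1) → K}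
    (hφ : LinearIndependent k φ) (hspan : Submodule.span k (Set.range φ) = L C) : mapDiv k φ = C := by
  have hg := genus_pos_of_tuple hK hC hφ hspan
  ext P
  have hmem : ∀ i, φ i ∈ L C := fun i => hspan ▸ Submodule.subset_span ⟨i, rfl⟩
  rw [mapDiv_apply hK.1, neg_eq_iff_eq_neg]
  refine le_antisymm ?_ (Finset.le_inf' _ _ fun j _ => by
    have := (mem_L_iff (hφ.ne_zero j)).1 (hmem j) P; omega)
  by_contra hlt
  push Not at hlt
  have hall : L C ≤ L (C - Finsupp.single P 1) := by
    rw [← hspan, Submodule.span_le]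
    rintro _ ⟨i, rfl⟩
    refine (mem_L_iff (hφ.ne_zero i)).2 fun Q => ?_
    rw [Finsupp.sub_apply]
    rcases eq_or_ne Q P with rfl | hQ
    · have := hlt.trans_le (Finset.inf'_le (fun i => Q.ord (φ i)) (Finset.mem_univ i))
      rw [Finsupp.single_eq_same]; omega
    · rw [Finsupp.single_eq_of_ne hQ, sub_zero]; exact (mem_L_iff (hφ.ne_zero i)).1 (hmem i) Q
  have := finiteDimensional_L hK (C - Finsupp.single P 1)
  have h1 : ell C ≤ ell (C - Finsupp.single P 1) := Submodule.finrank_mono hall
  have h2 := (canonical_ell_deg hK hC).1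
  have h3 := ell_canonical_sub_single hK hC (by omega) P
  omega

/-- The canonical tuple normalised at `P` spans `L E`, `E = C + div y⁻¹`, and `E P = 0`. -/
theorem canonical_normalized {C : Divisor k K} (hC : IsCanonical k K C) {n : ℕ} {φ : Fin (n + 1) → K}
    (hφ : LinearIndependent k φ) (hspan : Submodule.span k (Set.range φ) = L C) {P : Place k K} {y : K}
    (hy : y ≠ 0) (heff : (1 : K) ∈ Submodule.span k (Set.range (y • φ))) (hint : ∀ i, P.1 ((y • φ) i) ≤ 1) :
    Submodule.span k (Set.range (y • φ)) = L (C + div k y⁻¹) ∧ (C + div k y⁻¹) P = 0 ∧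
      ∀ D : Divisor k K, ell (C + div k y⁻¹ - D) = ell (C - D) := by
  refine ⟨?_, ?_, fun D => ?_⟩
  · ext f
    rw [← mul_mem_L_iff hK C f (inv_ne_zero hy), ← hspan, Submodule.mem_span_range_iff_exists_fun,
      Submodule.mem_span_range_iff_exists_fun]
    refine exists_congr fun a => ?_
    have h2 : ∑ i, a i • (y • φ) i = y * ∑ i, a i • φ i := by
      rw [Finset.mul_sum]; exact Finset.sum_congr rfl fun i _ => (mul_smul_comm _ _ _).symm
    rw [h2]
    exact ⟨fun h => by rw [← h, inv_mul_cancel_left₀ hy], fun h => by rw [h, mul_inv_cancel_left₀ hy]⟩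
  · rw [Finsupp.add_apply, div_apply hK, ← mapDiv_canonical hK hC hφ hspan, ord_inv, ← sub_eq_add_neg,
      ← mapDiv_smul hK hφ.ne_zero hy P, mapDiv_eq_zero_of_unit hK hint heff]
  · rw [show C + div k y⁻¹ - D = (C - D) + div k y⁻¹ by abel, ell_add_div hK _ (inv_ne_zero hy)]

section Orders

variable {C : Divisor k K} (hC : IsCanonical k K C) {n : ℕ} {φ : Fin (n + 1) → K} (hφ : LinearIndependent k φ)
  (hspan : Submodule.span k (Set.range φ) = L C) {P : Place k K} {y : K} (hy : y ≠ 0)
  (heff : (1 : K) ∈ Submodule.span k (Set.range (y • φ))) (hint : ∀ i, P.1 ((y • φ) i) ≤ 1)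
include hC hφ hspan hy heff hint

/-- `j` is an exact order iff `j + 1` is a gap. -/
theorem exists_order_iff (j : ℕ) :
    (∃ f ∈ Submodule.span k (Set.range (y • φ)), P.1 f = exp (-(j : ℤ))) ↔
      L (Finsupp.single P ((j : ℤ) + 1)) = L (Finsupp.single P (j : ℤ)) := by
  obtain ⟨hE, hEP, hEell⟩ := canonical_normalized hK hC hφ hspan hy heff hint
  set E := C + div k y⁻¹
  rw [hE]
  have hd := deg_eq_one hK P
  have hs : Finsupp.single P (j : ℤ) + Finsupp.single P 1 = Finsupp.single P ((j : ℤ) + 1) :=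
    (Finsupp.single_add _ _ _).symm
  have hsub : E - Finsupp.single P (j : ℤ) - Finsupp.single P 1 = E - Finsupp.single P ((j : ℤ) + 1) := by
    rw [sub_sub, hs]
  have h1 := riemann_roch hK hC (Finsupp.single P ((j : ℤ) + 1))
  have h2 := riemann_roch hK hC (Finsupp.single P (j : ℤ))
  rw [deg_single, hd, ← hEell] at h1 h2
  simp only [Nat.cast_one, mul_one] at h1 h2
  have hstep := ell_le_add_deg hK (E - Finsupp.single P (j : ℤ)) P
  rw [hd, hsub] at hstep
  have hle := ell_mono hK (D₁ := Finsupp.single P (j : ℤ)) (D₂ := Finsupp.single P ((j : ℤ) + 1))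
    (Finsupp.single_mono (by omega))
  constructor
  · rintro ⟨f, hf, hv⟩
    have := finiteDimensional_L hK (Finsupp.single P ((j : ℤ) + 1))
    have := finiteDimensional_L hK (E - Finsupp.single P (j : ℤ))
    refine (Submodule.eq_of_le_of_finrank_le (L_mono (Finsupp.single_mono (by omega))) ?_).symm
    have hf0 := ne_zero_of_val P hv
    have hlt : L (E - Finsupp.single P ((j : ℤ) + 1)) < L (E - Finsupp.single P (j : ℤ)) := by
      refine lt_of_le_of_ne (hsub ▸ L_mono (sub_le_self _ (Finsupp.single_nonneg.2 zero_le_one))) fun he => ?_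
      have hmem : f ∈ L (E - Finsupp.single P (j : ℤ)) := (mem_L_iff hf0).2 fun Q => by
        rw [Finsupp.sub_apply]
        rcases eq_or_ne Q P with rfl | hQ
        · rw [Finsupp.single_eq_same, hEP, ord_eq_of_val Q hv]; omega
        · rw [Finsupp.single_eq_of_ne hQ, sub_zero]; exact (mem_L_iff hf0).1 hf Q
      rw [← he] at hmem
      have := (mem_L_iff hf0).1 hmem P
      rw [Finsupp.sub_apply, Finsupp.single_eq_same, hEP, ord_eq_of_val P hv] at this
      omega
    have := Submodule.finrank_lt_finrank_of_lt hlt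
    simp only [ell] at *
    omega
  · intro he
    have heq : ell (Finsupp.single P ((j : ℤ) + 1)) = ell (Finsupp.single P (j : ℤ)) := by rw [ell, he]; rfl
    obtain ⟨f, hf, hf0, hord⟩ := exists_mem_L_ord_eq hK (D := E - Finsupp.single P (j : ℤ)) (P := P)
      (by rw [hsub]; omega)
    refine ⟨f, L_mono (sub_le_self _ (Finsupp.single_nonneg.2 (Int.natCast_nonneg j))) hf, ?_⟩
    rw [val_eq_exp P hf0, hord, Finsupp.sub_apply, Finsupp.single_eq_same, hEP]
    congr 1; omega

variable {t : K} (ht : P.1 t = exp (-1)) {Ht : K →ₐ[k] PowerSeries K} (hHt : LocRes.IsHasseFamily t Ht)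
  {J' : Fin n → ℕ} (hJ' : IsOrders (IsLocalRing.ResidueField P.O) (hcolAt P Ht (y • φ)) J')
include ht hHt hJ'

/-- `ℓ(jP) ≥ j - l` for `j = J'_l`. -/
theorem le_ell_order (l : Fin n) : (J' l : ℤ) - l ≤ ell (Finsupp.single P (J' l : ℤ)) := by
  obtain ⟨hE, hEP, hEell⟩ := canonical_normalized hK hC hφ hspan hy heff hint
  set E := C + div k y⁻¹
  obtain ⟨e⟩ := exists_paramExp hK ht
  have hli : LinearIndependent k (y • φ) :=
    hφ.map' (LinearMap.mulLeft k y) (LinearMap.ker_eq_bot.2 (mul_right_injective₀ hy))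
  obtain ⟨A, ψ, -, -, -, hψ, hψspan⟩ := exists_adapted_matrix e hK ht hHt hint hli heff hJ'
  have hψli : LinearIndependent k ψ := by
    rw [linearIndependent_iff_card_eq_finrank_span, Set.finrank, hψspan, finrank_span_eq_card hli]
  have := finiteDimensional_L hK (E - Finsupp.single P (J' l : ℤ))
  let f : {r // r ∈ Finset.Ici l} → L (E - Finsupp.single P (J' l : ℤ)) := fun r => ⟨ψ r.1.succ, by
    have hv := (hψ r.1).1
    have h0 := ne_zero_of_val P hv
    have hmem : ψ r.1.succ ∈ L E := hE ▸ hψspan ▸ Submodule.subset_span ⟨_, rfl⟩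
    refine (mem_L_iff h0).2 fun Q => ?_
    rw [Finsupp.sub_apply]
    rcases eq_or_ne Q P with rfl | hQ
    · have := hJ'.1.monotone (Finset.mem_Ici.1 r.2)
      rw [Finsupp.single_eq_same, hEP, ord_eq_of_val Q hv]; omega
    · rw [Finsupp.single_eq_of_ne hQ, sub_zero]; exact (mem_L_iff h0).1 hmem Q⟩
  have hcard : Fintype.card {r // r ∈ Finset.Ici l} ≤ ell (E - Finsupp.single P (J' l : ℤ)) := by
    refine LinearIndependent.fintype_card_le_finrank (R := k) (b := f) (LinearIndependent.of_comp
      (L (E - Finsupp.single P (J' l : ℤ))).subtype ?_)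
    exact hψli.comp _ ((Fin.succ_injective n).comp Subtype.val_injective)
  rw [Fintype.card_coe, Fin.card_Ici, hEell] at hcard
  have h := riemann_roch hK hC (Finsupp.single P (J' l : ℤ))
  rw [deg_single, deg_eq_one hK P, genus_pos_of_tuple hK hC hφ hspan] at h
  have := l.2
  push_cast at h
  omega

/-- A non-gap up to `g` exists exactly when the orders are not `1, …, g - 1`. -/
theorem weierstrass_iff : (∀ l : Fin n, J' l = (l : ℕ) + 1) ↔ ell (Finsupp.single P ((n : ℤ) + 1)) = 1 := by
  obtain ⟨e⟩ := exists_paramExp hK ht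
  have hgap : ∀ j : ℕ, j ≠ 0 → (j ∈ Set.range J' ↔
      L (Finsupp.single P ((j : ℤ) + 1)) = L (Finsupp.single P (j : ℤ))) := fun j hj => by
    rw [← exists_order_iff hK hC hφ hspan hy heff hint, ← mem_orders_at_iff e hK ht hHt hint hJ' heff]
    simp [hj]
  have h1 : ell (Finsupp.single P 1 : Divisor k K) = 1 :=
    ell_single_eq_one hK (by rw [genus_pos_of_tuple hK hC hφ hspan]; omega) (deg_eq_one hK P)
  constructor
  · intro h
    have hall : ∀ j : ℕ, j ≤ n → ell (Finsupp.single P ((j : ℤ) + 1)) = 1 := fun j => by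
      induction j with
      | zero => intro _; simpa using h1
      | succ j ih =>
        intro hj
        have := (hgap (j + 1) (Nat.succ_ne_zero j)).1 ⟨⟨j, hj⟩, h ⟨j, hj⟩⟩
        rw [ell, this, Nat.cast_add, Nat.cast_one]
        exact ih (by omega)
    exact hall n le_rfl
  · intro h
    have hmem : ∀ j : ℕ, 0 < j → j ≤ n → j ∈ Set.range J' := fun j hj hjn => by
      refine (hgap j hj.ne').2 ?_
      have := finiteDimensional_L hK (Finsupp.single P ((j : ℤ) + 1))
      refine (Submodule.eq_of_le_of_finrank_le (L_mono (Finsupp.single_mono (by omega))) ?_).symm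
      have h2 := ell_mono hK (D₁ := Finsupp.single P ((j : ℤ) + 1)) (D₂ := Finsupp.single P ((n : ℤ) + 1))
        (Finsupp.single_mono (by omega))
      have h3 := ell_mono hK (D₁ := Finsupp.single P (1 : ℤ)) (D₂ := Finsupp.single P (j : ℤ))
        (Finsupp.single_mono (by omega))
      simp only [ell] at *
      omega
    have himg : Finset.univ.image J' = Finset.Icc 1 n := by
      refine (Finset.eq_of_subset_of_card_le (fun j hj => ?_) ?_).symm
      · obtain ⟨hj1, hj2⟩ := Finset.mem_Icc.1 hj
        obtain ⟨l, hl⟩ := hmem j hj1 hj2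
        exact Finset.mem_image.2 ⟨l, Finset.mem_univ l, hl⟩
      · rw [Finset.card_image_of_injective _ hJ'.1.injective, Finset.card_univ, Fintype.card_fin, Nat.card_Icc]
        omega
    intro l
    have hJ1 : StrictMono fun r : Fin n => (r : ℕ) + 1 := fun a b hab => Nat.succ_lt_succ hab
    have hrange : Set.range J' = Set.range fun r : Fin n => (r : ℕ) + 1 := by
      rw [← Set.image_univ, ← Finset.coe_univ, ← Finset.coe_image, himg]
      ext x
      simp only [Finset.coe_Icc, Set.mem_Icc, Set.mem_range]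
      exact ⟨fun hx => ⟨⟨x - 1, by omega⟩, by simp only; omega⟩, fun ⟨r, hr⟩ => by have := r.2; omega⟩
    exact congrFun ((StrictMono.range_inj hJ'.1 hJ1).1 hrange) l

end Orders

section Aut

/-- The place `Q ∘ σ`. -/
noncomputable def comapPlace (Q : Place k K) (σ : K ≃ₐ[k] K) : Place k K :=
  ⟨Q.1.comap (σ : K →+* K), fun c => by
      rw [Valuation.comap_apply, RingHom.coe_coe, AlgEquiv.commutes]
      exact Q.2.1 c,
    fun a => let ⟨z, hz⟩ := Q.2.2 a; ⟨σ.symm z, by simp [hz]⟩⟩

omit hK [IsAlgClosed k] in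
theorem comapPlace_val (Q : Place k K) (σ : K ≃ₐ[k] K) (x : K) : (comapPlace Q σ).1 x = Q.1 (σ x) := rfl

omit hK [IsAlgClosed k] in
theorem comapPlace_injective (σ : K ≃ₐ[k] K) : Function.Injective fun Q : Place k K => comapPlace Q σ := by
  intro Q R h
  refine Subtype.ext (Valuation.ext fun x => ?_)
  have := congrArg (fun S : Place k K => S.1 (σ.symm x)) h
  simpa [comapPlace_val] using this

theorem isFixedPt_iff (σ : K ≃ₐ[k] K) (P : Place k K) :
    IsFixedPt (σ : K →ₐ[k] K) P ↔ comapPlace P σ = P := by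
  constructor
  · intro h
    obtain ⟨t, ht⟩ := exists_val_eq P (-1)
    obtain ⟨e⟩ := exists_paramExp hK ht
    exact (place_ext fun x hx => val_map_le e (σ : K →ₐ[k] K) h hx).symm
  · intro h z hz
    have := congrArg (fun S : Place k K => S.1 z) h
    rw [comapPlace_val] at this
    exact this.trans_lt hz

/-- An automorphism other than the identity fixes at most `2g + 2` places. -/
theorem fixed_le {σ : K ≃ₐ[k] K} (hσ : σ ≠ AlgEquiv.refl) (S : Finset (Place k K))
    (hS : ∀ P ∈ S, IsFixedPt (σ : K →ₐ[k] K) P) : S.card ≤ 2 * genus k K + 2 := by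
  classical
  obtain ⟨z, hz⟩ : ∃ z, σ z ≠ z := by
    by_contra h
    push Not at h
    exact hσ (AlgEquiv.ext h)
  -- some place moves
  obtain ⟨P₀, hP₀⟩ : ∃ P₀ : Place k K, ¬ IsFixedPt (σ : K →ₐ[k] K) P₀ := by
    by_contra hall
    push Not at hall
    have hz0 : z ≠ 0 := fun h => hz (by rw [h, map_zero])
    -- `σ z / z` has no zero and no pole, so it is a constant
    have hq : ∀ P : Place k K, P.ord (σ z / z) = 0 := fun P => by
      have h1 := congrArg (fun S : Place k K => S.ord z) ((isFixedPt_iff hK σ P).1 (hall P))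
      rw [ord_div P ((map_ne_zero σ).2 hz0) hz0]
      have h2 : (comapPlace P σ).ord z = P.ord (σ z) := rfl
      omega
    obtain ⟨c, hc⟩ := mem_range_of_ord_nonneg hK fun P => (hq P).ge
    have hσz : σ z = algebraMap k K c * z := by rw [hc, div_mul_cancel₀ _ hz0]
    -- the same for `z + 1`
    rcases eq_or_ne (z + 1) 0 with h1 | h1
    · exact hz (by rw [eq_neg_of_add_eq_zero_left h1, map_neg, map_one])
    have hq' : ∀ P : Place k K, P.ord (σ (z + 1) / (z + 1)) = 0 := fun P => by
      have h3 := congrArg (fun S : Place k K => S.ord (z + 1)) ((isFixedPt_iff hK σ P).1 (hall P))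
      rw [ord_div P ((map_ne_zero σ).2 h1) h1]
      have h2 : (comapPlace P σ).ord (z + 1) = P.ord (σ (z + 1)) := rfl
      omega
    obtain ⟨d, hd⟩ := mem_range_of_ord_nonneg hK fun P => (hq' P).ge
    have h4 : σ (z + 1) = algebraMap k K d * (z + 1) := by rw [hd, div_mul_cancel₀ _ h1]
    rw [map_add, map_one, hσz] at h4
    rcases eq_or_ne c d with rfl | hcd
    · refine hz ?_
      have h5 : algebraMap k K c = 1 := by linear_combination -h4
      rw [hσz, h5, one_mul]
    · have hzc : z = algebraMap k K ((d - 1) / (c - d)) := by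
        rw [map_div₀, eq_div_iff (by simpa [sub_eq_zero] using hcd), map_sub, map_sub, map_one]
        linear_combination h4
      exact hz (by rw [hzc, AlgEquiv.commutes])
  -- a function with its only pole at `P₀`
  set g := genus k K
  obtain ⟨x, hxL, hxt⟩ : ∃ x, x ∈ L (Finsupp.single P₀ ((g : ℤ) + 1)) ∧ Transcendental k x := by
    refine exists_transcendental_mem_L hK ?_
    obtain ⟨C, hC⟩ := exists_isCanonical hK
    have h := riemann_roch hK hC (Finsupp.single P₀ ((g : ℤ) + 1))
    rw [deg_single, deg_eq_one hK P₀] at h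
    push_cast at h
    omega
  have hx0 : x ≠ 0 := fun h => hxt (h ▸ isAlgebraic_zero)
  set P₁ := comapPlace P₀ σ.symm
  have hP₁ : comapPlace P₁ σ = P₀ := Subtype.ext (Valuation.ext fun v => by simp [P₁, comapPlace_val])
  have hne : P₁ ≠ P₀ := fun h => hP₀ ((isFixedPt_iff hK σ P₀).2 (by rwa [h] at hP₁))
  have hσx : ∀ P : Place k K, P.ord (σ x) = (comapPlace P σ).ord x := fun P => rfl
  have hsx0 : σ x ≠ 0 := (map_ne_zero σ).2 hx0
  have hσL : σ x ∈ L (Finsupp.single P₁ ((g : ℤ) + 1)) := (mem_L_iff hsx0).2 fun P => by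
    rw [hσx]
    rcases eq_or_ne P P₁ with rfl | hP
    · rw [Finsupp.single_eq_same, hP₁]
      simpa using (mem_L_iff hx0).1 hxL P₀
    · have := (mem_L_iff hx0).1 hxL (comapPlace P σ)
      rw [Finsupp.single_eq_of_ne hP]
      rwa [Finsupp.single_eq_of_ne fun h => hP (comapPlace_injective σ (h.trans hP₁.symm))] at this
  have hpole : P₀.ord x < 0 := by
    obtain ⟨R, hR⟩ := (exists_zero_pole hK (x := x) fun ⟨c, hc⟩ => hxt (hc ▸ isAlgebraic_algebraMap c)).2
    rcases eq_or_ne R P₀ with rfl | hRne
    · exact hR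
    · have := (mem_L_iff hx0).1 hxL R
      rw [Finsupp.single_eq_of_ne hRne] at this
      omega
  set w := σ x - x
  have hw0 : w ≠ 0 := fun h => by
    have h1 := (mem_L_iff hsx0).1 hσL P₀
    rw [sub_eq_zero.1 h, Finsupp.single_eq_of_ne hne.symm] at h1
    omega
  set B : Divisor k K := Finsupp.single P₀ ((g : ℤ) + 1) + Finsupp.single P₁ ((g : ℤ) + 1)
  have hg1 : (0 : ℤ) ≤ (g : ℤ) + 1 := by positivity
  have hwB : w ∈ L B :=
    sub_mem (L_mono (le_add_of_nonneg_left (Finsupp.single_nonneg.2 hg1)) hσL)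
      (L_mono (le_add_of_nonneg_right (Finsupp.single_nonneg.2 hg1)) hxL)
  -- every fixed place is a zero
  have hzero : ∀ P ∈ S, B P = 0 ∧ P.ord w ≥ 1 := fun P hP => by
    have hfix := hS P hP
    have hP0 : P ≠ P₀ := fun h => hP₀ (h ▸ hfix)
    have hP1 : P ≠ P₁ := fun h => hne (by rw [← hP₁, ← h, (isFixedPt_iff hK σ P).1 hfix] : P₁ = P₀)
    refine ⟨by simp [B, Finsupp.single_eq_of_ne hP0, Finsupp.single_eq_of_ne hP1], ?_⟩
    have hx1 : P.1 x ≤ 1 := by
      have := hxL P
      rwa [Finsupp.single_eq_of_ne hP0, exp_zero] at this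
    obtain ⟨c, hc⟩ := exists_sub_const_val_lt_one hK P (deg_eq_one hK P) hx1
    have hc2 : P.1 (σ x - algebraMap k K c) < 1 := by
      have := hfix _ hc
      simpa using this
    have hlt : P.1 w < 1 := by
      rw [show w = (σ x - algebraMap k K c) - (x - algebraMap k K c) by ring]
      exact P.1.map_sub_lt hc2 hc
    rw [val_lt_one_iff P hw0] at hlt
    omega
  have hle : ∑ P ∈ S, Finsupp.single P (1 : ℤ) ≤ B + div k w := fun Q => by
    rw [Finsupp.finsetSum_apply, Finset.sum_congr rfl fun P _ => Finsupp.single_apply, Finset.sum_ite_eq',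
      Finsupp.add_apply, div_apply hK]
    have := (mem_L_iff hw0).1 hwB Q
    split_ifs with hQ
    · have := hzero Q hQ; omega
    · omega
  have hd := deg_mono hle
  have hsum : ∀ T : Finset (Place k K), Divisor.deg (∑ P ∈ T, Finsupp.single P (1 : ℤ)) = T.card := fun T => by
    induction T using Finset.induction_on with
    | empty => simp
    | insert a T ha ih =>
      rw [Finset.sum_insert ha, deg_add, deg_single, deg_eq_one hK a, ih, Finset.card_insert_of_notMem ha]
      push_cast; ring
  rw [hsum, deg_add, deg_div hK, deg_add, deg_single, deg_single, deg_eq_one hK P₀, deg_eq_one hK P₁] at hd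
  push_cast at hd
  omega

end Aut

end Groth.Agent.FunFldLib
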