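import Groth.Agent.FunFld.Plucker

/-!
Weights of the aspects of a limit linear series along chains of components.
-/

namespace Groth.Agent.FunFldLib

open FunFld

section One

variable {k K : Type*} [Field k] [Field K] [Algebra k K]

/-- The weight of `V` at `P`. -/
noncomputable def exc (V : Submodule k K) (D : Divisor k K) (P : Place k K) (d r : ℕ) : ℕ :=
  wsum V D P d - r * (r + 1) / 2

theorem even_R (r : ℕ) : r * (r + 1) = 2 * (r * (r + 1) / 2) :=
  (Nat.mul_div_cancel' (Nat.even_mul_succ_self r).two_dvd).symm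

theorem r_le_d [IsAlgClosed k] (hK : IsFunctionField k K) {V : Submodule k K} {D : Divisor k K}
    (hV : V ≤ L D) {d r : ℕ} (hd : D.deg = d) (hr : Module.finrank k V = r + 1) : r ≤ d := by
  obtain ⟨P⟩ := exists_place hK
  obtain ⟨m, -, hinj, hmd, -⟩ := exists_adapted hK (deg_eq_one hK P) hV hd hr
  have := Fintype.card_le_of_injective (fun i => (⟨m i, Nat.lt_succ_of_le (hmd i)⟩ : Fin (d + 1)))
    fun i j h => hinj (Fin.mk.injEq _ _ _ _ ▸ h :)
  simpa using this

theorem wsum_eq_exc_add [IsAlgClosed k] (hK : IsFunctionField k K) {V : Submodule k K}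
    {D : Divisor k K} (hV : V ≤ L D) {d r : ℕ} (hd : D.deg = d) (hr : Module.finrank k V = r + 1)
    (P : Place k K) : wsum V D P d = exc V D P d r + r * (r + 1) / 2 := by
  have := wsum_ge hK (deg_eq_one hK P) hV hd hr
  rw [exc]; omega

theorem le_exc_of_cusp [IsAlgClosed k] (hK : IsFunctionField k K) {V : Submodule k K}
    {D : Divisor k K} (hV : V ≤ L D) {d r : ℕ} (hd : D.deg = d) (hr : Module.finrank k V = r + 1)
    {P : Place k K} (hc : r ≤ Module.finrank k ↥(V ⊓ L (D - Finsupp.single P (2 : ℤ)))) :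
    r ≤ exc V D P d r := by
  have := wsum_ge_of_cusp hK (deg_eq_one hK P) hV hd hr hc
  rw [exc]; omega

theorem sum_exc_le [IsAlgClosed k] [CharZero k] (hK : IsFunctionField k K) (hg : genus k K = 0)
    {V : Submodule k K} {D : Divisor k K} (hV : V ≤ L D) {d r : ℕ} (hd : D.deg = d)
    (hr : Module.finrank k V = r + 1) (s : Finset (Place k K)) :
    (∑ P ∈ s, exc V D P d r) + r * (r + 1) ≤ (r + 1) * d := by
  have h := plucker hK hg hV hd hr s
  rw [Finset.sum_congr rfl fun P _ => wsum_eq_exc_add hK hV hd hr P, Finset.sum_add_distrib,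
    Finset.sum_const, smul_eq_mul] at h
  omega

theorem exc3_le [IsAlgClosed k] [CharZero k] (hK : IsFunctionField k K) (hg : genus k K = 0)
    {V : Submodule k K} {D : Divisor k K} (hV : V ≤ L D) {d r : ℕ} (hd : D.deg = d)
    (hr : Module.finrank k V = r + 1) {a b c : Prop} [Decidable a] [Decidable b] [Decidable c]
    {A B C : Place k K} (hab : a → b → A ≠ B) (hac : a → c → A ≠ C) (hbc : b → c → B ≠ C) :
    (if a then exc V D A d r else 0) + (if b then exc V D B d r else 0) +
      (if c then exc V D C d r else 0) + r * (r + 1) ≤ (r + 1) * d := by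
  classical
  refine le_trans (Nat.add_le_add_right (le_of_eq ?_) _) (sum_exc_le hK hg hV hd hr
    ((if a then {A} else ∅) ∪ (if b then {B} else ∅) ∪ (if c then {C} else ∅)))
  rw [Finset.sum_union, Finset.sum_union]
  · split_ifs <;> simp
  · split_ifs with h1 h2 <;> simp [*]
  · split_ifs with h1 h2 h3 <;> simp_all [eq_comm]

theorem exc4_le [IsAlgClosed k] [CharZero k] (hK : IsFunctionField k K) (hg : genus k K = 0)
    {V : Submodule k K} {D : Divisor k K} (hV : V ≤ L D) {d r : ℕ} (hd : D.deg = d)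
    (hr : Module.finrank k V = r + 1) {a b c : Prop} [Decidable a] [Decidable b] [Decidable c]
    {A B C E : Place k K} (hab : a → b → A ≠ B) (hac : a → c → A ≠ C) (hbc : b → c → B ≠ C)
    (hEA : a → E ≠ A) (hEB : b → E ≠ B) (hEC : c → E ≠ C) :
    (if a then exc V D A d r else 0) + (if b then exc V D B d r else 0) +
      (if c then exc V D C d r else 0) + exc V D E d r + r * (r + 1) ≤ (r + 1) * d := by
  classical
  refine le_trans (Nat.add_le_add_right (le_of_eq ?_) _) (sum_exc_le hK hg hV hd hr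
    (insert E ((if a then {A} else ∅) ∪ (if b then {B} else ∅) ∪ (if c then {C} else ∅))))
  rw [Finset.sum_insert, Finset.sum_union, Finset.sum_union, add_comm]
  · split_ifs <;> simp
  · split_ifs with h1 h2 <;> simp [*]
  · split_ifs with h1 h2 h3 <;> simp_all [eq_comm]
  · split_ifs with h1 h2 h3 <;> simp_all

end One

section Node

variable {k K K' : Type*} [Field k] [IsAlgClosed k] [Field K] [Algebra k K] [Field K'] [Algebra k K']

theorem exc_add_exc (hK : IsFunctionField k K) (hK' : IsFunctionField k K')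
    {V : Submodule k K} {D : Divisor k K} {P : Place k K}
    {V' : Submodule k K'} {D' : Divisor k K'} {P' : Place k K'} {d r : ℕ}
    (hV : V ≤ L D) (hd : D.deg = d) (hr : Module.finrank k V = r + 1)
    (hV' : V' ≤ L D') (hd' : D'.deg = d) (hr' : Module.finrank k V' = r + 1)
    (h : ∀ m : ℕ, m ≤ d + 1 → Module.finrank k ↥(V ⊓ L (D - Finsupp.single P ((m : ℤ)))) +
      Module.finrank k ↥(V' ⊓ L (D' - Finsupp.single P' ((d : ℤ) + 1 - m))) = r + 1) :
    exc V D P d r + exc V' D' P' d r + r * (r + 1) = (r + 1) * d := by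
  have := wsum_add_wsum_of_compat h
  rw [wsum_eq_exc_add hK hV hd hr P, wsum_eq_exc_add hK' hV' hd' hr' P'] at this
  have := even_R r
  omega

/-- A section space with at most one member vanishing to order `d - 1` forces a cusp across the node. -/
theorem cusp_of_compat (hK : IsFunctionField k K)
    {V : Submodule k K} {D : Divisor k K} {P : Place k K}
    {V' : Submodule k K'} {D' : Divisor k K'} {P' : Place k K'} {d r : ℕ}
    (hV : V ≤ L D) (hd : D.deg = d) (hr : Module.finrank k V = r + 1)
    (h : ∀ m : ℕ, m ≤ d + 1 → Module.finrank k ↥(V ⊓ L (D - Finsupp.single P ((m : ℤ)))) +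
      Module.finrank k ↥(V' ⊓ L (D' - Finsupp.single P' ((d : ℤ) + 1 - m))) = r + 1)
    (h1 : Module.finrank k ↥(V' ⊓ L (D' - Finsupp.single P' ((d : ℤ) - 1))) ≤ 1) :
    r ≤ Module.finrank k ↥(V ⊓ L (D - Finsupp.single P (2 : ℤ))) := by
  rcases Nat.eq_zero_or_pos d with rfl | hd0
  · have := r_le_d hK hV hd hr; omega
  have h2 := h 2 (by omega)
  rw [Nat.cast_ofNat, show (d : ℤ) + 1 - 2 = (d : ℤ) - 1 by ring] at h2
  omega

end Node

section ToTail

variable (k : Type*) [Field k] [IsAlgClosed k] {n : ℕ} (U : Fin (n + 1) → Type*) [∀ l, Field (U l)]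
  [∀ l, Algebra k (U l)] (hU : ∀ l, IsFunctionField k (U l)) (d r : ℕ) (D : ∀ l, Divisor k (U l))
  (hD : ∀ l, (D l).deg = d) (V : ∀ l, Submodule k (U l)) (hV : ∀ l, V l ≤ L (D l))
  (hVr : ∀ l, Module.finrank k ↥(V l) = r + 1) (A B : ∀ l, Place k (U l))
  (hAB : ∀ l : Fin (n + 1), 0 < (l : ℕ) → (l : ℕ) < n → A l ≠ B l)
  (hcomp : ∀ (l : Fin n) (m : ℕ), m ≤ d + 1 →
      Module.finrank k ↥((V l.castSucc) ⊓ L ((D l.castSucc) - Finsupp.single (B l.castSucc) ((m : ℤ)))) +
        Module.finrank k ↥((V l.succ) ⊓ L ((D l.succ) - Finsupp.single (A l.succ) ((d : ℤ) + 1 - m))) = r + 1)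

include hU hD hV hVr hAB hcomp

theorem chain_weight_ge (c : ℕ)
    (hc : wsum (V 0) (D 0) (B 0) d + c + r * (r + 1) ≤ (r + 1) * d + r * (r + 1) / 2)
    (l : Fin (n + 1)) (hl : 0 < (l : ℕ)) :
    c + r * (r + 1) / 2 ≤ wsum (V l) (D l) (A l) d := by
  induction l using Fin.induction with
  | zero => simp at hl
  | succ i ih =>
    have h1 := wsum_add_wsum_of_compat (hcomp i)
    rcases Nat.eq_zero_or_pos (i : ℕ) with h0 | h0
    · have hi : i.castSucc = 0 := Fin.ext h0
      rw [hi] at h1
      have := even_R r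
      omega
    · have h2 := ih h0
      have h3 := wsum_add_wsum_le (hU i.castSucc) (deg_eq_one (hU _) (A i.castSucc))
        (deg_eq_one (hU _) (B i.castSucc)) (hAB i.castSucc h0 i.2) (hV _) (hD _) (hVr _)
      omega

theorem chain_pred_le_one (hpos : 0 < genus k (U (Fin.last n))) (l : Fin (n + 1)) (hl : 0 < (l : ℕ)) :
    Module.finrank k ↥(V l ⊓ L (D l - Finsupp.single (A l) ((d : ℤ) - 1))) ≤ 1 := by
  induction l using Fin.reverseInduction with
  | last => exact finrank_pred_le_one (hU _) hpos (deg_eq_one (hU _) _) (hD _)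
  | cast i ih =>
    have hcusp := cusp_of_compat (hU i.castSucc) (hV _) (hD _) (hVr _) (hcomp i)
      (ih (by simp))
    exact finrank_pred_le_one_of_cusp (hU _) (deg_eq_one (hU _) _) (deg_eq_one (hU _) _)
      (hAB i.castSucc hl i.2) (hV _) (hD _) (hVr _) hcusp

end ToTail

section Backbone

variable (k : Type*) [Field k] [IsAlgClosed k] [CharZero k] {N : ℕ} (Z : Fin (N + 1) → Type*)
  [∀ i, Field (Z i)] [∀ i, Algebra k (Z i)] (hZ : ∀ i, IsFunctionField k (Z i))
  (hrat : ∀ i, genus k (Z i) = 0) (d r : ℕ) (D : ∀ i, Divisor k (Z i)) (hD : ∀ i, (D i).deg = d)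
  (V : ∀ i, Submodule k (Z i)) (hV : ∀ i, V i ≤ L (D i))
  (hVr : ∀ i, Module.finrank k ↥(V i) = r + 1) (A B : ∀ i, Place k (Z i))
  (hAB : ∀ i : Fin (N + 1), 0 < (i : ℕ) → (i : ℕ) < N → A i ≠ B i)
  (hcomp : ∀ (l : Fin N) (m : ℕ), m ≤ d + 1 →
      Module.finrank k ↥((V l.castSucc) ⊓ L ((D l.castSucc) - Finsupp.single (B l.castSucc) ((m : ℤ)))) +
        Module.finrank k ↥((V l.succ) ⊓ L ((D l.succ) - Finsupp.single (A l.succ) ((d : ℤ) + 1 - m))) = r + 1)
  (T : Finset (Fin (N + 1))) (Q : ∀ i, Place k (Z i))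
  (hQA : ∀ i ∈ T, 0 < (i : ℕ) → Q i ≠ A i) (hQB : ∀ i ∈ T, (i : ℕ) < N → Q i ≠ B i)
  (hcusp : ∀ i ∈ T, r ≤ Module.finrank k ↥((V i) ⊓ L ((D i) - Finsupp.single (Q i) ((2 : ℤ)))))

include hZ hrat hD hV hVr hAB hcomp hQA hQB hcusp

theorem backbone_A_ge (i : Fin (N + 1)) (hi : 0 < (i : ℕ)) :
    r * (T.filter (· < i)).card ≤ exc (V i) (D i) (A i) d r := by
  classical
  induction i using Fin.induction with
  | zero => simp at hi
  | succ i ih =>
    have h1 := exc_add_exc (hZ _) (hZ _) (hV _) (hD _) (hVr _) (hV _) (hD _) (hVr _) (hcomp i)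
    have h2 := exc3_le (hZ i.castSucc) (hrat _) (hV _) (hD _) (hVr _)
      (a := 0 < (i.castSucc : ℕ)) (b := True) (c := i.castSucc ∈ T) (A := A i.castSucc)
      (B := B i.castSucc) (C := Q i.castSucc) (fun h _ => hAB _ h i.2)
      (fun h h' => (hQA _ h' h).symm) (fun _ h' => (hQB _ h' i.2).symm)
    rw [if_pos trivial] at h2
    have h3 : r * (T.filter (· < i.castSucc)).card ≤
        if 0 < (i.castSucc : ℕ) then exc (V i.castSucc) (D i.castSucc) (A i.castSucc) d r else 0 := by
      split_ifs with h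
      · exact ih h
      · rw [Finset.filter_false_of_mem (p := (· < i.castSucc)) fun j _ h' => h (lt_of_le_of_lt (Nat.zero_le (j : ℕ)) h'),
          Finset.card_empty, mul_zero]
    have h4 : r * (if i.castSucc ∈ T then 1 else 0) ≤
        if i.castSucc ∈ T then exc (V i.castSucc) (D i.castSucc) (Q i.castSucc) d r else 0 := by
      split_ifs with h
      · rw [mul_one]; exact le_exc_of_cusp (hZ _) (hV _) (hD _) (hVr _) (hcusp _ h)
      · simp
    have h5 : (T.filter (· < i.succ)).card =
        (T.filter (· < i.castSucc)).card + if i.castSucc ∈ T then 1 else 0 := by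
      have : T.filter (· < i.succ) = T.filter (· < i.castSucc) ∪ T.filter (· = i.castSucc) := by
        rw [← Finset.filter_or]
        refine Finset.filter_congr fun j _ => ?_
        simp only [Fin.lt_def, Fin.ext_iff, Fin.val_succ, Fin.val_castSucc]; omega
      rw [this, Finset.card_union_of_disjoint, Finset.filter_eq']
      · split_ifs <;> simp
      · exact Finset.disjoint_filter.2 fun j _ h h' => h.ne h'
    rw [h5, mul_add]
    omega

theorem backbone_B_ge (i : Fin (N + 1)) (hi : (i : ℕ) < N) :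
    r * (T.filter (i < ·)).card ≤ exc (V i) (D i) (B i) d r := by
  classical
  induction i using Fin.reverseInduction with
  | last => simp at hi
  | cast i ih =>
    have h1 := exc_add_exc (hZ _) (hZ _) (hV _) (hD _) (hVr _) (hV _) (hD _) (hVr _) (hcomp i)
    have h2 := exc3_le (hZ i.succ) (hrat _) (hV _) (hD _) (hVr _)
      (a := True) (b := (i.succ : ℕ) < N) (c := i.succ ∈ T) (A := A i.succ)
      (B := B i.succ) (C := Q i.succ) (fun _ h => hAB _ (by simp) h)
      (fun _ h' => (hQA _ h' (by simp)).symm) (fun h h' => (hQB _ h' h).symm)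
    rw [if_pos trivial] at h2
    have h3 : r * (T.filter (i.succ < ·)).card ≤
        if (i.succ : ℕ) < N then exc (V i.succ) (D i.succ) (B i.succ) d r else 0 := by
      split_ifs with h
      · exact ih h
      · rw [Finset.filter_false_of_mem (p := (i.succ < ·)) fun j _ (h' : (i.succ : ℕ) < (j : ℕ)) => h (by omega),
          Finset.card_empty, mul_zero]
    have h4 : r * (if i.succ ∈ T then 1 else 0) ≤
        if i.succ ∈ T then exc (V i.succ) (D i.succ) (Q i.succ) d r else 0 := by
      split_ifs with h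
      · rw [mul_one]; exact le_exc_of_cusp (hZ _) (hV _) (hD _) (hVr _) (hcusp _ h)
      · simp
    have h5 : (T.filter (i.castSucc < ·)).card =
        (T.filter (i.succ < ·)).card + if i.succ ∈ T then 1 else 0 := by
      have : T.filter (i.castSucc < ·) = T.filter (i.succ < ·) ∪ T.filter (· = i.succ) := by
        rw [← Finset.filter_or]
        refine Finset.filter_congr fun j _ => ?_
        simp only [Fin.lt_def, Fin.ext_iff, Fin.val_succ, Fin.val_castSucc]; omega
      rw [this, Finset.card_union_of_disjoint, Finset.filter_eq']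
      · split_ifs <;> simp
      · exact Finset.disjoint_filter.2 fun j _ h h' => h.ne' h'
    rw [h5, mul_add]
    omega

omit hZ hrat hD hV hVr hAB hcomp hQA hQB hcusp in
theorem card_erase_split (i : Fin (N + 1)) :
    (T.erase i).card = (T.filter (· < i)).card + (T.filter (i < ·)).card := by
  classical
  rw [← Finset.card_union_of_disjoint]
  · congr 1
    ext j
    simp only [Finset.mem_erase, Finset.mem_union, Finset.mem_filter, Fin.lt_def, Fin.ext_iff, ne_eq]
    constructor
    · rintro ⟨h, h'⟩; rcases lt_or_gt_of_ne h with h | h <;> simp [h, h']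
    · rintro (⟨h, h'⟩ | ⟨h, h'⟩) <;> exact ⟨by omega, h⟩
  · exact Finset.disjoint_filter.2 fun j _ h h' => lt_asymm h h'

/-- The weights at the node places dominate the tails on either side. -/
theorem backbone_nodes_ge (i : Fin (N + 1)) :
    r * (T.erase i).card ≤ (if 0 < (i : ℕ) then exc (V i) (D i) (A i) d r else 0) +
      (if (i : ℕ) < N then exc (V i) (D i) (B i) d r else 0) := by
  classical
  rw [card_erase_split (N := N) T i, mul_add]
  refine add_le_add ?_ ?_
  · split_ifs with h
    · exact backbone_A_ge k Z hZ hrat d r D hD V hV hVr A B hAB hcomp T Q hQA hQB hcusp i h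
    · rw [Finset.filter_false_of_mem (p := (· < i)) fun j _ (h' : (j : ℕ) < (i : ℕ)) => h (by omega),
        Finset.card_empty, mul_zero]
  · split_ifs with h
    · exact backbone_B_ge k Z hZ hrat d r D hD V hV hVr A B hAB hcomp T Q hQA hQB hcusp i h
    · rw [Finset.filter_false_of_mem (p := (i < ·)) fun j _ (h' : (i : ℕ) < (j : ℕ)) => h (by omega),
        Finset.card_empty, mul_zero]

end Backbone

end Groth.Agent.FunFldLib
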