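import Groth.Agent.FunFld.WDegree
import Groth.Agent.FunFld.Embedding

/-!
Classical order sequences when the characteristic exceeds the degree.
-/

namespace Groth.Agent.FunFldLib

open FunFld WithZero

/-- All integers `1, …, d` are units in `k`. -/
theorem cast_ne_zero_of_char {k : Type*} [Field k] {d : ℤ} (h : ringChar k = 0 ∨ d < ringChar k) {a : ℕ}
    (ha : 0 < a) (had : (a : ℤ) ≤ d) : (a : k) ≠ 0 := fun h0 => by
  have hdvd := (ringChar.spec k a).1 h0
  rcases h with h | h
  · rw [h, zero_dvd_iff] at hdvd; omega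
  · have := Nat.le_of_dvd ha hdvd; omega

theorem cast_injective_of_char {k : Type*} [Field k] {d : ℤ} (h : ringChar k = 0 ∨ d < ringChar k) {a b : ℕ}
    (had : (a : ℤ) ≤ d) (hbd : (b : ℤ) ≤ d) (hab : (a : k) = b) : a = b := by
  wlog hle : a ≤ b generalizing a b
  · exact (this hbd had hab.symm (by omega)).symm
  by_contra hne
  refine cast_ne_zero_of_char h (a := b - a) (by omega) (by omega) ?_
  rw [Nat.cast_sub hle, hab, sub_self]

/-- `det (choose (J r) s)` is nonzero for distinct small `J r`. -/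
theorem det_choose_ne_zero {k : Type*} [Field k] {d : ℤ} (h : ringChar k = 0 ∨ d < ringChar k) {m : ℕ}
    (J : Fin m → ℕ) (hinj : Function.Injective J) (hJ : ∀ r, (J r : ℤ) ≤ d) :
    (Matrix.of fun r s : Fin m => (((J r).choose (s : ℕ) : ℕ) : k)).det ≠ 0 := by
  classical
  intro hdet
  obtain ⟨v, hv0, hv⟩ := Matrix.exists_mulVec_eq_zero_iff.2 hdet
  rcases Nat.eq_zero_or_pos m with hm | hm
  · subst hm; exact hv0 (funext fun i => i.elim0)
  have hmd : (m : ℤ) - 1 ≤ d := by
    have hsub : Finset.univ.image J ⊆ Finset.range (d.toNat + 1) := fun x hx => by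
      obtain ⟨r, -, rfl⟩ := Finset.mem_image.1 hx
      have := hJ r
      rw [Finset.mem_range]; omega
    have h1 := Finset.card_le_card hsub
    rw [Finset.card_image_of_injective _ hinj, Finset.card_univ, Fintype.card_fin, Finset.card_range] at h1
    have := hJ ⟨0, hm⟩
    omega
  have hfac : ∀ s : ℕ, s < m → ((s.factorial : ℕ) : k) ≠ 0 := fun s hs => by
    induction s with
    | zero => simp
    | succ s ih =>
      rw [Nat.factorial_succ, Nat.cast_mul]
      exact mul_ne_zero (cast_ne_zero_of_char h (Nat.succ_pos s) (by omega)) (ih (by omega))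
  let p : Polynomial k := ∑ s : Fin m, Polynomial.C (v s / ((s : ℕ).factorial : k)) * descPochhammer k s
  have heval : ∀ a : ℕ, p.eval (a : k) = ∑ s : Fin m, v s * ((a.choose (s : ℕ) : ℕ) : k) := fun a => by
    rw [Polynomial.eval_finsetSum]
    refine Finset.sum_congr rfl fun s _ => ?_
    rw [Polynomial.eval_mul, Polynomial.eval_C, descPochhammer_eval_eq_descFactorial,
      Nat.descFactorial_eq_factorial_mul_choose, Nat.cast_mul, div_mul_eq_mul_div,
      mul_comm ((((s : ℕ).factorial : ℕ) : k)), ← mul_assoc, mul_div_cancel_right₀ _ (hfac s s.2)]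
  have hdeg : p.natDegree < m := by
    refine lt_of_le_of_lt (Polynomial.natDegree_sum_le_of_forall_le _ _ (n := m - 1) fun s _ => ?_) (by omega)
    refine (Polynomial.natDegree_C_mul_le _ _).trans ?_
    rw [descPochhammer_natDegree]
    omega
  have hp : p = 0 := by
    refine Polynomial.eq_zero_of_natDegree_lt_card_of_eval_eq_zero p
      (f := fun r : Fin m => ((J r : ℕ) : k)) (fun a b hab => hinj (cast_injective_of_char h (hJ a) (hJ b) hab))
      (fun r => ?_) (by simpa using hdeg)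
    rw [heval]
    refine Eq.trans (Finset.sum_congr rfl fun s _ => mul_comm _ _) (congrFun hv r)
  refine hv0 (funext fun i => ?_)
  induction i using WellFoundedLT.induction with
  | ind i ih =>
    have h1 := heval i
    rw [hp, Polynomial.eval_zero, Finset.sum_eq_single i (fun s _ hs => ?_) (by simp)] at h1
    · simpa using h1.symm
    · rcases lt_or_gt_of_ne hs with h' | h'
      · rw [ih s h']; simp
      · rw [Nat.choose_eq_zero_of_lt (Fin.lt_def.1 h'), Nat.cast_zero, mul_zero]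

theorem det_binom_lt {k : Type*} [Field k] {d : ℤ} (h : ringChar k = 0 ∨ d < ringChar k) {n : ℕ}
    (J : Fin n → ℕ) (hinj : Function.Injective J) (hJ : ∀ r, (J r : ℤ) ≤ d) :
    (binomMat k J fun l : Fin n => (l : ℕ)).det ≠ 0 :=
  det_choose_ne_zero h J hinj hJ

theorem det_binom_succ {k : Type*} [Field k] {d : ℤ} (h : ringChar k = 0 ∨ d < ringChar k) {n : ℕ}
    (J : Fin n → ℕ) (hinj : Function.Injective J) (hpos : ∀ r, 0 < J r) (hJ : ∀ r, (J r : ℤ) ≤ d) :
    (binomMat k J fun l : Fin n => (l : ℕ) + 1).det ≠ 0 := by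
  rcases Nat.eq_zero_or_pos n with hn | hn
  · subst hn; simp [Matrix.det_fin_zero]
  have h0d : (0 : ℤ) ≤ d := le_trans (Int.natCast_nonneg _) (hJ ⟨0, hn⟩)
  have hdet := det_choose_ne_zero h (Fin.cons 0 J) (Fin.cons_injective_iff.2
    ⟨fun ⟨r, hr⟩ => (hpos r).ne' hr, hinj⟩) (Fin.cases (by simpa using h0d) fun r => by simpa using hJ r)
  rw [Matrix.det_succ_row_zero, Finset.sum_eq_single 0 (fun j _ hj => ?_) (by simp)] at hdet
  · simp only [Fin.val_zero, pow_zero, Matrix.of_apply, Fin.cons_zero, Nat.choose_self, Nat.cast_one,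
      one_mul, Fin.succAbove_zero] at hdet
    exact hdet
  · obtain ⟨l, rfl⟩ := Fin.exists_succ_eq.2 hj
    simp

variable {k K : Type*} [Field k] [IsAlgClosed k] [Field K] [Algebra k K] (hK : IsFunctionField k K)
  {n : ℕ} {φ : Fin (n + 1) → K}
include hK

/-- The orders at a place of a normalised tuple are at most the degree. -/
theorem orders_at_le_deg (hφ : LinearIndependent k φ) {P : Place k K}
    (heff : (1 : K) ∈ Submodule.span k (Set.range φ)) (hint : ∀ i, P.1 (φ i) ≤ 1) {t : K} (ht : P.1 t = exp (-1))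
    {Ht : K →ₐ[k] PowerSeries K} (hHt : LocRes.IsHasseFamily t Ht) {J' : Fin n → ℕ}
    (hJ' : IsOrders (IsLocalRing.ResidueField P.O) (hcolAt P Ht φ) J') (l : Fin n) :
    (J' l : ℤ) ≤ (mapDiv k φ).deg := by
  obtain ⟨e⟩ := exists_paramExp hK ht
  obtain ⟨f, hf, hv⟩ := (mem_orders_at_iff e hK ht hHt hint hJ' heff (J' l)).1 (Or.inr ⟨l, rfl⟩)
  have hf0 := ne_zero_of_val P hv
  have hD := isMapDiv_mapDiv hK hφ.ne_zero
  have hfL : f ∈ L (mapDiv k φ) := Submodule.span_le.2 (by rintro _ ⟨i, rfl⟩; exact hD.1 i) hf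
  have h0 : mapDiv k φ P = 0 := mapDiv_eq_zero_of_unit hK hint heff
  by_contra hbig
  have hbot : f ∈ L (mapDiv k φ - Finsupp.single P (J' l : ℤ)) := (mem_L_iff hf0).2 fun Q => by
    rw [Finsupp.sub_apply]
    rcases eq_or_ne Q P with rfl | hQ
    · rw [Finsupp.single_eq_same, h0, ord_eq_of_val Q hv]; omega
    · rw [Finsupp.single_eq_of_ne hQ, sub_zero]; exact (mem_L_iff hf0).1 hfL Q
  rw [L_eq_bot_of_deg_neg hK (by rw [deg_sub, deg_single, deg_eq_one hK P]; omega), Submodule.mem_bot] at hbot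
  exact hf0 hbot

theorem deg_mapDiv_smul (hφ : LinearIndependent k φ) {y : K} (hy : y ≠ 0) :
    (mapDiv k (y • φ)).deg = (mapDiv k φ).deg := by
  have h : mapDiv k (y • φ) = mapDiv k φ - div k y := Finsupp.ext fun P => by
    rw [Finsupp.sub_apply, mapDiv_smul hK hφ.ne_zero hy, div_apply hK]
  rw [h, deg_sub, deg_div hK, sub_zero]

/-- A lower bound for the orders. -/
theorem le_orders (τ : K →ₐ[k] K) {H : K →ₐ[k] PowerSeries K} {J : Fin n → ℕ}
    (hJ : IsOrders K (hcol τ H φ) J) (l : Fin n) : (l : ℕ) ≤ J l := by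
  obtain ⟨l, hl⟩ := l
  induction l with
  | zero => exact Nat.zero_le _
  | succ m ih =>
    have := hJ.1 (show (⟨m, by omega⟩ : Fin n) < ⟨m + 1, hl⟩ from Nat.lt_succ_self m)
    have := ih (by omega)
    simp only at *
    omega

theorem succ_le_orders_id {s : K} {H : K →ₐ[k] PowerSeries K} (hH : LocRes.IsHasseFamily s H) {J : Fin n → ℕ}
    (hJ : IsOrders K (hcol (AlgHom.id k K) H φ) J) (l : Fin n) : (l : ℕ) + 1 ≤ J l := by
  obtain ⟨l, hl⟩ := l
  induction l with
  | zero =>
    refine Nat.pos_of_ne_zero fun h => (hJ.2 0).1 ⟨⟨0, hl⟩, h⟩ (Submodule.subset_span ⟨0, Nat.lt_succ_self 0, ?_⟩)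
    funext i
    exact (hasseD_zero_apply hH (φ i)).symm
  | succ m ih =>
    have := hJ.1 (show (⟨m, by omega⟩ : Fin n) < ⟨m + 1, hl⟩ from Nat.lt_succ_self m)
    have := ih (by omega)
    simp only at *
    omega

theorem orders_id_classical (hφ : LinearIndependent k φ) (hchar : ringChar k = 0 ∨ (mapDiv k φ).deg < ringChar k)
    {s : K} {H : K →ₐ[k] PowerSeries K} (hH : LocRes.IsHasseFamily s H) :
    IsOrders K (hcol (AlgHom.id k K) H φ) (fun l : Fin n => (l : ℕ) + 1) := by
  obtain ⟨J, hJ⟩ := exists_orders (AlgHom.id k K) hK hH hφ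
  suffices h : J = fun l : Fin n => (l : ℕ) + 1 by rwa [h] at hJ
  funext l
  refine le_antisymm ?_ (succ_le_orders_id hK hH hJ l)
  obtain ⟨P⟩ := exists_place hK
  obtain ⟨t, ht⟩ := exists_val_eq P (-1)
  obtain ⟨Ht, hHt⟩ := exists_hasse_param hK ht
  obtain ⟨e⟩ := exists_paramExp hK ht
  choose π hπ using fun Q : Place k K => exists_val_eq Q (-1)
  obtain ⟨y, hy, hli, h1, hint, hJy, -⟩ := exists_normalized hK (AlgHom.id k K) hφ hH hJ
    (Φ := fun Q => (exists_paramExp hK (hπ Q)).some.φ) (fun Q => (exists_paramExp hK (hπ Q)).some.isExp) P hHt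
  obtain ⟨J', hJ'⟩ := exists_orders_at hK hli hint h1 ht hHt
  have hpos := orders_at_pos e hK ht hHt hint hJ'
  have hbd : ∀ r, (J' r : ℤ) ≤ (mapDiv k φ).deg := fun r =>
    (orders_at_le_deg hK hli h1 hint ht hHt hJ' r).trans_eq (deg_mapDiv_smul hK hφ hy)
  have hd := ((det_estimate' e ht hHt (AlgHom.id k K) hK (fun z hz => hz) hli h1 hint hJ'
    fun l : Fin n => (l : ℕ) + 1).2 (Or.inl fun l => Nat.succ_pos _)).2
    (det_binom_succ hchar J' hJ'.1.injective hpos hbd)
  have hne : (wrMat (AlgHom.id k K) Ht (y • φ) fun l : Fin n => (l : ℕ) + 1).det ≠ 0 := fun h0 => by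
    rw [h0, map_zero] at hd; exact exp_ne_zero hd.symm
  rw [wrMat_eq] at hne
  exact orders_le hJy (fun a b hab => Nat.succ_lt_succ hab) (linearIndependent_of_det_ne_zero hne) l

theorem orders_strong_classical (hφ : LinearIndependent k φ)
    (hchar : ringChar k = 0 ∨ (mapDiv k φ).deg < ringChar k) (τ : K →ₐ[k] K) {P : Place k K}
    (hP : IsStrongFixedPt τ P)
    {s : K} {H : K →ₐ[k] PowerSeries K} (hH : LocRes.IsHasseFamily s H) :
    IsOrders K (hcol τ H φ) (fun l : Fin n => (l : ℕ)) := by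
  obtain ⟨J, hJ⟩ := exists_orders τ hK hH hφ
  suffices h : J = fun l : Fin n => (l : ℕ) by rwa [h] at hJ
  funext l
  refine le_antisymm ?_ (le_orders hK τ hJ l)
  obtain ⟨t, ht⟩ := exists_val_eq P (-1)
  obtain ⟨Ht, hHt⟩ := exists_hasse_param hK ht
  obtain ⟨e⟩ := exists_paramExp hK ht
  choose π hπ using fun Q : Place k K => exists_val_eq Q (-1)
  obtain ⟨y, hy, hli, h1, hint, hJy, -⟩ := exists_normalized hK τ hφ hH hJ
    (Φ := fun Q => (exists_paramExp hK (hπ Q)).some.φ) (fun Q => (exists_paramExp hK (hπ Q)).some.isExp) P hHt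
  obtain ⟨J', hJ'⟩ := exists_orders_at hK hli hint h1 ht hHt
  have hfix : IsFixedPt τ P := fun z hz => (hP z hz).trans_lt (by rw [← exp_zero, exp_lt_exp]; omega)
  have hbd : ∀ r, (J' r : ℤ) ≤ (mapDiv k φ).deg := fun r =>
    (orders_at_le_deg hK hli h1 hint ht hHt hJ' r).trans_eq (deg_mapDiv_smul hK hφ hy)
  have hd := ((det_estimate' e ht hHt τ hK hfix hli h1 hint hJ'
    fun l : Fin n => (l : ℕ)).2 (Or.inr hP)).2 (det_binom_lt hchar J' hJ'.1.injective hbd)
  have hne : (wrMat τ Ht (y • φ) fun l : Fin n => (l : ℕ)).det ≠ 0 := fun h0 => by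
    rw [h0, map_zero] at hd; exact exp_ne_zero hd.symm
  rw [wrMat_eq] at hne
  exact orders_le hJy (fun a b hab => hab) (linearIndependent_of_det_ne_zero hne) l

end Groth.Agent.FunFldLib
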