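import Groth.Agent.FunFld.Rational
import Mathlib.FieldTheory.AlgebraicClosure

/-!
Fields of transcendence degree one whose constant field may be larger than the base: passing to the
algebraic closure of the base inside the field.
-/

namespace Groth.Agent.FunFldLib

open FunFld WithZero

variable {k K : Type*} [Field k] [Field K] [Algebra k K]

variable (k K) in
/-- Finite over a rational function field. -/
def IsFF : Prop :=
  ∃ x : K, Transcendental k x ∧ FiniteDimensional (IntermediateField.adjoin k ({x} : Set K)) K

theorem val_algebraic_le_one (P : Place k K) {a : K} (ha : IsIntegral k a) : P.1 a ≤ 1 := by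
  by_contra hlt
  push Not at hlt
  have h0 := minpoly.aeval k a
  rw [Polynomial.aeval_eq_sum_range] at h0
  have hterm : ∀ i, (minpoly k a).coeff i ≠ 0 → P.1 ((minpoly k a).coeff i • a ^ i) = P.1 a ^ i :=
    fun i hi => by rw [Algebra.smul_def, map_mul, map_pow, val_algebraMap P hi, one_mul]
  have hlead : (minpoly k a).coeff (minpoly k a).natDegree ≠ 0 := by
    rw [(minpoly.monic ha).coeff_natDegree]; exact one_ne_zero
  have h := P.1.map_sum_eq_of_lt (f := fun i => (minpoly k a).coeff i • a ^ i)
    (s := Finset.range ((minpoly k a).natDegree + 1)) (j := (minpoly k a).natDegree) (by simp) fun i hi => by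
      simp only [Finset.mem_sdiff, Finset.mem_range, Finset.mem_singleton] at hi
      simp only [hterm _ hlead]
      rcases eq_or_ne ((minpoly k a).coeff i) 0 with h | h
      · rw [h, zero_smul, map_zero]; exact pow_pos (zero_lt_one.trans hlt) _
      · rw [hterm i h]; exact pow_lt_pow_right₀ hlt (by omega)
  rw [h0, map_zero, hterm _ hlead] at h
  exact (pow_pos (zero_lt_one.trans hlt) _).ne h

theorem val_algebraic_eq_one (P : Place k K) {a : K} (ha : IsAlgebraic k a) (ha0 : a ≠ 0) : P.1 a = 1 := by
  refine le_antisymm (val_algebraic_le_one P ha.isIntegral) ?_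
  have h1 := val_algebraic_le_one P ha.inv.isIntegral
  have h2 : P.1 a * P.1 a⁻¹ = 1 := by rw [← map_mul, mul_inv_cancel₀ ha0, map_one]
  calc (1 : WithZero (Multiplicative ℤ)) = P.1 a * P.1 a⁻¹ := h2.symm
    _ ≤ P.1 a * 1 := mul_le_mul' le_rfl h1
    _ = P.1 a := mul_one _

/-- The constant field. -/
noncomputable abbrev constField (k K : Type*) [Field k] [Field K] [Algebra k K] : IntermediateField k K :=
  algebraicClosure k K

set_option quotPrecheck false in
local notation "k₁" => (constField k K : IntermediateField k K)

theorem isAlgebraic_constField (c : k₁) : IsAlgebraic k (c : K) := mem_algebraicClosure_iff.1 c.2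

theorem linearIndependent_adjoin_of_constField {x : K} (hx : Transcendental k x) {ι : Type*}
    {a : ι → k₁} (ha : LinearIndependent k a) :
    LinearIndependent (IntermediateField.adjoin k ({x} : Set K)) fun i => (a i : K) := by
  classical
  suffices h : LinearIndependent (Algebra.adjoin k ({x} : Set K)) fun i => (a i : K) by
    open IntermediateField.algebraAdjoinAdjoin in
    exact (LinearIndependent.iff_fractionRing (Algebra.adjoin k ({x} : Set K))
      (IntermediateField.adjoin k ({x} : Set K))).1 h
  rw [linearIndependent_iff']
  intro s g hg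
  have hp : ∀ i, ∃ p : Polynomial k, Polynomial.aeval x p = (g i : K) := fun i => by
    obtain ⟨p, hp⟩ := (SetLike.ext_iff.1 (Algebra.adjoin_singleton_eq_range_aeval k x) _).1 (g i).2
    exact ⟨p, hp⟩
  choose p hp using hp
  have halg : Algebra.IsAlgebraic k k₁ :=
    ⟨fun c => (isAlgebraic_algHom_iff (constField k K).val Subtype.val_injective).1 (isAlgebraic_constField c)⟩
  have hx1 : Transcendental k₁ x := fun h => hx (h.restrictScalars k)
  have hP : (∑ i ∈ s, Polynomial.C (a i) * (p i).map (algebraMap k k₁)) = 0 :=
    transcendental_iff.1 hx1 _ (by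
      rw [map_sum]
      refine (Finset.sum_congr rfl fun i _ => ?_).trans hg
      rw [map_mul, Polynomial.aeval_C, Polynomial.aeval_map_algebraMap, hp, Algebra.smul_def, mul_comm]
      rfl)
  intro i hi
  have hpi : p i = 0 := Polynomial.ext fun n => by
    have hn := congrArg (fun q : Polynomial k₁ => q.coeff n) hP
    simp only [Polynomial.finsetSum_coeff, Polynomial.coeff_C_mul, Polynomial.coeff_map, Polynomial.coeff_zero] at hn
    rw [Polynomial.coeff_zero]
    exact linearIndependent_iff'.1 ha s (fun j => (p j).coeff n)
      (by rw [← hn]; exact Finset.sum_congr rfl fun j _ => by rw [Algebra.smul_def, mul_comm]) i hi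
  exact Subtype.ext (by rw [← hp i, hpi, map_zero]; rfl)

theorem finiteDimensional_constField (hK : IsFF k K) : FiniteDimensional k k₁ := by
  obtain ⟨x, hx, hfin⟩ := hK
  rw [FiniteDimensional, ← Module.rank_lt_aleph0_iff]
  refine lt_of_le_of_lt (rank_le (n := Module.finrank (IntermediateField.adjoin k ({x} : Set K)) K)
    fun s hs => ?_) (Cardinal.natCast_lt_aleph0)
  rw [← Fintype.card_coe]
  exact (linearIndependent_adjoin_of_constField hx hs).fintype_card_le_finrank

theorem transcendental_constField {x : K} (hx : Transcendental k x) : Transcendental k₁ x := fun h => by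
  have : Algebra.IsAlgebraic k k₁ :=
    ⟨fun c => (isAlgebraic_algHom_iff (constField k K).val Subtype.val_injective).1 (isAlgebraic_constField c)⟩
  exact hx (h.restrictScalars k)

theorem isFunctionField_constField (hK : IsFF k K) : IsFunctionField k₁ K := by
  have := finiteDimensional_constField hK
  obtain ⟨x, hx, hfin⟩ := hK
  refine ⟨⟨x, transcendental_constField hx, ?_⟩, fun y hy => ?_⟩
  · have hle : IntermediateField.adjoin k ({x} : Set K) ≤
        (IntermediateField.adjoin k₁ ({x} : Set K)).restrictScalars k :=
      IntermediateField.adjoin_simple_le_iff.2 (IntermediateField.mem_adjoin_simple_self k₁ x)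
    let _ : Algebra (IntermediateField.adjoin k ({x} : Set K)) (IntermediateField.adjoin k₁ ({x} : Set K)) :=
      (IntermediateField.inclusion hle).toRingHom.toAlgebra
    have : IsScalarTower (IntermediateField.adjoin k ({x} : Set K)) (IntermediateField.adjoin k₁ ({x} : Set K)) K :=
      IsScalarTower.of_algebraMap_eq fun _ => rfl
    exact Module.Finite.of_restrictScalars_finite (IntermediateField.adjoin k ({x} : Set K)) _ _
  · have : Algebra.IsAlgebraic k k₁ := Algebra.IsAlgebraic.of_finite k k₁
    exact ⟨⟨y, mem_algebraicClosure_iff.2 (hy.restrictScalars k)⟩, rfl⟩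

/-- A `k`-place is a place over the constant field. -/
noncomputable def placeEquiv : Place k K ≃ Place k₁ K where
  toFun P := ⟨P.1, fun c => val_algebraic_le_one P (isAlgebraic_constField c).isIntegral, P.2.2⟩
  invFun Q := ⟨Q.1, fun c => by
    have h := Q.2.1 (algebraMap k k₁ c)
    rwa [← IsScalarTower.algebraMap_apply k k₁ K c] at h, Q.2.2⟩
  left_inv _ := rfl
  right_inv _ := rfl

/-- The place over the constant field. -/
noncomputable abbrev toPlace₁ (P : Place k K) : Place k₁ K := (placeEquiv (k := k) (K := K)).toFun P

theorem placeEquiv_ord (P : Place k K) (x : K) : (toPlace₁ P).ord x = P.ord x := rfl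

theorem finrank_tower_aux {k' R : Type*} [Field k'] [Algebra k k'] [CommRing R] [Algebra k R] [Algebra k' R]
    (h : ∀ c : k, algebraMap k R c = algebraMap k' R (algebraMap k k' c)) :
    Module.finrank k R = Module.finrank k k' * Module.finrank k' R :=
  have := IsScalarTower.of_algebraMap_eq h
  (Module.finrank_mul_finrank k k' R).symm

theorem deg_placeEquiv (P : Place k K) : P.deg = Module.finrank k k₁ * (toPlace₁ P).deg := by
  show Module.finrank k (IsLocalRing.ResidueField P.O) = _
  exact @finrank_tower_aux k _ k₁ (IsLocalRing.ResidueField P.O) _ _ _ (Place.algRes P)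
    (Place.algRes (toPlace₁ P)) fun c => rfl

theorem finrank_adjoin_constField (hK : IsFF k K) {x : K} (hx : Transcendental k x) :
    Module.finrank (IntermediateField.adjoin k ({x} : Set K)) K =
      Module.finrank k k₁ * Module.finrank (IntermediateField.adjoin k₁ ({x} : Set K)) K := by
  classical
  have := finiteDimensional_constField hK
  set F := IntermediateField.adjoin k ({x} : Set K)
  set E := IntermediateField.adjoin F ((constField k K : IntermediateField k K) : Set K)
  let b := Module.finBasis k k₁
  have hint : ∀ y ∈ ((constField k K : IntermediateField k K) : Set K), IsAlgebraic F y := fun y hy =>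
    (mem_algebraicClosure_iff.1 hy).tower_top F
  have hspan : Subalgebra.toSubmodule E.toSubalgebra = Submodule.span F (Set.range fun i => (b i : K)) := by
    rw [IntermediateField.adjoin_toSubalgebra_of_isAlgebraic hint, Algebra.adjoin_eq_span]
    refine le_antisymm (Submodule.span_le.2 ?_) (Submodule.span_mono ?_)
    · intro y hy
      have hy' : y ∈ constField k K := by
        induction hy using Submonoid.closure_induction with
        | mem z hz => exact hz
        | one => exact one_mem _
        | mul z w _ _ hz hw => exact mul_mem hz hw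
      have h1 := congrArg Subtype.val (b.sum_repr ⟨y, hy'⟩)
      simp only [AddSubmonoidClass.coe_finsetSum] at h1
      rw [show y = _ from h1.symm]
      refine Submodule.sum_mem _ fun i _ => ?_
      show ((b.repr ⟨y, hy'⟩) i • b i : k₁).1 ∈ _
      rw [IntermediateField.coe_smul, ← IsScalarTower.algebraMap_smul F ((b.repr ⟨y, hy'⟩) i) (b i : K)]
      exact Submodule.smul_mem _ _ (Submodule.subset_span ⟨i, rfl⟩)
    · rintro _ ⟨i, rfl⟩
      exact Submonoid.subset_closure (b i).2
  have hE : Module.finrank F E = Module.finrank k k₁ := by
    show Module.finrank F ↥(Subalgebra.toSubmodule E.toSubalgebra) = _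
    rw [hspan, finrank_span_eq_card (linearIndependent_adjoin_of_constField hx b.linearIndependent),
      Fintype.card_fin]
  have hEE : Module.finrank E K = Module.finrank (IntermediateField.adjoin k₁ ({x} : Set K)) K := by
    have hset : (E.restrictScalars k) = (IntermediateField.adjoin k₁ ({x} : Set K)).restrictScalars k := by
      rw [IntermediateField.adjoin_adjoin_left, IntermediateField.restrictScalars_adjoin, Set.union_comm]
    exact congrArg (fun F' : IntermediateField k K => Module.finrank F' K) hset
  rw [← hE, ← hEE, Module.finrank_mul_finrank]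

theorem finite_poles_ff (hK : IsFF k K) (x : K) : {P : Place k K | P.ord x < 0}.Finite := by
  have hK1 := isFunctionField_constField hK
  refine (((finite_support_ord hK1 x).subset fun Q (hQ : Q.ord x < 0) => hQ.ne).preimage
    (placeEquiv (k := k) (K := K)).injective.injOn).subset fun P hP => ?_
  exact hP

theorem finite_support_ord_ff (hK : IsFF k K) (x : K) : (Function.support fun P : Place k K => P.ord x).Finite :=
  ((finite_support_ord (isFunctionField_constField hK) x).preimage (placeEquiv (k := k) (K := K)).injective.injOn).subset
    fun _ hP => hP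

theorem div_apply_ff (hK : IsFF k K) (x : K) (P : Place k K) : div k x P = P.ord x := by
  rw [FunFld.div, dif_pos (finite_support_ord_ff hK x), Finsupp.ofSupportFinite_coe]

theorem deg_pos_ff (hK : IsFF k K) (P : Place k K) : 0 < P.deg := by
  have := finiteDimensional_constField hK
  rw [deg_placeEquiv]
  exact Nat.mul_pos Module.finrank_pos (deg_pos (isFunctionField_constField hK) _)

/-- The poles of a transcendental element count its degree. -/
theorem sum_poles_ff (hK : IsFF k K) {x : K} (hx : Transcendental k x) (S : Finset (Place k K))
    (hS : ∀ P : Place k K, P.ord x < 0 → P ∈ S) :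
    ∑ P ∈ S, max (-P.ord x) 0 * (P.deg : ℤ) = Module.finrank (IntermediateField.adjoin k ({x} : Set K)) K := by
  classical
  have hK1 := isFunctionField_constField hK
  have hx1 := transcendental_constField hx
  rw [finrank_adjoin_constField hK hx, Nat.cast_mul, ← deg_poles hK1 hx1]
  have hsub : (polesDiv k₁ x).support ⊆ S.map (placeEquiv (k := k) (K := K)).toEmbedding := fun Q hQ => by
    rw [Finsupp.mem_support_iff, polesDiv_apply hK1] at hQ
    refine Finset.mem_map.2 ⟨((placeEquiv (k := k) (K := K)).invFun Q), hS _ ?_, (placeEquiv (k := k) (K := K)).apply_symm_apply Q⟩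
    show Q.ord x < 0
    omega
  rw [Divisor.deg, Finsupp.sum_of_support_subset _ hsub _ (fun Q _ => by simp), Finset.sum_map, Finset.mul_sum]
  refine Finset.sum_congr rfl fun P _ => ?_
  rw [Equiv.coe_toEmbedding, polesDiv_apply hK1, deg_placeEquiv P]
  show _ = _ * (max (-P.ord x) 0 * ((toPlace₁ P).deg : ℤ))
  push_cast; ring

end Groth.Agent.FunFldLib
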