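import Groth.Agent.FunFld.ConstField
import Groth.Agent.FunFld.Constants
import Mathlib.RingTheory.TensorProduct.Free
import Mathlib.RingTheory.Flat.Basic
import Mathlib.RingTheory.Valuation.Extension
import Mathlib.FieldTheory.IsAlgClosed.AlgebraicClosure

/-!
Places of the extension to an algebraically closed constant field are defined over finite extensions.
-/

namespace Groth.Agent.FunFldLib.ConstDef

open FunFld WithZero TensorProduct

variable {k K kb Kb : Type*} [Field k] [Field K] [Field kb] [Field Kb]
  [Algebra k K] [Algebra k kb] [Algebra k Kb] [Algebra K Kb] [Algebra kb Kb]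
  [IsScalarTower k K Kb] [IsScalarTower k kb Kb]

/-- The bijectivity hypothesis of a constant extension. -/
def IsConstExt (k K kb Kb : Type*) [Field k] [Field K] [Field kb] [Field Kb]
    [Algebra k K] [Algebra k kb] [Algebra k Kb] [Algebra K Kb] [Algebra kb Kb]
    [IsScalarTower k K Kb] [IsScalarTower k kb Kb] : Prop :=
  Function.Bijective (Algebra.TensorProduct.productMap (IsScalarTower.toAlgHom k kb Kb) (IsScalarTower.toAlgHom k K Kb))

/-- The constant extension as a `kb`-algebra isomorphism. -/
noncomputable def extEquiv (h : IsConstExt k K kb Kb) : kb ⊗[k] K ≃ₐ[kb] Kb :=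
  AlgEquiv.ofBijective (Algebra.TensorProduct.lift (Algebra.ofId kb Kb) (IsScalarTower.toAlgHom k K Kb)
    fun _ _ => .all _ _) (by
      have h1 : Function.Bijective (Algebra.TensorProduct.productMap (IsScalarTower.toAlgHom k kb Kb)
        (IsScalarTower.toAlgHom k K Kb)) := h
      convert h1 using 1
      funext t
      induction t using TensorProduct.induction_on with
      | zero => simp
      | tmul a b => simp
      | add a b ha hb => rw [map_add, map_add, ha, hb])

/-- The basis of the extension coming from a basis below. -/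
noncomputable def extBasis (h : IsConstExt k K kb Kb) :
    Module.Basis (Module.Free.ChooseBasisIndex k K) kb Kb :=
  (Algebra.TensorProduct.basis kb (Module.Free.chooseBasis k K)).map (extEquiv h).toLinearEquiv

theorem extBasis_apply (h : IsConstExt k K kb Kb) (j : Module.Free.ChooseBasisIndex k K) :
    extBasis h j = algebraMap K Kb (Module.Free.chooseBasis k K j) := by
  simp [extBasis, extEquiv]

theorem adjoin_eq_top (h : IsConstExt k K kb Kb) : Algebra.adjoin K (Set.range (algebraMap kb Kb)) = ⊤ := by
  refine eq_top_iff.2 fun z _ => ?_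
  obtain ⟨t, rfl⟩ := h.2 z
  induction t using TensorProduct.induction_on with
  | zero => rw [map_zero]; exact zero_mem _
  | tmul a b =>
    rw [Algebra.TensorProduct.productMap_apply_tmul]
    exact mul_mem (Algebra.subset_adjoin ⟨a, rfl⟩) (Subalgebra.algebraMap_mem _ b)
  | add a b ha hb => rw [map_add]; exact add_mem (ha trivial) (hb trivial)

theorem mem_adjoin_of_coord (h : IsConstExt k K kb Kb) (k' : IntermediateField k kb) {z : Kb}
    (hz : ∀ j, (extBasis h).repr z j ∈ k') :
    z ∈ Algebra.adjoin K (Set.range fun c : k' => algebraMap kb Kb c) := by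
  rw [← (extBasis h).linearCombination_repr z, Finsupp.linearCombination_apply]
  refine Subalgebra.sum_mem _ fun j _ => ?_
  show (extBasis h).repr z j • extBasis h j ∈ _
  rw [extBasis_apply, Algebra.smul_def]
  exact mul_mem (Algebra.subset_adjoin ⟨⟨_, hz j⟩, rfl⟩) (Subalgebra.algebraMap_mem _ _)

/-- Finitely many elements are defined over a finite extension. -/
theorem exists_field_of_coords [Algebra.IsAlgebraic k kb] (h : IsConstExt k K kb Kb) {Z : Set Kb} (hZ : Z.Finite) :
    ∃ k' : IntermediateField k kb, FiniteDimensional k k' ∧ ∀ z ∈ Z, ∀ j, (extBasis h).repr z j ∈ k' := by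
  set S : Set kb := ⋃ z ∈ Z, Set.range ((extBasis h).repr z)
  have hS : S.Finite := hZ.biUnion fun z _ => Finsupp.finite_range _
  have := hS.to_subtype
  exact ⟨IntermediateField.adjoin k S, IntermediateField.finiteDimensional_adjoin fun c _ =>
    (Algebra.IsAlgebraic.isAlgebraic c).isIntegral, fun z hz j => IntermediateField.subset_adjoin k S
      (Set.mem_biUnion hz ⟨j, rfl⟩)⟩

theorem place_finite_poles [IsAlgClosed kb] [Algebra.IsAlgebraic k kb] (hK : IsFunctionField k K) (h : IsConstExt k K kb Kb) (u : Kb) :
    {R : Place kb Kb | 1 < R.1 u}.Finite := by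
  have hKb := isFunctionField_constExt (kb := kb) (Kb := Kb) hK (adjoin_eq_top h)
  rcases eq_or_ne u 0 with rfl | hu
  · simp
  exact (finite_poles_ff hKb.1 u).subset fun R hR => (one_lt_val_iff R hu).1 hR

/-- A place is alone over a finitely defined subfield, and has a parameter there. -/
theorem exists_field_of_place [IsAlgClosed kb] [Algebra.IsAlgebraic k kb] (hK : IsFunctionField k K)
    (h : IsConstExt k K kb Kb) (Q : Place kb Kb) :
    ∃ k' : IntermediateField k kb, FiniteDimensional k k' ∧
      (∃ z ∈ Algebra.adjoin K (Set.range fun c : k' => algebraMap kb Kb c), Q.1 z = exp (-1)) ∧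
      ∀ Q' : Place kb Kb, (∃ e : ℕ, ∀ z ∈ Algebra.adjoin K (Set.range fun c : k' => algebraMap kb Kb c),
        Q'.1 z = Q.1 z ^ e) → Q' = Q := by
  classical
  have : Algebra.IsAlgebraic K Kb := isAlgebraic_constExt k (adjoin_eq_top h)
  obtain ⟨P, e₀, he₀, hP⟩ := exists_belowC (k := k) (K := K) Q
  obtain ⟨x, hx⟩ := exists_val_eq P 1
  have hS := place_finite_poles hK h (algebraMap K Kb x)
  have hxQ : 1 < Q.1 (algebraMap K Kb x) := by
    rw [hP, hx]; exact one_lt_pow₀ (by rw [← exp_zero, exp_lt_exp]; norm_num) he₀.ne'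
  obtain ⟨z, hz⟩ := exists_val_eq Q (-1)
  let sep : Place kb Kb → Kb := fun R => if hR : R ≠ Q then (exists_one_lt_lt_one hR).choose else 0
  obtain ⟨k', hk', hmem⟩ := exists_field_of_coords h ((hS.image sep).insert z)
  refine ⟨k', hk', ⟨z, mem_adjoin_of_coord h k' (hmem z (Set.mem_insert _ _)), hz⟩, fun Q' ⟨e, he⟩ => ?_⟩
  by_contra hne
  have he1 : e ≠ 0 := fun h0 => by
    have := he 0 (zero_mem _)
    rw [h0, pow_zero, map_zero] at this
    exact zero_ne_one this
  have hQ'S : 1 < Q'.1 (algebraMap K Kb x) := by
    rw [he _ (Subalgebra.algebraMap_mem _ x)]; exact one_lt_pow₀ hxQ he1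
  obtain ⟨h1, h2⟩ := (exists_one_lt_lt_one hne).choose_spec
  have hu := he _ (mem_adjoin_of_coord h k' (hmem (sep Q') (Set.mem_insert_of_mem _ ⟨Q', hQ'S, rfl⟩)))
  simp only [sep, dif_pos hne] at hu
  rw [hu] at h1
  exact absurd h1 (not_lt.2 (pow_le_one₀ zero_le h2.le))

section Descend

variable {k' : IntermediateField k kb} {K' : Type*} [Field K'] [Algebra K K'] [Algebra k' K'] [Algebra k K']
  [IsScalarTower k k' K'] [IsScalarTower k K K'] (h : IsConstExt k K kb Kb) (h' : IsConstExt k K k' K')

/-- The embedding of a finite constant extension into the big one. -/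
noncomputable def emb : K' →+* Kb :=
  ((Algebra.TensorProduct.productMap ((IsScalarTower.toAlgHom k kb Kb).comp k'.val) (IsScalarTower.toAlgHom k K Kb)).toRingHom).comp
    (extEquiv h').symm.toRingEquiv.toRingHom

theorem emb_mul (c : k') (a : K) :
    emb (Kb := Kb) h' (algebraMap k' K' c * algebraMap K K' a) = algebraMap kb Kb c * algebraMap K Kb a := by
  have : (extEquiv h').symm (algebraMap k' K' c * algebraMap K K' a) = c ⊗ₜ a := by
    rw [AlgEquiv.symm_apply_eq]; simp [extEquiv]
  show Algebra.TensorProduct.productMap _ _ ((extEquiv h').symm _) = _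
  rw [this, Algebra.TensorProduct.productMap_apply_tmul]; rfl

theorem emb_algebraMap (a : K) : emb (Kb := Kb) h' (algebraMap K K' a) = algebraMap K Kb a := by
  simpa using emb_mul (Kb := Kb) h' 1 a

theorem emb_const (c : k') : emb (Kb := Kb) h' (algebraMap k' K' c) = algebraMap kb Kb c := by
  simpa using emb_mul (Kb := Kb) h' c 1

theorem emb_smul (c : k') (z : K') : emb (Kb := Kb) h' (c • z) = (c : kb) • emb h' z := by
  rw [Algebra.smul_def, map_mul, emb_const, Algebra.smul_def]

theorem emb_basis (j : Module.Free.ChooseBasisIndex k K) :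
    emb (Kb := Kb) h' (extBasis h' j) = extBasis h j := by
  rw [extBasis_apply, extBasis_apply, emb_algebraMap]

include h in
theorem mem_range_emb {z : Kb} (hz : ∀ j, (extBasis h).repr z j ∈ k') : ∃ z' : K', emb h' z' = z := by
  refine ⟨∑ j ∈ ((extBasis h).repr z).support, (⟨_, hz j⟩ : k') • extBasis h' j, ?_⟩
  rw [map_sum]
  simp only [emb_smul, emb_basis h h']
  exact (extBasis h).linearCombination_repr z

include h in
theorem linearIndependent_emb {ι : Type*} {v : ι → K'} (hv : LinearIndependent k' v) :
    LinearIndependent kb fun i => emb (Kb := Kb) h' (v i) := by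
  classical
  rw [linearIndependent_iff']
  intro s g hg i hi
  have hs : LinearIndependent k' fun t : s => v t := hv.comp _ Subtype.val_injective
  obtain ⟨l, hl⟩ := LinearMap.exists_extend ((Module.Basis.span hs).coord ⟨i, hi⟩)
  have hlv : ∀ t ∈ s, l (v t) = if t = i then 1 else 0 := fun t ht => by
    have h1 := congrArg (fun f => f (Module.Basis.span hs ⟨t, ht⟩)) hl
    simp only [LinearMap.comp_apply, Submodule.subtype_apply, Module.Basis.coord_apply, Module.Basis.repr_self,
      Finsupp.single_apply, Subtype.mk.injEq] at h1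
    rw [Module.Basis.span_apply] at h1
    exact h1
  let L : Kb →ₗ[kb] kb := (extBasis h).constr kb fun j => (l (extBasis h' j) : kb)
  have hL : ∀ z : K', L (emb h' z) = l z := fun z => by
    conv_lhs => rw [← (extBasis h').linearCombination_repr z, Finsupp.linearCombination_apply, Finsupp.sum, map_sum]
    conv_rhs => rw [← (extBasis h').linearCombination_repr z, Finsupp.linearCombination_apply, Finsupp.sum, map_sum]
    rw [map_sum, AddSubmonoidClass.coe_finsetSum]
    refine Finset.sum_congr rfl fun j _ => ?_
    rw [emb_smul, emb_basis h h', map_smul, map_smul, Module.Basis.constr_basis]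
    rfl
  have h1 := congrArg L hg
  rw [map_sum, map_zero, Finset.sum_eq_single i] at h1
  · rw [map_smul, hL, hlv i hi, if_pos rfl] at h1; simpa using h1
  · intro t ht hne
    rw [map_smul, hL, hlv t ht, if_neg hne]; simp
  · exact fun hn => absurd hi hn

include h in
theorem transcendental_emb {u : K'} (hu : Transcendental k' u) : Transcendental kb (emb (Kb := Kb) h' u) := by
  have hli : LinearIndependent k' fun n : ℕ => u ^ n := by
    have := (Polynomial.basisMonomials k').linearIndependent.map'
      (Polynomial.aeval (R := k') u).toLinearMap (LinearMap.ker_eq_bot.2 (transcendental_iff_injective.1 hu))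
    simpa [Function.comp_def, Polynomial.coe_basisMonomials] using this
  have h2 : LinearIndependent kb fun n : ℕ => emb (Kb := Kb) h' u ^ n := by
    simpa [map_pow] using linearIndependent_emb h h' hli
  refine transcendental_iff.2 fun p hp => ?_
  rw [Polynomial.aeval_eq_sum_range] at hp
  ext n
  by_cases hn : n ≤ p.natDegree
  · exact linearIndependent_iff'.1 h2 _ _ hp n (Finset.mem_range.2 (Nat.lt_succ_of_le hn))
  · exact Polynomial.coeff_eq_zero_of_natDegree_lt (not_le.1 hn)

include h h' in
theorem rank_adjoin_le (hKb : IsFunctionField kb Kb) {u : K'} (hu : Transcendental k' u) :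
    FiniteDimensional (IntermediateField.adjoin k' ({u} : Set K')) K' ∧
      Module.finrank (IntermediateField.adjoin k' ({u} : Set K')) K' ≤
        Module.finrank (IntermediateField.adjoin kb ({emb (Kb := Kb) h' u} : Set Kb)) Kb := by
  classical
  set E₁ := IntermediateField.adjoin k' ({u} : Set K')
  set U := emb (Kb := Kb) h' u
  set E₂ := IntermediateField.adjoin kb ({U} : Set Kb)
  have hU := transcendental_emb h h' hu
  have := finiteDimensional_adjoin hKb hU
  have hbound : ∀ s : Finset K', LinearIndependent E₁ (fun i : s => (i : K')) → s.card ≤ Module.finrank E₂ Kb := by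
    intro s hs
    have hpow : LinearIndependent k' fun n : ℕ => (IntermediateField.AdjoinSimple.gen k' u : E₁) ^ n := by
      have h0 : LinearIndependent k' fun n : ℕ => u ^ n := by
        have := (Polynomial.basisMonomials k').linearIndependent.map'
          (Polynomial.aeval (R := k') u).toLinearMap (LinearMap.ker_eq_bot.2 (transcendental_iff_injective.1 hu))
        simpa [Function.comp_def, Polynomial.coe_basisMonomials] using this
      exact LinearIndependent.of_comp E₁.val.toLinearMap (by simpa [Function.comp_def] using h0)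
    have h3 := linearIndependent_emb (Kb := Kb) h h' (linearIndependent_smul hpow hs)
    have hli : LinearIndependent (Algebra.adjoin kb ({U} : Set Kb)) fun i : s => emb (Kb := Kb) h' (i : K') := by
      rw [Fintype.linearIndependent_iff]
      intro g hg i
      have hp : ∀ i, ∃ p : Polynomial kb, Polynomial.aeval U p = (g i : Kb) := fun i => by
        obtain ⟨p, hp⟩ := (SetLike.ext_iff.1 (Algebra.adjoin_singleton_eq_range_aeval kb U) _).1 (g i).2
        exact ⟨p, hp⟩
      choose p hp using hp
      set N := Finset.univ.sup fun i => (p i).natDegree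
      have hsum : ∑ x ∈ Finset.range (N + 1) ×ˢ (Finset.univ : Finset s),
          (p x.2).coeff x.1 • emb (Kb := Kb) h' ((IntermediateField.AdjoinSimple.gen k' u : E₁) ^ x.1 • (x.2 : K')) = 0 := by
        rw [Finset.sum_product_right]
        refine (Finset.sum_congr rfl fun i _ => ?_).trans hg
        rw [Algebra.smul_def, show algebraMap (Algebra.adjoin kb ({U} : Set Kb)) Kb (g i) = (g i : Kb) from rfl,
          ← hp i, Polynomial.aeval_eq_sum_range' (n := N + 1)
            (Nat.lt_succ_of_le (Finset.le_sup (f := fun i => (p i).natDegree) (Finset.mem_univ i))), Finset.sum_mul]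
        refine Finset.sum_congr rfl fun n _ => ?_
        rw [smul_mul_assoc, Algebra.smul_def (R := E₁), map_mul, map_pow, map_pow]
        rfl
      have h0 := linearIndependent_iff'.1 h3 _ (fun x => (p x.2).coeff x.1) hsum
      have hpi : p i = 0 := Polynomial.ext fun n => by
        by_cases hn : n ≤ N
        · exact h0 (n, i) (by simp; omega)
        · exact Polynomial.coeff_eq_zero_of_natDegree_lt
            (lt_of_le_of_lt (Finset.le_sup (f := fun i => (p i).natDegree) (Finset.mem_univ i)) (not_le.1 hn))
      exact Subtype.ext (by rw [← hp i, hpi, map_zero]; rfl)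
    have hli' : LinearIndependent E₂ fun i : s => emb (Kb := Kb) h' (i : K') := by
      open IntermediateField.algebraAdjoinAdjoin in
      exact (LinearIndependent.iff_fractionRing (Algebra.adjoin kb ({U} : Set Kb)) E₂).1 hli
    simpa using hli'.fintype_card_le_finrank
  have hrank : Module.rank E₁ K' ≤ (Module.finrank E₂ Kb : ℕ) := rank_le hbound
  exact ⟨Module.rank_lt_aleph0_iff.1 (lt_of_le_of_lt hrank Cardinal.natCast_lt_aleph0),
    Module.finrank_le_of_rank_le hrank⟩

include h h' in
theorem isFunctionField_descend [IsAlgClosed kb] [Algebra.IsAlgebraic k kb] (hK : IsFunctionField k K) : IsFunctionField k' K' := by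
  have hKb := isFunctionField_constExt (kb := kb) (Kb := Kb) hK (adjoin_eq_top h)
  obtain ⟨x, hx, -⟩ := hK.1
  have hxb : Transcendental kb (emb (Kb := Kb) h' (algebraMap K K' x)) := by
    rw [emb_algebraMap]; exact transcendental_constExt hx
  have hx' : Transcendental k' (algebraMap K K' x) := transcendental_iff.2 fun p hp => by
    have h0 : Polynomial.aeval (emb (Kb := Kb) h' (algebraMap K K' x)) (p.map (algebraMap k' kb)) = 0 := by
      rw [Polynomial.aeval_def, Polynomial.eval₂_map,
        show (algebraMap kb Kb).comp (algebraMap k' kb) = (emb h').comp (algebraMap k' K') from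
          RingHom.ext fun c => (emb_const h' c).symm,
        ← Polynomial.hom_eval₂, ← Polynomial.aeval_def, hp, map_zero]
    exact (Polynomial.map_eq_zero_iff (algebraMap k' kb).injective).1 (transcendental_iff.1 hxb _ h0)
  refine ⟨⟨_, hx', (rank_adjoin_le h h' hKb hx').1⟩, fun y hy => by_contra fun hyr => ?_⟩
  have hli : LinearIndependent k' ![(1 : K'), y] := by
    rw [LinearIndependent.pair_iff]
    intro s t hst
    have ht : t = 0 := by_contra fun ht => hyr ⟨-(s / t), by
      rw [Algebra.algebraMap_eq_smul_one, neg_smul, div_eq_inv_mul, mul_smul,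
        eq_neg_of_add_eq_zero_left hst, smul_neg, neg_neg, inv_smul_smul₀ ht]⟩
    subst ht
    simpa using hst
  obtain ⟨c, hc⟩ := hKb.2 (emb h' y) (not_not.1 fun hny => by
    exact (fun hty => hty hy) (fun halg => hny (by
      obtain ⟨p, hp0, hp⟩ := halg
      refine ⟨p.map (algebraMap k' kb), (Polynomial.map_ne_zero_iff (algebraMap k' kb).injective).2 hp0, ?_⟩
      rw [Polynomial.aeval_def, Polynomial.eval₂_map,
        show (algebraMap kb Kb).comp (algebraMap k' kb) = (emb h').comp (algebraMap k' K') from
          RingHom.ext fun c => (emb_const h' c).symm,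
        ← Polynomial.hom_eval₂, ← Polynomial.aeval_def, hp, map_zero])))
  have h2 := LinearIndependent.pair_iff.1 (by
    have := linearIndependent_emb (Kb := Kb) h h' hli
    rwa [show (fun i => emb (Kb := Kb) h' (![(1 : K'), y] i)) = ![1, emb h' y] by
      funext i; fin_cases i <;> simp] at this) c (-1) (by rw [← hc, Algebra.smul_def, mul_one]; simp)
  exact one_ne_zero (neg_eq_zero.1 h2.2)

end Descend

/-- A finite splitting field inside the big constant extension. -/
theorem exists_splitting [IsAlgClosed kb] [Algebra.IsAlgebraic k kb] (hK : IsFunctionField k K)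
    (h : IsConstExt k K kb Kb) (P : Place k K) :
    ∃ k' : IntermediateField k kb, FiniteDimensional k k' ∧
      ∀ (K' : Type*) [Field K'] [Algebra K K'] [Algebra k' K'] [Algebra k K']
        [IsScalarTower k k' K'] [IsScalarTower k K K'], IsConstExt k K k' K' →
        ∀ Q : Place k' K', P.1.HasExtension Q.1 → Q.deg = 1 := by
  classical
  obtain ⟨x, hx⟩ := exists_val_eq P 1
  have hS := place_finite_poles hK h (algebraMap K Kb x)
  choose unif hunif using fun R : Place kb Kb => exists_val_eq R (-1)
  let sep : Place kb Kb × Place kb Kb → Kb := fun R => if hR : R.1 ≠ R.2 then (exists_one_lt_lt_one hR).choose else 0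
  obtain ⟨k', hk', hmem⟩ := exists_field_of_coords h ((hS.image unif).union ((hS.prod hS).image sep))
  refine ⟨k', hk', fun K' _ _ _ _ _ _ h' Q hext => ?_⟩
  have hKb := isFunctionField_constExt (kb := kb) (Kb := Kb) hK (adjoin_eq_top h)
  have hK' := isFunctionField_descend h h' hK
  -- a function with its only pole at `Q`
  obtain ⟨u, huL, hut⟩ : ∃ u, u ∈ L (Finsupp.single Q ((2 * genus k' K' + 1 : ℕ) : ℤ)) ∧ Transcendental k' u := by
    refine exists_transcendental_mem_L hK' ?_
    have hp := deg_pos hK' Q
    have h1 : (2 * genus k' K' + 1 : ℕ) ≤ (2 * genus k' K' + 1) * Q.deg := Nat.le_mul_of_pos_right _ hp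
    have h3 : Divisor.deg (Finsupp.single Q ((2 * genus k' K' + 1 : ℕ) : ℤ) : Divisor k' K') =
        (((2 * genus k' K' + 1) * Q.deg : ℕ) : ℤ) := by rw [deg_single]; push_cast; ring
    have h2 := ell_eq_of_deg_ge hK' (D := Finsupp.single Q ((2 * genus k' K' + 1 : ℕ) : ℤ)) (by rw [h3]; omega)
    rw [h3] at h2
    omega
  have hu0 : u ≠ 0 := by rintro rfl; exact hut isAlgebraic_zero
  have hother : ∀ R, R ≠ Q → 0 ≤ R.ord u := fun R hR => by
    simpa [Finsupp.single_eq_of_ne hR] using (mem_L_iff hu0).1 huL R
  have hUt := transcendental_emb (Kb := Kb) h h' hut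
  set U := emb (Kb := Kb) h' u
  have hU0 : U ≠ 0 := by intro h0; rw [h0] at hUt; exact hUt isAlgebraic_zero
  letI : Algebra K' Kb := (emb (Kb := Kb) h').toAlgebra
  have : IsScalarTower k' K' Kb := IsScalarTower.of_algebraMap_eq fun c => (emb_const h' c).symm
  have : IsScalarTower K K' Kb := IsScalarTower.of_algebraMap_eq fun a => (emb_algebraMap h' a).symm
  have : Algebra.IsAlgebraic K Kb := isAlgebraic_constExt k (adjoin_eq_top h)
  have : Algebra.IsAlgebraic K' Kb := Algebra.IsAlgebraic.tower_top (K := K) K'
  -- every pole of `U` lies over `Q`, and over `P`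
  have hover : ∀ R : Place kb Kb, 1 < R.1 U →
      1 < R.1 (algebraMap K Kb x) ∧ ∀ z : K', R.1 (emb h' z) = Q.1 z := by
    intro R hR
    obtain ⟨Q₁, e, he, hQ₁⟩ := exists_belowC (k := k') (K := K') R
    have hQ₁' : ∀ z : K', R.1 (emb h' z) = Q₁.1 z ^ e := hQ₁
    have hQ : Q₁ = Q := by
      by_contra hne
      rw [hQ₁'] at hR
      exact absurd hR (not_lt.2 (pow_le_one₀ zero_le ((val_le_one_iff Q₁ hu0).2 (hother Q₁ hne))))
    subst hQ
    have hxR : 1 < R.1 (algebraMap K Kb x) := by
      rw [← emb_algebraMap (Kb := Kb) h' x, hQ₁']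
      refine one_lt_pow₀ (not_le.1 fun hle => ?_) he.ne'
      have := (Valuation.HasExtension.val_map_le_one_iff P.1 Q₁.1 x).1 hle
      rw [hx, ← exp_zero, exp_le_exp] at this
      omega
    refine ⟨hxR, fun z => ?_⟩
    obtain ⟨t, ht⟩ := mem_range_emb h h' (hmem (unif R) (Or.inl ⟨R, hxR, rfl⟩))
    have h1 := hunif R
    rw [← ht, hQ₁'] at h1
    have ht0 : t ≠ 0 := fun h0 => by rw [h0, map_zero, zero_pow he.ne'] at h1; exact exp_ne_zero h1.symm
    rw [val_eq_exp Q₁ ht0, ← exp_nsmul, exp_inj, nsmul_eq_mul] at h1
    have he1 : e = 1 := by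
      have : (e : ℤ) ∣ 1 := ⟨Q₁.ord t, by linarith⟩
      exact_mod_cast Int.eq_one_of_dvd_one (Int.natCast_nonneg e) this
    rw [hQ₁', he1, pow_one]
  obtain ⟨R₀, hR₀⟩ : ∃ R : Place kb Kb, 1 < R.1 U := by
    obtain ⟨R, hR⟩ := (exists_zero_pole hKb (x := U) fun ⟨c, hc⟩ => hUt (hc ▸ isAlgebraic_algebraMap c)).2
    exact ⟨R, (one_lt_val_iff R hU0).2 hR⟩
  have huniq : ∀ R : Place kb Kb, 1 < R.1 U → R = R₀ := fun R hR => by_contra fun hne => by
    obtain ⟨hx1, hv1⟩ := hover R hR
    obtain ⟨hx0, hv0⟩ := hover R₀ hR₀
    obtain ⟨t, ht⟩ := mem_range_emb h h' (hmem (sep (R, R₀)) (Or.inr ⟨(R, R₀), ⟨hx1, hx0⟩, rfl⟩))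
    obtain ⟨ha, hb⟩ := (exists_one_lt_lt_one hne).choose_spec
    simp only [sep, dif_pos hne] at ht
    rw [← ht, hv1] at ha
    rw [← ht, hv0] at hb
    exact absurd ha hb.le.not_gt
  have s1 := sum_poles_ff hKb.1 hUt {R₀} fun R hR => Finset.mem_singleton.2 (huniq R ((one_lt_val_iff R hU0).2 hR))
  have s2 := sum_poles_ff hK'.1 hut {Q} fun R hR => Finset.mem_singleton.2
    (by_contra fun hne => absurd (hother R hne) (not_le.2 hR))
  rw [Finset.sum_singleton, deg_eq_one hKb R₀, Nat.cast_one, mul_one] at s1
  rw [Finset.sum_singleton] at s2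
  have hord : R₀.ord U = Q.ord u := by rw [Place.ord, Place.ord, (hover R₀ hR₀).2 u]
  have hle := (rank_adjoin_le h h' hKb hut).2
  have hneg : R₀.ord U < 0 := (one_lt_val_iff R₀ hU0).1 hR₀
  have hle' : max (-Q.ord u) 0 * (Q.deg : ℤ) ≤ max (-Q.ord u) 0 * 1 := by
    rw [s2, mul_one, ← hord, s1]
    exact_mod_cast hle
  have h1 : (Q.deg : ℤ) ≤ 1 := le_of_mul_le_mul_left hle' (lt_max_of_lt_left (by omega))
  have := deg_pos hK' Q
  omega

universe u v

/-- The geometric extension to the algebraic closure is a field. -/
theorem isField_algClosure {k kb : Type u} {K : Type v} [Field k] [Field K] [Field kb] [Algebra k K] [Algebra k kb]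
    [Algebra.IsAlgebraic k kb] (hg : IsGeometric k K) : IsField (kb ⊗[k] K) := by
  have : Nontrivial (kb ⊗[k] K) :=
    (Algebra.TensorProduct.includeRight_injective (R := k) (A := kb) (B := K) (algebraMap k kb).injective).nontrivial
  refine ⟨exists_pair_ne _, mul_comm, fun {t} ht => ?_⟩
  set m := Algebra.TensorProduct.basis kb (Module.Free.chooseBasis k K)
  set S : Set kb := Set.range (m.repr t)
  have hS : S.Finite := Finsupp.finite_range _
  have := hS.to_subtype
  set E := IntermediateField.adjoin k S
  have : FiniteDimensional k E := IntermediateField.finiteDimensional_adjoin fun c _ =>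
    (Algebra.IsAlgebraic.isAlgebraic c).isIntegral
  let g : E ⊗[k] K →ₐ[k] kb ⊗[k] K := Algebra.TensorProduct.map E.val (AlgHom.id k K)
  obtain ⟨t', ht'⟩ : ∃ t', g t' = t := by
    refine ⟨∑ j ∈ (m.repr t).support, (⟨_, IntermediateField.subset_adjoin k S ⟨j, rfl⟩⟩ : E) ⊗ₜ
      Module.Free.chooseBasis k K j, ?_⟩
    conv_rhs => rw [← m.linearCombination_repr t, Finsupp.linearCombination_apply, Finsupp.sum]
    rw [map_sum]
    refine Finset.sum_congr rfl fun j _ => ?_
    rw [Algebra.TensorProduct.map_tmul, Algebra.TensorProduct.basis_apply, TensorProduct.smul_tmul', smul_eq_mul, mul_one]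
    rfl
  obtain ⟨s, hs⟩ := (hg E inferInstance).mul_inv_cancel (a := t') (fun h0 => ht (by rw [← ht', h0, map_zero]))
  exact ⟨g s, by rw [← ht']; exact ((g.toRingHom.map_mul t' s).symm.trans (congrArg g.toRingHom hs)).trans g.toRingHom.map_one⟩

theorem exists_finite_splitting {k : Type u} {K : Type v} [Field k] [Field K] [Algebra k K]
    (hK : IsFunctionField k K) (hg : IsGeometric k K) (P : Place k K) :
    ∃ (k' : Type u) (_ : Field k') (_ : Algebra k k'), FiniteDimensional k k' ∧
      ∀ (K' : Type v) [Field K'] [Algebra K K'] [Algebra k' K'] [Algebra k K']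
        [IsScalarTower k k' K'] [IsScalarTower k K K'],
        Function.Bijective (Algebra.TensorProduct.productMap
          (IsScalarTower.toAlgHom k k' K') (IsScalarTower.toAlgHom k K K')) →
        ∀ Q : Place k' K', P.1.HasExtension Q.1 → Q.deg = 1 := by
  letI := (isField_algClosure (kb := AlgebraicClosure k) hg).toField
  letI : Algebra K (AlgebraicClosure k ⊗[k] K) := Algebra.TensorProduct.rightAlgebra
  have : IsScalarTower k K (AlgebraicClosure k ⊗[k] K) := IsScalarTower.of_algebraMap_eq fun c => by
    show _ = (1 : AlgebraicClosure k) ⊗ₜ[k] algebraMap k K c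
    rw [Algebra.TensorProduct.algebraMap_apply, Algebra.algebraMap_eq_smul_one, TensorProduct.smul_tmul,
      ← Algebra.algebraMap_eq_smul_one]
  have h : IsConstExt k K (AlgebraicClosure k) (AlgebraicClosure k ⊗[k] K) := by
    unfold IsConstExt
    convert Function.bijective_id using 1
    funext t
    induction t using TensorProduct.induction_on with
    | zero => simp
    | tmul a b =>
      show algebraMap (AlgebraicClosure k) (AlgebraicClosure k ⊗[k] K) a * algebraMap K (AlgebraicClosure k ⊗[k] K) b = _
      simp [Algebra.TensorProduct.algebraMap_apply, RingHom.algebraMap_toAlgebra]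
    | add a b ha hb => rw [map_add, ha, hb]; rfl
  obtain ⟨k', hk', hdeg⟩ := exists_splitting hK h P
  exact ⟨k', inferInstance, inferInstance, hk', fun K' _ _ _ _ _ _ hb => hdeg K' hb⟩

end Groth.Agent.FunFldLib.ConstDef
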