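import Groth.Agent.FunFld.ZetaRoots

/-!
Point counts and the zeta numerator of a constant-field extension.
-/

namespace Groth.Agent.FunFldLib

open FunFld

section Fix

variable {k K kb Kb : Type*} [Field k] [Finite k] [Field K] [Field kb] [Field Kb]
  [Algebra k K] [Algebra k kb] [Algebra k Kb] [Algebra K Kb] [Algebra kb Kb]
  [IsScalarTower k K Kb] [IsScalarTower k kb Kb]
  [IsAlgClosed kb] [Algebra.IsAlgebraic k kb] [Algebra.IsAlgebraic K Kb]

omit [Algebra.IsAlgebraic k kb] [Algebra.IsAlgebraic K Kb] [Algebra K Kb] [Algebra k K] [Field K]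
  [IsScalarTower k K Kb] [IsScalarTower k kb Kb] [Algebra k kb] in
theorem fixPlaces_finite (hKb : IsFunctionField kb Kb) {m : ℕ} (hm : 0 < m) {ψ : Kb ≃+* Kb}
    (hψ : IsFrobSemi kb (Nat.card k ^ m) ψ) : (fixPlaces kb ψ).Finite := by
  have : Fintype k := Fintype.ofFinite k
  obtain ⟨p, hchar⟩ := CharP.exists k
  obtain ⟨f, hp, hcard⟩ := FiniteField.card k p
  have : Fact p.Prime := ⟨hp⟩
  have : CharP Kb p := charP_of_injective_algebraMap (algebraMap k Kb).injective p
  rw [Nat.card_eq_fintype_card, hcard, ← pow_mul] at hψ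
  exact (fix_upper hKb p _ (Nat.mul_pos f.pos hm) hψ).1

end Fix

section Two

variable {k K k' K' kb Kb : Type*} [Field k] [Finite k] [Field K] [Field k'] [Finite k'] [Field K'] [Field kb]
  [Field Kb] [Algebra k K] [Algebra k k'] [Algebra k' K'] [Algebra K K'] [Algebra k kb] [Algebra k Kb]
  [Algebra K Kb] [Algebra k' kb] [Algebra k' Kb] [Algebra K' Kb] [Algebra kb Kb]
  [IsScalarTower k K Kb] [IsScalarTower k kb Kb] [IsScalarTower k' K' Kb] [IsScalarTower k' kb Kb]
  [IsScalarTower K K' Kb] [IsAlgClosed kb] [Algebra.IsAlgebraic k kb] [Algebra.IsAlgebraic k' kb]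

theorem pointCount_constExt_aux (hK : IsFunctionField k K) (hK' : IsFunctionField k' K')
    (hgen' : Algebra.adjoin K' (Set.range (algebraMap kb Kb)) = ⊤)
    (hgen : Algebra.adjoin K (Set.range (algebraMap k' K')) = ⊤) {m : ℕ} (hm : 0 < m) :
    pointCount k' K' m = pointCount k K (Module.finrank k k' * m) := by
  have : Module.Finite k k' := Module.Finite.of_finite
  have : Algebra.IsAlgebraic K' Kb := isAlgebraic_constExt k' hgen'
  have hgenK : Algebra.adjoin K (Set.range (algebraMap kb Kb)) = ⊤ := by
    set A := Algebra.adjoin K (Set.range (algebraMap kb Kb))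
    have h1 : ∀ x : K', algebraMap K' Kb x ∈ A := fun x => by
      have hx : x ∈ Algebra.adjoin K (Set.range (algebraMap k' K')) := by rw [hgen]; trivial
      induction hx using Algebra.adjoin_induction with
      | mem y hy =>
        obtain ⟨c, rfl⟩ := hy
        rw [← IsScalarTower.algebraMap_apply, IsScalarTower.algebraMap_apply k' kb Kb]
        exact Algebra.subset_adjoin ⟨_, rfl⟩
      | algebraMap r => rw [← IsScalarTower.algebraMap_apply]; exact A.algebraMap_mem r
      | add x y _ _ hx hy => rw [map_add]; exact add_mem hx hy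
      | mul x y _ _ hx hy => rw [map_mul]; exact mul_mem hx hy
    refine eq_top_iff.2 fun z _ => ?_
    have hz : z ∈ Algebra.adjoin K' (Set.range (algebraMap kb Kb)) := by rw [hgen']; trivial
    induction hz using Algebra.adjoin_induction with
    | mem y hy => exact Algebra.subset_adjoin hy
    | algebraMap r => exact h1 r
    | add x y _ _ hx hy => exact add_mem (hx trivial) (hy trivial)
    | mul x y _ _ hx hy => exact mul_mem (hx trivial) (hy trivial)
  have : Algebra.IsAlgebraic K Kb := isAlgebraic_constExt k hgenK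
  have hKb : IsFunctionField kb Kb := isFunctionField_constExt hK' hgen'
  obtain ⟨ψ, τ, hid, -, hψ⟩ := exists_frobSemi (kb := kb) (Kb := Kb) hK' hgen' m
  have hidK : ∀ x : K, ψ (algebraMap K Kb x) = algebraMap K Kb x := fun x => by
    rw [IsScalarTower.algebraMap_apply K K' Kb, hid]
  have hfin := fixPlaces_finite hKb hm hψ
  have hn : 0 < Module.finrank k k' * m := Nat.mul_pos Module.finrank_pos hm
  have hψ' : IsFrobSemi kb (Nat.card k ^ (Module.finrank k k' * m)) ψ := by
    rwa [pow_mul, ← Module.natCard_eq_pow_finrank]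
  exact (card_fixPlaces hK' hgen' hKb hm hid hψ hfin).2.symm.trans
    (card_fixPlaces hK hgenK hKb hn hidK hψ' hfin).2

end Two

variable {k K k' K' : Type*} [Field k] [Finite k] [Field K] [Algebra k K] [Field k'] [Finite k']
  [Field K'] [Algebra k k'] [Algebra K K'] [Algebra k' K']

theorem pointCount_constExt (hK : IsFunctionField k K) (hK' : IsFunctionField k' K')
    (hce : IsConstExt k K k' K') {m : ℕ} (hm : 0 < m) :
    pointCount k' K' m = pointCount k K (Module.finrank k k' * m) := by
  have : Module.Finite k k' := Module.Finite.of_finite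
  let Ω := AlgebraicClosure K'
  let kb := algebraicClosure k' Ω
  let Kb := IntermediateField.adjoin K' (kb : Set Ω)
  have hmem : ∀ c : kb, (c : Ω) ∈ Kb := fun c => IntermediateField.subset_adjoin K' _ c.2
  let _ : Algebra kb Kb := (RingHom.codRestrict (algebraMap kb Ω) Kb hmem).toAlgebra
  have : IsScalarTower k' kb Kb := IsScalarTower.of_algebraMap_eq fun c => Subtype.ext (by
    show algebraMap K' Ω (algebraMap k' K' c) = algebraMap k' Ω c
    rw [← IsScalarTower.algebraMap_apply])
  have : IsAlgClosure k' kb := algebraicClosure.isAlgClosure k' Ω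
  have : IsAlgClosed kb := this.isAlgClosed
  have : Algebra.IsAlgebraic k' kb := algebraicClosure.isAlgebraic k' Ω
  let _ : Algebra k kb := ((algebraMap k' kb).comp (algebraMap k k')).toAlgebra
  have : IsScalarTower k k' kb := IsScalarTower.of_algebraMap_eq fun c => rfl
  have : Algebra.IsAlgebraic k kb := Algebra.IsAlgebraic.trans k k' kb
  let _ : Algebra k Kb := ((algebraMap kb Kb).comp (algebraMap k kb)).toAlgebra
  have : IsScalarTower k kb Kb := IsScalarTower.of_algebraMap_eq fun c => rfl
  let _ : Algebra K Kb := ((algebraMap K' Kb).comp (algebraMap K K')).toAlgebra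
  have : IsScalarTower K K' Kb := IsScalarTower.of_algebraMap_eq fun c => rfl
  have : IsScalarTower k K Kb := IsScalarTower.of_algebraMap_eq fun c => by
    show algebraMap kb Kb (algebraMap k' kb (algebraMap k k' c)) = algebraMap K' Kb (algebraMap K K' (algebraMap k K c))
    rw [hce.1 c, ← IsScalarTower.algebraMap_apply k' K' Kb, ← IsScalarTower.algebraMap_apply k' kb Kb]
  have hgen' : Algebra.adjoin K' (Set.range (algebraMap kb Kb)) = ⊤ := by
    refine Subalgebra.map_injective (f := Kb.val) Subtype.val_injective ?_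
    rw [Algebra.map_top, AlgHom.map_adjoin, ← Set.range_comp]
    have hr : Set.range (Kb.val ∘ algebraMap kb Kb) = (kb : Set Ω) :=
      Set.ext fun z => ⟨by rintro ⟨c, rfl⟩; exact c.2, fun hz => ⟨⟨z, hz⟩, rfl⟩⟩
    rw [hr, ← IntermediateField.adjoin_toSubalgebra_of_isAlgebraic fun z hz =>
      IsAlgebraic.tower_top (K := k') (A := Ω) K' (mem_algebraicClosure_iff.1 hz)]
    exact SetLike.ext' (Subtype.range_val).symm
  exact pointCount_constExt_aux hK hK' hgen' hce.2.1 hm

/-- The numerator of the constant-field extension. -/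
theorem isAlpha_constExt (hK : IsFunctionField k K) (hK' : IsFunctionField k' K')
    (hce : IsConstExt k K k' K') {ι : Type*} [Fintype ι] {α : ι → ℂ} (hα : IsAlpha k K α) :
    IsAlpha k' K' fun i => α i ^ Module.finrank k k' := by
  classical
  have : Module.Finite k k' := Module.Finite.of_finite
  have hn : 0 < Module.finrank k k' := Module.finrank_pos
  have hq : Nat.card k' = Nat.card k ^ Module.finrank k k' := Module.natCard_eq_pow_finrank
  have hL := hasLog_mul (hasLog_mul (hasLog_one_sub 1) (hasLog_one_sub (Nat.card k' : ℂ))) (hasLog_zeta hK')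
  rw [← map_numerZ] at hL
  have hR := hasLog_prod Finset.univ fun i => α i ^ Module.finrank k k'
  rw [← coe_prod_one_sub] at hR
  rw [IsAlpha]
  refine hasLog_unique hL ?_ ?_ ?_
  · rw [hR]
    congr 1
    ext m
    rcases Nat.eq_zero_or_pos m with rfl | hm
    · simp [geomSeries, countSeries]
    simp only [map_add, map_neg, map_sum, geomSeries, countSeries, PowerSeries.coeff_mk, if_neg hm.ne', one_pow]
    rw [pointCount_constExt hK hK' hce hm, pointCount_eq hK hα (Nat.mul_pos hn hm), hq, Nat.cast_pow, ← pow_mul]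
    simp only [← pow_mul]
    ring
  · simp [geomSeries, countSeries, ← PowerSeries.coeff_zero_eq_constantCoeff]
  · rw [coe_prod_one_sub, ← PowerSeries.coeff_zero_eq_constantCoeff_apply, PowerSeries.coeff_map,
      coeff_zero_numerZ hK', map_one, map_prod]
    simp

end Groth.Agent.FunFldLib
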