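import Groth.Agent.FunFld.FrobBound
import Groth.Agent.FunFld.Over
import Mathlib.RingTheory.Polynomial.GaussLemma
import Mathlib.FieldTheory.PrimitiveElement
import Mathlib.FieldTheory.Finite.Basic
import Mathlib.LinearAlgebra.TensorProduct.Finiteness

/-!
Extension of the constant field to an algebraic closure: linear disjointness, places above a place
and their residue embeddings, places fixed by a Frobenius-semilinear automorphism.
-/

namespace Groth.Agent.FunFldLib

open FunFld WithZero TensorProduct

variable {k K kb Kb : Type*} [Field k] [Field K] [Field kb] [Field Kb]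
  [Algebra k K] [Algebra k kb] [Algebra k Kb] [Algebra K Kb] [Algebra kb Kb]
  [IsScalarTower k K Kb] [IsScalarTower k kb Kb]

section Disjoint

/-- Powers of an algebraic constant stay independent over `K`. -/
theorem linearIndependent_pow_const (hc : ∀ y : K, IsAlgebraic k y → y ∈ Set.range (algebraMap k K))
    {θ : kb} (hθ : IsIntegral k θ) :
    LinearIndependent K fun i : Fin (minpoly k θ).natDegree => algebraMap kb Kb θ ^ (i : ℕ) := by
  have hθ' : IsIntegral K (algebraMap kb Kb θ) :=
    IsIntegral.tower_top (R := k) (hθ.map (IsScalarTower.toAlgHom k kb Kb))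
  have haev : Polynomial.aeval (algebraMap kb Kb θ) (minpoly k θ) = 0 := by
    rw [Polynomial.aeval_algebraMap_apply, minpoly.aeval, map_zero]
  have hdvd : minpoly K (algebraMap kb Kb θ) ∣ (minpoly k θ).map (algebraMap k K) :=
    minpoly.dvd _ _ (by rw [Polynomial.aeval_map_algebraMap]; exact haev)
  obtain ⟨g₁, hg₁⟩ := (Polynomial.mem_lifts _).1
    (integralClosure.mem_lifts_of_monic_of_dvd_map (R := k) K (minpoly.monic hθ) (minpoly.monic hθ') hdvd)
  have hcoeff : minpoly K (algebraMap kb Kb θ) ∈ Polynomial.lifts (algebraMap k K) := by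
    refine (Polynomial.lifts_iff_coeff_lifts _).2 fun n => hc _ ?_
    rw [← hg₁, Polynomial.coeff_map]
    exact IsIntegral.isAlgebraic (g₁.coeff n).2
  obtain ⟨g₀, hg₀⟩ := (Polynomial.mem_lifts _).1 hcoeff
  have h1 : algebraMap kb Kb (Polynomial.aeval θ g₀) = 0 := by
    rw [← Polynomial.aeval_algebraMap_apply (R := k) Kb θ g₀,
      ← Polynomial.aeval_map_algebraMap K (algebraMap kb Kb θ) g₀, hg₀]
    exact minpoly.aeval K _
  have hg₀0 : Polynomial.aeval θ g₀ = 0 := (map_eq_zero _).1 h1
  have hne : g₀ ≠ 0 := fun h => minpoly.ne_zero hθ' (by rw [← hg₀, h, Polynomial.map_zero])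
  have hle : (minpoly k θ).natDegree ≤ (minpoly K (algebraMap kb Kb θ)).natDegree := by
    rw [← hg₀, Polynomial.natDegree_map]
    exact Polynomial.natDegree_le_of_dvd (minpoly.dvd _ _ hg₀0) hne
  exact (linearIndependent_pow (K := K) (algebraMap kb Kb θ)).comp (Fin.castLE hle) (Fin.castLE_injective hle)

variable (k K kb Kb) in
/-- The multiplication map `K ⊗ kb → Kb`. -/
noncomputable def mulMap : K ⊗[k] kb →ₐ[k] Kb :=
  Algebra.TensorProduct.productMap (IsScalarTower.toAlgHom k K Kb) (IsScalarTower.toAlgHom k kb Kb)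

theorem mulMap_tmul (a : K) (c : kb) :
    mulMap k K kb Kb (a ⊗ₜ c) = algebraMap K Kb a * algebraMap kb Kb c :=
  Algebra.TensorProduct.productMap_apply_tmul _ _ _ _

theorem mulMap_injective [PerfectField k] [Algebra.IsAlgebraic k kb]
    (hc : ∀ y : K, IsAlgebraic k y → y ∈ Set.range (algebraMap k K)) :
    Function.Injective (mulMap k K kb Kb) := by
  classical
  refine (injective_iff_map_eq_zero _).2 fun x hx => ?_
  obtain ⟨S, rfl⟩ := TensorProduct.exists_finset x
  set F := IntermediateField.adjoin k ((fun i : K × kb => i.2) '' (S : Set (K × kb))) with hF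
  have : FiniteDimensional k F := by
    have : Finite ((fun i : K × kb => i.2) '' (S : Set (K × kb))) := (S.finite_toSet.image _).to_subtype
    exact IntermediateField.finiteDimensional_adjoin fun z _ => (Algebra.IsAlgebraic.isAlgebraic z).isIntegral
  let pb := Field.powerBasisOfFiniteOfSeparable k F
  have hint : IsIntegral k (pb.gen : kb) := (Algebra.IsAlgebraic.isAlgebraic _).isIntegral
  have hdim : (minpoly k (pb.gen : kb)).natDegree = pb.dim := by
    rw [show (pb.gen : kb) = algebraMap F kb pb.gen from rfl,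
      minpoly.algebraMap_eq (algebraMap F kb).injective, pb.natDegree_minpoly]
  have hmem : ∀ i ∈ S, i.2 ∈ F := fun i hi =>
    IntermediateField.subset_adjoin k _ ⟨i, hi, rfl⟩
  let A : K × kb → Fin pb.dim → k := fun i j => if h : i.2 ∈ F then pb.basis.repr ⟨i.2, h⟩ j else 0
  have hA : ∀ i ∈ S, i.2 = ∑ j, A i j • (pb.gen : kb) ^ (j : ℕ) := fun i hi => by
    have h := congrArg (fun y : F => (y : kb)) (pb.basis.sum_repr ⟨i.2, hmem i hi⟩)
    simp only [PowerBasis.coe_basis] at h
    refine h.symm.trans ?_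
    rw [IntermediateField.coe_sum]
    exact Finset.sum_congr rfl fun j _ => by simp [A, dif_pos (hmem i hi)]
  have hsum : ∑ i ∈ S, i.1 ⊗ₜ[k] i.2 =
      ∑ j, (∑ i ∈ S, A i j • i.1) ⊗ₜ[k] ((pb.gen : kb) ^ (j : ℕ)) := by
    calc ∑ i ∈ S, i.1 ⊗ₜ[k] i.2 = ∑ i ∈ S, ∑ j, (A i j • i.1) ⊗ₜ[k] ((pb.gen : kb) ^ (j : ℕ)) :=
        Finset.sum_congr rfl fun i hi => by
          conv_lhs => rw [hA i hi]
          rw [tmul_sum]
          exact Finset.sum_congr rfl fun j _ => by rw [smul_tmul]
      _ = _ := by rw [Finset.sum_comm]; exact Finset.sum_congr rfl fun j _ => (sum_tmul _ _ _).symm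
  rw [hsum] at hx ⊢
  simp only [map_sum, mulMap_tmul, map_pow] at hx
  have hli := Fintype.linearIndependent_iff.1 (linearIndependent_pow_const (Kb := Kb) hc hint)
    (fun j => ∑ i ∈ S, A i (Fin.cast hdim j) • i.1) (by
      rw [← hx]
      refine Fintype.sum_equiv (finCongr hdim) _ _ fun j => ?_
      rw [Algebra.smul_def]
      simp only [map_sum, finCongr_apply, Fin.val_cast])
  refine Finset.sum_eq_zero fun j _ => ?_
  have := hli (Fin.cast hdim.symm j)
  simp only [Fin.cast_cast, Fin.cast_eq_self] at this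
  rw [this, zero_tmul]

theorem mulMap_surjective (hgen : Algebra.adjoin K (Set.range (algebraMap kb Kb)) = ⊤) :
    Function.Surjective (mulMap k K kb Kb) := fun z => by
  have hz : z ∈ Algebra.adjoin K (Set.range (algebraMap kb Kb)) := by rw [hgen]; trivial
  change z ∈ (mulMap k K kb Kb).range
  induction hz using Algebra.adjoin_induction with
  | mem y hy => obtain ⟨c, rfl⟩ := hy; exact ⟨1 ⊗ₜ c, (mulMap_tmul 1 c).trans (by rw [map_one, one_mul])⟩
  | algebraMap r => exact ⟨r ⊗ₜ 1, (mulMap_tmul r 1).trans (by rw [map_one, mul_one])⟩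
  | add x y _ _ hx hy => exact add_mem hx hy
  | mul x y _ _ hx hy => exact mul_mem hx hy

variable [PerfectField k] [Algebra.IsAlgebraic k kb]

/-- An automorphism of the constants extends, fixing `K`. -/
noncomputable def constAut (hc : ∀ y : K, IsAlgebraic k y → y ∈ Set.range (algebraMap k K))
    (hgen : Algebra.adjoin K (Set.range (algebraMap kb Kb)) = ⊤) (τ : kb ≃ₐ[k] kb) : Kb ≃ₐ[k] Kb :=
  let e := AlgEquiv.ofBijective (mulMap k K kb Kb) ⟨mulMap_injective hc, mulMap_surjective hgen⟩
  e.symm.trans ((Algebra.TensorProduct.congr AlgEquiv.refl τ).trans e)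

theorem constAut_algebraMap (hc : ∀ y : K, IsAlgebraic k y → y ∈ Set.range (algebraMap k K))
    (hgen : Algebra.adjoin K (Set.range (algebraMap kb Kb)) = ⊤) (τ : kb ≃ₐ[k] kb) (x : K) :
    constAut hc hgen τ (algebraMap K Kb x) = algebraMap K Kb x := by
  simp only [constAut, AlgEquiv.trans_apply]
  rw [show algebraMap K Kb x = mulMap k K kb Kb (x ⊗ₜ 1) by rw [mulMap_tmul, map_one, mul_one],
    AlgEquiv.ofBijective_symm_apply_apply]
  simp [AlgEquiv.ofBijective_apply, mulMap_tmul]

theorem constAut_const (hc : ∀ y : K, IsAlgebraic k y → y ∈ Set.range (algebraMap k K))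
    (hgen : Algebra.adjoin K (Set.range (algebraMap kb Kb)) = ⊤) (τ : kb ≃ₐ[k] kb) (c : kb) :
    constAut hc hgen τ (algebraMap kb Kb c) = algebraMap kb Kb (τ c) := by
  simp only [constAut, AlgEquiv.trans_apply]
  rw [show algebraMap kb Kb c = mulMap k K kb Kb (1 ⊗ₜ c) by rw [mulMap_tmul, map_one, one_mul],
    AlgEquiv.ofBijective_symm_apply_apply]
  simp [AlgEquiv.ofBijective_apply, mulMap_tmul]

end Disjoint

section Ext

variable [Algebra.IsAlgebraic k kb]

theorem isAlgebraic_constExt (k : Type*) {K kb Kb : Type*} [Field k] [Field K] [Field kb] [Field Kb]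
    [Algebra k K] [Algebra k kb] [Algebra k Kb] [Algebra K Kb] [Algebra kb Kb]
    [IsScalarTower k K Kb] [IsScalarTower k kb Kb] [Algebra.IsAlgebraic k kb]
    (hgen : Algebra.adjoin K (Set.range (algebraMap kb Kb)) = ⊤) :
    Algebra.IsAlgebraic K Kb := by
  have hle : Algebra.adjoin K (Set.range (algebraMap kb Kb)) ≤ integralClosure K Kb := by
    refine Algebra.adjoin_le ?_
    rintro _ ⟨c, rfl⟩
    exact (((Algebra.IsAlgebraic.isAlgebraic (R := k) c).isIntegral).map (IsScalarTower.toAlgHom k kb Kb)).tower_top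
  rw [hgen] at hle
  exact ⟨fun z => (hle (Algebra.mem_top : z ∈ (⊤ : Subalgebra K Kb))).isAlgebraic⟩

theorem transcendental_constExt {x : K} (hx : Transcendental k x) :
    Transcendental kb (algebraMap K Kb x) := fun h =>
  hx ((isAlgebraic_algHom_iff (IsScalarTower.toAlgHom k K Kb) (algebraMap K Kb).injective).1
    (h.restrictScalars k))

theorem finite_adjoin_constExt (hK : IsFunctionField k K)
    (hgen : Algebra.adjoin K (Set.range (algebraMap kb Kb)) = ⊤) {x : K} (hx : Transcendental k x) :
    FiniteDimensional (IntermediateField.adjoin kb ({algebraMap K Kb x} : Set Kb)) Kb ∧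
      Module.finrank (IntermediateField.adjoin kb ({algebraMap K Kb x} : Set Kb)) Kb ≤
        Module.finrank (IntermediateField.adjoin k ({x} : Set K)) K := by
  classical
  set K₀ := IntermediateField.adjoin k ({x} : Set K)
  set K₁ := IntermediateField.adjoin kb ({algebraMap K Kb x} : Set Kb)
  have := finiteDimensional_adjoin hK hx
  let b := Module.finBasis K₀ K
  have hK₀ : ∀ a ∈ K₀, algebraMap K Kb a ∈ K₁ := fun a ha => by
    have hle : K₀ ≤ (K₁.restrictScalars k).comap (IsScalarTower.toAlgHom k K Kb) :=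
      IntermediateField.adjoin_simple_le_iff.2 (IntermediateField.mem_adjoin_simple_self kb _)
    exact hle ha
  let N := Submodule.span K₁ (Set.range fun i => algebraMap K Kb (b i))
  have hN : ∀ a : K, algebraMap K Kb a ∈ N := fun a => by
    rw [← b.sum_repr a, map_sum]
    refine sum_mem fun i _ => ?_
    rw [IntermediateField.smul_def, smul_eq_mul, map_mul]
    exact Submodule.smul_mem N ⟨_, hK₀ _ (b.repr a i).2⟩ (Submodule.subset_span ⟨i, rfl⟩)
  have hmul : ∀ a ∈ N, ∀ c ∈ N, a * c ∈ N := fun a ha c hc => by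
    induction ha using Submodule.span_induction with
    | mem u hu =>
      obtain ⟨i, rfl⟩ := hu
      induction hc using Submodule.span_induction with
      | mem v hv => obtain ⟨j, rfl⟩ := hv; rw [← map_mul]; exact hN _
      | zero => rw [mul_zero]; exact zero_mem _
      | add u v _ _ hu hv => rw [mul_add]; exact add_mem hu hv
      | smul r u _ hu => rw [mul_smul_comm]; exact Submodule.smul_mem _ _ hu
    | zero => rw [zero_mul]; exact zero_mem _
    | add u v _ _ hu hv => rw [add_mul]; exact add_mem hu hv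
    | smul r u _ hu => rw [smul_mul_assoc]; exact Submodule.smul_mem _ _ hu
  have htop : (⊤ : Submodule K₁ Kb) ≤ N := fun z _ => by
    have hz : z ∈ Algebra.adjoin K (Set.range (algebraMap kb Kb)) := by rw [hgen]; trivial
    induction hz using Algebra.adjoin_induction with
    | mem y hy =>
      obtain ⟨c, rfl⟩ := hy
      have h := Submodule.smul_mem N (algebraMap kb K₁ c) (hN 1)
      rwa [map_one, IntermediateField.smul_def, smul_eq_mul, mul_one] at h
    | algebraMap r => exact hN r
    | add x y _ _ hx hy => exact add_mem (hx trivial) (hy trivial)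
    | mul x y _ _ hx hy => exact hmul _ (hx trivial) _ (hy trivial)
  have hN' : N = ⊤ := eq_top_iff.2 htop
  constructor
  · exact Module.Finite.of_fg_top (hN' ▸ Submodule.fg_span (Set.finite_range _))
  · rw [← finrank_top, ← hN']
    exact (finrank_range_le_card _).trans (by rw [Fintype.card_fin])

theorem isFunctionField_constExt [IsAlgClosed kb] (hK : IsFunctionField k K)
    (hgen : Algebra.adjoin K (Set.range (algebraMap kb Kb)) = ⊤) : IsFunctionField kb Kb := by
  obtain ⟨x, hx, -⟩ := hK.1
  refine ⟨⟨_, transcendental_constExt hx, (finite_adjoin_constExt hK hgen hx).1⟩, fun y hy => ?_⟩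
  have h := IntermediateField.isAlgebraic_adjoin_simple hy.isIntegral
  have hbot := IsAlgClosed.algebraMap_bijective_of_isIntegral
    (k := kb) (K := IntermediateField.adjoin kb ({y} : Set Kb))
  obtain ⟨c, hc⟩ := hbot.2 ⟨y, IntermediateField.mem_adjoin_simple_self kb y⟩
  exact ⟨c, congrArg Subtype.val hc⟩

end Ext

section Places

theorem exists_belowC [Algebra.IsAlgebraic K Kb] (Q : Place kb Kb) :
    ∃ (P : Place k K) (e : ℕ), 0 < e ∧ ∀ x : K, Q.1 (algebraMap K Kb x) = P.1 x ^ e := by
  obtain ⟨z, hz⟩ := exists_val_eq Q (-1)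
  set E := IntermediateField.adjoin K ({z} : Set Kb)
  have : FiniteDimensional K E :=
    IntermediateField.adjoin.finiteDimensional (Algebra.IsAlgebraic.isAlgebraic z).isIntegral
  let QE : Place k E := ⟨Q.1.comap (algebraMap E Kb), fun c => by
      show Q.1 (algebraMap E Kb (algebraMap k E c)) ≤ 1
      rw [IsScalarTower.algebraMap_apply k K E, ← IsScalarTower.algebraMap_apply K E Kb,
        ← IsScalarTower.algebraMap_apply k K Kb, IsScalarTower.algebraMap_apply k kb Kb]
      exact Q.2.1 _,
    fun a => by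
      rcases eq_or_ne a 0 with rfl | ha
      · exact ⟨0, map_zero _⟩
      refine ⟨(⟨z, IntermediateField.mem_adjoin_simple_self K z⟩ : E) ^ (-log a), ?_⟩
      show Q.1 (algebraMap E Kb _) = a
      rw [map_zpow₀]
      show Q.1 (z ^ (-log a)) = a
      rw [map_zpow₀, hz, ← exp_zsmul, smul_eq_mul]
      simp [exp_log ha]⟩
  obtain ⟨P, e, he⟩ := exists_below (K := K) QE
  exact ⟨P, e, isOverWith_pos he, fun x => he x⟩

variable [IsAlgClosed kb] [Algebra.IsAlgebraic K Kb]

/-- The place of `K` below a place of the constant extension. -/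
noncomputable def belowC (k K : Type*) {kb Kb : Type*} [Field k] [Field K] [Field kb] [Field Kb]
    [Algebra k K] [Algebra k kb] [Algebra k Kb] [Algebra K Kb] [Algebra kb Kb]
    [IsScalarTower k K Kb] [IsScalarTower k kb Kb] [Algebra.IsAlgebraic K Kb] (Q : Place kb Kb) :
    Place k K :=
  (exists_belowC Q).choose

omit [IsAlgClosed kb] in
theorem le_one_iff_belowC (Q : Place kb Kb) (x : K) :
    Q.1 (algebraMap K Kb x) ≤ 1 ↔ (belowC k K Q).1 x ≤ 1 := by
  obtain ⟨e, he, h⟩ := (exists_belowC (k := k) (K := K) Q).choose_spec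
  rw [h x]
  exact pow_le_one_iff_of_nonneg zero_le he.ne'

omit [IsAlgClosed kb] in
theorem lt_one_iff_belowC (Q : Place kb Kb) (x : K) :
    Q.1 (algebraMap K Kb x) < 1 ↔ (belowC k K Q).1 x < 1 := by
  obtain ⟨e, he, h⟩ := (exists_belowC (k := k) (K := K) Q).choose_spec
  rw [h x]
  exact pow_lt_one_iff_of_nonneg zero_le he.ne'

omit [IsAlgClosed kb] in
theorem ord_le_ord_belowC (Q : Place kb Kb) {x : K} (hx : 0 < (belowC k K Q).ord x) :
    (belowC k K Q).ord x ≤ Q.ord (algebraMap K Kb x) := by
  obtain ⟨e, he, h⟩ := (exists_belowC (k := k) (K := K) Q).choose_spec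
  have hx0 : x ≠ 0 := fun h0 => by rw [h0, ord_zero] at hx; exact lt_irrefl _ hx
  have h2 : Q.ord (algebraMap K Kb x) = e * (belowC k K Q).ord x := by
    refine (ord_eq_of_val Q (n := -(e * (belowC k K Q).ord x)) ?_).trans (neg_neg _)
    rw [h x]
    change (belowC k K Q).1 x ^ e = _
    rw [val_eq_exp _ hx0, ← exp_nsmul, nsmul_eq_mul, mul_neg]
  rw [h2]
  exact le_mul_of_one_le_left hx.le (by exact_mod_cast he)

omit [IsAlgClosed kb] in
theorem belowC_eq {Q : Place kb Kb} {P : Place k K}
    (h : ∀ x : K, P.1 x ≤ 1 → Q.1 (algebraMap K Kb x) ≤ 1) : belowC k K Q = P :=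
  (place_ext fun x hx => (le_one_iff_belowC Q x).1 (h x hx)).symm

open scoped Classical in
/-- The constant to which `z` is congruent at `Q`. -/
noncomputable def resC (Q : Place kb Kb) (z : Kb) : kb :=
  if h : ∃ c : kb, Q.1 (z - algebraMap kb Kb c) < 1 then h.choose else 0

omit [IsAlgClosed kb] [Algebra.IsAlgebraic K Kb] in
theorem resC_eq {Q : Place kb Kb} {z : Kb} {c : kb} (h : Q.1 (z - algebraMap kb Kb c) < 1) : resC Q z = c := by
  have hex : ∃ c : kb, Q.1 (z - algebraMap kb Kb c) < 1 := ⟨c, h⟩
  rw [resC, dif_pos hex]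
  exact sub_const_unique hex.choose_spec h

omit [Algebra.IsAlgebraic K Kb] in
theorem resC_spec (hKb : IsFunctionField kb Kb) {Q : Place kb Kb} {z : Kb} (hz : Q.1 z ≤ 1) :
    Q.1 (z - algebraMap kb Kb (resC Q z)) < 1 := by
  obtain ⟨c, hc⟩ := exists_sub_const_val_lt_one hKb Q (deg_eq_one hKb Q) hz
  rwa [resC_eq hc]

/-- The residue embedding of a place above. -/
noncomputable def embC (hKb : IsFunctionField kb Kb) (P : Place k K) (Q : {Q : Place kb Kb // belowC k K Q = P}) :
    IsLocalRing.ResidueField P.O →ₐ[k] kb :=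
  have hle : ∀ a : P.O, Q.1.1 (algebraMap K Kb (a : K)) ≤ 1 := fun a =>
    (le_one_iff_belowC (k := k) Q.1 (a : K)).2 (by rw [Q.2]; exact a.2)
  let φ : P.O →+* kb :=
    { toFun := fun a => resC Q.1 (algebraMap K Kb (a : K))
      map_one' := resC_eq (by simp)
      map_zero' := resC_eq (by simp)
      map_add' := fun a b => resC_eq (by
        rw [map_add, show algebraMap K Kb ((a + b : P.O) : K) = algebraMap K Kb a + algebraMap K Kb b from
            map_add _ _ _, add_sub_add_comm]
        exact lt_of_le_of_lt (Q.1.1.map_add _ _) (max_lt (resC_spec hKb (hle a)) (resC_spec hKb (hle b))))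
      map_mul' := fun a b => resC_eq (by
        rw [map_mul, show algebraMap K Kb ((a * b : P.O) : K) = algebraMap K Kb a * algebraMap K Kb b from
            map_mul _ _ _]
        have h1 := resC_spec hKb (hle a)
        have h2 := resC_spec hKb (hle b)
        set u := algebraMap K Kb (a : K)
        set v := algebraMap K Kb (b : K)
        set c := algebraMap kb Kb (resC Q.1 u)
        set d := algebraMap kb Kb (resC Q.1 v)
        rw [show u * v - c * d = (u - c) * v + c * (v - d) by ring]
        refine lt_of_le_of_lt (Q.1.1.map_add _ _) (max_lt ?_ ?_) <;> rw [map_mul]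
        · exact mul_lt_one_of_nonneg_of_lt_one_left zero_le h1 (hle b)
        · exact mul_lt_one_of_nonneg_of_lt_one_right (Q.1.2.1 _) zero_le h2) }
  { Ideal.Quotient.lift (IsLocalRing.maximalIdeal P.O) φ fun a ha => resC_eq (by
      rw [map_zero, sub_zero]
      refine (lt_one_iff_belowC (k := k) Q.1 (a : K)).2 ?_
      rw [Q.2]
      exact (val_lt_one_iff_residue P a).2 (Ideal.Quotient.eq_zero_iff_mem.2 ha)) with
    commutes' := fun c => resC_eq (by
      show Q.1.1 (algebraMap K Kb (algebraMap k K c) - _) < 1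
      rw [← IsScalarTower.algebraMap_apply, IsScalarTower.algebraMap_apply k kb Kb, sub_self, map_zero]
      exact zero_lt_one) }

theorem embC_residue (hKb : IsFunctionField kb Kb) (P : Place k K) (Q : {Q : Place kb Kb // belowC k K Q = P})
    (a : P.O) : embC hKb P Q (IsLocalRing.residue P.O a) = resC Q.1 (algebraMap K Kb (a : K)) :=
  rfl

variable [PerfectField k] [Algebra.IsAlgebraic k kb]

theorem card_embC (hK : IsFunctionField k K) (P : Place k K) :
    Nat.card (IsLocalRing.ResidueField P.O →ₐ[k] kb) = P.deg := by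
  have : @Module.Finite k (IsLocalRing.ResidueField P.O) _ _ Algebra.toModule :=
    finiteDimensional_residueField hK P
  have : Algebra.IsAlgebraic k (IsLocalRing.ResidueField P.O) := Algebra.IsAlgebraic.of_finite k _
  have : Algebra.IsSeparable k (IsLocalRing.ResidueField P.O) := Algebra.IsAlgebraic.isSeparable_of_perfectField
  rw [Nat.card_eq_fintype_card, AlgHom.card]
  rfl

/-- Places above `P` correspond bijectively to embeddings of its residue field. -/
theorem embC_bijective (hK : IsFunctionField k K)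
    (hgen : Algebra.adjoin K (Set.range (algebraMap kb Kb)) = ⊤) (hKb : IsFunctionField kb Kb)
    (P : Place k K) : Function.Bijective (embC hKb P) := by
  classical
  have : @Module.Finite k (IsLocalRing.ResidueField P.O) _ _ Algebra.toModule :=
    finiteDimensional_residueField hK P
  have : Algebra.IsAlgebraic k (IsLocalRing.ResidueField P.O) := Algebra.IsAlgebraic.of_finite k _
  have : Algebra.IsSeparable k (IsLocalRing.ResidueField P.O) := Algebra.IsAlgebraic.isSeparable_of_perfectField
  -- an element vanishing only at `P`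
  obtain ⟨N, hN⟩ : ∃ N : ℕ, 2 ≤ ell (Finsupp.single P (N : ℤ)) := by
    refine ⟨genus k K + 1, ?_⟩
    have h := delta_le_genus hK (Finsupp.single P ((genus k K + 1 : ℕ) : ℤ))
    rw [delta, deg_single] at h
    have := deg_pos hK P
    have h2 : (1 : ℤ) ≤ P.deg := by exact_mod_cast this
    push_cast at h ⊢
    nlinarith
  obtain ⟨s, hs, hst⟩ : ∃ s ∈ L (Finsupp.single P (N : ℤ)), Transcendental k s := by
    by_contra hall
    push Not at hall
    have hle : L (Finsupp.single P (N : ℤ)) ≤ Submodule.span k {(1 : K)} := fun y hy => by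
      obtain ⟨c, rfl⟩ := hK.2 y (not_not.1 (hall y hy))
      rw [Algebra.algebraMap_eq_smul_one]
      exact Submodule.smul_mem _ _ (Submodule.mem_span_singleton_self 1)
    have := (Submodule.finrank_mono hle).trans_eq (finrank_span_singleton one_ne_zero)
    change ell _ ≤ 1 at this
    omega
  have hs0 : s ≠ 0 := fun h => hst (h ▸ isAlgebraic_zero)
  set t := s⁻¹ with ht
  have htt : Transcendental k t := fun h => hst (by simpa [ht] using h.inv)
  have honly : ∀ R : Place k K, 0 < R.ord t → R = P := fun R hR => by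
    by_contra hne
    have h := (mem_L_iff hs0).1 hs R
    rw [Finsupp.single_eq_of_ne hne] at h
    rw [ht, ord_inv] at hR
    omega
  obtain ⟨Q₁, hQ₁⟩ := exists_place_ord_pos hKb (transcendental_constExt (Kb := Kb) (kb := kb) htt)
  have ht0 : t ≠ 0 := inv_ne_zero hs0
  have hbelow : ∀ Q : Place kb Kb, 0 < Q.ord (algebraMap K Kb t) ↔ belowC k K Q = P := fun Q => by
    rw [← val_lt_one_iff Q ((map_ne_zero _).2 ht0), lt_one_iff_belowC (k := k), val_lt_one_iff _ ht0]
    refine ⟨honly _, fun h => ?_⟩
    obtain ⟨R, hR⟩ := exists_place_ord_pos hK htt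
    rw [h, ← honly R hR]
    exact hR
  have hsurj : Function.Surjective (embC hKb P) := fun σ => by
    set σ₁ := embC hKb P ⟨Q₁, (hbelow Q₁).1 hQ₁⟩
    obtain ⟨θ, hθ⟩ := Field.exists_primitive_element k (IsLocalRing.ResidueField P.O)
    have : IsAlgClosure k kb := ⟨inferInstance, inferInstance⟩
    have : Normal k kb := IsAlgClosure.normal k kb
    obtain ⟨τ, hτ⟩ := minpoly.exists_algEquiv_of_root' (K := k) (x := σ₁ θ) (y := σ θ)
      (Algebra.IsAlgebraic.isAlgebraic _) (by
        rw [minpoly.algHom_eq σ σ.injective, Polynomial.aeval_algHom_apply, minpoly.aeval, map_zero])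
    let Q₂ : Place kb Kb := ⟨Q₁.1.comap (constAut hK.2 hgen τ : Kb →+* Kb), fun c => by
        show Q₁.1 (constAut hK.2 hgen τ (algebraMap kb Kb c)) ≤ 1
        rw [constAut_const]; exact Q₁.2.1 _,
      fun a => let ⟨z, hz⟩ := Q₁.2.2 a; ⟨(constAut hK.2 hgen τ).symm z, by simp [hz]⟩⟩
    have hval : ∀ z, Q₂.1 z = Q₁.1 (constAut hK.2 hgen τ z) := fun _ => rfl
    have hb : belowC k K Q₂ = P := belowC_eq fun x hx => by
      rw [hval, constAut_algebraMap, le_one_iff_belowC (k := k), (hbelow Q₁).1 hQ₁]; exact hx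
    refine ⟨⟨Q₂, hb⟩, AlgHom.ext fun w => ?_⟩
    have heq : ((τ : kb →ₐ[k] kb).comp (embC hKb P ⟨Q₂, hb⟩)) = σ₁ := AlgHom.ext fun w => by
      obtain ⟨a, rfl⟩ := IsLocalRing.residue_surjective w
      show τ (embC hKb P ⟨Q₂, hb⟩ _) = _
      rw [embC_residue, embC_residue]
      refine (resC_eq ?_).symm
      have h := resC_spec hKb (Q := Q₂) (z := algebraMap K Kb (a : K)) ((le_one_iff_belowC (k := k) Q₂ (a : K)).2 (by rw [hb]; exact a.2))
      rw [hval, map_sub, constAut_algebraMap, constAut_const] at h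
      exact h
    have hθ' : σ θ = embC hKb P ⟨Q₂, hb⟩ θ := τ.injective (by
      rw [hτ, ← heq]; rfl)
    have hext : σ = embC hKb P ⟨Q₂, hb⟩ := AlgHom.ext_of_adjoin_eq_top (s := {θ}) (by
      rw [← IntermediateField.adjoin_simple_toSubalgebra_of_isAlgebraic
        (Algebra.IsAlgebraic.isAlgebraic θ), hθ, IntermediateField.top_toSubalgebra]) (by simpa using hθ')
    rw [hext]
  -- the degree count
  have hft := finite_adjoin_constExt (kb := kb) (Kb := Kb) hK hgen htt
  have hdz : ((Module.finrank (IntermediateField.adjoin k ({t} : Set K)) K : ℕ) : ℤ) = P.ord t * P.deg := by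
    rw [← deg_zeros hK htt]
    rw [show polesDiv k t⁻¹ = Finsupp.single P (P.ord t) from Finsupp.ext fun R => by
      rw [polesDiv_apply hK, ord_inv, neg_neg]
      rcases eq_or_ne R P with rfl | hne
      · rw [Finsupp.single_eq_same]
        obtain ⟨R', hR'⟩ := exists_place_ord_pos hK htt
        rw [honly R' hR'] at hR'
        exact max_eq_left hR'.le
      · rw [Finsupp.single_eq_of_ne hne]
        exact max_eq_right (by by_contra h; exact hne (honly R (by omega)))]
    exact deg_single _ _
  have hzero : {Q : Place kb Kb | 0 < Q.ord (algebraMap K Kb t)} = {Q | belowC k K Q = P} :=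
    Set.ext hbelow
  have hfin : {Q : Place kb Kb | belowC k K Q = P}.Finite := by
    rw [← hzero]
    exact (finite_support_ord hKb _).subset fun Q hQ => ne_of_gt hQ
  have hpos : 0 < P.ord t := by
    obtain ⟨R', hR'⟩ := exists_place_ord_pos hK htt
    rwa [honly R' hR'] at hR'
  have hcard : (hfin.toFinset.card : ℤ) * P.ord t ≤ P.ord t * P.deg := by
    refine le_trans ?_ ((Int.ofNat_le.2 hft.2).trans_eq hdz)
    rw [← deg_zeros hKb (transcendental_constExt htt), Divisor.deg, Finsupp.sum]
    have hsup : hfin.toFinset ⊆ (polesDiv kb (algebraMap K Kb t)⁻¹).support := fun Q hQ => by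
      rw [Set.Finite.mem_toFinset] at hQ
      rw [Finsupp.mem_support_iff, polesDiv_apply hKb, ord_inv, neg_neg]
      have := (hbelow Q).2 hQ
      omega
    refine le_trans ?_ (Finset.sum_le_sum_of_subset_of_nonneg hsup fun Q _ _ =>
      mul_nonneg (by rw [polesDiv_apply hKb]; exact le_max_right _ _) (Int.natCast_nonneg _))
    rw [← nsmul_eq_mul, ← Finset.sum_const]
    refine Finset.sum_le_sum fun Q hQ => ?_
    rw [Set.Finite.mem_toFinset] at hQ
    rw [deg_eq_one hKb Q, Nat.cast_one, mul_one, polesDiv_apply hKb, ord_inv Q (algebraMap K Kb t), neg_neg]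
    refine le_trans ?_ (le_max_left _ _)
    exact hQ ▸ ord_le_ord_belowC (k := k) Q (by rw [hQ]; exact hpos)
  have hle : hfin.toFinset.card ≤ P.deg := by
    have : (hfin.toFinset.card : ℤ) ≤ P.deg := by nlinarith
    exact_mod_cast this
  have : Finite {Q : Place kb Kb // belowC k K Q = P} := hfin.to_subtype
  refine hsurj.bijective_of_nat_card_le ?_
  rw [card_embC hK P]
  refine le_trans (le_of_eq ?_) hle
  exact Set.ncard_eq_toFinset_card _ hfin

end Places

end Groth.Agent.FunFldLib
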