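import Groth.Agent.FunFld.Over
import Mathlib.RingTheory.Unramified.Field
import Mathlib.RingTheory.TensorProduct.Finite
import Mathlib.FieldTheory.SeparableClosure
import Mathlib.FieldTheory.PrimitiveElement
import Mathlib.RingTheory.Flat.Basic

/-!
Tensor products of fields: reducedness and purely inseparable powers; criteria for `IsGeometric`.
-/

namespace Groth.Agent.FunFldLib

open FunFld TensorProduct

/-- A reduced ring radicial over a field is a field. -/
theorem isField_of_powers {F T : Type*} [Field F] [CommRing T] [Nontrivial T] [IsReduced T] (q : ℕ) (hq : 0 < q)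
    (f : F →+* T) (h : ∀ x : T, ∃ n, x ^ (q ^ n) ∈ f.range) : IsField T := by
  refine ⟨exists_pair_ne T, mul_comm, fun {x} hx => ?_⟩
  obtain ⟨n, u, hu⟩ := h x
  have hn : q ^ n ≠ 0 := (pow_pos hq n).ne'
  have hu0 : u ≠ 0 := by
    rintro rfl
    rw [map_zero] at hu
    exact pow_ne_zero _ hx hu.symm
  exact isUnit_iff_exists_inv.1 ((isUnit_pow_iff hn).1 (hu ▸ hu0.isUnit.map f))

/-- Powers land in the image of a radicial subalgebra. -/
theorem exists_pow_mem_range_map {k A B S : Type*} [Field k] [Field A] [Field B] [CommRing S] [Algebra k A]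
    [Algebra k B] [Algebra k S] (q : ℕ) [ExpChar k q] (i : S →ₐ[k] A) (h : ∀ a : A, ∃ n, a ^ (q ^ n) ∈ i.range)
    (x : A ⊗[k] B) : ∃ n, x ^ (q ^ n) ∈ (Algebra.TensorProduct.map i (AlgHom.id k B)).range := by
  have hinj := Algebra.TensorProduct.includeRight_injective (R := k) (A := A) (B := B)
    (algebraMap k A).injective
  have : Nontrivial (A ⊗[k] B) := hinj.nontrivial
  have : ExpChar (A ⊗[k] B) q := expChar_of_injective_algebraMap (algebraMap k (A ⊗[k] B)).injective q
  set R := (Algebra.TensorProduct.map i (AlgHom.id k B)).range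
  have hup : ∀ (y : A ⊗[k] B) (n m : ℕ), y ^ (q ^ n) ∈ R → y ^ (q ^ (n + m)) ∈ R := fun y n m hy => by
    rw [pow_add, pow_mul]; exact pow_mem hy _
  induction x using TensorProduct.induction_on with
  | zero => exact ⟨0, by simp⟩
  | tmul a b =>
    obtain ⟨n, s, hs⟩ := h a
    refine ⟨n, s ⊗ₜ[k] (b ^ (q ^ n)), ?_⟩
    show Algebra.TensorProduct.map i (AlgHom.id k B) (s ⊗ₜ[k] (b ^ (q ^ n))) = _
    rw [Algebra.TensorProduct.tmul_pow, Algebra.TensorProduct.map_tmul, AlgHom.id_apply, ← hs]
    rfl
  | add x y hx hy =>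
    obtain ⟨n, hn⟩ := hx
    obtain ⟨m, hm⟩ := hy
    refine ⟨n + m, ?_⟩
    rw [add_pow_expChar_pow]
    exact add_mem (hup x n m hn) (add_comm m n ▸ hup y m n hm)

variable {k : Type*} {K : Type*} [Field k] [Field K] [Algebra k K]

/-- A separable finite extension of an algebraically closed subfield stays a field. -/
theorem isField_tensor_of_separable (hcl : ∀ y : K, IsAlgebraic k y → y ∈ Set.range (algebraMap k K))
    (k' : Type*) [Field k'] [Algebra k k'] [FiniteDimensional k k'] [Algebra.IsSeparable k k'] :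
    IsField (k' ⊗[k] K) := by
  let pb := Field.powerBasisOfFiniteOfSeparable k k'
  set q := minpoly k pb.gen
  have hq : q.Monic := minpoly.monic pb.isIntegral_gen
  have hqi : Irreducible q := minpoly.irreducible pb.isIntegral_gen
  have hirr : Irreducible (q.map (algebraMap k K)) := by
    have hnu : ¬IsUnit (q.map (algebraMap k K)) := fun h => by
      have h1 := Polynomial.natDegree_eq_zero_of_isUnit h
      rw [Polynomial.natDegree_map] at h1
      exact (minpoly.natDegree_pos pb.isIntegral_gen).ne' h1
    obtain ⟨g, hgm, hgi, hgd⟩ := Polynomial.exists_monic_irreducible_factor _ hnu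
    have hlift := integralClosure.mem_lifts_of_monic_of_dvd_map K hq hgm hgd
    have hcoeff : ∀ i, g.coeff i ∈ Set.range (algebraMap k K) := fun i => by
      obtain ⟨u, hu⟩ := (Polynomial.lifts_iff_coeff_lifts _).1 hlift i
      exact hcl _ (hu ▸ (show IsIntegral k (u : K) from u.2).isAlgebraic)
    obtain ⟨g₀, hg₀, hdeg, hg₀m⟩ :=
      Polynomial.lifts_and_natDegree_eq_and_monic ((Polynomial.lifts_iff_coeff_lifts g).2 hcoeff) hgm
    have hdvd : g₀ ∣ q := (Polynomial.map_dvd_map' (algebraMap k K)).1 (hg₀ ▸ hgd)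
    have hg₀u : ¬IsUnit g₀ := fun h => hgi.not_isUnit (hg₀ ▸ h.map (Polynomial.mapRingHom (algebraMap k K)))
    have heq : g₀ = q := Polynomial.eq_of_monic_of_associated hg₀m hq (associated_of_dvd_dvd hdvd
      ((hqi.dvd_iff.1 hdvd).resolve_left hg₀u).dvd)
    rwa [← heq, hg₀]
  have : Fact (Irreducible (q.map (algebraMap k K))) := ⟨hirr⟩
  let L := AdjoinRoot (q.map (algebraMap k K))
  have hroot : Polynomial.aeval (AdjoinRoot.root (q.map (algebraMap k K))) q = 0 := by
    rw [← Polynomial.aeval_map_algebraMap K, AdjoinRoot.aeval_eq, AdjoinRoot.mk_self]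
  let f : k' →ₐ[k] L := pb.lift _ hroot
  let Φ : K ⊗[k] k' →ₐ[K] L := Algebra.TensorProduct.lift (Algebra.ofId K L) f fun _ _ => .all _ _
  have hsurj : Function.Surjective Φ := by
    intro z
    induction z using AdjoinRoot.induction_on with
    | ih p =>
      refine ⟨Polynomial.aeval (1 ⊗ₜ[k] pb.gen) p, ?_⟩
      rw [← Polynomial.aeval_algHom_apply, Algebra.TensorProduct.lift_tmul, map_one, one_mul,
        PowerBasis.lift_gen, AdjoinRoot.aeval_eq]
  have : FiniteDimensional K L := (hq.map _).finite_adjoinRoot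
  have hrank : Module.finrank K (K ⊗[k] k') = Module.finrank K L := by
    rw [Module.finrank_baseChange, (AdjoinRoot.powerBasis hirr.ne_zero).finrank, AdjoinRoot.powerBasis_dim,
      Polynomial.natDegree_map, pb.finrank, pb.natDegree_minpoly]
  have hinj : Function.Injective Φ :=
    (Φ.toLinearMap.injective_iff_surjective_of_finrank_eq_finrank hrank).2 hsurj
  exact ((Algebra.TensorProduct.comm k k' K).toMulEquiv.trans
    (AlgEquiv.ofBijective Φ ⟨hinj, hsurj⟩).toMulEquiv).isField (Field.toIsField L)

universe u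

/-- Constants algebraically closed and reduced base changes give geometricity. -/
theorem isGeometric_of_reduced {k : Type u} {K : Type*} [Field k] [Field K] [Algebra k K]
    (hcl : ∀ y : K, IsAlgebraic k y → y ∈ Set.range (algebraMap k K))
    (hred : ∀ (k' : Type u) [Field k'] [Algebra k k'], FiniteDimensional k k' → IsReduced (k' ⊗[k] K)) :
    IsGeometric k K := by
  intro k' _ _ hk'
  obtain ⟨q, hq⟩ := ExpChar.exists k
  let S := separableClosure k k'
  have hS := isField_tensor_of_separable hcl S
  have := hred k' hk'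
  have : Nontrivial (k' ⊗[k] K) :=
    (Algebra.TensorProduct.includeRight_injective (R := k) (A := k') (B := K)
      (algebraMap k k').injective).nontrivial
  have : ExpChar S q := expChar_of_injective_algebraMap (algebraMap k S).injective q
  letI := hS.toField
  refine isField_of_powers q (expChar_pos k q)
    (Algebra.TensorProduct.map S.val (AlgHom.id k K)).toRingHom fun x => ?_
  refine exists_pow_mem_range_map q S.val (fun a => ?_) x
  obtain ⟨n, s, hs⟩ := IsPurelyInseparable.pow_mem S q a
  exact ⟨n, s, hs⟩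

end Groth.Agent.FunFldLib
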