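import Groth.Agent.FunFld.Over

/-!
The semilocal ring of a finite extension at a place: an adapted basis, integrality of coordinates,
the norm formula.
-/

namespace Groth.Agent.FunFldLib

open FunFld WithZero

variable {k K K' : Type*} [Field k] [Field K] [Field K'] [Algebra k K] [Algebra K K'] [Algebra k K']
  [IsScalarTower k K K'] [FiniteDimensional K K']

theorem val_lt_one_iff_residue (P : Place k K) (a : P.O) :
    P.1 (a : K) < 1 ↔ IsLocalRing.residue P.O a = 0 := by
  rw [IsLocalRing.residue_eq_zero_iff, IsLocalRing.mem_maximalIdeal, mem_nonunits_iff]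
  exact ⟨fun h => (ValuationSubring.valuation_lt_one_iff P.O a).2
      ((Valuation.isEquiv_valuation_valuationSubring P.1).lt_one_iff_lt_one.1 h),
    fun h => (Valuation.isEquiv_valuation_valuationSubring P.1).lt_one_iff_lt_one.2
      ((ValuationSubring.valuation_lt_one_iff P.O a).1 h)⟩

theorem exists_residue_basis (hK : IsFunctionField k K) {Q : Place k K'} {P : Place k K} (h : IsOver Q P) :
    ∃ (f : ℕ) (b : Fin f → K'), f * P.deg = Q.deg ∧ (∀ i, Q.1 (b i) ≤ 1) ∧
      ∀ a : Fin f → K, (∀ i, P.1 (a i) ≤ 1) → Q.1 (∑ i, algebraMap K K' (a i) * b i) < 1 →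
        ∀ i, P.1 (a i) < 1 := by
  classical
  obtain ⟨e, he⟩ := h
  have hmem : ∀ a : P.O, algebraMap K K' (a : K) ∈ Q.O := fun a => by
    show Q.1 _ ≤ 1
    rw [he]; exact pow_le_one₀ zero_le a.2
  let i : P.O →+* Q.O := ((algebraMap K K').comp P.O.subtype).codRestrict Q.O.toSubring hmem
  have : IsLocalHom i := ⟨fun a ha => by
    by_contra hna
    rw [← mem_nonunits_iff, ← IsLocalRing.mem_maximalIdeal, ← IsLocalRing.residue_eq_zero_iff,
      ← val_lt_one_iff_residue] at hna
    have h2 : Q.1 ((i a : Q.O) : K') < 1 := by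
      show Q.1 (algebraMap K K' (a : K)) < 1
      rw [he]; exact pow_lt_one₀ zero_le hna (isOverWith_pos he).ne'
    rw [val_lt_one_iff_residue, IsLocalRing.residue_eq_zero_iff, IsLocalRing.mem_maximalIdeal] at h2
    exact h2 ha⟩
  letI : Algebra (IsLocalRing.ResidueField P.O) (IsLocalRing.ResidueField Q.O) :=
    (IsLocalRing.ResidueField.map i).toAlgebra
  have htow : @IsScalarTower k (IsLocalRing.ResidueField P.O) (IsLocalRing.ResidueField Q.O)
      Algebra.toSMul Algebra.toSMul Algebra.toSMul :=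
    IsScalarTower.of_algebraMap_eq fun c => by
      show IsLocalRing.residue Q.O (algebraMap k Q.O c) =
        IsLocalRing.ResidueField.map i (IsLocalRing.residue P.O (algebraMap k P.O c))
      rw [IsLocalRing.ResidueField.map_residue]
      exact congrArg _ (Subtype.ext (IsScalarTower.algebraMap_apply k K K' c))
  have : FiniteDimensional k (IsLocalRing.ResidueField Q.O) :=
    Module.finite_of_finrank_pos (deg_pos_ff (isFF_of_finite hK) Q)
  have : FiniteDimensional (IsLocalRing.ResidueField P.O) (IsLocalRing.ResidueField Q.O) :=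
    @Module.Finite.of_restrictScalars_finite k (IsLocalRing.ResidueField P.O) (IsLocalRing.ResidueField Q.O) _ _ _ _ _ _ htow _
  let β := Module.finBasis (IsLocalRing.ResidueField P.O) (IsLocalRing.ResidueField Q.O)
  choose b hb using fun j => IsLocalRing.residue_surjective (R := Q.O) (β j)
  refine ⟨_, fun j => (b j : K'), ?_, fun j => (b j).2, fun a ha hlt j => ?_⟩
  · rw [mul_comm]; exact @Module.finrank_mul_finrank k (IsLocalRing.ResidueField P.O) (IsLocalRing.ResidueField Q.O) _ _ _ _ _ _ htow _ _ _ _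
  let a' : _ → P.O := fun j => ⟨a j, ha j⟩
  have h0 : IsLocalRing.residue Q.O (∑ j, i (a' j) * b j) = 0 := by
    rw [← val_lt_one_iff_residue]
    simpa [i, a'] using hlt
  have h1 : ∑ j, IsLocalRing.residue P.O (a' j) • β j = 0 := by
    rw [← h0, map_sum]
    exact Finset.sum_congr rfl fun j _ => by
      rw [map_mul, hb, Algebra.smul_def]; rfl
  exact (val_lt_one_iff_residue P (a' j)).2 (Fintype.linearIndependent_iff.1 β.linearIndependent _ h1 j)

/-- Integral over `P`: at most `1` at every place above `P`. -/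
def IntAbove (P : Place k K) (x : K') : Prop := ∀ Q : Place k K', IsOver Q P → Q.1 x ≤ 1

/-- An adapted basis of the semilocal ring above `P`. -/
theorem exists_local_basis (hK : IsFunctionField k K) (P : Place k K) :
    ∃ z : Module.Basis (Fin (Module.finrank K K')) K K', (∀ i, IntAbove P (z i)) ∧
      (∀ x : K', IntAbove P x → ∀ i, P.1 (z.repr x i) ≤ 1) ∧
      (∀ x : K', (∀ Q : Place k K', IsOver Q P → Q.1 x ≤ exp (-(ramIdx Q P : ℤ))) →
        ∀ i, P.1 (z.repr x i) < 1) ∧
      ∀ Q : Place k K', IsOver Q P → ∃ s : Finset (Fin (Module.finrank K K')), s.card * P.deg = Q.deg ∧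
        ∀ i ∈ s, Q.1 (z i) ≤ exp (1 - (ramIdx Q P : ℤ)) ∧
          ∀ R : Place k K', IsOver R P → R ≠ Q → R.1 (z i) ≤ exp (-(ramIdx R P : ℤ)) := by
  classical
  obtain ⟨hfin, hsum⟩ := finite_isOver_and_sum (K' := K') hK P
  set S := hfin.toFinset
  have hS : ∀ Q, Q ∈ S ↔ IsOver Q P := fun Q => hfin.mem_toFinset
  choose f b hf hb1 hb2 using fun Q : S => exists_residue_basis hK ((hS Q.1).1 Q.2)
  choose u hu using fun Q : S => exists_val_eq Q.1 (-1)
  let e : Place k K' → ℕ := fun R => ramIdx R P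
  have he : ∀ R, IsOver R P → IsOverWith R P (e R) := fun R h => isOverWith_ramIdx h
  let ι := Σ Q : S, Fin (e Q.1) × Fin (f Q)
  -- the elements
  choose z hz using fun x : ι => exists_approx (k := k) (K := K') S
    (fun R => if R = x.1.1 then u x.1 ^ (x.2.1 : ℕ) * b x.1 x.2.2 else 0) (fun R => -(e R : ℤ))
  have hzo : ∀ (x : ι) (R : Place k K'), IsOver R P → R ≠ x.1.1 → R.1 (z x) ≤ exp (-(e R : ℤ)) :=
    fun x R hR hne => by simpa [hne] using hz x R ((hS R).2 hR)
  have hzs : ∀ (Q : S) (j : Fin (e Q.1)) (i : Fin (f Q)),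
      Q.1.1 (z ⟨Q, j, i⟩ - u Q ^ (j : ℕ) * b Q i) ≤ exp (-(e Q.1 : ℤ)) := fun Q j i => by
    simpa using hz ⟨Q, j, i⟩ Q.1 Q.2
  have hub : ∀ (Q : S) (j : ℕ) (i : Fin (f Q)), Q.1.1 (u Q ^ j * b Q i) ≤ exp (-(j : ℤ)) := fun Q j i => by
    rw [map_mul, map_pow, hu, ← exp_nsmul, nsmul_eq_mul, mul_neg, mul_one]
    exact mul_le_of_le_one_right' (hb1 Q i)
  have hzQ : ∀ x : ι, x.1.1.1 (z x) ≤ exp (-((x.2.1 : ℕ) : ℤ)) := fun x => by
    obtain ⟨Q, j, i⟩ := x
    have h := Q.1.1.map_add_le ((hzs Q j i).trans (exp_le_exp.2 (by omega))) (hub Q j i)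
    rwa [sub_add_cancel] at h
  have hint : ∀ x : ι, IntAbove P (z x) := fun x R hR => by
    rcases eq_or_ne R x.1.1 with rfl | hne
    · exact (hzQ x).trans (by rw [← exp_zero, exp_le_exp]; omega)
    · exact (hzo x R hR hne).trans (by rw [← exp_zero, exp_le_exp]; omega)
  have hinj : ∀ (Q : S) (j : Fin (e Q.1)), Function.Injective fun i => (⟨Q, j, i⟩ : ι) :=
    fun Q j i i' h => (Prod.mk.inj (eq_of_heq (Sigma.mk.inj h).2)).2
  -- independence modulo the ideal of `P`
  have key : ∀ a : ι → K, (∀ x, P.1 (a x) ≤ 1) →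
      (∀ R : Place k K', IsOver R P → R.1 (∑ x, algebraMap K K' (a x) * z x) ≤ exp (-(e R : ℤ))) →
      ∀ x, P.1 (a x) < 1 := by
    intro a ha hx
    by_contra hne
    push Not at hne
    obtain ⟨⟨Q, j₁, i₁⟩, h1⟩ := hne
    obtain ⟨j, hjmem, hmin⟩ := Finset.exists_min_image
      (Finset.univ.filter fun j : Fin (e Q.1) => ∃ i, 1 ≤ P.1 (a ⟨Q, j, i⟩)) id ⟨j₁, by simpa using ⟨i₁, h1⟩⟩
    obtain ⟨i₀, hi₀⟩ := (Finset.mem_filter.1 hjmem).2
    have hQP := (hS Q.1).1 Q.2
    have hbound : ∀ x : ι, Q.1.1 (algebraMap K K' (a x) * z x) ≤ exp (-((j : ℕ) : ℤ) - 1) ∨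
        ∃ i, x = ⟨Q, j, i⟩ := by
      intro x
      have ha1 : Q.1.1 (algebraMap K K' (a x)) ≤ 1 := by rw [he _ hQP]; exact pow_le_one₀ zero_le (ha x)
      obtain ⟨Q', j', i⟩ := x
      by_cases hQ : Q' = Q
      · subst hQ
        rcases lt_trichotomy j' j with hlt | rfl | hgt
        · left
          have hsm : P.1 (a ⟨Q', j', i⟩) < 1 := by
            by_contra hge
            exact absurd (hmin j' (by simpa using ⟨i, not_lt.1 hge⟩)) (not_le.2 hlt)
          rw [map_mul]
          refine le_trans (mul_le_of_le_one_right' (hint _ _ hQP)) ?_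
          rw [he _ hQP]
          rcases eq_or_ne (a ⟨Q', j', i⟩) 0 with h0 | h0
          · simp [h0, (isOverWith_pos (he _ hQP)).ne']
          rw [val_eq_exp P h0, ← exp_nsmul, exp_le_exp, nsmul_eq_mul]
          rw [val_lt_one_iff P h0] at hsm
          have : (j : ℕ) < e Q'.1 := j.2
          nlinarith
        · exact Or.inr ⟨i, rfl⟩
        · left
          rw [map_mul]
          refine le_trans (mul_le_of_le_one_left' ha1) ((hzQ ⟨Q', j', i⟩).trans ?_)
          have : (j : ℕ) < j' := hgt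
          rw [exp_le_exp]; dsimp only; omega
      · left
        rw [map_mul]
        refine le_trans (mul_le_of_le_one_left' ha1) ((hzo _ _ hQP fun h => hQ (Subtype.ext h.symm)).trans ?_)
        have : (j : ℕ) < e Q.1 := j.2
        rw [exp_le_exp]; omega
    -- the part at level `j`
    let g : ι → K' := fun x => if h : ∃ i, x = ⟨Q, j, i⟩ then
      algebraMap K K' (a x) * (u Q ^ (j : ℕ) * b Q h.choose) else 0
    have hg : ∀ i, g ⟨Q, j, i⟩ = algebraMap K K' (a ⟨Q, j, i⟩) * (u Q ^ (j : ℕ) * b Q i) := fun i => by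
      have h : ∃ i', (⟨Q, j, i⟩ : ι) = ⟨Q, j, i'⟩ := ⟨i, rfl⟩
      simp only [g, dif_pos h]
      exact congrArg (fun t => algebraMap K K' (a ⟨Q, j, i⟩) * (u Q ^ (j : ℕ) * b Q t)) (hinj Q j h.choose_spec).symm
    have hdiff : Q.1.1 (∑ x, (algebraMap K K' (a x) * z x - g x)) ≤ exp (-((j : ℕ) : ℤ) - 1) := by
      refine Q.1.1.map_sum_le fun x _ => ?_
      by_cases h : ∃ i, x = ⟨Q, j, i⟩
      · obtain ⟨i, rfl⟩ := h
        rw [hg, ← mul_sub, map_mul]
        refine le_trans (mul_le_of_le_one_left' ?_) ((hzs Q j i).trans ?_)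
        · rw [he _ hQP]; exact pow_le_one₀ zero_le (ha _)
        · have : (j : ℕ) < e Q.1 := j.2
          rw [exp_le_exp]; omega
      · simp only [g, dif_neg h, sub_zero]
        exact (hbound x).resolve_right h
    rw [Finset.sum_sub_distrib] at hdiff
    have hgv : Q.1.1 (∑ x, g x) ≤ exp (-((j : ℕ) : ℤ) - 1) := by
      have hj : (j : ℕ) < e Q.1 := j.2
      have := Q.1.1.map_sub _ _ |>.trans (max_le ((hx Q.1 hQP).trans
        (exp_le_exp.2 (by omega : -(e Q.1 : ℤ) ≤ -((j : ℕ) : ℤ) - 1))) hdiff)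
      rwa [sub_sub_cancel] at this
    have hgs : ∑ x, g x = u Q ^ (j : ℕ) * ∑ i, algebraMap K K' (a ⟨Q, j, i⟩) * b Q i := by
      rw [Finset.mul_sum, ← Finset.sum_subset (s₁ := Finset.univ.image fun i => (⟨Q, j, i⟩ : ι))
        (Finset.subset_univ _) (fun x _ hx => dif_neg fun ⟨i, hi⟩ => hx (by simp [hi])),
        Finset.sum_image (fun i _ i' _ h => by simpa using h)]
      exact Finset.sum_congr rfl fun i _ => by rw [hg]; ring
    rw [hgs, map_mul, map_pow, hu, ← exp_nsmul, nsmul_eq_mul, mul_neg, mul_one] at hgv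
    refine absurd (hb2 Q (fun i => a ⟨Q, j, i⟩) (fun i => ha _) ?_ i₀) (not_lt.2 hi₀)
    have h3 := mul_le_mul' (le_refl (exp ((j : ℕ) : ℤ))) hgv
    rw [← mul_assoc, ← exp_add, add_neg_cancel, exp_zero, one_mul, ← exp_add] at h3
    exact h3.trans_lt (by rw [← exp_zero, exp_lt_exp]; omega)
  -- scaling
  have scale : ∀ (a : ι → K), IntAbove P (∑ x, algebraMap K K' (a x) * z x) → ∀ x, P.1 (a x) ≤ 1 := by
    intro a hx x
    by_contra hbig
    obtain ⟨m, -, hm⟩ := Finset.exists_max_image Finset.univ (fun x => P.1 (a x)) ⟨x, Finset.mem_univ _⟩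
    have hm1 : 1 < P.1 (a m) := (not_le.1 hbig).trans_le (hm x (Finset.mem_univ _))
    have ha0 : a m ≠ 0 := fun h => by simp [h] at hm1
    rw [one_lt_val_iff P ha0] at hm1
    have := key (fun y => a y / a m) (fun y => by
      rw [map_div₀]
      exact (div_le_one₀ (zero_lt_iff.2 (val_ne_zero P ha0))).2 (hm y (Finset.mem_univ _))) (fun R hR => by
      simp only [map_div₀, div_mul_eq_mul_div]
      rw [← Finset.sum_div, map_div₀, he R hR, val_eq_exp P ha0, ← exp_nsmul, div_eq_mul_inv, ← exp_neg]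
      refine (mul_le_of_le_one_left' (hx R hR)).trans ?_
      rw [exp_le_exp, nsmul_eq_mul]
      have : (0 : ℤ) ≤ e R := Int.natCast_nonneg _
      nlinarith) m
    simp [div_self ha0] at this
  have hli : LinearIndependent K z := by
    rw [Fintype.linearIndependent_iff]
    intro a ha x
    by_contra hne
    obtain ⟨m, -, hm⟩ := Finset.exists_max_image Finset.univ (fun x => P.1 (a x)) ⟨x, Finset.mem_univ _⟩
    have ha0 : a m ≠ 0 := fun h => by
      have := hm x (Finset.mem_univ _)
      simp [h, val_ne_zero P hne] at this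
    have := key (fun y => a y / a m) (fun y => by
      rw [map_div₀]
      exact (div_le_one₀ (zero_lt_iff.2 (val_ne_zero P ha0))).2 (hm y (Finset.mem_univ _))) (fun R hR => by
      simp only [map_div₀, div_mul_eq_mul_div]
      rw [← Finset.sum_div, show ∑ y, algebraMap K K' (a y) * z y = 0 by simpa [Algebra.smul_def] using ha,
        zero_div, map_zero]
      exact zero_le) m
    simp [div_self ha0] at this
  have hcard : Fintype.card ι = Module.finrank K K' := by
    refine Nat.eq_of_mul_eq_mul_right (deg_pos hK P) ?_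
    rw [← hsum S hS, ← Finset.sum_coe_sort S, Fintype.card_sigma, Finset.sum_mul]
    exact Finset.sum_congr rfl fun Q _ => by
      rw [Fintype.card_prod, Fintype.card_fin, Fintype.card_fin, mul_assoc, hf]
  have hspan : ⊤ ≤ Submodule.span K (Set.range z) := by
    rw [hli.span_eq_top_of_card_eq_finrank' hcard]
  let eι := Fintype.equivFinOfCardEq hcard
  let B := (Module.Basis.mk hli hspan).reindex eι
  have hB : ∀ i, B i = z (eι.symm i) := fun i => by simp [B]
  have hrepr : ∀ x : K', x = ∑ y, algebraMap K K' (B.repr x (eι y)) * z y := fun x => by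
    conv_lhs => rw [← B.sum_repr x]
    exact (Equiv.sum_comp eι _).symm.trans
      (Finset.sum_congr rfl fun y _ => by simp [hB, Algebra.smul_def])
  refine ⟨B, fun i => by rw [hB]; exact hint _, fun x hx i => ?_, fun x hx i => ?_, fun Q hQ => ?_⟩
  · have := scale (fun y => B.repr x (eι y)) (by rw [← hrepr]; exact hx) (eι.symm i)
    simpa using this
  · have hx1 : IntAbove P x := fun R hR => (hx R hR).trans (by rw [← exp_zero, exp_le_exp]; omega)
    have := key (fun y => B.repr x (eι y)) (scale _ (by rw [← hrepr]; exact hx1))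
      (by rw [← hrepr]; exact hx) (eι.symm i)
    simpa using this
  · let Q₀ : S := ⟨Q, (hS Q).2 hQ⟩
    have hepos : 0 < e Q := isOverWith_pos (he Q hQ)
    let last : Fin (e Q₀.1) := ⟨e Q - 1, show e Q - 1 < e Q by omega⟩
    refine ⟨Finset.univ.image fun i => eι ⟨Q₀, last, i⟩, ?_, fun i hi => ?_⟩
    · rw [Finset.card_image_of_injective _ (fun i i' h => hinj Q₀ last (eι.injective h)), Finset.card_univ,
        Fintype.card_fin]
      exact hf Q₀
    · obtain ⟨i, -, rfl⟩ := Finset.mem_image.1 hi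
      rw [hB, Equiv.symm_apply_apply]
      refine ⟨(hzQ ⟨Q₀, last, i⟩).trans ?_, fun R hR hne => hzo _ R hR hne⟩
      rw [exp_le_exp]
      show -(((e Q - 1 : ℕ)) : ℤ) ≤ 1 - (e Q : ℤ)
      omega

theorem val_det_le_one (P : Place k K) {n : Type*} [Fintype n] [DecidableEq n] (M : Matrix n n K)
    (h : ∀ i j, P.1 (M i j) ≤ 1) : P.1 M.det ≤ 1 := by
  let M' : Matrix n n P.O := Matrix.of fun i j => ⟨M i j, h i j⟩
  have : M.det = P.O.subtype M'.det := by rw [RingHom.map_det]; rfl
  rw [this]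
  exact M'.det.2

omit [FiniteDimensional K K'] [IsScalarTower k K K'] in
theorem IntAbove.mul {P : Place k K} {x y : K'} (hx : IntAbove P x) (hy : IntAbove P y) :
    IntAbove P (x * y) := fun Q hQ => by rw [map_mul]; exact mul_le_one' (hx Q hQ) (hy Q hQ)

theorem val_norm_le_one (hK : IsFunctionField k K) {P : Place k K} {x : K'} (hx : IntAbove P x) :
    P.1 (Algebra.norm K x) ≤ 1 := by
  classical
  obtain ⟨z, hz, hrep, -, -⟩ := exists_local_basis (K' := K') hK P
  rw [Algebra.norm_eq_matrix_det z]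
  exact val_det_le_one P _ fun i j => by
    rw [Algebra.leftMulMatrix_eq_repr_mul]; exact hrep _ (hx.mul (hz j)) i

theorem deg_le_ord_norm (hK : IsFunctionField k K) {P : Place k K} {Q : Place k K'} (hQ : IsOver Q P)
    {x : K'} (hx0 : x ≠ 0) (hx : IntAbove P x) (hxQ : Q.1 x ≤ exp (-1)) :
    (Q.deg : ℤ) ≤ P.deg * P.ord (Algebra.norm K x) := by
  classical
  obtain ⟨z, hz, hrep, hlt, hs⟩ := exists_local_basis (K' := K') hK P
  obtain ⟨s, hcard, hsz⟩ := hs Q hQ
  obtain ⟨t, ht⟩ := exists_val_eq P (-1)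
  have ht0 := ne_zero_of_val P ht
  let M := Algebra.leftMulMatrix z x
  let d : Fin (Module.finrank K K') → K := fun j => if j ∈ s then t else 1
  let N : Matrix (Fin (Module.finrank K K')) (Fin (Module.finrank K K')) K :=
    Matrix.of fun i j => M i j / d j
  have hN : ∀ i j, P.1 (N i j) ≤ 1 := by
    intro i j
    have hM : M i j = z.repr (x * z j) i := Algebra.leftMulMatrix_eq_repr_mul _ _ _ _
    show P.1 (M i j / d j) ≤ 1
    by_cases hj : j ∈ s
    · have hsmall : P.1 (z.repr (x * z j) i) < 1 := hlt _ (fun R hR => by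
        rw [map_mul]
        rcases eq_or_ne R Q with rfl | hne
        · refine (mul_le_mul' hxQ (hsz j hj).1).trans ?_
          rw [← exp_add, exp_le_exp]; omega
        · exact (mul_le_of_le_one_left' (hx R hR)).trans ((hsz j hj).2 R hR hne)) i
      simp only [d, if_pos hj, map_div₀, ht, hM]
      rcases eq_or_ne (z.repr (x * z j) i) 0 with h0 | h0
      · simp [h0]
      rw [val_eq_exp P h0, div_eq_mul_inv, ← exp_neg, ← exp_add, ← exp_zero, exp_le_exp]
      rw [val_lt_one_iff P h0] at hsmall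
      omega
    · simp only [d, if_neg hj, div_one, hM]
      exact hrep _ (hx.mul (hz j)) i
  have hdet : Algebra.norm K x = N.det * ∏ j, d j := by
    rw [Algebra.norm_eq_matrix_det z, ← Matrix.det_diagonal, ← Matrix.det_mul]
    congr 1
    ext i j
    rw [Matrix.mul_diagonal]
    show _ = M i j / d j * d j
    rw [div_mul_cancel₀ _ (by simp only [d]; split_ifs <;> simp [ht0])]
  have hd : ∏ j, d j = t ^ s.card := by
    rw [Finset.prod_ite_mem, Finset.univ_inter, Finset.prod_const]
  have hN0 : N.det ≠ 0 := fun h => (Algebra.norm_ne_zero_iff.2 hx0) (by rw [hdet, h, zero_mul])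
  have h2 : 0 ≤ P.ord N.det := (val_le_one_iff P hN0).1 (val_det_le_one P N hN)
  rw [hdet, hd, ord_mul P hN0 (pow_ne_zero _ ht0), ord_pow, ord_eq_of_val P ht]
  have h3 : (s.card : ℤ) * P.deg = Q.deg := by exact_mod_cast hcard
  have : (0 : ℤ) ≤ P.deg := Int.natCast_nonneg _
  nlinarith

/-- `v_P(N x) deg P = ∑ deg Q v_Q(x)`. -/
theorem ord_norm (hK : IsFunctionField k K) (P : Place k K) (x : K') (Qs : Finset (Place k K'))
    (hQs : ∀ Q, Q ∈ Qs ↔ IsOver Q P) :
    (P.deg : ℤ) * P.ord (Algebra.norm K x) = ∑ Q ∈ Qs, (Q.deg : ℤ) * Q.ord x := by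
  classical
  let φ : K' → ℤ := fun y => (P.deg : ℤ) * P.ord (Algebra.norm K y) - ∑ Q ∈ Qs, (Q.deg : ℤ) * Q.ord y
  have hne : ∀ {y : K'}, y ≠ 0 → Algebra.norm K y ≠ 0 := fun h => Algebra.norm_ne_zero_iff.2 h
  have φmul : ∀ {a b : K'}, a ≠ 0 → b ≠ 0 → φ (a * b) = φ a + φ b := fun {a b} ha hb => by
    simp only [φ, map_mul, ord_mul P (hne ha) (hne hb)]
    rw [Finset.sum_congr rfl fun Q _ => by rw [ord_mul Q ha hb, mul_add], Finset.sum_add_distrib]
    ring
  have φzpow : ∀ (a : K') (n : ℤ), φ (a ^ n) = n * φ a := fun a n => by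
    simp only [φ, map_zpow' (Algebra.norm K) (fun z => Algebra.norm_inv z) , ord_zpow]
    rw [Finset.sum_congr rfl fun Q _ => mul_left_comm _ _ _, ← Finset.mul_sum]
    ring
  have φzero : ∀ y : K', y ≠ 0 → (∀ Q ∈ Qs, Q.ord y = 0) → φ y = 0 := fun y hy h => by
    have h1 : IntAbove P y := fun Q hQ => (val_le_one_iff Q hy).2 (h Q ((hQs Q).2 hQ)).ge
    have h2 : IntAbove P y⁻¹ := fun Q hQ =>
      (val_le_one_iff Q (inv_ne_zero hy)).2 (by rw [ord_inv, h Q ((hQs Q).2 hQ)]; rfl)
    have h3 := (val_le_one_iff P (hne hy)).1 (val_norm_le_one hK h1)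
    have h4 := (val_le_one_iff P (hne (inv_ne_zero hy))).1 (val_norm_le_one hK h2)
    rw [Algebra.norm_inv, ord_inv] at h4
    simp only [φ]
    rw [Finset.sum_eq_zero fun Q hQ => by rw [h Q hQ, mul_zero], show P.ord (Algebra.norm K y) = 0 by omega]
    ring
  choose w hw using fun Q : Place k K' => exists_approx_eq (k := k) (K := K') Qs (fun _ => 0)
    (fun R => if R = Q then -1 else 0)
  have hw' : ∀ Q R : Place k K', R ∈ Qs → R.1 (w Q) = exp (if R = Q then -1 else 0) :=
    fun Q R hR => by simpa using hw Q R hR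
  rcases Qs.eq_empty_or_nonempty with hemp | ⟨Q₁, hQ₁⟩
  · obtain ⟨Q, hQ⟩ := exists_above (K' := K') hK P
    simpa [hemp] using (hQs Q).2 hQ
  have hw0 : ∀ Q, w Q ≠ 0 := fun Q => ne_zero_of_val _ (hw' Q Q₁ hQ₁)
  have hword : ∀ Q R : Place k K', R ∈ Qs → R.ord (w Q) = if R = Q then 1 else 0 := fun Q R hR => by
    rw [ord_eq_of_val R (hw' Q R hR)]; split_ifs <;> rfl
  have φprod : ∀ (g : Place k K' → ℤ) (s : Finset (Place k K')),
      φ (∏ Q ∈ s, w Q ^ g Q) = ∑ Q ∈ s, g Q * φ (w Q) := fun g s => by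
    induction s using Finset.induction_on with
    | empty => simp [φ]
    | insert a s ha ih =>
      rw [Finset.prod_insert ha, Finset.sum_insert ha,
        φmul (zpow_ne_zero _ (hw0 a)) (Finset.prod_ne_zero_iff.2 fun Q _ => zpow_ne_zero _ (hw0 Q)),
        φzpow, ih]
  have φord : ∀ y : K', y ≠ 0 → φ y = ∑ Q ∈ Qs, Q.ord y * φ (w Q) := fun y hy => by
    have hp : (∏ Q ∈ Qs, w Q ^ (-Q.ord y)) ≠ 0 := Finset.prod_ne_zero_iff.2 fun Q _ => zpow_ne_zero _ (hw0 Q)
    have h := φzero (y * ∏ Q ∈ Qs, w Q ^ (-Q.ord y)) (mul_ne_zero hy hp) fun R hR => by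
      rw [ord_mul R hy hp]
      have hpr : ∀ s : Finset (Place k K'), R.ord (∏ Q ∈ s, w Q ^ (-Q.ord y)) =
          ∑ Q ∈ s, if R = Q then -Q.ord y else 0 := fun s => by
        induction s using Finset.induction_on with
        | empty => simp
        | insert a s ha ih =>
          rw [Finset.prod_insert ha, Finset.sum_insert ha, ord_mul R (zpow_ne_zero _ (hw0 a))
            (Finset.prod_ne_zero_iff.2 fun Q _ => zpow_ne_zero _ (hw0 Q)), ih, ord_zpow, hword a R hR]
          split_ifs <;> simp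
      rw [hpr, Finset.sum_ite_eq, if_pos hR]; ring
    rw [φmul hy hp, φprod] at h
    simp only [neg_mul, Finset.sum_neg_distrib] at h
    omega
  have hc : ∀ Q ∈ Qs, 0 ≤ φ (w Q) := fun Q hQ => by
    have h := deg_le_ord_norm hK ((hQs Q).1 hQ) (hw0 Q) (fun R hR => by
      rw [hw' Q R ((hQs R).2 hR), ← exp_zero, exp_le_exp]; split_ifs <;> omega)
      (by rw [hw' Q Q hQ, if_pos rfl])
    simp only [φ]
    rw [Finset.sum_congr rfl fun R hR => by rw [hword Q R hR, mul_ite, mul_one, mul_zero],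
      Finset.sum_ite_eq', if_pos hQ]
    omega
  obtain ⟨t, ht⟩ := exists_val_eq P (-1)
  have ht0 := ne_zero_of_val P ht
  have he : ∀ Q ∈ Qs, Q.ord (algebraMap K K' t) = ramIdx Q P := fun Q hQ => by
    rw [isOverWith_ord (isOverWith_ramIdx ((hQs Q).1 hQ)) ht0, ord_eq_of_val P ht]; ring
  have h0 : φ (algebraMap K K' t) = 0 := by
    have hs := (finite_isOver_and_sum (K' := K') hK P).2 Qs hQs
    simp only [φ, Algebra.norm_algebraMap, ord_pow, ord_eq_of_val P ht]
    rw [Finset.sum_congr rfl fun Q hQ => by rw [he Q hQ]]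
    have : (∑ Q ∈ Qs, (Q.deg : ℤ) * (ramIdx Q P : ℤ)) = (Module.finrank K K' : ℤ) * P.deg := by
      rw [Finset.sum_congr rfl fun Q _ => mul_comm _ _]; exact_mod_cast hs
    rw [this]; ring
  have hzero : ∀ Q ∈ Qs, φ (w Q) = 0 := fun Q hQ => by
    rw [φord _ (by simpa using ht0)] at h0
    have := (Finset.sum_eq_zero_iff_of_nonneg fun R hR => by
      rw [he R hR]; exact mul_nonneg (Int.natCast_nonneg _) (hc R hR)).1 h0 Q hQ
    rw [he Q hQ] at this
    exact (mul_eq_zero.1 this).resolve_left (by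
      exact_mod_cast (isOverWith_pos (isOverWith_ramIdx ((hQs Q).1 hQ))).ne')
  rcases eq_or_ne x 0 with rfl | hx
  · simp
  have := φord x hx
  rw [Finset.sum_eq_zero fun Q hQ => by rw [hzero Q hQ, mul_zero]] at this
  simp only [φ] at this
  omega

theorem isIntegral_iff_intAbove (hK : IsFunctionField k K) (P : Place k K) [Algebra P.O K']
    [IsScalarTower P.O K K'] (x : K') : IsIntegral P.O x ↔ IntAbove P x := by
  classical
  refine ⟨fun hx Q hQ => ?_, fun hx => ?_⟩
  · obtain ⟨p, hp, h0⟩ := hx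
    by_contra hlt
    push Not at hlt
    rw [← Polynomial.aeval_def, Polynomial.aeval_eq_sum_range] at h0
    obtain ⟨e, he⟩ := hQ
    have hterm : ∀ i, Q.1 (p.coeff i • x ^ i) ≤ Q.1 x ^ i := fun i => by
      rw [Algebra.smul_def, map_mul, map_pow, IsScalarTower.algebraMap_apply P.O K K', he]
      exact mul_le_of_le_one_left' (pow_le_one₀ zero_le (p.coeff i).2)
    have hlead : Q.1 (p.coeff p.natDegree • x ^ p.natDegree) = Q.1 x ^ p.natDegree := by
      rw [hp.coeff_natDegree, one_smul, map_pow]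
    have h := Q.1.map_sum_eq_of_lt (f := fun i => p.coeff i • x ^ i)
      (s := Finset.range (p.natDegree + 1)) (j := p.natDegree) (by simp) fun i hi => by
        simp only [Finset.mem_sdiff, Finset.mem_range, Finset.mem_singleton] at hi
        rw [hlead]
        exact (hterm i).trans_lt (pow_lt_pow_right₀ hlt (by omega))
    rw [h0, map_zero, hlead] at h
    exact (pow_pos (zero_lt_one.trans hlt) _).ne h
  · obtain ⟨z, hz, hrep, -, -⟩ := exists_local_basis (K' := K') hK P
    let M : Matrix (Fin (Module.finrank K K')) (Fin (Module.finrank K K')) P.O := Matrix.of fun i j =>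
      ⟨Algebra.leftMulMatrix z x i j, by
        show P.1 _ ≤ 1
        rw [Algebra.leftMulMatrix_eq_repr_mul]; exact hrep _ (hx.mul (hz j)) i⟩
    refine ⟨M.charpoly, M.charpoly_monic, ?_⟩
    have hM : M.map (algebraMap P.O K) = Algebra.leftMulMatrix z x := by ext i j; rfl
    have h := Matrix.aeval_self_charpoly (Algebra.leftMulMatrix z x)
    rw [Polynomial.aeval_algHom_apply] at h
    have h2 := (map_eq_zero_iff _ (Algebra.leftMulMatrix_injective z)).1 h
    rw [← hM, Matrix.charpoly_map, Polynomial.aeval_map_algebraMap] at h2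
    rw [← Polynomial.aeval_def]
    exact h2

theorem exists_fg_intAbove (hK : IsFunctionField k K) (P : Place k K) [Algebra P.O K']
    [IsScalarTower P.O K K'] : Module.Finite P.O (integralClosure P.O K') := by
  classical
  obtain ⟨z, hz, hrep, -, -⟩ := exists_local_basis (K' := K') hK P
  have h : Subalgebra.toSubmodule (integralClosure P.O K') = Submodule.span P.O (Set.range z) := by
    refine le_antisymm (fun x hx => ?_) (Submodule.span_le.2 ?_)
    · rw [← z.sum_repr x]
      refine Submodule.sum_mem _ fun i _ => ?_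
      rw [show z.repr x i • z i = (⟨_, hrep x ((isIntegral_iff_intAbove hK P x).1 hx) i⟩ : P.O) • z i from
        IsScalarTower.algebraMap_smul K (⟨_, hrep x ((isIntegral_iff_intAbove hK P x).1 hx) i⟩ : P.O) (z i)]
      exact Submodule.smul_mem _ _ (Submodule.subset_span ⟨i, rfl⟩)
    · rintro _ ⟨i, rfl⟩
      exact (isIntegral_iff_intAbove hK P _).2 (hz i)
  exact Module.Finite.iff_fg.2 (by
    show (Subalgebra.toSubmodule (integralClosure P.O K')).FG
    rw [h]; exact Submodule.fg_span (Set.finite_range z))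

end Groth.Agent.FunFldLib
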