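import Groth.Agent.FunFld.Over
import Groth.Agent.FunFld.Local
import Groth.Agent.FunFld.GeomTensor
import Mathlib.RingTheory.Unramified.Field
import Mathlib.RingTheory.TensorProduct.Finite

/-!
Constant extensions at a place: `k' ⊗ O_P` is normal when its special fibre is reduced.
-/

namespace Groth.Agent.FunFldLib

open FunFld WithZero TensorProduct

variable {k K L S : Type*} [Field k] [Field K] [Field L] [Field S] [Algebra k K] [Algebra K L] [Algebra k L]
  [IsScalarTower k K L] [Algebra k S]

attribute [local instance 2000] Algebra.toModule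

section Maps

variable (S) in
/-- The inclusion `O_P ⊗ S → K ⊗ S`. -/
noncomputable def inclS (P : Place k K) : P.O ⊗[k] S →ₐ[k] K ⊗[k] S :=
  Algebra.TensorProduct.map
    { toRingHom := P.O.subtype, commutes' := fun _ => rfl } (AlgHom.id k S)

variable (S) in
/-- Reduction `O_P ⊗ S → F_P ⊗ S`. -/
noncomputable def resS (P : Place k K) : P.O ⊗[k] S →ₐ[k] IsLocalRing.ResidueField P.O ⊗[k] S :=
  Algebra.TensorProduct.map
    { toRingHom := IsLocalRing.residue P.O, commutes' := fun _ => rfl } (AlgHom.id k S)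

theorem inclS_tmul (P : Place k K) (a : P.O) (s : S) : inclS S P (a ⊗ₜ s) = (a : K) ⊗ₜ s := rfl

theorem resS_tmul (P : Place k K) (a : P.O) (s : S) :
    resS S P (a ⊗ₜ s) = IsLocalRing.residue P.O a ⊗ₜ s := rfl

theorem inclS_injective (P : Place k K) : Function.Injective (inclS S P) :=
  Module.Flat.rTensor_preserves_injective_linearMap (M := S)
    ({ toRingHom := P.O.subtype, commutes' := fun _ => rfl } : P.O →ₐ[k] K).toLinearMap Subtype.val_injective

theorem inclS_smul_one (P : Place k K) (a : P.O) :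
    inclS S P (a ⊗ₜ 1) = algebraMap K (K ⊗[k] S) (a : K) := rfl

/-- An element reducing to zero is divisible by the uniformizer. -/
theorem resS_eq_zero [FiniteDimensional k S] {P : Place k K} {π : P.O} (hπ : P.1 (π : K) = exp (-1))
    {t : P.O ⊗[k] S} (ht : resS S P t = 0) : ∃ s, t = (π ⊗ₜ[k] (1 : S)) * s := by
  classical
  let b := Module.finBasis k S
  obtain ⟨c, rfl⟩ : ∃ c : Fin (Module.finrank k S) → P.O, ∑ i, c i ⊗ₜ[k] b i = t := by
    refine ⟨fun i => (Algebra.TensorProduct.basis P.O b).repr t i, ?_⟩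
    conv_rhs => rw [← (Algebra.TensorProduct.basis P.O b).sum_repr t]
    refine Finset.sum_congr rfl fun i _ => ?_
    rw [Algebra.TensorProduct.basis_apply, Algebra.smul_def, Algebra.TensorProduct.algebraMap_apply,
      Algebra.TensorProduct.tmul_mul_tmul, one_mul, Algebra.algebraMap_self, RingHom.id_apply, mul_one]
  have hc : ∀ i, IsLocalRing.residue P.O (c i) = 0 := by
    simp only [map_sum, resS_tmul] at ht
    have h := congrArg (Algebra.TensorProduct.basis (IsLocalRing.ResidueField P.O) b).repr ht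
    intro i
    have h2 := DFunLike.congr_fun h i
    simp only [map_sum, map_zero, Finsupp.coe_zero, Pi.zero_apply, Finsupp.coe_finsetSum, Finset.sum_apply,
      Algebra.TensorProduct.basis_repr_tmul, Finsupp.coe_smul, Pi.smul_apply, smul_eq_mul,
      Finsupp.mapRange_apply, Module.Basis.repr_self, Finsupp.single_apply] at h2
    simpa [Finset.sum_ite_eq', apply_ite] using h2
  have hd : ∀ i, ∃ d : P.O, c i = π * d := fun i => by
    have hπ0 := ne_zero_of_val P hπ
    have h1 := (val_lt_one_iff_residue P (c i)).2 (hc i)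
    refine ⟨⟨(c i : K) / π, ?_⟩, Subtype.ext (mul_div_cancel₀ _ hπ0).symm⟩
    show P.1 _ ≤ 1
    rcases eq_or_ne (c i : K) 0 with h0 | h0
    · simp [h0]
    rw [map_div₀, hπ, val_eq_exp P h0, ← exp_sub, ← exp_zero, exp_le_exp]
    have := (val_lt_one_iff P h0).1 h1
    omega
  choose d hd using hd
  refine ⟨∑ i, d i ⊗ₜ[k] b i, ?_⟩
  rw [Finset.mul_sum]
  exact Finset.sum_congr rfl fun i _ => by rw [Algebra.TensorProduct.tmul_mul_tmul, one_mul, hd]

end Maps

variable [FiniteDimensional k S] [FiniteDimensional K L] {φ : K ⊗[k] S →ₐ[K] L} {P : Place k K} {π : P.O}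

omit [FiniteDimensional K L] in
theorem intAbove_inclS (t : P.O ⊗[k] S) : IntAbove P (φ (inclS S P t)) := by
  induction t using TensorProduct.induction_on with
  | zero => intro Q _; simp
  | tmul a s =>
    intro Q hQ
    rw [inclS_tmul, show (a : K) ⊗ₜ[k] s = algebraMap K (K ⊗[k] S) (a : K) * ((1 : K) ⊗ₜ[k] s) by
      rw [Algebra.TensorProduct.algebraMap_apply, Algebra.TensorProduct.tmul_mul_tmul, mul_one, one_mul]; rfl,
      map_mul, map_mul, AlgHom.commutes]
    refine mul_le_one' ?_ (val_algebraic_le_one Q ?_)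
    · obtain ⟨e, he⟩ := hQ
      rw [he]; exact pow_le_one₀ zero_le a.2
    · exact (IsIntegral.of_finite k s).map ((φ.restrictScalars k).comp Algebra.TensorProduct.includeRight)
  | add x y hx hy =>
    intro Q hQ
    rw [map_add, map_add]
    exact (Q.1.map_add _ _).trans (max_le (hx Q hQ) (hy Q hQ))

omit [FiniteDimensional K L] in
omit [FiniteDimensional k S] [FiniteDimensional K L] in
theorem exists_pow_mul_mem (hπ : P.1 (π : K) = exp (-1)) (y : K ⊗[k] S) :
    ∃ C : ℕ, algebraMap K (K ⊗[k] S) ((π : K) ^ C) * y ∈ (inclS S P).range := by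
  induction y using TensorProduct.induction_on with
  | zero => exact ⟨0, by rw [mul_zero]; exact zero_mem _⟩
  | tmul a s =>
    rcases eq_or_ne a 0 with rfl | ha
    · exact ⟨0, by rw [TensorProduct.zero_tmul, mul_zero]; exact zero_mem _⟩
    refine ⟨(-P.ord a).toNat, ?_⟩
    have hle : P.1 ((π : K) ^ (-P.ord a).toNat * a) ≤ 1 := by
      rw [map_mul, map_pow, hπ, val_eq_exp P ha, ← exp_nsmul, ← exp_add, ← exp_zero, exp_le_exp, nsmul_eq_mul]
      omega
    refine ⟨(⟨_, hle⟩ : P.O) ⊗ₜ[k] s, ?_⟩
    show inclS S P _ = _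
    rw [inclS_tmul, Algebra.TensorProduct.algebraMap_apply, Algebra.TensorProduct.tmul_mul_tmul, one_mul]
    rfl
  | add x y hx hy =>
    obtain ⟨C, hC⟩ := hx
    obtain ⟨D, hD⟩ := hy
    refine ⟨C + D, ?_⟩
    have hmem : ∀ n : ℕ, algebraMap K (K ⊗[k] S) ((π : K) ^ n) ∈ (inclS S P).range := fun n =>
      ⟨(π ^ n) ⊗ₜ[k] (1 : S), rfl⟩
    rw [mul_add]
    refine add_mem ?_ ?_
    · rw [add_comm C D, pow_add, map_mul, mul_assoc]; exact mul_mem (hmem D) hC
    · rw [pow_add, map_mul, mul_assoc]; exact mul_mem (hmem C) hD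

omit [FiniteDimensional k S] in
/-- The conductor exponent. -/
theorem exists_conductor_exp (hK : IsFunctionField k K) (hφ : Function.Injective φ) (hπ : P.1 (π : K) = exp (-1)) :
    ∃ C : ℕ, ∀ y : K ⊗[k] S, IntAbove P (φ y) →
      algebraMap K (K ⊗[k] S) ((π : K) ^ C) * y ∈ (inclS S P).range := by
  classical
  obtain ⟨z, -, hrep, -, -⟩ := exists_local_basis (K' := L) hK P
  obtain ⟨l, hl⟩ := φ.toLinearMap.exists_leftInverse_of_injective (LinearMap.ker_eq_bot.2 hφ)
  choose C hC using fun i => exists_pow_mul_mem (π := π) hπ (l (z i))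
  refine ⟨∑ i, C i, fun y hy => ?_⟩
  have hy' : y = ∑ i, algebraMap K (K ⊗[k] S) (z.repr (φ y) i) * l (z i) := by
    have h1 : l (φ y) = y := LinearMap.congr_fun hl y
    conv_lhs => rw [← h1, ← z.sum_repr (φ y)]
    rw [map_sum]
    exact Finset.sum_congr rfl fun i _ => by rw [map_smul, Algebra.smul_def]
  rw [hy', Finset.mul_sum]
  refine Subalgebra.sum_mem _ fun i _ => ?_
  obtain ⟨D, hD⟩ := Nat.le.dest (Finset.single_le_sum (f := C) (fun j _ => Nat.zero_le _) (Finset.mem_univ i))
  have h2 : algebraMap K (K ⊗[k] S) ((π : K) ^ ∑ j, C j) *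
      (algebraMap K (K ⊗[k] S) (z.repr (φ y) i) * l (z i)) =
      (algebraMap K (K ⊗[k] S) ((π : K) ^ D) * algebraMap K (K ⊗[k] S) (z.repr (φ y) i)) *
        (algebraMap K (K ⊗[k] S) ((π : K) ^ C i) * l (z i)) := by
    rw [← hD, pow_add, map_mul]; ring
  rw [h2]
  exact mul_mem (mul_mem ⟨(π ^ D) ⊗ₜ[k] (1 : S), rfl⟩ ⟨(⟨_, hrep _ hy i⟩ : P.O) ⊗ₜ[k] (1 : S), rfl⟩) (hC i)

/-- Reduced special fibre: integral elements of `K ⊗ S` come from `O_P ⊗ S`. -/
theorem mem_inclS_of_intAbove (hK : IsFunctionField k K) (hφ : Function.Injective φ)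
    [IsReduced (IsLocalRing.ResidueField P.O ⊗[k] S)] {y : K ⊗[k] S} (hy : IntAbove P (φ y)) :
    y ∈ (inclS S P).range := by
  classical
  obtain ⟨p, hp⟩ := exists_val_eq P (-1)
  let π : P.O := ⟨p, show P.1 p ≤ 1 by rw [hp, ← exp_zero, exp_le_exp]; omega⟩
  have hπ : P.1 (π : K) = exp (-1) := hp
  obtain ⟨C, hC⟩ := exists_conductor_exp (φ := φ) (π := π) hK hφ hπ
  have hex : ∃ n, algebraMap K (K ⊗[k] S) ((π : K) ^ n) * y ∈ (inclS S P).range := ⟨C, hC y hy⟩
  obtain ⟨t, ht⟩ := Nat.find_spec hex
  change inclS S P t = _ at ht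
  rcases Nat.eq_zero_or_pos (Nat.find hex) with h0 | hpos
  · exact ⟨t, by show inclS S P t = y; rw [ht, h0, pow_zero, map_one, one_mul]⟩
  exfalso
  set n := Nat.find hex
  have hyM : IntAbove P (φ (y ^ (C + 1))) := fun Q hQ => by
    rw [map_pow, map_pow]; exact pow_le_one₀ zero_le (hy Q hQ)
  obtain ⟨u, hu⟩ := hC _ hyM
  change inclS S P u = _ at hu
  obtain ⟨E, hE⟩ := Nat.le.dest (show C + 1 ≤ n * (C + 1) from Nat.le_mul_of_pos_left _ hpos)
  have heq : t ^ (C + 1) = (π ^ (E + 1)) ⊗ₜ[k] (1 : S) * u := inclS_injective P (by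
    rw [map_pow, ht, map_mul, hu, inclS_smul_one, mul_pow, ← map_pow, ← pow_mul, ← hE,
      SubmonoidClass.coe_pow, show C + 1 + E = E + 1 + C by omega, pow_add, map_mul]
    ring)
  have hres : resS S P t = 0 := by
    refine eq_zero_of_pow_eq_zero (n := C + 1) ?_
    rw [← map_pow, heq, map_mul, resS_tmul, map_pow,
      (val_lt_one_iff_residue P π).1 (by rw [hπ, ← exp_zero, exp_lt_exp]; omega), zero_pow (by omega),
      TensorProduct.zero_tmul, zero_mul]
  obtain ⟨s, hs⟩ := resS_eq_zero hπ hres
  refine Nat.find_min hex (show n - 1 < n by omega) ⟨s, ?_⟩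
  show inclS S P s = _
  have hπ0 : (π : K) ≠ 0 := ne_zero_of_val P hπ
  have h3 := ht
  rw [hs, map_mul, inclS_smul_one, show n = n - 1 + 1 by omega, pow_succ', map_mul, mul_assoc] at h3
  have hunit : IsUnit (algebraMap K (K ⊗[k] S) (π : K)) := hπ0.isUnit.map _
  exact hunit.mul_left_cancel h3

/-- Reduced special fibre: no ramification above `P`. -/
theorem isOverWith_one_of_reduced (hK : IsFunctionField k K) (hφ : Function.Bijective φ)
    [IsReduced (IsLocalRing.ResidueField P.O ⊗[k] S)] {Q : Place k L} (hQ : IsOver Q P) :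
    IsOverWith Q P 1 := by
  classical
  have he := isOverWith_ramIdx hQ
  have hepos := isOverWith_pos he
  rcases eq_or_ne (ramIdx Q P) 1 with h | h
  · rwa [h] at he
  exfalso
  set e := ramIdx Q P with hedef
  obtain ⟨p, hp⟩ := exists_val_eq P (-1)
  let π : P.O := ⟨p, show P.1 p ≤ 1 by rw [hp, ← exp_zero, exp_le_exp]; omega⟩
  have hπ : P.1 (π : K) = exp (-1) := hp
  set T := (finite_isOver (K' := L) hK P).toFinset
  obtain ⟨w, hw⟩ := exists_approx_eq (k := k) (K := L) T (fun _ => 0)
    (fun R => if R = Q then 1 - (e : ℤ) else -(ramIdx R P : ℤ))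
  have hw' : ∀ R, IsOver R P → R.1 w = exp (if R = Q then 1 - (e : ℤ) else -(ramIdx R P : ℤ)) :=
    fun R hR => by simpa using hw R ((finite_isOver hK P).mem_toFinset.2 hR)
  have hpos : ∀ R : Place k L, IsOver R P → 1 ≤ ramIdx R P := fun R hR => isOverWith_pos (isOverWith_ramIdx hR)
  have hwint : IntAbove P w := fun R hR => by
    rw [hw' R hR, ← exp_zero, exp_le_exp]; have := hpos R hR; split_ifs <;> omega
  obtain ⟨y, rfl⟩ := hφ.2 w
  obtain ⟨t, ht⟩ := mem_inclS_of_intAbove (φ := φ) hK hφ.1 hwint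
  change inclS S P t = y at ht
  have hπ0 : (π : K) ≠ 0 := ne_zero_of_val P hπ
  have hsq : IntAbove P (φ (algebraMap K (K ⊗[k] S) (π : K)⁻¹ * y ^ 2)) := fun R hR => by
    rw [map_mul, map_mul, AlgHom.commutes, map_pow, map_pow, hw' R hR, isOverWith_ramIdx hR, map_inv₀, hπ,
      ← exp_neg, ← exp_nsmul, ← exp_nsmul, ← exp_add, ← exp_zero, exp_le_exp]
    have := hpos R hR
    simp only [nsmul_eq_mul]
    split_ifs with hRQ
    · subst hRQ; rw [← hedef]; push_cast; omega
    · push_cast; omega
  obtain ⟨u, hu⟩ := mem_inclS_of_intAbove (φ := φ) hK hφ.1 hsq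
  change inclS S P u = _ at hu
  have heq : t ^ 2 = π ⊗ₜ[k] (1 : S) * u := inclS_injective P (by
    rw [map_pow, map_mul, ht, hu, inclS_smul_one, ← mul_assoc, ← map_mul, mul_inv_cancel₀ hπ0, map_one, one_mul])
  have hres : resS S P t = 0 := by
    refine eq_zero_of_pow_eq_zero (n := 2) ?_
    rw [← map_pow, heq, map_mul, resS_tmul,
      (val_lt_one_iff_residue P π).1 (by rw [hπ, ← exp_zero, exp_lt_exp]; omega), TensorProduct.zero_tmul, zero_mul]
  obtain ⟨s, hs⟩ := resS_eq_zero hπ hres
  have hv := hw' Q hQ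
  rw [if_pos rfl, ← ht, hs, map_mul, inclS_smul_one, map_mul, map_mul, AlgHom.commutes, he, hπ, ← exp_nsmul] at hv
  have hle := mul_le_of_le_one_right' (intAbove_inclS (φ := φ) s Q hQ) (a := exp ((e : ℕ) • (-1 : ℤ)))
  rw [hv, exp_le_exp, nsmul_eq_mul] at hle
  omega

omit [FiniteDimensional K L] in
/-- The bijection `K ⊗ k' ≅ K'` of a constant extension. -/
theorem exists_constExt_hom {k' K' : Type*} [Field k'] [Field K'] [Algebra k k'] [Algebra K K'] [Algebra k' K']
    [Algebra k K'] [IsScalarTower k k' K'] [IsScalarTower k K K']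
    (h : Function.Bijective (Algebra.TensorProduct.productMap
      (IsScalarTower.toAlgHom k k' K') (IsScalarTower.toAlgHom k K K'))) :
    ∃ φ : K ⊗[k] k' →ₐ[K] K', Function.Bijective φ ∧ ∀ a c, φ (a ⊗ₜ c) = algebraMap K K' a * algebraMap k' K' c := by
  let φ : K ⊗[k] k' →ₐ[K] K' :=
    Algebra.TensorProduct.lift (Algebra.ofId K K') (IsScalarTower.toAlgHom k k' K') fun _ _ => .all _ _
  refine ⟨φ, ?_, fun a c => rfl⟩
  have hfun : (φ : K ⊗[k] k' → K') = (Algebra.TensorProduct.productMap
      (IsScalarTower.toAlgHom k k' K') (IsScalarTower.toAlgHom k K K')) ∘ (Algebra.TensorProduct.comm k K k') := by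
    funext t
    induction t using TensorProduct.induction_on with
    | zero => simp
    | tmul a b => simp [φ, mul_comm]
    | add a b ha hb => simp only [Function.comp_apply, map_add] at ha hb ⊢; rw [ha, hb]
  rw [hfun]
  exact h.comp (Algebra.TensorProduct.comm k K k').bijective

omit [Field L] [Field S] in
theorem isReduced_residue_tensor_of_separable {k' : Type*} [Field k'] [Algebra k k'] [FiniteDimensional k k']
    [Algebra.IsSeparable k k'] (P : Place k K) : IsReduced (IsLocalRing.ResidueField P.O ⊗[k] k') := by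
  have : Algebra.FormallyUnramified k k' := Algebra.FormallyUnramified.of_isSeparable k k'
  exact Algebra.FormallyUnramified.isReduced_of_field (IsLocalRing.ResidueField P.O) _

end Groth.Agent.FunFldLib

namespace Groth.Agent.FunFldLib

open FunFld WithZero TensorProduct

attribute [local instance 2000] Algebra.toModule

/-- The integral closure of `O_P` in a constant extension is generated by the constants. -/
theorem integralClosure_constExt {k k' K K' : Type*} [Field k] [Field k'] [Field K] [Field K'] [Algebra k k']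
    [FiniteDimensional k k'] [Algebra k K] [Algebra K K'] [Algebra k' K'] [Algebra k K']
    [IsScalarTower k k' K'] [IsScalarTower k K K'] {φ : K ⊗[k] k' →ₐ[K] K'} (hφ : Function.Bijective φ)
    (hφt : ∀ a c, φ (a ⊗ₜ c) = algebraMap K K' a * algebraMap k' K' c) (hK : IsFunctionField k K)
    [FiniteDimensional K K'] (P : Place k K) [Algebra P.O K'] [IsScalarTower P.O K K']
    [IsReduced (IsLocalRing.ResidueField P.O ⊗[k] k')] :
    integralClosure P.O K' = Algebra.adjoin P.O (Set.range (algebraMap k' K')) := by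
  refine le_antisymm (fun z hz => ?_) (Algebra.adjoin_le ?_)
  · have hint := (isIntegral_iff_intAbove hK P z).1 hz
    obtain ⟨y, rfl⟩ := hφ.2 z
    obtain ⟨t, ht⟩ := mem_inclS_of_intAbove (φ := φ) hK hφ.1 hint
    change inclS k' P t = y at ht
    rw [← ht]
    clear ht
    induction t using TensorProduct.induction_on with
    | zero => rw [map_zero, map_zero]; exact zero_mem _
    | tmul a c =>
      rw [inclS_tmul, hφt]
      refine mul_mem ?_ (Algebra.subset_adjoin ⟨c, rfl⟩)
      rw [show algebraMap K K' (a : K) = algebraMap P.O K' a from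
        (IsScalarTower.algebraMap_apply P.O K K' a).symm]
      exact Subalgebra.algebraMap_mem _ a
    | add u v hu hv => rw [map_add, map_add]; exact add_mem hu hv
  · rintro _ ⟨c, rfl⟩
    refine (isIntegral_iff_intAbove hK P _).2 ?_
    have := intAbove_inclS (φ := φ) (P := P) ((1 : P.O) ⊗ₜ[k] c)
    rwa [inclS_tmul, hφt, OneMemClass.coe_one, map_one, one_mul] at this

/-- A unique place above `P` when `k'/k` or `F_P/k` is purely inseparable. -/
theorem unique_over_of_pi {k k' K K' : Type*} [Field k] [Field k'] [Field K] [Field K'] [Algebra k k']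
    [FiniteDimensional k k'] [Algebra k K] [Algebra K K'] [Algebra k' K'] [Algebra k K']
    [IsScalarTower k k' K'] [IsScalarTower k K K'] {φ : K ⊗[k] k' →ₐ[K] K'} (hφ : Function.Bijective φ)
    (hK : IsFunctionField k K) [FiniteDimensional K K'] (P : Place k K)
    (hpi : IsPurelyInseparable k k' ∨ IsPurelyInseparable k (IsLocalRing.ResidueField P.O))
    {Q R : Place k K'} (hQ : IsOver Q P) (hR : IsOver R P) : Q = R := by
  classical
  by_contra hne
  obtain ⟨q, hq⟩ := ExpChar.exists k
  let S := separableClosure k k'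
  have : ExpChar S q := expChar_of_injective_algebraMap (algebraMap k S).injective q
  let φS : K ⊗[k] S →ₐ[K] K' := φ.comp (Algebra.TensorProduct.map (AlgHom.id K K) S.val)
  have hφS : Function.Injective φS :=
    hφ.1.comp (Module.Flat.lTensor_preserves_injective_linearMap (M := K) S.val.toLinearMap
      S.val.toRingHom.injective)
  have hred := isReduced_residue_tensor_of_separable (k' := S) P
  set F := IsLocalRing.ResidueField P.O
  have hnt : Nontrivial (F ⊗[k] S) :=
    (Algebra.TensorProduct.includeRight_injective (R := k) (A := F) (B := S) (algebraMap k F).injective).nontrivial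
  have hfld : IsField (F ⊗[k] S) := by
    rcases hpi with h | h
    · have : IsPurelyInseparable k S := IsPurelyInseparable.tower_bot k S k'
      refine isField_of_powers q (expChar_pos k q)
        (Algebra.TensorProduct.includeLeft : F →ₐ[k] F ⊗[k] S).toRingHom fun x => ?_
      obtain ⟨n, s, hs⟩ := exists_pow_mem_range_map q (Algebra.ofId k S)
        (fun a => IsPurelyInseparable.pow_mem k q a) (Algebra.TensorProduct.comm k F S x)
      refine ⟨n, Algebra.TensorProduct.lid k F s, ?_⟩
      apply (Algebra.TensorProduct.comm k F S).injective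
      rw [map_pow, ← hs]
      show (Algebra.TensorProduct.comm k F S).toAlgHom.comp
        (Algebra.TensorProduct.includeLeft.comp (Algebra.TensorProduct.lid k F).toAlgHom) s = _
      congr 1
      ext
      simp
    · refine isField_of_powers q (expChar_pos k q)
        (Algebra.TensorProduct.includeRight : S →ₐ[k] F ⊗[k] S).toRingHom fun x => ?_
      obtain ⟨n, s, hs⟩ := exists_pow_mem_range_map q (Algebra.ofId k F)
        (fun a => IsPurelyInseparable.pow_mem k q a) x
      refine ⟨n, Algebra.TensorProduct.lid k S s, ?_⟩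
      rw [← hs]
      show (Algebra.TensorProduct.includeRight.comp (Algebra.TensorProduct.lid k S).toAlgHom) s = _
      congr 1
      ext
      simp
  obtain ⟨p, hp⟩ := exists_val_eq P (-1)
  let π : P.O := ⟨p, show P.1 p ≤ 1 by rw [hp, ← exp_zero, exp_le_exp]; omega⟩
  have hπ : P.1 (π : K) = exp (-1) := hp
  have hπlt : ∀ (T : Place k K'), IsOver T P → ∀ s, T.1 (φS (inclS S P (π ⊗ₜ[k] (1 : S) * s))) < 1 := fun T hT s => by
    rw [map_mul, inclS_smul_one, map_mul, map_mul, AlgHom.commutes]
    refine lt_of_le_of_lt (mul_le_of_le_one_right' (intAbove_inclS (φ := φS) s T hT)) ?_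
    obtain ⟨e, he⟩ := hT
    rw [he, hπ]
    exact pow_lt_one₀ zero_le (by rw [← exp_zero, exp_lt_exp]; omega) (isOverWith_pos he).ne'
  obtain ⟨w, hw⟩ := exists_approx_eq (k := k) (K := K') (finite_isOver (K' := K') hK P).toFinset (fun _ => 0)
    (fun T => if T = Q then -1 else 0)
  have hw' : ∀ T, IsOver T P → T.1 w = exp (if T = Q then (-1 : ℤ) else 0) :=
    fun T hT => by simpa using hw T ((finite_isOver hK P).mem_toFinset.2 hT)
  obtain ⟨y, rfl⟩ := hφ.2 w
  obtain ⟨n, s, hs⟩ := exists_pow_mem_range_map q S.val (fun a => by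
    obtain ⟨n, s, hs⟩ := IsPurelyInseparable.pow_mem S q a
    exact ⟨n, s, hs⟩) (Algebra.TensorProduct.comm k K k' y)
  set y₂ := Algebra.TensorProduct.comm k S K s
  have hy₂ : φS y₂ = φ y ^ (q ^ n) := by
    rw [← map_pow]
    show φ _ = φ _
    congr 1
    apply (Algebra.TensorProduct.comm k K k').injective
    rw [map_pow, ← hs]
    show ((Algebra.TensorProduct.comm k K k').toAlgHom.comp
      ((Algebra.TensorProduct.map (AlgHom.id k K) S.val).comp (Algebra.TensorProduct.comm k S K).toAlgHom)) s = _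
    congr 1
    ext <;> simp
  have hint : IntAbove P (φS y₂) := fun T hT => by
    rw [hy₂, map_pow, hw' T hT]
    refine pow_le_one₀ zero_le ?_
    rw [← exp_zero, exp_le_exp]
    split_ifs <;> omega
  obtain ⟨t, ht⟩ := mem_inclS_of_intAbove (φ := φS) hK hφS hint
  change inclS S P t = y₂ at ht
  rcases eq_or_ne (resS S P t) 0 with h0 | h0
  · obtain ⟨u, rfl⟩ := resS_eq_zero hπ h0
    have := hπlt R hR u
    rw [ht, hy₂, map_pow, hw' R hR, if_neg (Ne.symm hne), exp_zero, one_pow] at this
    exact lt_irrefl _ this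
  · obtain ⟨b, hb⟩ := hfld.mul_inv_cancel h0
    obtain ⟨v, rfl⟩ : ∃ v, resS S P v = b := by
      clear hb
      induction b using TensorProduct.induction_on with
      | zero => exact ⟨0, map_zero _⟩
      | tmul a c =>
        obtain ⟨a, rfl⟩ := IsLocalRing.residue_surjective a
        exact ⟨a ⊗ₜ c, rfl⟩
      | add u v hu hv =>
        obtain ⟨u, rfl⟩ := hu
        obtain ⟨v, rfl⟩ := hv
        exact ⟨u + v, map_add _ _ _⟩
    rw [← map_mul] at hb
    obtain ⟨u, hu⟩ := resS_eq_zero hπ (t := t * v - 1) (by rw [map_sub, hb, map_one, sub_self])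
    have h1 := hπlt Q hQ u
    rw [← hu, map_sub, map_sub, map_mul, map_mul, map_one, map_one] at h1
    have h2 : Q.1 (φS (inclS S P t) * φS (inclS S P v)) < 1 := by
      rw [map_mul, ht, hy₂, map_pow, hw' Q hQ, if_pos rfl]
      exact lt_of_le_of_lt (mul_le_of_le_one_right' (intAbove_inclS (φ := φS) v Q hQ))
        (pow_lt_one₀ zero_le (by rw [← exp_zero, exp_lt_exp]; omega) (pow_pos (expChar_pos k q) n).ne')
    rw [Q.1.map_sub_eq_of_lt_right (by rw [map_one]; exact h2), map_one] at h1
    exact lt_irrefl _ h1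

end Groth.Agent.FunFldLib

namespace Groth.Agent.FunFldLib

open FunFld TensorProduct

attribute [local instance 2000] Algebra.toModule

/-- Separable residue field: the special fibre of any constant extension is reduced. -/
theorem isReduced_residue_tensor_of_separable_residue {k K k' : Type*} [Field k] [Field K] [Algebra k K] [Field k']
    [Algebra k k'] [FiniteDimensional k k'] (hK : IsFunctionField k K) (P : Place k K)
    [Algebra.IsSeparable k (IsLocalRing.ResidueField P.O)] :
    IsReduced (IsLocalRing.ResidueField P.O ⊗[k] k') := by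
  have hfd : FiniteDimensional k (IsLocalRing.ResidueField P.O) :=
    Module.finite_of_finrank_pos (deg_pos hK P)
  have : Algebra.FormallyUnramified k (IsLocalRing.ResidueField P.O) :=
    Algebra.FormallyUnramified.of_isSeparable k (IsLocalRing.ResidueField P.O)
  have : IsReduced (k' ⊗[k] IsLocalRing.ResidueField P.O) :=
    Algebra.FormallyUnramified.isReduced_of_field k' _
  exact isReduced_of_injective (Algebra.TensorProduct.comm k (IsLocalRing.ResidueField P.O) k').toAlgHom
    (Algebra.TensorProduct.comm k (IsLocalRing.ResidueField P.O) k').injective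

/-- The bounded quotient `R / O_P[k']`. -/
theorem constExt_bounded {k k' K K' : Type*} [Field k] [Field k'] [Field K] [Field K'] [Algebra k k']
    [FiniteDimensional k k'] [Algebra k K] [Algebra K K'] [Algebra k' K'] [Algebra k K']
    [IsScalarTower k k' K'] [IsScalarTower k K K'] {φ : K ⊗[k] k' →ₐ[K] K'} (hφ : Function.Bijective φ)
    (hφt : ∀ a c, φ (a ⊗ₜ c) = algebraMap K K' a * algebraMap k' K' c) (hK : IsFunctionField k K)
    [FiniteDimensional K K'] (P : Place k K) [Algebra P.O K'] [IsScalarTower P.O K K'] :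
    ∃ (π : P.O) (C : ℕ), P.1 (π : K) = WithZero.exp (-1) ∧ ∀ r ∈ integralClosure P.O K',
      algebraMap K K' ((π : K) ^ C) * r ∈ Algebra.adjoin P.O (Set.range (algebraMap k' K')) := by
  obtain ⟨p, hp⟩ := exists_val_eq P (-1)
  let π : P.O := ⟨p, show P.1 p ≤ 1 by rw [hp, ← WithZero.exp_zero, WithZero.exp_le_exp]; omega⟩
  obtain ⟨C, hC⟩ := exists_conductor_exp (φ := φ) (π := π) hK hφ.1 hp
  refine ⟨π, C, hp, fun r hr => ?_⟩
  obtain ⟨y, rfl⟩ := hφ.2 r
  obtain ⟨t, ht⟩ := hC y ((isIntegral_iff_intAbove hK P _).1 hr)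
  change inclS k' P t = _ at ht
  rw [← φ.commutes, ← map_mul, ← ht]
  clear ht
  induction t using TensorProduct.induction_on with
  | zero => rw [map_zero, map_zero]; exact zero_mem _
  | tmul a c =>
    rw [inclS_tmul, hφt]
    refine mul_mem ?_ (Algebra.subset_adjoin ⟨c, rfl⟩)
    rw [show algebraMap K K' (a : K) = algebraMap P.O K' a from
      (IsScalarTower.algebraMap_apply P.O K K' a).symm]
    exact Subalgebra.algebraMap_mem _ a
  | add u v hu hv => rw [map_add, map_add]; exact add_mem hu hv

/-- The principal parts of order at most `C` are spanned by finitely many elements over `k`. -/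
theorem exists_principal_parts {k K : Type*} [Field k] [Field K] [Algebra k K] (hK : IsFunctionField k K)
    {P : Place k K} {π : P.O} (hπ : P.1 (π : K) = WithZero.exp (-1)) (C : ℕ) :
    ∃ V : Submodule k K, FiniteDimensional k V ∧ ∀ a : K, P.1 ((π : K) ^ C * a) ≤ 1 →
      ∃ v ∈ V, P.1 (a - v) ≤ 1 := by
  induction C with
  | zero => exact ⟨⊥, inferInstance, fun a ha => ⟨0, zero_mem _, by simpa using ha⟩⟩
  | succ C ih =>
    obtain ⟨V, hVfin, hV⟩ := ih
    have hfd : FiniteDimensional k (IsLocalRing.ResidueField P.O) :=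
      Module.finite_of_finrank_pos (deg_pos hK P)
    let β := Module.finBasis k (IsLocalRing.ResidueField P.O)
    choose r hr using fun j => IsLocalRing.residue_surjective (R := P.O) (β j)
    let e := fun j => ((π : K) ^ (C + 1))⁻¹ * (r j : K)
    have := FiniteDimensional.span_of_finite k (Set.finite_range e)
    refine ⟨V ⊔ Submodule.span k (Set.range e), inferInstance, fun a ha => ?_⟩
    set c := β.repr (IsLocalRing.residue P.O ⟨_, ha⟩)
    have hπ0 := ne_zero_of_val P hπ
    have hlt : P.1 ((π : K) ^ (C + 1) * a - ∑ j, c j • (r j : K)) < 1 := by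
      have h : IsLocalRing.residue P.O (⟨_, ha⟩ - ∑ j, algebraMap k P.O (c j) * r j) = 0 := by
        rw [map_sub, map_sum]
        refine sub_eq_zero.2 ((β.sum_repr _).symm.trans (Finset.sum_congr rfl fun j _ => ?_))
        rw [map_mul, hr, Algebra.smul_def]
        rfl
      rw [← val_lt_one_iff_residue] at h
      simpa [Algebra.smul_def, show ∀ x, ((algebraMap k P.O x : P.O) : K) = algebraMap k K x from fun _ => rfl] using h
    have hsum : ∑ j, c j • (r j : K) = (π : K) ^ (C + 1) * ∑ j, c j • e j := by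
      rw [Finset.mul_sum]
      exact Finset.sum_congr rfl fun j _ => by
        rw [mul_smul_comm, mul_inv_cancel_left₀ (pow_ne_zero _ hπ0)]
    rw [hsum, ← mul_sub] at hlt
    obtain ⟨v, hv, hle⟩ := hV (a - ∑ j, c j • e j) (by
      rcases eq_or_ne (a - ∑ j, c j • e j) 0 with h0 | h0
      · simp [h0]
      rw [map_mul, map_pow, hπ, val_eq_exp P h0, ← WithZero.exp_nsmul, ← WithZero.exp_add] at hlt ⊢
      rw [← WithZero.exp_zero, WithZero.exp_lt_exp, nsmul_eq_mul] at hlt
      rw [← WithZero.exp_zero, WithZero.exp_le_exp, nsmul_eq_mul]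
      push_cast at hlt ⊢
      omega)
    refine ⟨(∑ j, c j • e j) + v, add_mem (Submodule.mem_sup_right (Submodule.sum_mem _ fun j _ =>
      Submodule.smul_mem _ _ (Submodule.subset_span ⟨j, rfl⟩))) (Submodule.mem_sup_left hv), ?_⟩
    rwa [← sub_sub]

end Groth.Agent.FunFldLib
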