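import Groth.Agent.FunFld.PlaneAdjoint

/-!
The coordinate ring of an affine plane model as an intersection of local rings of the line.
-/

namespace Groth.Agent.FunFldLib

open FunFld WithZero

variable {k K : Type*} [Field k] [IsAlgClosed k] [Field K] [Algebra k K]

theorem exists_aeval_of_integral (hK : IsFunctionField k K) {x : K} (hx : Transcendental k x)
    {r s : Polynomial k} (h : ∀ P : Place k K, P.1 x ≤ 1 → P.1 (Polynomial.aeval x r / Polynomial.aeval x s) ≤ 1) :
    ∃ q : Polynomial k, Polynomial.aeval x q = Polynomial.aeval x r / Polynomial.aeval x s := by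
  induction hn : s.natDegree using Nat.strong_induction_on generalizing r s with
  | _ n ih =>
    rcases eq_or_ne s 0 with rfl | hs
    · exact ⟨0, by simp⟩
    rcases eq_or_ne s.natDegree 0 with h0 | h0
    · obtain ⟨c, rfl⟩ := Polynomial.natDegree_eq_zero.1 h0
      exact ⟨Polynomial.C c⁻¹ * r, by simp [div_eq_inv_mul]⟩
    obtain ⟨b, hb⟩ := IsAlgClosed.exists_root s fun hd => h0 (Polynomial.natDegree_eq_zero_iff_degree_le_zero.2 hd.le)
    have hu : x - algebraMap k K b ∉ Set.range (algebraMap k K) := fun ⟨c, hc⟩ => hx (by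
      rw [show x = algebraMap k K (c + b) by rw [map_add, hc]; ring]; exact isAlgebraic_algebraMap _)
    obtain ⟨P, hP⟩ := (exists_zero_pole hK hu).1
    have hu0 : x - algebraMap k K b ≠ 0 := fun h => hu ⟨0, by rw [h, map_zero]⟩
    have hPb : P.1 (x - algebraMap k K b) < 1 := (val_lt_one_iff P hu0).2 hP
    have hx1 : P.1 x ≤ 1 := by
      have := P.1.map_add_le hPb.le (P.2.1 b)
      rwa [sub_add_cancel] at this
    obtain ⟨s', rfl⟩ := Polynomial.dvd_iff_isRoot.2 hb
    have hs' : s' ≠ 0 := right_ne_zero_of_mul hs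
    have hr : r.eval b = 0 := by
      by_contra hr
      have h1 := h P hx1
      have h2 := val_aeval_eq_one hPb hr
      have h3 : P.1 (Polynomial.aeval x ((Polynomial.X - Polynomial.C b) * s')) < 1 := by
        rw [map_mul, map_mul, map_sub, Polynomial.aeval_X, Polynomial.aeval_C]
        exact (mul_le_of_le_one_right' (val_aeval_le_one' P hx1 s')).trans_lt hPb
      have h4 : Polynomial.aeval x ((Polynomial.X - Polynomial.C b) * s') ≠ 0 := fun h0 => hx ⟨_, hs, h0⟩
      rw [map_div₀, h2, div_le_one₀ (zero_lt_iff.2 (val_ne_zero P h4))] at h1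
      exact h3.not_ge h1
    obtain ⟨r', rfl⟩ := Polynomial.dvd_iff_isRoot.2 (show r.IsRoot b from hr)
    have hcancel : Polynomial.aeval x ((Polynomial.X - Polynomial.C b) * r') /
        Polynomial.aeval x ((Polynomial.X - Polynomial.C b) * s') =
        Polynomial.aeval x r' / Polynomial.aeval x s' := by
      rw [map_mul, map_mul, map_sub, Polynomial.aeval_X, Polynomial.aeval_C, mul_div_mul_left _ _ hu0]
    rw [hcancel] at h ⊢
    refine ih s'.natDegree ?_ h rfl
    rw [← hn, Polynomial.natDegree_mul (Polynomial.X_sub_C_ne_zero b) hs', Polynomial.natDegree_X_sub_C]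
    omega

omit [IsAlgClosed k] in
theorem exists_line_coord {x y z : K}
    (hy : IsIntegral (Algebra.adjoin k ({x} : Set K)) y)
    : ∀ (P : Place k (IntermediateField.adjoin k ({x} : Set K))),
    P.1 ⟨x, IntermediateField.mem_adjoin_simple_self k x⟩ ≤ 1 →
    z ∈ Subring.closure ((algebraMap (IntermediateField.adjoin k ({x} : Set K)) K '' (P.O : Set _)) ∪ {y}) →
    ∃ R : Polynomial (IntermediateField.adjoin k ({x} : Set K)),
      (R = 0 ∨ R.natDegree < (minpoly (IntermediateField.adjoin k ({x} : Set K)) y).natDegree) ∧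
        (∀ i, P.1 (R.coeff i) ≤ 1) ∧ Polynomial.aeval y R = z := by
  set K₀ := IntermediateField.adjoin k ({x} : Set K)
  set g₁ : K₀ := ⟨x, IntermediateField.mem_adjoin_simple_self k x⟩
  set m := minpoly K₀ y
  intro P hP hz
  let _ : Algebra P.O K := ((algebraMap K₀ K).comp P.O.subtype).toAlgebra
  have : IsScalarTower P.O K₀ K := IsScalarTower.of_algebraMap_eq fun _ => rfl
  have hyi : IsIntegral P.O y := by
    obtain ⟨p, hp, hp0⟩ := hy
    let ι : Algebra.adjoin k ({x} : Set K) →ₐ[k] K₀.toSubalgebra :=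
      Subalgebra.inclusion (IntermediateField.algebra_adjoin_le_adjoin k ({x} : Set K))
    have hι : ∀ u, P.1 (ι u : K₀) ≤ 1 := fun u => by
      obtain ⟨q, hq⟩ := (SetLike.ext_iff.1 (Algebra.adjoin_singleton_eq_range_aeval k x) _).1 u.2
      have hq' : (ι u : K₀) = Polynomial.aeval g₁ q := Subtype.ext (hq.symm.trans
        (IntermediateField.aeval_coe _ g₁ q))
      rw [hq']
      exact val_aeval_le_one' P hP q
    let ψ : Algebra.adjoin k ({x} : Set K) →+* P.O := ι.toRingHom.codRestrict P.O.toSubring hι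
    have hψ : (algebraMap P.O K).comp ψ = algebraMap (Algebra.adjoin k ({x} : Set K)) K :=
      RingHom.ext fun _ => rfl
    refine ⟨p.map ψ, hp.map ψ, ?_⟩
    rw [Polynomial.eval₂_map, hψ]
    exact hp0
  have hzmem : z ∈ Algebra.adjoin P.O ({y} : Set K) := by
    have hle : Subring.closure ((algebraMap K₀ K '' (P.O : Set K₀)) ∪ {y}) ≤
        (Algebra.adjoin P.O ({y} : Set K)).toSubring := Subring.closure_le.2 (by
      rintro u (⟨w, hw, rfl⟩ | rfl)
      · exact Subalgebra.algebraMap_mem _ (⟨w, hw⟩ : P.O)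
      · exact Algebra.self_mem_adjoin_singleton _ _)
    exact hle hz
  rw [Algebra.adjoin_singleton_eq_range_aeval] at hzmem
  obtain ⟨p, hp⟩ := hzmem
  set mO := minpoly P.O y
  have hmO := minpoly.monic hyi
  have hmap : m = mO.map (algebraMap P.O K₀) := minpoly.isIntegrallyClosed_eq_field_fractions' K₀ hyi
  refine ⟨(p %ₘ mO).map (algebraMap P.O K₀), ?_, fun i => ?_, ?_⟩
  · rcases eq_or_ne (p %ₘ mO) 0 with h | h
    · exact Or.inl (by rw [h, Polynomial.map_zero])
    · refine Or.inr (Polynomial.natDegree_map_le.trans_lt ?_)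
      rw [hmap, hmO.natDegree_map]
      exact Polynomial.natDegree_lt_natDegree h (Polynomial.degree_modByMonic_lt p hmO)
  · rw [Polynomial.coeff_map]; exact ((p %ₘ mO).coeff i).2
  · rw [Polynomial.aeval_map_algebraMap]
    have : Polynomial.aeval y (p %ₘ mO + mO * (p /ₘ mO)) = z := by
      rw [Polynomial.modByMonic_add_div p]; exact hp
    rwa [map_add, map_mul, minpoly.aeval, zero_mul, add_zero] at this

/-- `k[x, y] = ⋂ O_P[y]`. -/
theorem adjoin_eq_iInter (hK : IsFunctionField k K) {x y : K} (hx : Transcendental k x)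
    (hy : IsIntegral (Algebra.adjoin k ({x} : Set K)) y) :
    (Algebra.adjoin k ({x, y} : Set K) : Set K) =
      ⋂ (P : Place k (IntermediateField.adjoin k ({x} : Set K)))
        (_ : P.1 ⟨x, IntermediateField.mem_adjoin_simple_self k x⟩ ≤ 1),
        (Subring.closure
          ((algebraMap (IntermediateField.adjoin k ({x} : Set K)) K '' (P.O : Set _)) ∪ {y}) : Set K) := by
  set K₀ := IntermediateField.adjoin k ({x} : Set K)
  set g₁ : K₀ := ⟨x, IntermediateField.mem_adjoin_simple_self k x⟩
  obtain ⟨h0, htop0⟩ := isFunctionField_adjoin hK hx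
  have hg₁ : Transcendental k g₁ := fun h => hx (h.algebraMap (A := K))
  refine Set.Subset.antisymm (fun z hz => ?_) fun z hz => ?_
  · refine Set.mem_iInter₂.2 fun P hP => ?_
    change z ∈ Algebra.adjoin k ({x, y} : Set K) at hz
    induction hz using Algebra.adjoin_induction with
    | mem u hu =>
      rcases hu with rfl | rfl
      · exact Subring.subset_closure (Or.inl ⟨g₁, hP, rfl⟩)
      · exact Subring.subset_closure (Or.inr rfl)
    | algebraMap c => exact Subring.subset_closure (Or.inl ⟨algebraMap k K₀ c, P.2.1 c, rfl⟩)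
    | add a b _ _ ha hb => exact add_mem ha hb
    | mul a b _ _ ha hb => exact mul_mem ha hb
  rw [Set.mem_iInter₂] at hz
  set m := minpoly K₀ y
  have hyK₀ : IsIntegral K₀ y := by
    have := finiteDimensional_adjoin hK hx
    exact .of_finite K₀ y
  have hcoord := fun P hP => exists_line_coord hy P hP (hz P hP)
  have hu : g₁ ∉ Set.range (algebraMap k K₀) := fun ⟨c, hc⟩ => hg₁ (hc ▸ isAlgebraic_algebraMap c)
  obtain ⟨P₀, hP₀⟩ := (exists_zero_pole h0 hu).1
  have hP₀1 : P₀.1 g₁ ≤ 1 := ((val_lt_one_iff P₀ fun h => hu ⟨0, by rw [h, map_zero]⟩).2 hP₀).le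
  obtain ⟨R, hR, -, hRz⟩ := hcoord P₀ hP₀1
  have huniq : ∀ P : Place k K₀, P.1 g₁ ≤ 1 → ∀ i, P.1 (R.coeff i) ≤ 1 := fun P hP i => by
    obtain ⟨R', hR', hint, hR'z⟩ := hcoord P hP
    have : R = R' := by
      by_contra hne
      have hsub : (R - R').natDegree < m.natDegree := by
        have hm : 0 < m.natDegree := minpoly.natDegree_pos hyK₀
        refine lt_of_le_of_lt (Polynomial.natDegree_sub_le _ _) (max_lt ?_ ?_)
        · rcases hR with rfl | h
          · simpa using hm
          · exact h
        · rcases hR' with rfl | h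
          · simpa using hm
          · exact h
      exact absurd (minpoly.degree_le_of_ne_zero K₀ y (sub_ne_zero.2 hne) (by rw [map_sub, hRz, hR'z, sub_self]))
        (not_le.2 (Polynomial.degree_lt_degree hsub))
    rw [this]; exact hint i
  show z ∈ Algebra.adjoin k ({x, y} : Set K)
  rw [← hRz, Polynomial.aeval_eq_sum_range]
  refine Subalgebra.sum_mem _ fun i _ => ?_
  rw [Algebra.smul_def]
  have hy' : y ∈ Algebra.adjoin k ({x, y} : Set K) := Algebra.subset_adjoin (by simp)
  refine Subalgebra.mul_mem (S := Algebra.adjoin k ({x, y} : Set K)) ?_ (Subalgebra.pow_mem _ hy' _)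
  obtain ⟨r, s, hrs⟩ := (IntermediateField.mem_adjoin_simple_iff k ((R.coeff i : K₀) : K)).1 (R.coeff i).2
  have hcoe : ∀ q : Polynomial k, ((Polynomial.aeval g₁ q : K₀) : K) = Polynomial.aeval x q :=
    fun q => (IntermediateField.aeval_coe _ g₁ q).symm
  have hrs' : R.coeff i = Polynomial.aeval g₁ r / Polynomial.aeval g₁ s := Subtype.ext (by
    rw [IntermediateField.coe_div, hcoe, hcoe]; exact hrs)
  obtain ⟨q, hq⟩ := exists_aeval_of_integral h0 hg₁ (r := r) (s := s) fun P hP => by
    have h := huniq P hP i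
    rw [hrs'] at h
    exact h
  show ((R.coeff i : K₀) : K) ∈ Algebra.adjoin k ({x, y} : Set K)
  rw [hrs', ← hq, hcoe]
  refine Algebra.adjoin_mono (s := ({x} : Set K)) (Set.singleton_subset_iff.2 (Set.mem_insert x _)) ?_
  rw [Algebra.adjoin_singleton_eq_range_aeval]
  exact ⟨q, rfl⟩

end Groth.Agent.FunFldLib
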