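import Groth.Agent.FunFld.PlaneAdjoint
import Mathlib.RingTheory.MvPolynomial.Homogeneous
import Mathlib.RingTheory.Polynomial.GaussLemma
import Mathlib.Algebra.Module.Submodule.Union
import Mathlib.FieldTheory.PrimitiveElement

/-!
Image points of projective maps, generators of curves, and geometric function fields.
-/

namespace Groth.Agent.FunFldLib

open FunFld WithZero
open scoped TensorProduct

variable {k K : Type*} [Field k] [Field K] [Algebra k K]

theorem exists_extremal {n : ℕ} {φ : Fin (n + 1) → K} (hφ : LinearIndependent k φ) (P : Place k K) :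
    ∃ j, φ j ≠ 0 ∧ ∀ i, P.1 (φ i) ≤ P.1 (φ j) := by
  obtain ⟨j, hj⟩ := Finite.exists_max fun i => P.1 (φ i)
  refine ⟨j, hφ.ne_zero j, hj⟩

theorem aeval_homogeneous_div {σ : Type*} {g : MvPolynomial σ k} {d : ℕ} (hg : g.IsHomogeneous d) (φ : σ → K)
    {c : K} (hc : c ≠ 0) :
    MvPolynomial.aeval (fun i => φ i / c) g * c ^ d = MvPolynomial.aeval φ g := by
  conv_lhs => rw [g.as_sum]
  conv_rhs => rw [g.as_sum]
  rw [map_sum, map_sum, Finset.sum_mul]
  refine Finset.sum_congr rfl fun m hm => ?_
  have hd : m.degree = d := hg (MvPolynomial.mem_support_iff.1 hm) |> fun h => by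
    simpa [Finsupp.weight_apply, Finsupp.degree, Finsupp.sum] using h
  rw [MvPolynomial.aeval_monomial, MvPolynomial.aeval_monomial, mul_assoc]
  congr 1
  have hd' : ∑ i ∈ m.support, m i = d := hd
  rw [← hd', Finsupp.prod, Finsupp.prod]
  rw [← Finset.prod_pow_eq_pow_sum, ← Finset.prod_mul_distrib]
  exact Finset.prod_congr rfl fun i _ => by rw [← mul_pow, div_mul_cancel₀ _ hc]

theorem finite_vanishing (hK : IsFunctionField k K) {n : ℕ} {φ : Fin (n + 1) → K} (_hφ : LinearIndependent k φ)
    {g : MvPolynomial (Fin (n + 1)) k} (hg : g.IsHomogeneous g.totalDegree) (hg0 : MvPolynomial.aeval φ g ≠ 0) :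
    {P : Place k K | ∃ j, φ j ≠ 0 ∧ (∀ i, P.1 (φ i) ≤ P.1 (φ j)) ∧
      P.1 (MvPolynomial.aeval (fun i => φ i / φ j) g) < 1}.Finite := by
  refine ((finite_support_ord hK (MvPolynomial.aeval φ g)).union
    (Set.finite_iUnion fun i => finite_support_ord hK (φ i))).subset ?_
  rintro P ⟨j, hj, -, hlt⟩
  by_contra hP
  simp only [Set.mem_union, Set.mem_iUnion, Function.mem_support, not_or, not_exists, not_not] at hP
  have h1 : P.1 (φ j) = 1 := by rw [val_eq_exp P hj, hP.2 j, neg_zero, exp_zero]
  have h2 := congrArg P.1 (aeval_homogeneous_div hg φ hj)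
  rw [map_mul, map_pow, h1, one_pow, mul_one, val_eq_exp P hg0, hP.1, neg_zero, exp_zero] at h2
  exact hlt.ne h2

theorem finite_fibre (hK : IsFunctionField k K) {n : ℕ} (hn : 1 ≤ n) {φ : Fin (n + 1) → K}
    (hφ : LinearIndependent k φ) (P : Place k K) : {Q : Place k K | SameImage φ P Q}.Finite := by
  classical
  have hnc : ∀ j, ∃ i, φ i / φ j ∉ Set.range (algebraMap k K) := fun j => by
    obtain ⟨i, hi⟩ : ∃ i, i ≠ j := by
      have : Nontrivial (Fin (n + 1)) := Fin.nontrivial_iff_two_le.2 (by omega)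
      exact exists_ne j
    refine ⟨i, ?_⟩
    rintro ⟨c, hc⟩
    have h : φ i = c • φ j := by rw [Algebra.smul_def, hc, div_mul_cancel₀ _ (hφ.ne_zero j)]
    have hl := linearIndependent_iff'.1 hφ {i, j} (fun l => if l = i then 1 else -c) (by
      rw [Finset.sum_pair hi, if_pos rfl, if_neg (Ne.symm hi), one_smul, neg_smul, h, add_neg_cancel]) i (by simp)
    simp at hl
  choose i hi using hnc
  let S : Fin (n + 1) → Set (Place k K) := fun j =>
    {Q | ∃ c : k, P.1 (φ (i j) / φ j - algebraMap k K c) < 1 ∧ Q.1 (φ (i j) / φ j - algebraMap k K c) < 1}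
  have hS : ∀ j, (S j).Finite := fun j => by
    by_cases h : ∃ c : k, P.1 (φ (i j) / φ j - algebraMap k K c) < 1
    · obtain ⟨c, hc⟩ := h
      refine (finite_support_ord hK (φ (i j) / φ j - algebraMap k K c)).subset ?_
      rintro Q ⟨d, hd, hQ⟩
      rw [← sub_const_unique hc hd] at hQ
      have h0 : φ (i j) / φ j - algebraMap k K c ≠ 0 := fun h0 => hi j ⟨c, (sub_eq_zero.1 h0).symm⟩
      exact ((val_lt_one_iff Q h0).1 hQ).ne'
    · exact Set.Finite.subset Set.finite_empty fun Q ⟨c, hc, _⟩ => h ⟨c, hc⟩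
  refine (Set.finite_iUnion hS).subset ?_
  rintro Q ⟨j, -, -, -, hval⟩
  exact Set.mem_iUnion.2 ⟨j, hval (i j)⟩

theorem sameImage_iff (hK : IsFunctionField k K) [IsAlgClosed k] {n : ℕ} {φ : Fin (n + 1) → K}
    (hφ : LinearIndependent k φ) (P Q : Place k K) :
    SameImage φ P Q ↔ ∀ z : K, InLocRing φ P z → (Q.1 z ≤ 1 ∧ (Q.1 z < 1 ↔ P.1 z < 1)) := by
  constructor
  · rintro ⟨j, hj, hP, hQ, hval⟩ z hz
    set R := locAt (Algebra.adjoin k (Set.range fun i => φ i / φ j)) P
    have hQle : ∀ w ∈ R, Q.1 w ≤ 1 := fun w hw => eq_of_same_values hj hP hval ⟨j, hj, hP, hw⟩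
    have hPle : ∀ w ∈ R, P.1 w ≤ 1 := fun w hw => eq_of_same_values hj hP (Q := P) (fun i => by
      obtain ⟨c, hc, -⟩ := hval i; exact ⟨c, hc, hc⟩) ⟨j, hj, hP, hw⟩
    have hzR : z ∈ R := exists_frac_of_inLocRing hj hP hz
    obtain ⟨c, hc⟩ := exists_sub_const_val_lt_one hK P (deg_eq_one hK P) (hPle z hzR)
    have hcQ : Q.1 (z - algebraMap k K c) < 1 := by
      have hz' : z - algebraMap k K c ∈ R := sub_mem hzR (R.algebraMap_mem c)
      refine lt_of_le_of_ne (hQle _ hz') fun h1 => ?_
      obtain ⟨d, hd⟩ := exists_sub_const_val_lt_one hK Q (deg_eq_one hK Q) h1.le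
      have hd0 : d ≠ 0 := by rintro rfl; rw [map_zero, sub_zero] at hd; exact hd.ne h1
      have hu : P.1 (z - algebraMap k K c - algebraMap k K d) = 1 := by
        rw [P.1.map_sub_eq_of_lt_right (by rw [val_algebraMap P hd0]; exact hc), val_algebraMap P hd0]
      have h2 := hQle _ (div_mem_locAt (one_mem R) (sub_mem hz' (R.algebraMap_mem d)) hu)
      rw [map_div₀, map_one, one_div, inv_le_one₀ (zero_lt_iff.2 fun h => ?_)] at h2
      · exact hd.not_ge h2
      · have hne : z - algebraMap k K c - algebraMap k K d ≠ 0 := fun h0 => by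
          rw [h0, map_zero] at hu; exact zero_ne_one hu
        exact val_ne_zero Q hne h
    refine ⟨hQle z hzR, ?_⟩
    rcases eq_or_ne c 0 with rfl | hc0
    · rw [map_zero, sub_zero] at hc hcQ; exact iff_of_true hcQ hc
    · have h1 : ∀ S : Place k K, S.1 (z - algebraMap k K c) < 1 → S.1 z = 1 := fun S hS => by
        have := S.1.map_add_eq_of_lt_left (x := algebraMap k K c) (y := z - algebraMap k K c)
          (by rw [val_algebraMap S hc0]; exact hS)
        rwa [add_sub_cancel, val_algebraMap S hc0] at this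
      rw [h1 Q hcQ, h1 P hc]
  · intro h
    obtain ⟨j, hj, hP⟩ := exists_extremal hφ P
    set R := locAt (Algebra.adjoin k (Set.range fun i => φ i / φ j)) P
    have hmem : ∀ i, φ i / φ j ∈ R := fun i => le_locAt _ P (Algebra.subset_adjoin ⟨i, rfl⟩)
    refine ⟨j, hj, hP, fun i => ?_, fun i => ?_⟩
    · have h1 := (h _ ⟨j, hj, hP, hmem i⟩).1
      rwa [map_div₀, div_le_one₀ (zero_lt_iff.2 (val_ne_zero Q hj))] at h1
    · obtain ⟨c, hc⟩ := exists_sub_const_val_lt_one hK P (deg_eq_one hK P) (x := φ i / φ j) (by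
        rw [map_div₀]; exact div_le_one_of_le₀ (hP i) zero_le)
      exact ⟨c, hc, (h _ ⟨j, hj, hP, sub_mem (hmem i) (R.algebraMap_mem c)⟩).2.2 hc⟩

/-- A perfect field is algebraically closed in `K` only if `K` is geometric. -/
theorem isGeometric_of_perfect [PerfectField k] (hK : IsFunctionField k K) : IsGeometric k K := by
  intro k' _ _ _
  let pb := Field.powerBasisOfFiniteOfSeparable k k'
  set q := minpoly k pb.gen
  have hq : q.Monic := minpoly.monic pb.isIntegral_gen
  have hqi : Irreducible q := minpoly.irreducible pb.isIntegral_gen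
  -- it stays irreducible
  have hirr : Irreducible (q.map (algebraMap k K)) := by
    have hnu : ¬IsUnit (q.map (algebraMap k K)) := fun h => by
      have h1 := Polynomial.natDegree_eq_zero_of_isUnit h
      rw [Polynomial.natDegree_map] at h1
      exact (minpoly.natDegree_pos pb.isIntegral_gen).ne' h1
    obtain ⟨g, hgm, hgi, hgd⟩ := Polynomial.exists_monic_irreducible_factor _ hnu
    have hlift := integralClosure.mem_lifts_of_monic_of_dvd_map K hq hgm hgd
    have hcoeff : ∀ i, g.coeff i ∈ Set.range (algebraMap k K) := fun i => by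
      obtain ⟨u, hu⟩ := (Polynomial.lifts_iff_coeff_lifts _).1 hlift i
      exact hK.2 _ (hu ▸ (show IsIntegral k (u : K) from u.2).isAlgebraic)
    obtain ⟨g₀, hg₀, hdeg, hg₀m⟩ :=
      Polynomial.lifts_and_natDegree_eq_and_monic ((Polynomial.lifts_iff_coeff_lifts g).2 hcoeff) hgm
    have hdvd : g₀ ∣ q := (Polynomial.map_dvd_map' (algebraMap k K)).1 (hg₀ ▸ hgd)
    have hg₀u : ¬IsUnit g₀ := fun h => hgi.not_isUnit (hg₀ ▸ h.map (Polynomial.mapRingHom (algebraMap k K)))
    have heq : g₀ = q := Polynomial.eq_of_monic_of_associated hg₀m hq (associated_of_dvd_dvd hdvd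
      ((hqi.dvd_iff.1 hdvd).resolve_left hg₀u).dvd)
    rwa [← heq, hg₀]
  have : Fact (Irreducible (q.map (algebraMap k K))) := ⟨hirr⟩
  let L := AdjoinRoot (q.map (algebraMap k K))
  have hroot : Polynomial.aeval (AdjoinRoot.root (q.map (algebraMap k K))) q = 0 := by
    rw [← Polynomial.aeval_map_algebraMap K, AdjoinRoot.aeval_eq, AdjoinRoot.mk_self]
  let f : k' →ₐ[k] L := pb.lift _ hroot
  let Φ : K ⊗[k] k' →ₐ[K] L := Algebra.TensorProduct.lift (Algebra.ofId K L) f fun _ _ => .all _ _
  have hsurj : Function.Surjective Φ := by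
    intro z
    induction z using AdjoinRoot.induction_on with
    | ih p =>
      refine ⟨Polynomial.aeval (1 ⊗ₜ[k] pb.gen) p, ?_⟩
      rw [← Polynomial.aeval_algHom_apply, Algebra.TensorProduct.lift_tmul, map_one, one_mul,
        PowerBasis.lift_gen, AdjoinRoot.aeval_eq]
  have : FiniteDimensional K L := (hq.map _).finite_adjoinRoot
  have hrank : Module.finrank K (K ⊗[k] k') = Module.finrank K L := by
    rw [Module.finrank_baseChange, (AdjoinRoot.powerBasis hirr.ne_zero).finrank, AdjoinRoot.powerBasis_dim,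
      Polynomial.natDegree_map, pb.finrank, pb.natDegree_minpoly]
  have hinj : Function.Injective Φ :=
    (Φ.toLinearMap.injective_iff_surjective_of_finrank_eq_finrank hrank).2 hsurj
  exact ((Algebra.TensorProduct.comm k k' K).toMulEquiv.trans
    (AlgEquiv.ofBijective Φ ⟨hinj, hsurj⟩).toMulEquiv).isField (Field.toIsField L)

/-- A generating space contains a separating element, and a second generator for each. -/
theorem exists_generators [IsAlgClosed k] (hK : IsFunctionField k K) (W : Submodule k K)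
    (hW : IntermediateField.adjoin k (W : Set K) = ⊤) :
    (∃ x ∈ W, IsSepVar k x) ∧ ∀ x ∈ W, IsSepVar k x →
      ∃ y ∈ W, IntermediateField.adjoin k ({x, y} : Set K) = ⊤ := by
  have hg := isGeometric_of_isAlgClosed (k := k) (K := K)
  obtain ⟨s, hs, hsep⟩ := exists_sepVar hK hg
  have := finiteDimensional_adjoin hK hs
  obtain ⟨H, hH⟩ := exists_hasseFamily hs hsep
  obtain ⟨w, hw, hDw⟩ : ∃ w ∈ W, LocRes.hasseD H 1 w ≠ 0 := by
    by_contra hno
    push Not at hno
    have hall : ∀ z ∈ IntermediateField.adjoin k (W : Set K), LocRes.hasseD H 1 z = 0 := fun z hz => by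
      induction hz using IntermediateField.adjoin_induction with
      | mem z hz => exact hno z hz
      | algebraMap c => simp [LocRes.hasseD, PowerSeries.algebraMap_apply]
      | add a b _ _ ha hb => simp only [LocRes.hasseD, map_add] at ha hb ⊢; rw [ha, hb, add_zero]
      | inv a _ ha =>
        rcases eq_or_ne a 0 with rfl | h0
        · simp [LocRes.hasseD]
        · rw [hasseD_inv hH h0, ha, mul_zero, neg_zero]
      | mul a b _ _ ha hb => rw [hasseD_one_mul H hH.2, ha, hb, mul_zero, mul_zero, add_zero]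
    exact one_ne_zero ((hasseD_one_self hH).symm.trans (hall s (by rw [hW]; trivial)))
  refine ⟨⟨w, hw, ?_⟩, fun x hx hxsep => ?_⟩
  · have hwt : Transcendental k w := fun halg => by
      obtain ⟨c, rfl⟩ := hK.2 w halg
      exact hDw (by simp [LocRes.hasseD, PowerSeries.algebraMap_apply])
    obtain _ | ⟨p, hp, hpK⟩ := CharP.exists' K
    · have := finiteDimensional_adjoin hK hwt
      infer_instance
    · exact isSepVar_of_notMem_Epow hK hg p fun h => hDw (hasseD_one_eq_zero_of_mem hH p h)
  · by_cases hxt : Transcendental k x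
    · have := finiteDimensional_adjoin hK hxt
      set K₀ := IntermediateField.adjoin k ({x} : Set K)
      have : Finite (IntermediateField K₀ K) :=
        Field.finite_intermediateField_of_exists_primitive_element K₀ K (Field.exists_primitive_element K₀ K)
      have : Infinite k := IsAlgClosed.instInfinite
      let p : {M : IntermediateField K₀ K // M ≠ ⊤} → Submodule k W := fun M =>
        (Subalgebra.toSubmodule (M.1.restrictScalars k).toSubalgebra).comap W.subtype
      obtain ⟨y, hy⟩ := Submodule.exists_forall_notMem_of_forall_ne_top p fun M h => M.2 <| by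
        rw [← IntermediateField.restrictScalars_eq_top_iff (K := k), eq_top_iff, ← hW,
          IntermediateField.adjoin_le_iff]
        intro z hz
        exact (Submodule.eq_top_iff'.1 h) ⟨z, hz⟩
      refine ⟨y, y.2, ?_⟩
      have htop : IntermediateField.adjoin K₀ ({(y : K)} : Set K) = ⊤ := by
        by_contra hne
        exact hy ⟨_, hne⟩ (IntermediateField.mem_adjoin_simple_self K₀ (y : K))
      rw [← IntermediateField.adjoin_simple_adjoin_simple, htop, IntermediateField.restrictScalars_top]
    · exfalso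
      obtain ⟨c, rfl⟩ := hK.2 x (not_not.1 hxt)
      have hbot : IntermediateField.adjoin k ({algebraMap k K c} : Set K) = ⊥ :=
        IntermediateField.adjoin_simple_eq_bot_iff.2 (IntermediateField.algebraMap_mem _ c)
      obtain ⟨t, ht, -⟩ := hK.1
      have halg : Algebra.IsAlgebraic (IntermediateField.adjoin k ({algebraMap k K c} : Set K)) K := inferInstance
      rw [IsSepVar, hbot] at hxsep
      rw [hbot] at halg
      have : Algebra.IsAlgebraic k (⊥ : IntermediateField k K) :=
        Algebra.IsAlgebraic.of_finite k _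
      exact ht ((Algebra.IsAlgebraic.trans k (⊥ : IntermediateField k K) K).isAlgebraic t)

end Groth.Agent.FunFldLib
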