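import Mathlib.LinearAlgebra.Isomorphisms
import Mathlib.LinearAlgebra.FiniteDimensional.Lemmas
import Mathlib.Tactic

/-! Dimensions of relative quotients `B / A` of subspaces, used for the function-field library. -/

namespace Groth.Agent.FunFldLib

variable {k V W : Type*} [Field k] [AddCommGroup V] [Module k V] [AddCommGroup W] [Module k W]

/-- `dim (B / A) = n` (finite). -/
def RelDim (A B : Submodule k V) (n : ℕ) : Prop :=
  FiniteDimensional k (↥B ⧸ Submodule.comap B.subtype A) ∧
    Module.finrank k (↥B ⧸ Submodule.comap B.subtype A) = n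

theorem RelDim.of_surjective {A B : Submodule k V} [FiniteDimensional k W] (f : ↥B →ₗ[k] W)
    (hker : LinearMap.ker f = Submodule.comap B.subtype A) (hsurj : Function.Surjective f) :
    RelDim A B (Module.finrank k W) := by
  let e : (↥B ⧸ Submodule.comap B.subtype A) ≃ₗ[k] W :=
    (Submodule.quotEquivOfEq _ _ hker.symm).trans (f.quotKerEquivOfSurjective hsurj)
  exact ⟨Module.Finite.equiv e.symm, e.finrank_eq⟩

theorem RelDim.refl (A : Submodule k V) : RelDim A A 0 := by
  have h : Submodule.comap A.subtype A = ⊤ := Submodule.comap_subtype_self A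
  rw [RelDim, h]
  exact ⟨inferInstance, Module.finrank_zero_of_subsingleton⟩

theorem RelDim.trans {A B C : Submodule k V} (hAB : A ≤ B) (hBC : B ≤ C) {m n : ℕ}
    (h1 : RelDim A B m) (h2 : RelDim B C n) : RelDim A C (m + n) := by
  obtain ⟨hf1, hn1⟩ := h1
  obtain ⟨hf2, hn2⟩ := h2
  let ι : (↥B ⧸ Submodule.comap B.subtype A) →ₗ[k] (↥C ⧸ Submodule.comap C.subtype A) :=
    Submodule.mapQ _ _ (Submodule.inclusion hBC) (fun x hx => hx)
  let π : (↥C ⧸ Submodule.comap C.subtype A) →ₗ[k] (↥C ⧸ Submodule.comap C.subtype B) :=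
    Submodule.factor (fun x hx => hAB hx)
  have hπ : Function.Surjective π := Submodule.factor_surjective _
  have hι : Function.Injective ι := by
    rw [injective_iff_map_eq_zero]
    intro x hx
    induction x using Submodule.Quotient.induction_on with
    | _ x =>
      replace hx : Submodule.Quotient.mk (p := Submodule.comap C.subtype A) (Submodule.inclusion hBC x) = 0 := hx
      rw [Submodule.Quotient.mk_eq_zero] at hx
      rw [Submodule.Quotient.mk_eq_zero]
      exact hx
  have hker : LinearMap.ker π = LinearMap.range ι := by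
    ext x
    induction x using Submodule.Quotient.induction_on with
    | _ x =>
      simp only [LinearMap.mem_ker, LinearMap.mem_range, π, Submodule.factor, Submodule.mapQ_apply,
        LinearMap.id_apply, Submodule.Quotient.mk_eq_zero]
      constructor
      · intro hx
        exact ⟨Submodule.Quotient.mk ⟨x.1, hx⟩, rfl⟩
      · rintro ⟨y, hy⟩
        induction y using Submodule.Quotient.induction_on with
        | _ y =>
          replace hy : Submodule.Quotient.mk (p := Submodule.comap C.subtype A) (Submodule.inclusion hBC y) = Submodule.Quotient.mk x := hy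
          rw [Submodule.Quotient.eq] at hy
          have h : (y : V) - x.1 ∈ A := hy
          show x.1 ∈ B
          simpa using B.sub_mem y.2 (hAB h)
  have hfker : FiniteDimensional k (LinearMap.ker π) := by
    rw [hker]; exact Module.Finite.range ι
  have hfin : FiniteDimensional k (↥C ⧸ Submodule.comap C.subtype A) := by
    have := hfker
    have : FiniteDimensional k ((↥C ⧸ Submodule.comap C.subtype A) ⧸ LinearMap.ker π) :=
      Module.Finite.equiv (π.quotKerEquivOfSurjective hπ).symm
    exact Module.Finite.of_submodule_quotient (LinearMap.ker π)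
  refine ⟨hfin, ?_⟩
  rw [← LinearMap.finrank_range_add_finrank_ker π, hker, LinearMap.finrank_range_of_inj hι,
    LinearMap.range_eq_top.2 hπ, finrank_top, hn1, hn2, add_comm]

theorem RelDim.exists_of_le {A B C : Submodule k V} (hBC : B ≤ C) (hAB : A ≤ B) {n : ℕ}
    (h : RelDim A C n) : ∃ m ≤ n, RelDim A B m ∧ RelDim B C (n - m) := by
  obtain ⟨hf, hn⟩ := h
  let ι : (↥B ⧸ Submodule.comap B.subtype A) →ₗ[k] (↥C ⧸ Submodule.comap C.subtype A) :=
    Submodule.mapQ _ _ (Submodule.inclusion hBC) (fun x hx => hx)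
  have hι : Function.Injective ι := by
    rw [injective_iff_map_eq_zero]
    intro x hx
    induction x using Submodule.Quotient.induction_on with
    | _ x =>
      replace hx : Submodule.Quotient.mk (p := Submodule.comap C.subtype A) (Submodule.inclusion hBC x) = 0 := hx
      rw [Submodule.Quotient.mk_eq_zero] at hx
      rw [Submodule.Quotient.mk_eq_zero]
      exact hx
  have h1 : RelDim A B (Module.finrank k (↥B ⧸ Submodule.comap B.subtype A)) :=
    ⟨Module.Finite.of_injective ι hι, rfl⟩
  have hfC : FiniteDimensional k (↥C ⧸ Submodule.comap C.subtype B) :=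
    Module.Finite.of_surjective (Submodule.factor (p := Submodule.comap C.subtype A)
      (p' := Submodule.comap C.subtype B) (fun x hx => hAB hx)) (Submodule.factor_surjective _)
  have h3 := RelDim.trans hAB hBC h1 ⟨hfC, rfl⟩
  have heq := h3.2
  rw [hn] at heq
  refine ⟨_, by omega, h1, hfC, by omega⟩

theorem RelDim.eq_of_zero {A B : Submodule k V} (hAB : A ≤ B) (h : RelDim A B 0) : A = B := by
  refine le_antisymm hAB fun x hx => ?_
  have := h.1
  have : Subsingleton (↥B ⧸ Submodule.comap B.subtype A) := Module.finrank_zero_iff.1 h.2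
  simpa [Submodule.Quotient.mk_eq_zero] using
    Subsingleton.elim (Submodule.Quotient.mk (p := Submodule.comap B.subtype A) ⟨x, hx⟩) 0

theorem RelDim.unique {A B : Submodule k V} {m n : ℕ} (h1 : RelDim A B m) (h2 : RelDim A B n) :
    m = n := h1.2.symm.trans h2.2

/-- Adding `R` to both sides loses `dim (A₂ ⊓ R) / (A₁ ⊓ R)`. -/
theorem RelDim.sup {A₁ A₂ R : Submodule k V} (h : A₁ ≤ A₂) {n m : ℕ} (hn : RelDim A₁ A₂ n)
    (hm : RelDim (A₁ ⊓ R) (A₂ ⊓ R) m) : m ≤ n ∧ RelDim (A₁ ⊔ R) (A₂ ⊔ R) (n - m) := by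
  obtain ⟨m', hm', h1, h2⟩ :=
    RelDim.exists_of_le (B := A₁ ⊔ (A₂ ⊓ R)) (sup_le h inf_le_left) le_sup_left hn
  have e : (↥(A₂ ⊓ R) ⧸ Submodule.comap (A₂ ⊓ R).subtype (A₁ ⊓ R)) ≃ₗ[k]
      ↥((A₂ ⊓ R) ⊔ A₁) ⧸ Submodule.comap ((A₂ ⊓ R) ⊔ A₁).subtype A₁ := by
    refine (Submodule.quotEquivOfEq _ _ ?_).trans
      (LinearMap.quotientInfEquivSupQuotient (A₂ ⊓ R) A₁)
    ext x
    simp only [Submodule.mem_comap, Submodule.mem_inf, Submodule.coe_subtype]
    exact ⟨fun hx => ⟨x.2, hx.1⟩, fun hx => ⟨hx.2, (Submodule.mem_inf.1 x.2).2⟩⟩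
  have hmm : m' = m := by
    rw [← h1.2, sup_comm, ← e.finrank_eq]; exact hm.2
  subst hmm
  refine ⟨hm', ?_⟩
  obtain ⟨hf2, hn2⟩ := h2
  let f : ↥A₂ →ₗ[k] ↥(A₂ ⊔ R) ⧸ Submodule.comap (A₂ ⊔ R).subtype (A₁ ⊔ R) :=
    (Submodule.mkQ _).comp (Submodule.inclusion le_sup_left)
  have hsurj : Function.Surjective f := by
    intro y
    induction y using Submodule.Quotient.induction_on with
    | _ y =>
      obtain ⟨a, ha, r, hr, har⟩ := Submodule.mem_sup.1 y.2
      refine ⟨⟨a, ha⟩, (Submodule.Quotient.eq _).2 ?_⟩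
      show a - (y : V) ∈ A₁ ⊔ R
      rw [← har, sub_add_cancel_left]
      exact Submodule.mem_sup_right (R.neg_mem hr)
  have hker : Submodule.comap A₂.subtype (A₁ ⊔ A₂ ⊓ R) = LinearMap.ker f := by
    rw [inf_comm, ← sup_inf_assoc_of_le R h]
    ext x
    simp [f, Submodule.Quotient.mk_eq_zero]
  let e' := (Submodule.quotEquivOfEq _ _ hker).trans (f.quotKerEquivOfSurjective hsurj)
  exact ⟨Module.Finite.equiv e', e'.finrank_eq.symm.trans hn2⟩

end Groth.Agent.FunFldLib
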