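import Groth.Agent.FunFld.Basic
import Groth.Agent.FunFld.Rel
import Mathlib.RingTheory.Algebraic.Integral
import Mathlib.FieldTheory.IntermediateField.Adjoin.Algebra

/-!
Degrees in a function field of one variable: residue fields are finite over `k`, finitely many zeros
and poles, `deg (div x) = 0`, `∑ zeros = [K : k(x)]`, finiteness of `L(D)` and the bound on
`deg D + 1 - ℓ(D)`.
-/

namespace Groth.Agent.FunFldLib

open FunFld WithZero

variable {k K : Type*} [Field k] [Field K] [Algebra k K]

/-! ### Repartition quotients -/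

open scoped Classical in
/-- The residue at `P` of a repartition bounded by `D + P`, after rescaling by `t`. -/
noncomputable def leadMap (P : Place k K) (D : Divisor k K) (t : K)
    (ht : P.1 t = exp (-(D P + 1))) :
    ↥(AD (D + Finsupp.single P 1)) →ₗ[k] IsLocalRing.ResidueField P.O :=
  let f : ↥(AD (D + Finsupp.single P 1)) →ₗ[k] P.O :=
    { toFun := fun a => ⟨t * a.1 P, by
        show P.1 (t * a.1 P) ≤ 1
        have h := a.2 P
        rw [Finsupp.add_apply, Finsupp.single_eq_same] at h
        calc P.1 (t * a.1 P) = exp (-(D P + 1)) * P.1 (a.1 P) := by rw [map_mul, ht]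
          _ ≤ exp (-(D P + 1)) * exp (D P + 1) := mul_le_mul' le_rfl h
          _ = 1 := by rw [← exp_add, neg_add_cancel, exp_zero]⟩
      map_add' := fun a b => Subtype.ext (by simp [mul_add])
      map_smul' := fun c a => Subtype.ext (by
        show t * (c • a.1 P) = (algebraMap k P.O c : P.O).1 * (t * a.1 P)
        rw [Algebra.smul_def]; change t * (algebraMap k K c * a.1 P) = algebraMap k K c * (t * a.1 P)
        ring) }
  { toFun := fun a => IsLocalRing.residue P.O (f a)
    map_add' := by simp
    map_smul' := fun c a => by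
      simp only [map_smul, RingHom.id_apply, Algebra.smul_def, map_mul]
      rfl }

theorem leadMap_eq_zero (P : Place k K) (D : Divisor k K) (t : K) (ht : P.1 t = exp (-(D P + 1)))
    (a : ↥(AD (D + Finsupp.single P 1))) :
    leadMap P D t ht a = 0 ↔ P.1 (a.1 P) ≤ exp (D P) := by
  classical
  have h1 : leadMap P D t ht a = 0 ↔ P.1 (t * a.1 P) < 1 := by
    show IsLocalRing.residue P.O _ = 0 ↔ _
    rw [IsLocalRing.residue_eq_zero_iff, ValuationSubring.valuation_lt_one_iff,
      ]
    exact (P.1.isEquiv_valuation_valuationSubring).symm.lt_one_iff_lt_one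
  rw [h1, map_mul, ht]
  rcases eq_or_ne (a.1 P) 0 with h0 | h0
  · simp [h0]
  rw [val_eq_exp P h0, ← exp_add, ← exp_zero, exp_lt_exp, exp_le_exp]
  omega

theorem leadMap_surjective (P : Place k K) (D : Divisor k K) (t : K)
    (ht : P.1 t = exp (-(D P + 1))) : Function.Surjective (leadMap P D t ht) := by
  classical
  intro r
  obtain ⟨o, rfl⟩ := IsLocalRing.residue_surjective r
  have ht0 : t ≠ 0 := ne_zero_of_val P ht
  have hmem : (fun Q => if Q = P then t⁻¹ * (o : K) else 0) ∈ AD (D + Finsupp.single P 1) := by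
    intro Q
    rcases eq_or_ne Q P with rfl | hQ
    · simp only [if_true, Finsupp.add_apply, Finsupp.single_eq_same]
      rw [map_mul, map_inv₀, ht, ← exp_neg, neg_neg]
      exact (mul_le_mul' le_rfl o.2).trans_eq (mul_one _)
    · simp [hQ]
  refine ⟨⟨_, hmem⟩, ?_⟩
  show IsLocalRing.residue P.O _ = _
  congr 1
  exact Subtype.ext (by simp [ht0])

theorem AD_mono {D₁ D₂ : Divisor k K} (h : D₁ ≤ D₂) : AD D₁ ≤ AD D₂ :=
  fun _ ha P => (ha P).trans (exp_le_exp.2 (h P))

theorem L_mono {D₁ D₂ : Divisor k K} (h : D₁ ≤ D₂) : L D₁ ≤ L D₂ :=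
  fun _ ha P => (ha P).trans (exp_le_exp.2 (h P))

theorem le_add_single (D : Divisor k K) (P : Place k K) : D ≤ D + Finsupp.single P 1 :=
  le_add_of_nonneg_right (Finsupp.single_nonneg.2 zero_le_one)

theorem ker_leadMap (P : Place k K) (D : Divisor k K) (t : K) (ht : P.1 t = exp (-(D P + 1))) :
    LinearMap.ker (leadMap P D t ht) = Submodule.comap (AD (D + Finsupp.single P 1)).subtype (AD D) := by
  classical
  ext a
  rw [LinearMap.mem_ker, leadMap_eq_zero, Submodule.mem_comap]
  refine ⟨fun h Q => ?_, fun h => h P⟩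
  rcases eq_or_ne Q P with rfl | hQ
  · exact h
  · have := a.2 Q; simpa [Finsupp.single_eq_of_ne hQ] using this

theorem relDim_AD_step (P : Place k K) (D : Divisor k K)
    [FiniteDimensional k (IsLocalRing.ResidueField P.O)] :
    RelDim (AD D) (AD (D + Finsupp.single P 1)) P.deg := by
  obtain ⟨t, ht⟩ := exists_val_eq P (-(D P + 1))
  exact RelDim.of_surjective _ (ker_leadMap P D t ht) (leadMap_surjective P D t ht)

/-! ### Fundamental inequality -/

/-- If `E` is bounded by the zeros of a transcendental `x`, a family independent in `A(0) / A(-E)` has at most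
`[K : k(x)]` members. -/
theorem card_le_finrank_of_indep {x : K} (hx : Transcendental k x)
    [FiniteDimensional (IntermediateField.adjoin k ({x} : Set K)) K]
    {E : Divisor k K} (hE : 0 ≤ E) (hEx : ∀ P ∈ E.support, E P ≤ P.ord x)
    {ι : Type*} [Fintype ι] (a : ι → ↥(AD (0 : Divisor k K)))
    (ha : LinearIndependent k
      (Submodule.mkQ (Submodule.comap (AD (0 : Divisor k K)).subtype (AD (-E))) ∘ a)) :
    Fintype.card ι ≤ Module.finrank (IntermediateField.adjoin k ({x} : Set K)) K := by
  classical
  have hx0 : x ≠ 0 := by rintro rfl; exact hx isAlgebraic_zero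
  choose y hy using fun i => exists_approx E.support (a i).1 (fun P => -E P)
  -- independence of the `y i` over `k[x]`
  have hpoly : LinearIndependent (Algebra.adjoin k ({x} : Set K)) y := by
    rw [Fintype.linearIndependent_iff]
    intro g hg
    have hg' : ∀ i, ∃ p : Polynomial k, Polynomial.aeval x p = (g i : K) := fun i => by
      obtain ⟨p, hp⟩ := (SetLike.ext_iff.1 (Algebra.adjoin_singleton_eq_range_aeval k x) _).1 (g i).2
      exact ⟨p, hp⟩
    choose p hp using hg'
    suffices H : ∀ (n : ℕ) (q : ι → Polynomial k), (∑ i, Polynomial.aeval x (q i) * y i = 0) →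
        ∀ i, (q i).coeff n = 0 by
      intro i
      have hpi : p i = 0 := Polynomial.ext fun n => by
        rw [Polynomial.coeff_zero]
        refine H n p ?_ i
        simp only [hp]
        simpa [Algebra.smul_def] using hg
      exact Subtype.ext (by rw [← hp i, hpi, map_zero]; rfl)
    have H0 : ∀ (q : ι → Polynomial k), (∑ i, Polynomial.aeval x (q i) * y i = 0) →
        ∀ i, (q i).coeff 0 = 0 := by
      intro q hq
      have hmem : (fun P => ∑ i, (q i).coeff 0 • (a i).1 P) ∈ AD (-E) := by
        intro P
        by_cases hP : P ∈ E.support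
        · have hterm : ∀ i, P.1 ((q i).coeff 0 • (a i).1 P - Polynomial.aeval x (q i) * y i) ≤ exp ((-E) P) := by
            intro i
            rw [Finsupp.neg_apply]
            have hsplit : (q i).coeff 0 • (a i).1 P - Polynomial.aeval x (q i) * y i =
                -(algebraMap k K ((q i).coeff 0) * (y i - (a i).1 P)) -
                  x * Polynomial.aeval x (q i).divX * y i := by
              conv_lhs => rw [← Polynomial.X_mul_divX_add (q i)]
              simp only [map_add, map_mul, Polynomial.aeval_X, Polynomial.aeval_C,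
                Algebra.smul_def, Polynomial.coeff_add, Polynomial.coeff_X_mul_zero,
                Polynomial.coeff_C_zero, zero_add]
              ring
            have hEP : 0 ≤ E P := hE P
            have hxP : P.1 x ≤ exp (-E P) := by
              rw [val_le_exp_iff P hx0, neg_neg]; exact hEx P hP
            have hx1 : P.1 x ≤ 1 := hxP.trans (by rw [← exp_zero, exp_le_exp]; omega)
            have hyP : P.1 (y i) ≤ 1 := by
              have h1 : P.1 ((a i).1 P) ≤ 1 := by simpa using (a i).2 P
              have h2 : P.1 (y i - (a i).1 P) ≤ 1 :=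
                (hy i P hP).trans (by rw [← exp_zero, exp_le_exp]; omega)
              simpa using P.1.map_add_le h2 h1
            have haev : P.1 (Polynomial.aeval x (q i).divX) ≤ 1 := by
              rw [Polynomial.aeval_eq_sum_range]
              refine P.1.map_sum_le fun j _ => ?_
              rw [Algebra.smul_def, map_mul, map_pow]
              exact mul_le_one' (P.2.1 _) (pow_le_one₀ zero_le hx1)
            rw [hsplit]
            refine P.1.map_sub_le ?_ ?_
            · rw [Valuation.map_neg, map_mul]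
              exact (mul_le_mul' (P.2.1 _) (hy i P hP)).trans_eq (one_mul _)
            · rw [map_mul, map_mul, mul_assoc]
              exact (mul_le_mul' hxP (mul_le_one' haev hyP)).trans_eq (mul_one _)
          have := P.1.map_sum_le (s := Finset.univ) fun i _ => hterm i
          rwa [Finset.sum_sub_distrib, hq, sub_zero] at this
        · rw [Finsupp.notMem_support_iff] at hP
          rw [Finsupp.neg_apply, hP, neg_zero, exp_zero]
          refine P.1.map_sum_le fun i _ => ?_
          rw [Algebra.smul_def, map_mul]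
          exact mul_le_one' (P.2.1 _) (by simpa using (a i).2 P)
      refine Fintype.linearIndependent_iff.1 ha _ ?_
      simp only [Function.comp_apply]
      simp only [← map_smul, ← map_sum]
      rw [Submodule.mkQ_apply, Submodule.Quotient.mk_eq_zero, Submodule.mem_comap]
      convert hmem using 1
      ext P
      simp
    intro n
    induction n with
    | zero => exact H0
    | succ n ih =>
      intro q hq i
      have h0 := H0 q hq
      have hdiv : ∀ i, q i = Polynomial.X * (q i).divX := fun i => by
        conv_lhs => rw [← Polynomial.X_mul_divX_add (q i)]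
        rw [h0 i, map_zero, add_zero]
      have hsum : ∑ i, Polynomial.aeval x (q i).divX * y i = 0 := by
        refine (mul_eq_zero_iff_left hx0).1 ?_
        rw [Finset.mul_sum]
        refine Eq.trans (Finset.sum_congr rfl fun j _ => ?_) hq
        conv_rhs => rw [hdiv j, map_mul, Polynomial.aeval_X]
        ring
      rw [← Polynomial.coeff_divX]
      exact ih _ hsum i
  have hlin : LinearIndependent (IntermediateField.adjoin k ({x} : Set K)) y := by
    open IntermediateField.algebraAdjoinAdjoin in
    exact (LinearIndependent.iff_fractionRing (Algebra.adjoin k ({x} : Set K))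
      (IntermediateField.adjoin k ({x} : Set K))).1 hpoly
  exact hlin.fintype_card_le_finrank

/-! ### Residue fields -/

theorem exists_transcendental_val_lt_one (hK : IsFunctionField k K) (P : Place k K) :
    ∃ t : K, Transcendental k t ∧ 0 < P.ord t := by
  obtain ⟨t, ht⟩ := exists_val_eq P (-1)
  have ht0 : t ≠ 0 := ne_zero_of_val P ht
  refine ⟨t, transcendental_of_val_lt_one (P := P) ht0 ?_ hK.2, by rw [ord_eq_of_val P ht]; omega⟩
  rw [ht, Ne, exp_eq_one]; omega

theorem finiteDimensional_adjoin (hK : IsFunctionField k K) {x : K} (hx : Transcendental k x) :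
    FiniteDimensional (IntermediateField.adjoin k ({x} : Set K)) K := by
  classical
  obtain ⟨⟨x₀, hx₀, hfin⟩, -⟩ := hK
  -- `K` is algebraic over `k[x₀]`, so `trdeg ≤ 1`
  have halg0 : Algebra.IsAlgebraic (Algebra.adjoin k ({x₀} : Set K)) K := by
    open IntermediateField.algebraAdjoinAdjoin in
    exact (IsFractionRing.comap_isAlgebraic_iff (A := Algebra.adjoin k ({x₀} : Set K))
      (K := IntermediateField.adjoin k ({x₀} : Set K)) (C := K)).2 inferInstance
  have htr : Algebra.trdeg k K ≤ 1 := by
    have := halg0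
    simpa using Algebra.IsAlgebraic.trdeg_le_cardinalMk (R := k) (A := K) (s := ({x₀} : Set K))
  let v : PUnit.{1} → K := fun _ => x
  have hv : AlgebraicIndependent k v :=
    (algebraicIndependent_unique_type_iff).2 hx
  have hb : IsTranscendenceBasis k v :=
    hv.isTranscendenceBasis_of_lift_trdeg_le_of_finite (by simpa using htr)
  have halg := hb.isAlgebraic_field
  rw [show Set.range v = {x} from Set.range_const] at halg
  obtain ⟨s, hs⟩ := hfin.fg_top
  let S : Set K := insert x₀ ↑s
  have htop : IntermediateField.adjoin (IntermediateField.adjoin k ({x} : Set K)) S = ⊤ := by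
    refine eq_top_iff.2 fun z _ => ?_
    have hle : IntermediateField.adjoin k ({x₀} : Set K) ≤
        (IntermediateField.adjoin (IntermediateField.adjoin k ({x} : Set K)) S).restrictScalars k := by
      rw [IntermediateField.adjoin_simple_le_iff]
      exact IntermediateField.subset_adjoin _ S (Set.mem_insert _ _)
    have hz : z ∈ Submodule.span (IntermediateField.adjoin k ({x₀} : Set K)) (s : Set K) := by
      rw [hs]; trivial
    induction hz using Submodule.span_induction with
    | mem y hy => exact IntermediateField.subset_adjoin _ S (Set.mem_insert_of_mem _ hy)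
    | zero => exact zero_mem _
    | add y w _ _ h1 h2 => exact add_mem (h1 trivial) (h2 trivial)
    | smul c y _ h1 => exact mul_mem (hle c.2) (h1 trivial)
  have : FiniteDimensional (IntermediateField.adjoin k ({x} : Set K))
      (IntermediateField.adjoin (IntermediateField.adjoin k ({x} : Set K)) S) := by
    have : Finite S := (s.finite_toSet.insert x₀).to_subtype
    exact IntermediateField.finiteDimensional_adjoin fun y _ => (halg.isAlgebraic y).isIntegral
  exact Module.Finite.equiv ((IntermediateField.equivOfEq htop).trans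
    IntermediateField.topEquiv).toLinearEquiv

theorem finiteDimensional_residueField (hK : IsFunctionField k K) (P : Place k K) :
    FiniteDimensional k (IsLocalRing.ResidueField P.O) := by
  classical
  obtain ⟨x, hx, hxP⟩ := exists_transcendental_val_lt_one hK P
  have := finiteDimensional_adjoin hK hx
  obtain ⟨t, ht⟩ := exists_val_eq P (-((-Finsupp.single P (1 : ℤ) : Divisor k K) P + 1))
  let f := leadMap P (-Finsupp.single P 1) t ht
  rw [FiniteDimensional, ← Module.rank_lt_aleph0_iff]
  refine lt_of_le_of_lt (rank_le (n := Module.finrank (IntermediateField.adjoin k ({x} : Set K)) K)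
    fun s hs => ?_) (Cardinal.natCast_lt_aleph0)
  choose a ha using fun r : s => leadMap_surjective P (-Finsupp.single P 1) t ht r
  have h0 : (-Finsupp.single P (1 : ℤ) + Finsupp.single P 1 : Divisor k K) = 0 := neg_add_cancel _
  let b : s → ↥(AD (0 : Divisor k K)) := fun r => ⟨(a r).1, h0 ▸ (a r).2⟩
  rw [← Fintype.card_coe]
  refine card_le_finrank_of_indep hx (E := Finsupp.single P 1) (Finsupp.single_nonneg.2 zero_le_one)
    (fun Q hQ => ?_) b ?_
  · obtain ⟨rfl⟩ : Nonempty (Q = P) :=
      ⟨Finset.mem_singleton.1 (Finsupp.support_single_subset hQ)⟩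
    rw [Finsupp.single_eq_same]; omega
  · rw [Fintype.linearIndependent_iff]
    intro g hg
    simp only [Function.comp_apply, ← map_smul, ← map_sum] at hg
    rw [Submodule.mkQ_apply, Submodule.Quotient.mk_eq_zero, Submodule.mem_comap] at hg
    refine Fintype.linearIndependent_iff.1 hs g ?_
    have hz : leadMap P (-Finsupp.single P 1) t ht (∑ r, g r • a r) = 0 := by
      rw [leadMap_eq_zero]
      simpa [b, Finset.sum_apply] using hg P
    rw [map_sum] at hz
    simp only [map_smul, ha] at hz
    exact hz

theorem deg_pos (hK : IsFunctionField k K) (P : Place k K) : 0 < P.deg :=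
  have := finiteDimensional_residueField hK P
  Module.finrank_pos

/-! ### Dimension of `A(D₂) / A(D₁)` -/

theorem deg_eq_degHom_sum (D : Divisor k K) : D.deg =
    Finsupp.liftAddHom (fun P : Place k K => AddMonoidHom.mulRight (P.deg : ℤ)) D := rfl

theorem deg_add (D E : Divisor k K) : (D + E).deg = D.deg + E.deg := by
  simp only [deg_eq_degHom_sum, map_add]

theorem deg_neg (D : Divisor k K) : (-D).deg = -D.deg := by
  simp only [deg_eq_degHom_sum, map_neg]

theorem deg_sub (D E : Divisor k K) : (D - E).deg = D.deg - E.deg := by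
  simp only [deg_eq_degHom_sum, map_sub]

theorem deg_zsmul (n : ℤ) (D : Divisor k K) : (n • D).deg = n * D.deg := by
  simp only [deg_eq_degHom_sum, map_zsmul, smul_eq_mul]

@[simp] theorem deg_zero : (0 : Divisor k K).deg = 0 := by
  simp only [deg_eq_degHom_sum, map_zero]

@[simp] theorem deg_single (P : Place k K) (n : ℤ) :
    Divisor.deg (Finsupp.single P n : Divisor k K) = n * P.deg := by
  simp [deg_eq_degHom_sum]

theorem deg_nonneg {D : Divisor k K} (h : 0 ≤ D) : 0 ≤ D.deg :=
  Finset.sum_nonneg fun P _ => mul_nonneg (h P) (Int.natCast_nonneg _)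

theorem deg_mono {D₁ D₂ : Divisor k K} (h : D₁ ≤ D₂) : D₁.deg ≤ D₂.deg := by
  have := deg_nonneg (D := D₂ - D₁) (sub_nonneg.2 h)
  rw [deg_sub] at this; linarith

theorem eq_of_le_of_deg_le (hK : IsFunctionField k K) {D₁ D₂ : Divisor k K} (h : D₁ ≤ D₂)
    (hd : D₂.deg ≤ D₁.deg) : D₁ = D₂ := by
  by_contra hne
  obtain ⟨P, hP⟩ : ∃ P, D₁ P ≠ D₂ P := not_forall.1 fun h' => hne (Finsupp.ext h')
  have hlt : D₁ P < D₂ P := lt_of_le_of_ne (h P) hP
  have h2 : D₁ + Finsupp.single P 1 ≤ D₂ := by
    intro Q
    rcases eq_or_ne Q P with rfl | hQ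
    · simp only [Finsupp.add_apply, Finsupp.single_eq_same]; omega
    · simpa [Finsupp.single_eq_of_ne hQ] using h Q
  have h3 := deg_mono h2
  rw [deg_add, deg_single] at h3
  have := deg_pos hK P
  omega

/-- Induction from `D₁` upwards, one place at a time. -/
theorem divisor_induction {D₁ D₂ : Divisor k K} (h : D₁ ≤ D₂) {p : Divisor k K → Prop} (h0 : p D₁)
    (step : ∀ E P, D₁ ≤ E → p E → p (E + Finsupp.single P 1)) : p D₂ := by
  classical
  suffices H : ∀ F : Place k K →₀ ℕ, D₁ ≤ D₁ + F.mapRange (fun n : ℕ => (n : ℤ)) rfl ∧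
      p (D₁ + F.mapRange (fun n : ℕ => (n : ℤ)) rfl) by
    convert (H ((D₂ - D₁).mapRange Int.toNat rfl)).2
    ext P
    have := h P
    simp only [Finsupp.add_apply, Finsupp.mapRange_apply, Finsupp.sub_apply]
    omega
  intro F
  induction F using Finsupp.induction with
  | zero => simpa using h0
  | @single_add P n F _ _ ih =>
    clear * - ih step
    induction n with
    | zero => simpa using ih
    | succ n ihn =>
      have heq : D₁ + (Finsupp.single P (n + 1) + F).mapRange (fun n : ℕ => (n : ℤ)) rfl =
          (D₁ + (Finsupp.single P n + F).mapRange (fun n : ℕ => (n : ℤ)) rfl) + Finsupp.single P 1 := by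
        ext Q
        rcases eq_or_ne Q P with rfl | hQ   <;> simp [*] <;> ring
      rw [heq]
      exact ⟨ihn.1.trans (le_add_single _ _), step _ P ihn.1 ihn.2⟩

theorem exists_relDim_AD (hK : IsFunctionField k K) {D₁ D₂ : Divisor k K} (h : D₁ ≤ D₂) :
    ∃ n : ℕ, (n : ℤ) = D₂.deg - D₁.deg ∧ RelDim (AD D₁) (AD D₂) n := by
  refine divisor_induction h
    (p := fun E => ∃ n : ℕ, (n : ℤ) = E.deg - D₁.deg ∧ RelDim (AD D₁) (AD E) n)
    ⟨0, by simp, RelDim.refl _⟩ fun E P hE ⟨n, hn, hrel⟩ => ?_
  have := finiteDimensional_residueField hK P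
  refine ⟨n + P.deg, ?_, hrel.trans (AD_mono hE) (AD_mono (le_add_single E P)) (relDim_AD_step P E)⟩
  rw [deg_add, deg_single]; push_cast; omega

theorem diag_apply (x : K) (P : Place k K) : diag k K x P = x := rfl

theorem mem_AD_diag {D : Divisor k K} {x : K} : diag k K x ∈ AD D ↔ x ∈ L D := Iff.rfl

/-! ### Zeros -/

theorem sum_le_finrank (hK : IsFunctionField k K) {x : K} (hx : Transcendental k x)
    {E : Divisor k K} (hE : 0 ≤ E) (hEx : ∀ P ∈ E.support, E P ≤ P.ord x) :
    E.deg ≤ Module.finrank (IntermediateField.adjoin k ({x} : Set K)) K := by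
  have := finiteDimensional_adjoin hK hx
  obtain ⟨n, hn, hf, hrank⟩ := exists_relDim_AD hK (D₁ := -E) (D₂ := 0) (neg_nonpos.2 hE)
  have := hf
  let b := Module.finBasis k
    (↥(AD (0 : Divisor k K)) ⧸ Submodule.comap (AD (0 : Divisor k K)).subtype (AD (-E)))
  choose a ha using fun i => Submodule.mkQ_surjective
    (Submodule.comap (AD (0 : Divisor k K)).subtype (AD (-E))) (b i)
  have hli : LinearIndependent k
      (Submodule.mkQ (Submodule.comap (AD (0 : Divisor k K)).subtype (AD (-E))) ∘ a) := by
    rw [show _ ∘ a = ⇑b from funext ha]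
    exact b.linearIndependent
  have h := card_le_finrank_of_indep hx hE hEx a hli
  rw [Fintype.card_fin, hrank] at h
  rw [deg_neg, deg_zero] at hn
  omega

theorem finite_zeros (hK : IsFunctionField k K) {x : K} (hx : Transcendental k x) :
    {P : Place k K | 0 < P.ord x}.Finite := by
  classical
  by_contra hinf
  obtain ⟨s, hs, hcard⟩ := (Set.not_finite.1 hinf).exists_subset_card_eq
    (Module.finrank (IntermediateField.adjoin k ({x} : Set K)) K + 1)
  let E : Divisor k K := ∑ P ∈ s, Finsupp.single P 1
  have hEP : ∀ Q, E Q = if Q ∈ s then 1 else 0 := by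
    intro Q; simp [E, Finsupp.single_apply]
  have hE : 0 ≤ E := fun Q => by rw [hEP]; split_ifs <;> simp
  have h := sum_le_finrank hK hx hE fun Q hQ => by
    have : Q ∈ s := by
      by_contra h'
      simp [hEP, h'] at hQ
    rw [hEP, if_pos this]
    exact hs this
  have h2 : (s.card : ℤ) ≤ E.deg := by
    have : E.deg = ∑ P ∈ s, (P.deg : ℤ) := by
      simp only [E, deg_eq_degHom_sum, map_sum]
      simp [AddMonoidHom.mulRight]
    rw [this, Finset.card_eq_sum_ones]
    push_cast
    exact Finset.sum_le_sum fun P _ => by exact_mod_cast deg_pos hK P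
  omega

theorem finite_support_ord (hK : IsFunctionField k K) (x : K) :
    (Function.support fun P : Place k K => P.ord x).Finite := by
  rcases eq_or_ne x 0 with rfl | hx0
  · simp [Function.support]
  by_cases halg : IsAlgebraic k x
  · obtain ⟨c, rfl⟩ := hK.2 x halg
    simp [Function.support]
  refine ((finite_zeros hK halg).union (finite_zeros hK (x := x⁻¹) ?_)).subset fun P hP => ?_
  · intro h; exact halg (by simpa using h.inv)
  · simp only [Set.mem_union, Set.mem_ofPred_eq, ord_inv]
    have : P.ord x ≠ 0 := hP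
    omega

theorem div_apply (hK : IsFunctionField k K) (x : K) (P : Place k K) : div k x P = P.ord x := by
  rw [FunFld.div, dif_pos (finite_support_ord hK x), Finsupp.ofSupportFinite_coe]

theorem finite_not_integral (hK : IsFunctionField k K) (x : K) :
    {P : Place k K | ¬ P.1 x ≤ 1}.Finite := by
  rcases eq_or_ne x 0 with rfl | hx0
  · simp
  refine (finite_support_ord hK x).subset fun P hP => ?_
  rw [Set.mem_ofPred_eq, val_le_one_iff P hx0] at hP
  exact fun h : P.ord x = 0 => hP h.ge

/-! ### Existence of places -/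

theorem val_aeval_eq_pow {Γ : Type*} [LinearOrderedCommGroupWithZero Γ] (w : Valuation K Γ) {t : K}
    (ht : w t < 1) (hc : ∀ c : k, c ≠ 0 → w (algebraMap k K c) = 1) :
    ∀ p : Polynomial k, p ≠ 0 → ∃ m : ℕ, w (Polynomial.aeval t p) = w t ^ m := by
  intro p
  induction p using Polynomial.recOnHorner with
  | M0 => simp
  | MC p a hp0 ha ih =>
    intro _
    refine ⟨0, ?_⟩
    rw [pow_zero, map_add, Polynomial.aeval_C]
    rcases eq_or_ne p 0 with rfl | hp
    · simpa using hc a ha
    obtain ⟨q, rfl⟩ := Polynomial.X_dvd_iff.2 hp0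
    rw [map_mul, Polynomial.aeval_X]
    obtain ⟨m, hm⟩ := ih hp
    rw [map_mul, Polynomial.aeval_X] at hm
    have hlt : w (t * Polynomial.aeval t q) < w (algebraMap k K a) := by
      rw [hc a ha, hm]
      rcases Nat.eq_zero_or_pos m with rfl | hm0
      · exfalso
        have hq : w (Polynomial.aeval t q) ≤ 1 := by
          rw [Polynomial.aeval_eq_sum_range]
          refine w.map_sum_le fun j _ => ?_
          rw [Algebra.smul_def, map_mul, map_pow]
          refine mul_le_one' ?_ (pow_le_one₀ zero_le ht.le)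
          rcases eq_or_ne (q.coeff j) 0 with h | h <;> simp [h, hc]
        rw [map_mul] at hm
        exact (lt_of_le_of_lt (mul_le_mul' le_rfl hq) (by simpa using ht)).ne (by simpa using hm)
      · exact pow_lt_one₀ zero_le ht hm0.ne'
    rw [w.map_add_eq_of_lt_right hlt, hc a ha]
  | MX p hp ih =>
    intro _
    obtain ⟨m, hm⟩ := ih hp
    exact ⟨m + 1, by rw [map_mul, Polynomial.aeval_X, map_mul, hm, pow_succ]⟩

theorem exists_place_ord_pos (hK : IsFunctionField k K) {t : K} (ht : Transcendental k t) :
    ∃ P : Place k K, 0 < P.ord t := by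
  classical
  have := finiteDimensional_adjoin hK ht
  set F := IntermediateField.adjoin k ({t} : Set K) with hF
  have ht0 : t ≠ 0 := by rintro rfl; exact ht isAlgebraic_zero
  -- a valuation subring containing `k[t]`, with `t` in its maximal ideal
  let R : Subring K := (Algebra.adjoin k ({t} : Set K)).toSubring
  let tR : R := ⟨t, Algebra.subset_adjoin rfl⟩
  have hI : Ideal.span {tR} ≠ ⊤ := by
    rw [Ne, Ideal.span_singleton_eq_top]
    intro hu
    obtain ⟨⟨u, hu'⟩, hmul⟩ := isUnit_iff_exists_inv.1 hu
    have hmul' : t * u = 1 := congrArg Subtype.val hmul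
    obtain ⟨p, hp : Polynomial.aeval t p = u⟩ :=
      (SetLike.ext_iff.1 (Algebra.adjoin_singleton_eq_range_aeval k t) _).1 hu'
    have := transcendental_iff.1 ht (Polynomial.X * p - 1)
      (by rw [map_sub, map_mul, Polynomial.aeval_X, hp, map_one, hmul', sub_self])
    simpa using congrArg (fun q => Polynomial.coeff q 0) this
  obtain ⟨V, hRV, htV⟩ := (Ideal.span {tR}).image_subset_nonunits_valuationSubring hI
  let w := V.valuation
  have hwt : w t < 1 :=
    V.mem_nonunits_iff.1 (htV ⟨tR, Ideal.subset_span rfl, rfl⟩)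
  have hwk : ∀ c : k, w (algebraMap k K c) ≤ 1 := fun c =>
    (V.valuation_le_one_iff _).2 (hRV ((Algebra.adjoin k ({t} : Set K)).algebraMap_mem c))
  have hwc : ∀ c : k, c ≠ 0 → w (algebraMap k K c) = 1 := fun c hc => by
    refine le_antisymm (hwk c) ?_
    have h := hwk c⁻¹
    rwa [map_inv₀, map_inv₀,
      inv_le_one₀ (zero_lt_iff.2 ((Valuation.ne_zero_iff w).2 (by simpa using hc)))] at h
  have hwt0 : w t ≠ 0 := (Valuation.ne_zero_iff w).2 ht0
  -- values on `k(t)` are powers of the value of `t`
  have hF : ∀ z ∈ F, z ≠ 0 → ∃ m : ℤ, w z = w t ^ m := by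
    intro z hz hz0
    obtain ⟨r, s, hrs⟩ := (IntermediateField.mem_adjoin_simple_iff k z).1 hz
    have hr : r ≠ 0 := by rintro rfl; simp [hrs] at hz0
    have hs : s ≠ 0 := by rintro rfl; simp [hrs] at hz0
    obtain ⟨a, ha⟩ := val_aeval_eq_pow w hwt hwc r hr
    obtain ⟨b, hb⟩ := val_aeval_eq_pow w hwt hwc s hs
    exact ⟨(a : ℤ) - b, by rw [hrs, map_div₀, ha, hb, zpow_sub₀ hwt0, zpow_natCast, zpow_natCast]⟩
  set n := Module.finrank F K
  set N := n.factorial with hN
  have hN0 : N ≠ 0 := n.factorial_ne_zero
  have hval : ∀ y : K, y ≠ 0 → ∃ m : ℤ, w y ^ N = w t ^ m := by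
    intro y hy
    have hint : IsIntegral F y := IsIntegral.of_finite F y
    set p := minpoly F y
    have hsum : ∑ i ∈ p.support, (p.coeff i : K) * y ^ i = 0 := by
      have := minpoly.aeval F y
      rw [Polynomial.aeval_def, Polynomial.eval₂_eq_sum, Polynomial.sum_def] at this
      exact this
    obtain ⟨i, hi, j, hj, hij, heq⟩ : ∃ i ∈ p.support, ∃ j ∈ p.support, i < j ∧
        w ((p.coeff i : K) * y ^ i) = w ((p.coeff j : K) * y ^ j) := by
      by_contra hcon
      push Not at hcon
      obtain ⟨i₀, hi₀, hmax⟩ := Finset.exists_max_image p.support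
        (fun i => w ((p.coeff i : K) * y ^ i))
        (Polynomial.support_nonempty.2 (minpoly.ne_zero hint))
      have hne : w ((p.coeff i₀ : K) * y ^ i₀) ≠ 0 := by
        rw [Valuation.ne_zero_iff]
        exact mul_ne_zero (by simpa using Polynomial.mem_support_iff.1 hi₀) (pow_ne_zero _ hy)
      have h := w.map_sum_eq_of_lt (f := fun i => (p.coeff i : K) * y ^ i) hi₀ fun i hi => by
        obtain ⟨hi, hii⟩ : i ∈ p.support ∧ i ≠ i₀ := by simpa using hi
        refine lt_of_le_of_ne (hmax i hi) ?_
        rcases lt_or_gt_of_ne hii with h | h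
        · exact hcon i hi i₀ hi₀ h
        · exact (hcon i₀ hi₀ i hi h).symm
      rw [hsum, map_zero] at h
      exact hne h.symm
    have hci : (p.coeff i : K) ≠ 0 := by simpa using Polynomial.mem_support_iff.1 hi
    have hcj : (p.coeff j : K) ≠ 0 := by simpa using Polynomial.mem_support_iff.1 hj
    obtain ⟨a, ha⟩ := hF _ (p.coeff i).2 hci
    obtain ⟨b, hb⟩ := hF _ (p.coeff j).2 hcj
    have hwy : w y ≠ 0 := (Valuation.ne_zero_iff w).2 hy
    have hstep : w y ^ (j - i) = w t ^ (a - b) := by
      rw [map_mul, map_mul, map_pow, map_pow, ha, hb] at heq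
      rw [zpow_sub₀ hwt0, eq_div_iff (zpow_ne_zero _ hwt0)]
      have : w y ^ j = w y ^ (j - i) * w y ^ i := by rw [← pow_add, Nat.sub_add_cancel hij.le]
      rw [this] at heq
      exact mul_right_cancel₀ (pow_ne_zero i hwy) (by rw [heq]; ac_rfl)
    obtain ⟨q, hq⟩ : j - i ∣ N := by
      refine Nat.dvd_factorial (by omega) ?_
      have h1 := Polynomial.le_natDegree_of_mem_supp j hj
      have h2 : p.natDegree ≤ n := minpoly.natDegree_le y
      omega
    exact ⟨(a - b) * q, by rw [hq, pow_mul, hstep, zpow_mul, zpow_natCast]⟩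
  choose! m hm using hval
  have hinj : Function.Injective fun z : ℤ => w t ^ z :=
    zpow_right_injective₀ (zero_lt_iff.2 hwt0) hwt.ne
  have hanti : StrictAnti fun z : ℤ => w t ^ z :=
    zpow_right_strictAnti₀ (zero_lt_iff.2 hwt0) hwt
  have hm_mul : ∀ x y : K, x ≠ 0 → y ≠ 0 → m (x * y) = m x + m y := fun x y hx hy => by
    apply hinj
    show w t ^ m (x * y) = w t ^ (m x + m y)
    rw [zpow_add₀ hwt0, ← hm x hx, ← hm y hy, ← hm _ (mul_ne_zero hx hy), map_mul, mul_pow]
  have hm_le : ∀ x y : K, x ≠ 0 → y ≠ 0 → (m y ≤ m x ↔ w x ≤ w y) := fun x y hx hy => by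
    rw [← pow_le_pow_iff_left₀ (a := w x) zero_le zero_le hN0, hm x hx, hm y hy]
    exact hanti.le_iff_ge.symm
  have hm1 : m 1 = 0 := by
    have := hm_mul 1 1 one_ne_zero one_ne_zero
    rw [one_mul] at this; omega
  have hmt : m t = N := hinj <| show w t ^ m t = w t ^ (N : ℤ) by
    rw [zpow_natCast]; exact (hm t ht0).symm
  have hm_inv : ∀ x : K, x ≠ 0 → m x⁻¹ = -m x := fun x hx => by
    have := hm_mul x x⁻¹ hx (inv_ne_zero hx)
    rw [mul_inv_cancel₀ hx, hm1] at this; omega
  have hm_pow : ∀ (x : K), x ≠ 0 → ∀ q : ℤ, m (x ^ q) = q * m x := fun x hx q => by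
    induction q with
    | zero => simpa using hm1
    | succ q ih => rw [zpow_add_one₀ hx, hm_mul _ _ (zpow_ne_zero _ hx) hx, ih]; ring
    | pred q ih =>
      rw [zpow_sub_one₀ hx, hm_mul _ _ (zpow_ne_zero _ hx) (inv_ne_zero hx), ih, hm_inv x hx]; ring
  have hex : ∃ d : ℕ, 0 < d ∧ ∃ x : K, x ≠ 0 ∧ m x = d := ⟨N, Nat.pos_of_ne_zero hN0, t, ht0, hmt⟩
  set d := Nat.find hex
  obtain ⟨hd0, π, hπ0, hπ⟩ := Nat.find_spec hex
  have hdvd : ∀ x : K, x ≠ 0 → ∃ q : ℤ, m x = d * q := by
    intro x hx
    refine ⟨m x / d, ?_⟩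
    by_contra hne
    have hr : m (x * π ^ (-(m x / d))) = m x % d := by
      rw [hm_mul _ _ hx (zpow_ne_zero _ hπ0), hm_pow π hπ0, hπ, Int.emod_def]; ring
    have hnn : 0 ≤ m x % d := Int.emod_nonneg _ (by omega)
    have hlt : m x % d < d := Int.emod_lt_of_pos _ (by omega)
    have hne0 : m x % d ≠ 0 := fun h => hne (by
      have := Int.mul_ediv_add_emod (m x) d; omega)
    refine Nat.find_min hex (m := (m x % d).toNat) (by omega)
      ⟨by omega, _, mul_ne_zero hx (zpow_ne_zero _ hπ0), by rw [hr]; omega⟩
  choose! q hq using hdvd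
  let ψ : Valuation K (WithZero (Multiplicative ℤ)) :=
    { toFun := fun x => if x = 0 then 0 else exp (-q x)
      map_zero' := by simp
      map_one' := by
        have h : q 1 = 0 := by
          have := hq 1 one_ne_zero; rw [hm1] at this
          rcases mul_eq_zero.1 this.symm with h | h
          · omega
          · exact h
        simp [h]
      map_mul' := fun x y => by
        rcases eq_or_ne x 0 with hx | hx
        · simp [hx]
        rcases eq_or_ne y 0 with hy | hy
        · simp [hy]
        have : q (x * y) = q x + q y := by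
          refine mul_left_cancel₀ (show (d : ℤ) ≠ 0 by omega) ?_
          rw [mul_add, ← hq x hx, ← hq y hy, ← hq _ (mul_ne_zero hx hy), hm_mul x y hx hy]
        simp only [mul_eq_zero, hx, hy, or_self, if_false, this]
        rw [← exp_add]; congr 1; ring
      map_add_le_max' := fun x y => by
        rcases eq_or_ne x 0 with hx | hx
        · simp [hx]
        rcases eq_or_ne y 0 with hy | hy
        · simp [hy]
        rcases eq_or_ne (x + y) 0 with hxy | hxy
        · simp [hxy]
        have key : ∀ a b : K, a ≠ 0 → b ≠ 0 → w a ≤ w b → q b ≤ q a := fun a b ha hb h => by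
          have := (hm_le a b ha hb).2 h
          rw [hq a ha, hq b hb] at this
          exact le_of_mul_le_mul_left this (by omega)
        simp only [hx, hy, hxy, if_false, le_max_iff, exp_le_exp, neg_le_neg_iff]
        rcases le_max_iff.1 (w.map_add x y) with h | h
        · exact Or.inl (key _ _ hxy hx h)
        · exact Or.inr (key _ _ hxy hy h) }
  have hψ : ∀ x : K, x ≠ 0 → ψ x = exp (-q x) := fun x hx => if_neg hx
  have hpos : 0 < q t := by
    have := hq t ht0; rw [hmt] at this
    have hNpos : (0 : ℤ) < N := by exact_mod_cast Nat.pos_of_ne_zero hN0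
    nlinarith
  refine ⟨⟨ψ, fun c => ?_, fun g => ?_⟩, ?_⟩
  · rcases eq_or_ne c 0 with rfl | hc
    · simp
    have hc' : algebraMap k K c ≠ 0 := by simpa using hc
    rw [hψ _ hc', ← exp_zero, exp_le_exp, neg_nonpos]
    have := (hm_le (algebraMap k K c) 1 hc' one_ne_zero).2 (by rw [map_one]; exact hwk c)
    rw [hm1, hq _ hc'] at this
    exact nonneg_of_mul_nonneg_right this (by omega) |> fun h => h
  · rcases eq_or_ne g 0 with rfl | hg
    · exact ⟨0, by simp⟩
    refine ⟨π ^ (-log g), ?_⟩
    have h : q (π ^ (-log g)) = -log g := by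
      refine mul_left_cancel₀ (show (d : ℤ) ≠ 0 by omega) ?_
      rw [← hq _ (zpow_ne_zero _ hπ0), hm_pow π hπ0, hπ]; ring
    rw [hψ _ (zpow_ne_zero _ hπ0), h, neg_neg, exp_log hg]
  · show 0 < -log (ψ t)
    rw [hψ t ht0, log_exp]; omega

/-! ### Degree of principal divisors, finiteness of `L(D)` -/

theorem exists_zero_pole (hK : IsFunctionField k K) {x : K} (hx : x ∉ Set.range (algebraMap k K)) :
    (∃ P : Place k K, 0 < P.ord x) ∧ ∃ Q : Place k K, Q.ord x < 0 := by
  have htr : Transcendental k x := fun h => hx (hK.2 x h)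
  refine ⟨exists_place_ord_pos hK htr, ?_⟩
  obtain ⟨Q, hQ⟩ := exists_place_ord_pos hK (t := x⁻¹) fun h => htr (by simpa using h.inv)
  exact ⟨Q, by rw [ord_inv] at hQ; omega⟩

theorem L_zero (hK : IsFunctionField k K) : L (0 : Divisor k K) = 1 := by
  ext x
  rw [Submodule.mem_one]
  refine ⟨fun hx => ?_, ?_⟩
  · by_contra h
    obtain ⟨Q, hQ⟩ := (exists_zero_pole hK (x := x) (fun ⟨c, hc⟩ => h ⟨c, hc⟩)).2
    have hx0 : x ≠ 0 := by rintro rfl; simp at hQ
    have := (val_le_one_iff Q hx0).1 (by simpa using hx Q)
    omega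
  · rintro ⟨c, rfl⟩ P
    simpa using P.2.1 c

theorem L_step (hK : IsFunctionField k K) {D : Divisor k K} (P : Place k K)
    (h : FiniteDimensional k (L D)) :
    FiniteDimensional k (L (D + Finsupp.single P 1)) ∧
      ell (D + Finsupp.single P 1) ≤ ell D + P.deg := by
  have := finiteDimensional_residueField hK P
  obtain ⟨t, ht⟩ := exists_val_eq P (-(D P + 1))
  let f : ↥(L (D + Finsupp.single P 1)) →ₗ[k] IsLocalRing.ResidueField P.O :=
    (leadMap P D t ht).comp
      (((diag k K).comp (L (D + Finsupp.single P 1)).subtype).codRestrict _ fun x => x.2)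
  have hker : LinearMap.ker f = Submodule.comap (L (D + Finsupp.single P 1)).subtype (L D) := by
    ext x
    have := SetLike.ext_iff.1 (ker_leadMap P D t ht)
      ((((diag k K).comp (L (D + Finsupp.single P 1)).subtype).codRestrict _ fun x => x.2) x)
    exact this
  have e := Submodule.comapSubtypeEquivOfLe (L_mono (le_add_single D P))
  have hkf : FiniteDimensional k (LinearMap.ker f) := by
    rw [hker]; exact Module.Finite.equiv e.symm
  have hfin : FiniteDimensional k (L (D + Finsupp.single P 1)) := by
    have := Module.Finite.equiv f.quotKerEquivRange.symm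
    exact Module.Finite.of_submodule_quotient (LinearMap.ker f)
  refine ⟨hfin, ?_⟩
  have hrk := LinearMap.finrank_range_add_finrank_ker f
  rw [hker, e.finrank_eq] at hrk
  have : Module.finrank k (LinearMap.range f) ≤ P.deg := Submodule.finrank_le _
  show Module.finrank k _ ≤ Module.finrank k _ + _
  omega

theorem L_of_le_zero (hK : IsFunctionField k K) {D : Divisor k K} (h : D ≤ 0) :
    FiniteDimensional k (L D) := by
  have h1 : FiniteDimensional k (L (0 : Divisor k K)) := by
    rw [L_zero hK]
    exact Module.Finite.of_fg (Submodule.one_eq_span (R := k) (A := K) ▸ Submodule.fg_span_singleton 1)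
  exact Module.Finite.equiv (Submodule.comapSubtypeEquivOfLe (L_mono h))

theorem finiteDimensional_L (hK : IsFunctionField k K) (D : Divisor k K) :
    FiniteDimensional k (L D) :=
  divisor_induction (D₁ := D ⊓ 0) inf_le_left (p := fun E => FiniteDimensional k (L E))
    (L_of_le_zero hK inf_le_right) fun _ P _ ih => (L_step hK P ih).1

theorem ell_sub_ell_le (hK : IsFunctionField k K) {D₁ D₂ : Divisor k K} (h : D₁ ≤ D₂) :
    (ell D₂ : ℤ) - ell D₁ ≤ D₂.deg - D₁.deg := by
  refine divisor_induction h (p := fun E => (ell E : ℤ) - ell D₁ ≤ E.deg - D₁.deg) (by simp)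
    fun E P _ ih => ?_
  have := (L_step hK P (finiteDimensional_L hK E)).2
  rw [deg_add, deg_single]; omega

theorem ell_zero (hK : IsFunctionField k K) : ell (0 : Divisor k K) = 1 := by
  rw [ell, L_zero hK, Submodule.one_eq_span]
  exact finrank_span_singleton one_ne_zero

theorem ell_mono (hK : IsFunctionField k K) {D₁ D₂ : Divisor k K} (h : D₁ ≤ D₂) :
    ell D₁ ≤ ell D₂ := by
  have := finiteDimensional_L hK D₂
  exact Submodule.finrank_mono (L_mono h)

theorem ell_le_of_nonneg (hK : IsFunctionField k K) {D : Divisor k K} (h : 0 ≤ D) :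
    (ell D : ℤ) ≤ 1 + D.deg := by
  have := ell_sub_ell_le hK h
  rw [ell_zero hK, deg_zero] at this; omega

/-- The divisor of poles of `x`. -/
noncomputable def polesDiv (k : Type*) {K : Type*} [Field k] [Field K] [Algebra k K] (x : K) :
    Divisor k K := (-div k x) ⊔ 0

theorem polesDiv_apply (hK : IsFunctionField k K) (x : K) (P : Place k K) :
    polesDiv k x P = max (-P.ord x) 0 := by
  rw [polesDiv, Finsupp.sup_apply, Finsupp.neg_apply, div_apply hK]; rfl

theorem polesDiv_nonneg (x : K) : 0 ≤ polesDiv k x := le_sup_right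

theorem mem_L_iff {D : Divisor k K} {x : K} (hx : x ≠ 0) :
    x ∈ L D ↔ ∀ P : Place k K, -D P ≤ P.ord x :=
  forall_congr' fun P => val_le_exp_iff P hx

/-- The degree of the pole divisor of a transcendental element is at least `[K : k(x)]`, and the
`deg D + 1 - ℓ(D)` along its multiples stays bounded. -/
theorem finrank_le_deg_poles (hK : IsFunctionField k K) {x : K} (hx : Transcendental k x) :
    (Module.finrank (IntermediateField.adjoin k ({x} : Set K)) K : ℤ) ≤ (polesDiv k x).deg ∧
      ∃ m : ℕ, ∀ l : ℕ,
        (Module.finrank (IntermediateField.adjoin k ({x} : Set K)) K : ℤ) * (l + 1) ≤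
          ell (((m + l : ℕ) : ℤ) • polesDiv k x) := by
  classical
  have hfd := finiteDimensional_adjoin hK hx
  set F := IntermediateField.adjoin k ({x} : Set K)
  set n := Module.finrank F K with hn
  set C := polesDiv k x
  have hx0 : x ≠ 0 := by rintro rfl; exact hx isAlgebraic_zero
  have hxF : x ∈ F := IntermediateField.mem_adjoin_simple_self k x
  let b := Module.finBasis F K
  -- kill the poles of the basis outside the poles of `x`
  let B : Finset (Place k K) := Finset.univ.biUnion fun i : Fin n =>
    (finite_not_integral hK (b i)).toFinset.filter (fun P => 0 ≤ P.ord x)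
  have hz : ∀ P : Place k K, ∃ p : Polynomial k, p ≠ 0 ∧
      (0 ≤ P.ord x → 0 < P.ord (Polynomial.aeval x p)) := by
    intro P
    rcases lt_or_ge (P.ord x) 0 with h | h
    · exact ⟨1, one_ne_zero, fun h' => absurd h' (not_le.2 h)⟩
    have := finiteDimensional_residueField hK P
    let xo : P.O := ⟨x, (val_le_one_iff P hx0).2 h⟩
    let r := IsLocalRing.residue P.O xo
    have hint : IsIntegral k r := @IsIntegral.of_finite k _ _ _ _ this r

    refine ⟨minpoly k r, minpoly.ne_zero hint, fun _ => ?_⟩
    have hne : Polynomial.aeval x (minpoly k r) ≠ 0 := fun h0 =>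
      minpoly.ne_zero hint (transcendental_iff.1 hx _ h0)
    have hres : IsLocalRing.residue P.O (Polynomial.aeval xo (minpoly k r)) = 0 := by
      have := minpoly.aeval k r
      rw [Polynomial.aeval_def] at this ⊢
      rwa [Polynomial.hom_eval₂]
    have hcoe : ((Polynomial.aeval xo (minpoly k r) : P.O) : K) = Polynomial.aeval x (minpoly k r) := by
      rw [Polynomial.aeval_def, Polynomial.aeval_def, ← ValuationSubring.subtype_apply,
        Polynomial.hom_eval₂]
      rfl
    rw [← val_lt_one_iff P hne, ← hcoe]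
    rw [IsLocalRing.residue_eq_zero_iff, ValuationSubring.valuation_lt_one_iff] at hres
    exact (P.1.isEquiv_valuation_valuationSubring).lt_one_iff_lt_one.2 hres
  choose z hz0 hz using hz
  let M : ℕ := Finset.univ.sup fun i : Fin n => B.sup fun P => (P.ord (b i)).natAbs
  let q : K := Polynomial.aeval x (∏ P ∈ B, z P ^ M)
  have hint : ∀ (p : Polynomial k) (P : Place k K), 0 ≤ P.ord x → P.1 (Polynomial.aeval x p) ≤ 1 := by
    intro p P h
    rw [Polynomial.aeval_eq_sum_range]
    refine P.1.map_sum_le fun j _ => ?_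
    rw [Algebra.smul_def, map_mul, map_pow]
    exact mul_le_one' (P.2.1 _) (pow_le_one₀ zero_le ((val_le_one_iff P hx0).2 h))
  have hne : ∀ p : Polynomial k, p ≠ 0 → Polynomial.aeval x p ≠ 0 := fun p hp h0 =>
    hp (transcendental_iff.1 hx _ h0)
  have hq0 : q ≠ 0 := hne _ (Finset.prod_ne_zero_iff.2 fun P _ => pow_ne_zero _ (hz0 P))
  have hqF : q ∈ F := IntermediateField.algebra_adjoin_le_adjoin k {x}
    (Polynomial.aeval_mem_adjoin_singleton k x)
  let u : Fin n → K := fun i => q * b i
  have hu0 : ∀ i, u i ≠ 0 := fun i => mul_ne_zero hq0 (b.ne_zero i)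
  have hu : LinearIndependent F u := by
    have := b.linearIndependent.units_smul (fun _ => Units.mk0 (⟨q, hqF⟩ : F)
      (fun h => hq0 (congrArg Subtype.val h)))
    exact this
  have hpoles : ∀ i (P : Place k K), 0 ≤ P.ord x → 0 ≤ P.ord (u i) := by
    intro i P hP
    rw [ord_mul P hq0 (b.ne_zero i)]
    have hq1 : 0 ≤ P.ord q := (val_le_one_iff P hq0).1 (hint _ P hP)
    by_cases hb : P.1 (b i) ≤ 1
    · have := (val_le_one_iff P (b.ne_zero i)).1 hb; omega
    have hPB : P ∈ B := Finset.mem_biUnion.2
      ⟨i, Finset.mem_univ _, Finset.mem_filter.2 ⟨(Set.Finite.mem_toFinset _).2 hb, hP⟩⟩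
    have hbound : (P.ord (b i)).natAbs ≤ M :=
      le_trans (Finset.le_sup (f := fun P => (P.ord (b i)).natAbs) hPB)
        (Finset.le_sup (f := fun i : Fin n => B.sup fun P => (P.ord (b i)).natAbs) (Finset.mem_univ i))
    have hord : (M : ℤ) ≤ P.ord q := by
      have hsplit : q = Polynomial.aeval x (z P) ^ M *
          Polynomial.aeval x (∏ Q ∈ B.erase P, z Q ^ M) := by
        rw [← map_pow, ← map_mul, Finset.mul_prod_erase B (fun Q => z Q ^ M) hPB]
      have h1 : Polynomial.aeval x (∏ Q ∈ B.erase P, z Q ^ M) ≠ 0 :=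
        hne _ (Finset.prod_ne_zero_iff.2 fun Q _ => pow_ne_zero _ (hz0 Q))
      rw [hsplit, ord_mul P (pow_ne_zero _ (hne _ (hz0 P))) h1, ord_pow]
      have h2 := (val_le_one_iff P h1).1 (hint _ P hP)
      have h3 := hz P hP
      have h4 : (M : ℤ) * 1 ≤ M * P.ord (Polynomial.aeval x (z P)) :=
        mul_le_mul_of_nonneg_left (by omega) (by omega)
      omega
    omega
  obtain ⟨m, hm⟩ : ∃ m : ℕ, ∀ i, u i ∈ L ((m : ℤ) • C) := by
    refine ⟨Finset.univ.sup fun i : Fin n => C.support.sup fun P => (P.ord (u i)).natAbs,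
      fun i => (mem_L_iff (hu0 i)).2 fun P => ?_⟩
    rcases le_or_gt 0 (P.ord x) with h | h
    · rw [Finsupp.smul_apply, polesDiv_apply hK, max_eq_right (by omega), smul_zero]
      simpa using hpoles i P h
    · have hC : C P = -P.ord x := by rw [polesDiv_apply hK]; omega
      have hsup : P ∈ C.support := by rw [Finsupp.mem_support_iff, hC]; omega
      have hb : (P.ord (u i)).natAbs ≤ Finset.univ.sup fun i : Fin n =>
          C.support.sup fun P => (P.ord (u i)).natAbs :=
        le_trans (Finset.le_sup (f := fun P => (P.ord (u i)).natAbs) hsup)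
          (Finset.le_sup (f := fun i : Fin n => C.support.sup fun P => (P.ord (u i)).natAbs)
            (Finset.mem_univ i))
      rw [Finsupp.smul_apply, hC, smul_eq_mul]
      have h3 := mul_le_mul_of_nonneg_left (show (1 : ℤ) ≤ -P.ord x by omega)
        (Int.natCast_nonneg (Finset.univ.sup fun i : Fin n => C.support.sup fun P => (P.ord (u i)).natAbs))
      omega
  have hell : ∀ l : ℕ, (n : ℤ) * (l + 1) ≤ ell (((m + l : ℕ) : ℤ) • C) := by
    intro l
    have := finiteDimensional_L hK (((m + l : ℕ) : ℤ) • C)
    let w : Fin (l + 1) × Fin n → K := fun p => x ^ (p.1 : ℕ) * u p.2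
    have hw : LinearIndependent k w := by
      rw [Fintype.linearIndependent_iff]
      intro g hg
      let G : Fin n → F := fun i =>
        ⟨∑ j : Fin (l + 1), algebraMap k K (g (j, i)) * x ^ (j : ℕ),
          sum_mem fun j _ => mul_mem (F.algebraMap_mem _) (pow_mem hxF _)⟩
      have hG : ∑ i, G i • u i = 0 := by
        simp only [G, IntermediateField.smul_def, smul_eq_mul, Finset.sum_mul]
        rw [← hg, Fintype.sum_prod_type, Finset.sum_comm]
        refine Finset.sum_congr rfl fun j _ => Finset.sum_congr rfl fun i _ => ?_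
        simp only [w, Algebra.smul_def]; ring
      intro p
      have hGi := congrArg Subtype.val (Fintype.linearIndependent_iff.1 hu G hG p.2)
      have hpoly : (∑ j : Fin (l + 1), Polynomial.monomial (j : ℕ) (g (j, p.2))) = 0 := by
        refine transcendental_iff.1 hx _ ?_
        simpa [G, map_sum, Polynomial.aeval_monomial] using hGi
      simpa [Polynomial.finsetSum_coeff, Polynomial.coeff_monomial, Fin.val_inj] using
        congrArg (fun q : Polynomial k => q.coeff (p.1 : ℕ)) hpoly
    have hmem : ∀ p, w p ∈ L (((m + l : ℕ) : ℤ) • C) := by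
      intro p
      have hne : x ^ (p.1 : ℕ) * u p.2 ≠ 0 := mul_ne_zero (pow_ne_zero _ hx0) (hu0 _)
      refine (mem_L_iff hne).2 fun P => ?_
      have h1 := (mem_L_iff (hu0 p.2)).1 (hm p.2) P
      rw [Finsupp.smul_apply, polesDiv_apply hK, smul_eq_mul] at h1
      rw [ord_mul P (pow_ne_zero _ hx0) (hu0 _), ord_pow, Finsupp.smul_apply, polesDiv_apply hK,
        smul_eq_mul]
      have hj : ((p.1 : ℕ) : ℤ) ≤ l := by exact_mod_cast Nat.lt_succ_iff.1 p.1.2
      have hmax := le_max_right (-P.ord x) 0
      have hmax' := le_max_left (-P.ord x) 0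
      push_cast
      nlinarith
    have hw' : LinearIndependent k (fun p => (⟨w p, hmem p⟩ : L (((m + l : ℕ) : ℤ) • C))) :=
      LinearIndependent.of_comp (L (((m + l : ℕ) : ℤ) • C)).subtype (by exact hw)
    have hcard := hw'.fintype_card_le_finrank
    rw [Fintype.card_prod, Fintype.card_fin, Fintype.card_fin] at hcard
    have : ((l + 1) * n : ℕ) ≤ (ell (((m + l : ℕ) : ℤ) • C) : ℕ) := hcard
    calc (n : ℤ) * (l + 1) = (((l + 1) * n : ℕ) : ℤ) := by push_cast; ring
      _ ≤ _ := by exact_mod_cast this
  refine ⟨?_, m, hell⟩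
  by_contra hlt
  push Not at hlt
  have hC0 : 0 ≤ C.deg := deg_nonneg (polesDiv_nonneg x)
  have h1 := hell (m * n + 1)
  have h2 := ell_le_of_nonneg hK (D := ((m + (m * n + 1) : ℕ) : ℤ) • C)
    (smul_nonneg (by positivity) (polesDiv_nonneg x))
  rw [deg_zsmul] at h2
  push_cast at h1 h2
  have h3 := mul_le_mul_of_nonneg_left (show C.deg ≤ (n : ℤ) - 1 by omega)
    (show (0 : ℤ) ≤ (m : ℤ) + ((m : ℤ) * n + 1) by positivity)
  nlinarith

theorem deg_poles (hK : IsFunctionField k K) {x : K} (hx : Transcendental k x) :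
    (polesDiv k x).deg = Module.finrank (IntermediateField.adjoin k ({x} : Set K)) K := by
  refine le_antisymm ?_ (finrank_le_deg_poles hK hx).1
  have heq : IntermediateField.adjoin k ({x⁻¹} : Set K) = IntermediateField.adjoin k ({x} : Set K) := by
    refine le_antisymm (IntermediateField.adjoin_simple_le_iff.2
      (inv_mem (IntermediateField.mem_adjoin_simple_self k x)))
      (IntermediateField.adjoin_simple_le_iff.2 ?_)
    simpa using inv_mem (IntermediateField.mem_adjoin_simple_self k x⁻¹)
  have h := sum_le_finrank hK (x := x⁻¹) (E := polesDiv k x)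
    (fun h => hx (by simpa using h.inv)) (polesDiv_nonneg x) fun P hP => by
      rw [Finsupp.mem_support_iff, polesDiv_apply hK] at hP
      rw [polesDiv_apply hK, ord_inv]; omega
  rwa [heq] at h

theorem deg_zeros (hK : IsFunctionField k K) {x : K} (hx : Transcendental k x) :
    (polesDiv k x⁻¹).deg = Module.finrank (IntermediateField.adjoin k ({x} : Set K)) K := by
  have hx' : Transcendental k x⁻¹ := fun h => hx (by simpa using h.inv)
  have heq : IntermediateField.adjoin k ({x⁻¹} : Set K) = IntermediateField.adjoin k ({x} : Set K) := by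
    refine le_antisymm (IntermediateField.adjoin_simple_le_iff.2
      (inv_mem (IntermediateField.mem_adjoin_simple_self k x)))
      (IntermediateField.adjoin_simple_le_iff.2 ?_)
    simpa using inv_mem (IntermediateField.mem_adjoin_simple_self k x⁻¹)
  rw [deg_poles hK hx', heq]

theorem div_eq_zeros_sub_poles (hK : IsFunctionField k K) (x : K) :
    div k x = polesDiv k x⁻¹ - polesDiv k x := by
  ext P
  rw [Finsupp.sub_apply, polesDiv_apply hK, polesDiv_apply hK, div_apply hK, ord_inv]
  omega

theorem deg_div (hK : IsFunctionField k K) (x : K) : (div k x).deg = 0 := by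
  by_cases hx : IsAlgebraic k x
  · obtain ⟨c, rfl⟩ := hK.2 x hx
    have : div k (algebraMap k K c) = 0 := by
      ext P; rw [div_apply hK, ord_algebraMap]; rfl
    rw [this, deg_zero]
  · rw [div_eq_zeros_sub_poles hK, deg_sub, deg_zeros hK hx, deg_poles hK hx, sub_self]

theorem div_mul (hK : IsFunctionField k K) {x y : K} (hx : x ≠ 0) (hy : y ≠ 0) :
    div k (x * y) = div k x + div k y := by
  ext P; simp [div_apply hK, ord_mul P hx hy]

theorem div_inv (hK : IsFunctionField k K) (x : K) : div k x⁻¹ = -div k x := by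
  ext P; simp [div_apply hK]

theorem mul_mem_L_iff (hK : IsFunctionField k K) (D : Divisor k K) {x : K} (y : K) (hx : x ≠ 0) :
    x * y ∈ L D ↔ y ∈ L (D + div k x) := by
  refine forall_congr' fun P => ?_
  rcases eq_or_ne y 0 with rfl | hy
  · simp
  rw [val_le_exp_iff P (mul_ne_zero hx hy), val_le_exp_iff P hy, ord_mul P hx hy,
    Finsupp.add_apply, div_apply hK]
  omega

theorem ell_add_div (hK : IsFunctionField k K) (D : Divisor k K) {x : K} (hx : x ≠ 0) :
    ell (D + div k x) = ell D := by
  refine LinearEquiv.finrank_eq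
    (LinearEquiv.ofBijective
      ((LinearMap.mulLeft k x).comp (L (D + div k x)).subtype |>.codRestrict (L D)
        fun y => (mul_mem_L_iff hK D y hx).2 y.2) ⟨?_, ?_⟩)
  · intro y z h
    exact Subtype.ext (mul_left_cancel₀ hx (congrArg Subtype.val h))
  · intro z
    refine ⟨⟨x⁻¹ * z, (mul_mem_L_iff hK D _ hx).1 ?_⟩, Subtype.ext (mul_inv_cancel_left₀ hx z.1)⟩
    rw [mul_inv_cancel_left₀ hx]; exact z.2

theorem exists_ne_zero_of_ell_pos {D : Divisor k K} (h : 0 < ell D) :
    ∃ x : K, x ≠ 0 ∧ x ∈ L D := by
  by_contra hc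
  push Not at hc
  have : L D = ⊥ := (Submodule.eq_bot_iff _).2 fun x hx => by
    by_contra h0; exact hc x h0 hx
  rw [ell, this, finrank_bot] at h
  omega

theorem nonneg_of_mem_L (hK : IsFunctionField k K) {D : Divisor k K} {x : K} (hx : x ≠ 0)
    (h : x ∈ L D) : 0 ≤ D + div k x := by
  intro P
  have := (mem_L_iff hx).1 h P
  rw [Finsupp.add_apply, div_apply hK, Finsupp.zero_apply]; omega

theorem L_eq_bot_of_deg_neg (hK : IsFunctionField k K) {D : Divisor k K} (h : D.deg < 0) :
    L D = ⊥ := by
  refine (Submodule.eq_bot_iff _).2 fun x hx => by_contra fun h0 => ?_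
  have := deg_nonneg (nonneg_of_mem_L hK h0 hx)
  rw [deg_add, deg_div hK] at this
  omega

theorem ell_eq_zero_of_deg_neg (hK : IsFunctionField k K) {D : Divisor k K} (h : D.deg < 0) :
    ell D = 0 := by
  rw [ell, L_eq_bot_of_deg_neg hK h, finrank_bot]

end Groth.Agent.FunFldLib
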