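import Groth.Agent.FunFld.Inertia

/-!
Inertia groups over intermediate fields (constant fields may grow).
-/

namespace Groth.Agent.FunFldLib

open FunFld WithZero

attribute [local instance 2000] Algebra.toModule

variable {k K K' : Type*} [Field k] [Field K] [Field K'] [Algebra k K] [Algebra K K'] [Algebra k K']
  [IsScalarTower k K K'] [FiniteDimensional K K'] [IsGalois K K']

theorem card_inertia_ff (hK : IsFF k K) {Q : Place k K'} {P : Place k K} {e : ℕ} (he : IsOverWith Q P e)
    [Algebra.IsSeparable k (IsLocalRing.ResidueField Q.O)] :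
    Nat.card ((Q.O).inertiaSubgroup K) = e := by
  let k₁ : IntermediateField k K := constField k K
  have : IsScalarTower k₁ K K' := inferInstance
  let Q₁ : Place k₁ K' := ⟨Q.1, fun c => by
    show Q.1 (algebraMap K K' (c : K)) ≤ 1
    rw [he]; exact pow_le_one₀ zero_le (val_algebraic_le_one P (isAlgebraic_constField c).isIntegral), Q.2.2⟩
  letI := Place.algRes Q₁
  have : IsScalarTower k k₁ (IsLocalRing.ResidueField Q₁.O) := IsScalarTower.of_algebraMap_eq fun c => by
    show IsLocalRing.residue Q.O (algebraMap k Q.O c) = IsLocalRing.residue Q₁.O (algebraMap k₁ Q₁.O (algebraMap k k₁ c))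
    congr 1
    refine Subtype.ext ?_
    show algebraMap k K' c = algebraMap K K' (algebraMap k K c)
    exact IsScalarTower.algebraMap_apply k K K' c
  have hsep : Algebra.IsSeparable k (IsLocalRing.ResidueField Q₁.O) := ‹_›
  have : Algebra.IsSeparable k₁ (IsLocalRing.ResidueField Q₁.O) :=
    Algebra.isSeparable_tower_top_of_isSeparable k k₁ _
  exact card_inertia (k := k₁) (K := K) (Q := Q₁) (P := toPlace₁ P) (isFunctionField_constField hK) he

omit [FiniteDimensional K K'] [IsGalois K K'] in
/-- The inertia group inside the Galois group. -/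
theorem mem_inertia_map (Q : Place k K') (σ : K' ≃ₐ[K] K') :
    σ ∈ ((Q.O).inertiaSubgroup K).map ((Q.O).decompositionSubgroup K).subtype ↔
      ∀ x, Q.1 x ≤ 1 → Q.1 (σ x - x) < 1 := by
  have key : ∀ g : (Q.O).decompositionSubgroup K, g ∈ (Q.O).inertiaSubgroup K ↔
      ∀ x, Q.1 x ≤ 1 → Q.1 (g.1 x - x) < 1 := fun g => by
    rw [ValuationSubring.inertiaSubgroup, MonoidHom.mem_ker]
    have e : ∀ x : Q.O, (g • IsLocalRing.residue Q.O x = IsLocalRing.residue Q.O x) ↔
        Q.1 (g.1 (x : K') - x) < 1 := fun x => by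
      rw [← IsLocalRing.ResidueField.residue_smul, ← sub_eq_zero, ← map_sub, residue_eq_zero_iff]
      rfl
    constructor
    · intro hg x hx
      exact (e ⟨x, hx⟩).1 (RingEquiv.congr_fun hg (IsLocalRing.residue Q.O ⟨x, hx⟩))
    · intro hg
      refine RingEquiv.ext fun r => ?_
      obtain ⟨x, rfl⟩ := IsLocalRing.residue_surjective r
      exact (e x).2 (hg x x.2)
  rw [Subgroup.mem_map]
  constructor
  · rintro ⟨g, hg, rfl⟩
    exact (key g).1 hg
  · intro h
    have hσ : σ ∈ (Q.O).decompositionSubgroup K := (decomposition_iff Q σ).2 (place_ext fun x hx => by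
      by_contra hlt
      -- integral elements stay integral
      have hall : ∀ x, Q.1 x ≤ 1 → Q.1 (σ x) ≤ 1 := fun x hx => by
        have := (Q.1.map_add _ _).trans (max_le (h x hx).le hx)
        rwa [sub_add_cancel] at this
      have hx1 : 1 < Q.1 x := not_le.1 hlt
      have hx0 : x ≠ 0 := fun h0 => by rw [h0, map_zero] at hx1; exact not_lt_zero hx1
      have hinv : Q.1 x⁻¹ < 1 := by rw [map_inv₀]; exact inv_lt_one_of_one_lt₀ hx1
      have h2 : Q.1 (σ x⁻¹) < 1 := by
        have := (Q.1.map_add _ _).trans_lt (max_lt (h x⁻¹ hinv.le) hinv)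
        rwa [sub_add_cancel] at this
      rw [map_inv₀, map_inv₀] at h2
      have hx' : Q.1 (σ x) ≤ 1 := hx
      exact absurd h2 (not_lt.2 ((one_le_inv₀ (zero_lt_iff.2 (val_ne_zero Q (by simpa using hx0)))).2 hx')))
    exact ⟨⟨σ, hσ⟩, (key _).2 h, rfl⟩

theorem card_inertia_map (hK : IsFF k K) {Q : Place k K'} {P : Place k K} {e : ℕ} (he : IsOverWith Q P e)
    [Algebra.IsSeparable k (IsLocalRing.ResidueField Q.O)] :
    Nat.card (((Q.O).inertiaSubgroup K).map ((Q.O).decompositionSubgroup K).subtype) = e := by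
  rw [Subgroup.card_map_of_injective Subtype.val_injective, card_inertia_ff hK he]

/-- The inertia group over an intermediate field. -/
theorem card_inertia_intermediate (hK : IsFunctionField k K) {Q : Place k K'} (E : IntermediateField K K')
    {PE : Place k E} {e : ℕ} (he : IsOverWith Q PE e) [Algebra.IsSeparable k (IsLocalRing.ResidueField Q.O)] :
    Nat.card (((Q.O).inertiaSubgroup K).map ((Q.O).decompositionSubgroup K).subtype ⊓ E.fixingSubgroup :
      Subgroup (K' ≃ₐ[K] K')) = e := by
  have : IsScalarTower k E K' := IsScalarTower.of_algebraMap_eq fun c => rfl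
  rw [← card_inertia_map (K := E) (isFF_of_finite hK) he]
  refine Nat.card_congr
    { toFun := fun σ => ⟨E.fixingSubgroupEquiv ⟨σ.1, σ.2.2⟩, (mem_inertia_map Q _).2 ((mem_inertia_map Q σ.1).1 σ.2.1)⟩
      invFun := fun τ => ⟨(E.fixingSubgroupEquiv.symm τ.1).1,
        (mem_inertia_map Q _).2 fun x hx => (mem_inertia_map Q τ.1).1 τ.2 x hx,
        (E.fixingSubgroupEquiv.symm τ.1).2⟩
      left_inv := fun σ => by ext; simp
      right_inv := fun τ => by ext; simp }

end Groth.Agent.FunFldLib
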