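import Groth.Agent.FunFld.Local
import Mathlib.RingTheory.IntegralDomain
import Mathlib.RingTheory.Polynomial.IrreducibleRing
import Mathlib.FieldTheory.Separable
import Mathlib.Algebra.Polynomial.Identities

/-!
The ramification groups of a place with separable residue field are read on a local parameter.
-/

namespace Groth.Agent.FunFldLib

open FunFld WithZero

set_option linter.unusedSectionVars false

variable {k K K' : Type*} [Field k] [Field K] [Field K'] [Algebra k K] [Algebra K K'] [Algebra k K']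
  [IsScalarTower k K K']

/-- `σ` moves every integer of `Q` by at most the `i`th power of the maximal ideal. -/
def InG (Q : Place k K') (i : ℕ) (σ : K' ≃ₐ[K] K') : Prop :=
  ∀ x : K', Q.1 x ≤ 1 → Q.1 (σ x - x) ≤ exp (-(i : ℤ))

variable {Q : Place k K'} {i : ℕ} {σ τ : K' ≃ₐ[K] K'}

omit [IsScalarTower k K K'] in
theorem InG.mono {j : ℕ} (h : InG Q i σ) (hji : j ≤ i) : InG Q j σ :=
  fun x hx => (h x hx).trans (exp_le_exp.2 (by omega))

omit [IsScalarTower k K K'] in
theorem InG.int (h : InG Q i σ) {x : K'} (hx : Q.1 x ≤ 1) : Q.1 (σ x) ≤ 1 := by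
  have := Q.1.map_add_le ((h x hx).trans (by rw [← exp_zero, exp_le_exp]; omega)) hx
  rwa [sub_add_cancel] at this

omit [IsScalarTower k K K'] in
theorem InG.mul (hσ : InG Q i σ) (hτ : InG Q i τ) : InG Q i (σ * τ) := fun x hx => by
  have := Q.1.map_add_le (hσ (τ x) (hτ.int hx)) (hτ x hx)
  rwa [sub_add_sub_cancel] at this

omit [IsScalarTower k K K'] in
theorem inG_one : InG Q i (1 : K' ≃ₐ[K] K') := fun x _ => by simp

omit [IsScalarTower k K K'] in
theorem InG.pow (h : InG Q i σ) (n : ℕ) : InG Q i (σ ^ n) := by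
  induction n with
  | zero => rw [pow_zero]; exact inG_one
  | succ n ih => rw [pow_succ]; exact ih.mul h

omit [IsScalarTower k K K'] in
theorem InG.inv [Finite (K' ≃ₐ[K] K')] (h : InG Q i σ) : InG Q i σ⁻¹ := by
  have hn := orderOf_pos σ
  rw [show σ⁻¹ = σ ^ (orderOf σ - 1) from inv_eq_of_mul_eq_one_right (by
    rw [← pow_succ', Nat.sub_add_cancel hn, pow_orderOf_eq_one])]
  exact h.pow _

theorem exists_eq_param_mul {k K : Type*} [Field k] [Field K] [Algebra k K] {P : Place k K} {t : K}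
    (ht : P.1 t = exp (-1)) {m : ℕ} {x : K} (hx : P.1 x ≤ exp (-(m + 1 : ℤ))) :
    ∃ w, P.1 w ≤ exp (-(m : ℤ)) ∧ x = t * w := by
  refine ⟨x / t, ?_, (mul_div_cancel₀ x (ne_zero_of_val P ht)).symm⟩
  rw [map_div₀, ht, div_le_iff₀ exp_pos, ← exp_add]
  exact hx.trans (exp_le_exp.2 (by omega))

variable {t : K'}

omit [IsScalarTower k K K'] in
theorem InG.param_le (h : InG Q i σ) (hi : 1 ≤ i) (ht : Q.1 t = exp (-1)) : Q.1 (σ t) ≤ exp (-1) := by
  have := Q.1.map_add_le ((h t (by rw [ht, ← exp_zero, exp_le_exp]; omega)).trans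
    (exp_le_exp.2 (by omega : (-(i : ℤ)) ≤ -1))) ht.le
  rwa [sub_add_cancel] at this

omit [IsScalarTower k K K'] in
theorem InG.map_le (h : InG Q i σ) (hi : 1 ≤ i) (ht : Q.1 t = exp (-1)) (m : ℕ) :
    ∀ {y : K'}, Q.1 y ≤ exp (-(m : ℤ)) → Q.1 (σ y) ≤ exp (-(m : ℤ)) := by
  induction m with
  | zero => intro y hy; simpa using h.int (by simpa using hy)
  | succ m ih =>
    intro y hy
    obtain ⟨w, hw, rfl⟩ := exists_eq_param_mul ht (m := m) (by exact_mod_cast hy)
    rw [map_mul, map_mul]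
    refine (mul_le_mul' (h.param_le hi ht) (ih hw)).trans_eq ?_
    rw [← exp_add]; congr 1; push_cast; ring

omit [IsScalarTower k K K'] in
theorem InG.param_eq [Finite (K' ≃ₐ[K] K')] (h : InG Q i σ) (hi : 1 ≤ i) (ht : Q.1 t = exp (-1)) :
    Q.1 (σ t) = exp (-1) := by
  refine le_antisymm (h.param_le hi ht) (not_lt.1 fun hlt => ?_)
  have h2 : Q.1 (σ t) ≤ exp (-((2 : ℕ) : ℤ)) := by
    have h0 : σ t ≠ 0 := (map_ne_zero σ).2 (ne_zero_of_val Q ht)
    rw [val_eq_exp Q h0, exp_lt_exp] at hlt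
    rw [val_eq_exp Q h0, exp_le_exp]
    omega
  have h3 := h.inv.map_le hi ht 2 h2
  rw [show (σ⁻¹ : K' ≃ₐ[K] K') (σ t) = t from σ.symm_apply_apply t, ht, exp_le_exp] at h3
  omega

omit [IsScalarTower k K K'] in
/-- `σ - 1` lowers the filtration by `i - 1`. -/
theorem InG.sub_le (h : InG Q i σ) (hi : 1 ≤ i) (ht : Q.1 t = exp (-1)) (m : ℕ) :
    ∀ {y : K'}, Q.1 y ≤ exp (-(m : ℤ)) → Q.1 (σ y - y) ≤ exp (-((m : ℤ) + i - 1)) := by
  induction m with
  | zero =>
    intro y hy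
    exact (h y (by simpa using hy)).trans (exp_le_exp.2 (by omega))
  | succ m ih =>
    intro y hy
    obtain ⟨w, hw, rfl⟩ := exists_eq_param_mul ht (m := m) (by exact_mod_cast hy)
    rw [map_mul, show σ t * σ w - t * w = (σ t - t) * σ w + t * (σ w - w) by ring]
    refine Q.1.map_add_le ?_ ?_ <;> rw [map_mul]
    · refine (mul_le_mul' (h t (by rw [ht, ← exp_zero, exp_le_exp]; omega)) (h.map_le hi ht m hw)).trans ?_
      rw [← exp_add, exp_le_exp]; omega
    · refine (mul_le_mul' ht.le (ih hw)).trans ?_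
      rw [← exp_add, exp_le_exp]; omega

variable [Algebra.IsSeparable k (IsLocalRing.ResidueField Q.O)]

/-- A place with separable residue field reads the ramification groups on a parameter. -/
theorem inG_of_param {j : ℕ} (hσ : InG Q 1 σ) (ht : Q.1 t = exp (-1)) (hj : Q.1 (σ t - t) ≤ exp (-(j : ℤ))) :
    ∀ m, m ≤ j → InG Q m σ := by
  intro m
  induction m with
  | zero => exact fun _ => hσ.mono zero_le_one
  | succ m ih =>
    intro hmj
    rcases Nat.eq_zero_or_pos m with rfl | hm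
    · exact hσ
    have hG := ih (by omega)
    intro x hx
    let X : Q.O := ⟨x, hx⟩
    let ρ : Q.O →ₐ[k] IsLocalRing.ResidueField Q.O :=
      { IsLocalRing.residue Q.O with commutes' := fun _ => rfl }
    set q := minpoly k (ρ X) with hq
    have hint : IsIntegral k (ρ X) := (Algebra.IsSeparable.isSeparable k (ρ X)).isIntegral
    have hcoe : ∀ (p : Polynomial k) (Y : Q.O), ((Polynomial.aeval Y p : Q.O) : K') = Polynomial.aeval (Y : K') p :=
      fun p Y => by
        let ι : Q.O →ₐ[k] K' := { Q.O.subtype with commutes' := fun _ => rfl }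
        exact (Polynomial.aeval_algHom_apply ι Y p).symm
    have h0 : Q.1 (Polynomial.aeval x q) ≤ exp (-(1 : ℤ)) := by
      have h1 : Q.1 ((Polynomial.aeval X q : Q.O) : K') < 1 := (val_lt_one_iff_residue Q _).2 (by
        show ρ (Polynomial.aeval X q) = 0
        rw [← Polynomial.aeval_algHom_apply, hq, minpoly.aeval])
      rw [hcoe] at h1
      rcases eq_or_ne (Polynomial.aeval x q) 0 with h | h
      · simp [h]
      · rw [val_eq_exp Q h] at h1 ⊢
        rw [← exp_zero, exp_lt_exp] at h1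
        rw [exp_le_exp]; omega
    have hd : Q.1 (Polynomial.aeval x (Polynomial.derivative q)) = 1 := by
      refine le_antisymm (by rw [← hcoe _ X]; exact (Polynomial.aeval X (Polynomial.derivative q)).2) (not_lt.1 fun hlt => ?_)
      rw [← hcoe _ X, val_lt_one_iff_residue] at hlt
      have h2 := (Algebra.IsSeparable.isSeparable k (ρ X)).aeval_derivative_ne_zero (minpoly.aeval k (ρ X))
      rw [Polynomial.aeval_algHom_apply] at h2
      exact h2 hlt
    have hδ : Q.1 (σ x - x) ≤ exp (-(m : ℤ)) := hG x hx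
    let Y : Q.O := ⟨σ x - x, hδ.trans (by rw [← exp_zero, exp_le_exp]; omega)⟩
    obtain ⟨r, hr⟩ := Polynomial.binomExpansion (q.map (algebraMap k Q.O)) X Y
    simp only [Polynomial.derivative_map, ← Polynomial.aeval_def, Polynomial.eval_map] at hr
    have hr' := congrArg (fun z : Q.O => (z : K')) hr
    simp only [MulMemClass.coe_mul, AddMemClass.coe_add, SubmonoidClass.coe_pow, hcoe] at hr'
    simp only [X, Y, add_sub_cancel] at hr'
    have hσq : Polynomial.aeval (σ x) q = σ (Polynomial.aeval x q) :=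
      Polynomial.aeval_algHom_apply (AlgHom.restrictScalars k (σ : K' →ₐ[K] K')) x q
    obtain ⟨w, hw, hwq⟩ := exists_eq_param_mul (m := 0) ht (x := Polynomial.aeval x q) (by simpa using h0)
    have hlhs : Q.1 (σ (Polynomial.aeval x q) - Polynomial.aeval x q) ≤ exp (-((m : ℤ) + 1)) := by
      rw [hwq, map_mul, show σ t * σ w - t * w = (σ t - t) * σ w + t * (σ w - w) by ring]
      refine Q.1.map_add_le ?_ ?_ <;> rw [map_mul]
      · refine (mul_le_of_le_one_right' (hG.int (by simpa using hw))).trans (hj.trans (exp_le_exp.2 (by omega)))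
      · refine (mul_le_mul' ht.le (hG w (by simpa using hw))).trans ?_
        rw [← exp_add, exp_le_exp]; omega
    have hkey : Q.1 (Polynomial.aeval x (Polynomial.derivative q) * (σ x - x)) ≤ exp (-((m : ℤ) + 1)) := by
      rw [show Polynomial.aeval x (Polynomial.derivative q) * (σ x - x) =
        (σ (Polynomial.aeval x q) - Polynomial.aeval x q) - (r : K') * (σ x - x) ^ 2 by
          rw [← hσq, hr']; ring]
      refine Q.1.map_sub_le hlhs ?_
      rw [map_mul, map_pow]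
      refine (mul_le_of_le_one_left' r.2).trans ((pow_le_pow_left₀ zero_le hδ 2).trans ?_)
      rw [← exp_nsmul, exp_le_exp]; simp; omega
    rw [map_mul, hd, one_mul] at hkey
    exact_mod_cast hkey

omit [IsScalarTower k K K'] [Algebra.IsSeparable k (IsLocalRing.ResidueField Q.O)] in
theorem inG_add (hi : 2 ≤ i) (ht : Q.1 t = exp (-1)) (hσ : InG Q i σ) (hτ : InG Q i τ) {x : K'} (hx : Q.1 x ≤ 1) :
    Q.1 ((σ * τ) x - x - ((σ x - x) + (τ x - x))) ≤ exp (-((i : ℤ) + 1)) := by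
  rw [AlgEquiv.mul_apply, show σ (τ x) - x - ((σ x - x) + (τ x - x)) = σ (τ x - x) - (τ x - x) by
    rw [map_sub]; ring]
  exact (hσ.sub_le (by omega) ht i (hτ x hx)).trans (exp_le_exp.2 (by omega))

omit [IsScalarTower k K K'] [Algebra.IsSeparable k (IsLocalRing.ResidueField Q.O)] in
theorem inG_commutator [Finite (K' ≃ₐ[K] K')] (hi : 2 ≤ i) (ht : Q.1 t = exp (-1)) (hσ : InG Q i σ) (hτ : InG Q i τ) :
    InG Q (i + 1) (σ * τ * σ⁻¹ * τ⁻¹) := fun x hx => by
  set x' := σ⁻¹ (τ⁻¹ x)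
  have hx' : Q.1 x' ≤ 1 := hσ.inv.int (hτ.inv.int hx)
  have hx2 : (τ * σ) x' = x := by
    show τ (σ (σ.symm (τ.symm x))) = x
    rw [AlgEquiv.apply_symm_apply, AlgEquiv.apply_symm_apply]
  have h1 := inG_add hi ht hσ hτ hx'
  have h2 := inG_add hi ht hτ hσ hx'
  have h := Q.1.map_sub_le h1 h2
  rw [hx2] at h
  rw [show (σ * τ) x' - x' - (σ x' - x' + (τ x' - x')) - (x - x' - (τ x' - x' + (σ x' - x'))) =
    (σ * τ) x' - x by ring] at h
  exact_mod_cast h

omit [IsScalarTower k K K'] [Algebra.IsSeparable k (IsLocalRing.ResidueField Q.O)] in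
theorem inG_pow_sub (hi : 2 ≤ i) (ht : Q.1 t = exp (-1)) (hσ : InG Q i σ) (n : ℕ) {x : K'} (hx : Q.1 x ≤ 1) :
    Q.1 ((σ ^ n) x - x - (n : K') * (σ x - x)) ≤ exp (-((i : ℤ) + 1)) := by
  induction n with
  | zero => simp
  | succ n ih =>
    have h := Q.1.map_add_le (inG_add hi ht (hσ.pow n) hσ hx) ih
    rw [pow_succ]
    convert h using 2
    push_cast; ring

/-- `G₁/G₂` is cyclic. -/
theorem exists_generator_G1 [Finite (K' ≃ₐ[K] K')] :
    ∃ σ₀ : K' ≃ₐ[K] K', InG Q 1 σ₀ ∧ ∀ σ, InG Q 1 σ → ∃ n : ℕ, InG Q 2 ((σ₀ ^ n)⁻¹ * σ) := by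
  obtain ⟨t, ht⟩ := exists_val_eq Q (-1)
  let G : Subgroup (K' ≃ₐ[K] K') :=
    { carrier := {σ | InG Q 1 σ}, mul_mem' := InG.mul, one_mem' := inG_one, inv_mem' := InG.inv }
  have hv : ∀ σ : G, Q.1 ((σ : K' ≃ₐ[K] K') t / t) = 1 := fun σ => by
    rw [map_div₀, (σ.2 : InG Q 1 _).param_eq le_rfl ht, ht, div_self exp_ne_zero]
  let u : G → Q.O := fun σ => ⟨(σ : K' ≃ₐ[K] K') t / t, (hv σ).le⟩
  let χ : G →* IsLocalRing.ResidueField Q.O :=
    { toFun := fun σ => IsLocalRing.residue Q.O (u σ)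
      map_one' := by
        rw [show u 1 = 1 from Subtype.ext (by
          show (1 : K' ≃ₐ[K] K') t / t = 1
          simp [ne_zero_of_val Q ht]), map_one]
      map_mul' := fun σ τ => by
        rw [← map_mul, ← sub_eq_zero, ← map_sub, ← val_lt_one_iff_residue]
        show Q.1 ((σ : K' ≃ₐ[K] K') ((τ : K' ≃ₐ[K] K') t) / t - (σ : K' ≃ₐ[K] K') t / t * ((τ : K' ≃ₐ[K] K') t / t)) < 1
        set v := (τ : K' ≃ₐ[K] K') t / t
        have hτt : (τ : K' ≃ₐ[K] K') t = v * t := (div_mul_cancel₀ _ (ne_zero_of_val Q ht)).symm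
        rw [hτt, map_mul, mul_div_assoc, mul_comm ((σ : K' ≃ₐ[K] K') t / t) v, ← sub_mul, map_mul, hv σ, mul_one]
        exact ((σ.2 : InG Q 1 _) v (hv τ).le).trans_lt (by rw [← exp_zero, exp_lt_exp]; omega) }
  have : Finite χ.toHomUnits.range := Finite.of_surjective _ χ.toHomUnits.rangeRestrict_surjective
  obtain ⟨⟨g, ⟨σ₀, rfl⟩⟩, hg⟩ := IsCyclic.exists_monoid_generator (α := χ.toHomUnits.range)
  refine ⟨σ₀, σ₀.2, fun σ hσ => ?_⟩
  obtain ⟨n, hn⟩ := (Submonoid.mem_powers_iff _ _).1 (hg ⟨χ.toHomUnits ⟨σ, hσ⟩, ⟨_, rfl⟩⟩)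
  refine ⟨n, ?_⟩
  set τ : G := (σ₀ ^ n)⁻¹ * ⟨σ, hσ⟩ with hτ
  have hτ1 : χ.toHomUnits τ = 1 := by
    have h := congrArg Subtype.val hn
    rw [SubmonoidClass.coe_pow] at h
    rw [hτ, map_mul, map_inv, map_pow, h, inv_mul_cancel]
  have hr : IsLocalRing.residue Q.O (u τ) = 1 := congrArg Units.val hτ1
  refine inG_of_param (τ.2 : InG Q 1 _) ht ?_ 2 le_rfl
  rw [← map_one (IsLocalRing.residue Q.O), ← sub_eq_zero, ← map_sub, ← val_lt_one_iff_residue] at hr
  have h3 : (τ : K' ≃ₐ[K] K') t - t = ((τ : K' ≃ₐ[K] K') t / t - 1) * t := by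
    rw [sub_mul, div_mul_cancel₀ _ (ne_zero_of_val Q ht), one_mul]
  show Q.1 ((τ : K' ≃ₐ[K] K') t - t) ≤ _
  rw [h3, map_mul, ht]
  change Q.1 ((τ : K' ≃ₐ[K] K') t / t - 1) < 1 at hr
  rcases eq_or_ne ((τ : K' ≃ₐ[K] K') t / t - 1) 0 with h | h
  · simp [h]
  rw [val_eq_exp Q h, ← exp_zero, exp_lt_exp] at hr
  rw [val_eq_exp Q h, ← exp_add, exp_le_exp]
  omega

end Groth.Agent.FunFldLib
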