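import Groth.Agent.FunFld.ResSep
import Groth.Agent.FunFld.InertiaField
import Groth.Agent.FunFld.RamGroups

/-!
The different exponent of a Galois extension through the ramification groups.
-/

namespace Groth.Agent.FunFldLib

open FunFld WithZero LaurentSeries Polynomial

set_option linter.unusedSectionVars false

theorem D_eval_eq {k K' F' : Type*} [Field k] [Field K'] [Algebra k K'] [Field F'] [Algebra k F']
    (ψ : K' →ₐ[k] F'⸨X⸩) (p : Polynomial K') (s : K') :
    LocRes.D F' (ψ (p.eval s)) = ψ (p.derivative.eval s) * LocRes.D F' (ψ s) +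
      p.sum fun i a => LocRes.D F' (ψ a) * ψ s ^ i := by
  induction p using Polynomial.induction_on' with
  | add p q hp hq =>
    rw [Polynomial.sum_add_index p q _ (fun i => by simp) (fun i a b => by rw [map_add, map_add, add_mul]),
      eval_add, map_add, map_add, derivative_add, eval_add, map_add, hp, hq]
    ring
  | monomial n a =>
    rw [Polynomial.sum_monomial_index a _ (by simp), eval_monomial, derivative_monomial, eval_monomial]
    simp only [map_mul, map_pow, map_natCast, Derivation.leibniz, Derivation.leibniz_pow, smul_eq_mul, nsmul_eq_mul]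
    ring

variable {k K K' : Type*} [Field k] [Field K] [Field K'] [Algebra k K] [Algebra K K'] [Algebra k K']
  [IsScalarTower k K K'] [FiniteDimensional K K'] [IsGalois K K']
variable {F F' : Type*} [Field F] [Algebra k F] [Field F'] [Algebra k F']
variable {P : Place k K} {Q : Place k K'} {e : ℕ}
variable {φ : K →ₐ[k] F⸨X⸩} {ψ : K' →ₐ[k] F'⸨X⸩} {x : K}

theorem inG_one_iff (Q : Place k K') (σ : K' ≃ₐ[K] K') :
    InG Q 1 σ ↔ σ ∈ ((Q.O).inertiaSubgroup K).map ((Q.O).decompositionSubgroup K).subtype := by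
  rw [mem_inertia_map]
  refine forall_congr' fun y => forall_congr' fun _ => ?_
  rcases eq_or_ne (σ y - y) 0 with h | h
  · simp [h]
  rw [val_eq_exp Q h, exp_le_exp, ← exp_zero, exp_lt_exp]
  omega

theorem diffExp_galois (hK : IsFunctionField k K) (hg : IsGeometric k K) (he : IsOverWith Q P e)
    (hφ : LocRes.IsExpansionAt P.1 φ) (hψ : LocRes.IsExpansionAt Q.1 ψ)
    (hx : LocRes.vDiff φ 1 x ≠ 0) (hx' : LocRes.vDiff ψ 1 (algebraMap K K' x) ≠ 0) :
    (Function.support fun i : ℕ => (Nat.card {σ : K' ≃ₐ[K] K' // InG Q i σ} : ℤ) - 1).Finite ∧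
      LocRes.diffExp φ ψ e x =
        ∑ᶠ i : ℕ, if 1 ≤ i then (Nat.card {σ : K' ≃ₐ[K] K' // InG Q i σ} : ℤ) - 1 else 0 := by
  classical
  have : Algebra.IsSeparable k (IsLocalRing.ResidueField Q.O) := isSeparable_of_expansion hK hg hψ (x := x) (by
    rw [LocRes.vDiff, map_one, one_mul] at hx'
    exact (Valuation.ne_zero_iff Valued.v).1 hx')
  obtain ⟨r, -⟩ := exists_residue_equiv hψ
  have : Algebra.IsSeparable k F' := Algebra.IsSeparable.of_algHom k (IsLocalRing.ResidueField Q.O) r.symm.toAlgHom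
  obtain ⟨t, ht⟩ := exists_val_eq P (-1)
  obtain ⟨hne, hd⟩ := diffExp_eq_ord_param hK hg he hφ hψ hx hx' ht
  set vT := Valued.v (LocRes.D F' (ψ (algebraMap K K' t))) with hvT
  have hvT0 : vT ≠ 0 := (Valuation.ne_zero_iff Valued.v).2 hne
  obtain ⟨s, hs⟩ := hψ.2.2
  have hs0 := ne_zero_of_val Q hs
  have he1 := isOverWith_pos he
  -- the inertia field
  set I := ((Q.O).inertiaSubgroup K).map ((Q.O).decompositionSubgroup K).subtype with hI
  set E : IntermediateField K K' := IntermediateField.fixedField I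
  have : IsScalarTower k E K' := IsScalarTower.of_algebraMap_eq fun c => rfl
  obtain ⟨PE, e', he'⟩ := exists_below (K := E) Q
  have hIe : Nat.card I = e := card_inertia_map (K := K) hK.1 he
  have hee : e' = e := by
    have h := card_inertia_intermediate hK E he'
    rw [IntermediateField.fixingSubgroup_fixedField, inf_idem, hIe] at h
    exact h.symm
  subst hee
  have hEstep : ∀ u ∈ E, Q.1 u < 1 → Q.1 u ≤ exp (-(e' : ℤ)) := fun u hu hlt => by
    have h : Q.1 u = PE.1 ⟨u, hu⟩ ^ e' := he' ⟨u, hu⟩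
    rw [h] at hlt ⊢
    rw [pow_lt_one_iff_of_nonneg zero_le he1.ne'] at hlt
    rcases eq_or_ne (⟨u, hu⟩ : E) 0 with h0 | h0
    · rw [h0, map_zero, zero_pow he1.ne']; exact zero_le
    rw [val_eq_exp PE h0, ← exp_zero, exp_lt_exp] at hlt
    rw [val_eq_exp PE h0, ← exp_nsmul, exp_le_exp, nsmul_eq_mul]
    have : (e' : ℤ) * (PE.ord (⟨u, hu⟩ : E) - 1) ≥ 0 := mul_nonneg (Int.natCast_nonneg _) (by omega)
    linarith
  have hsepc : ∀ c : F', IsSeparable k c := fun c => Algebra.IsSeparable.isSeparable k c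
  have htE : algebraMap K K' t ∈ E := E.algebraMap_mem t
  have htv : Q.1 (algebraMap K K' t) = exp (-(e' : ℤ)) := by rw [he, ht, ← exp_nsmul]; simp
  -- integral elements of `E` vary no faster than `t`
  have hder : ∀ n : ℕ, ∀ u ∈ E, Q.1 u ≤ 1 →
      Valued.v (LocRes.D F' (ψ u)) ≤ max vT (exp (-((e' : ℤ) * n))) := by
    intro n
    induction n with
    | zero =>
      intro u _ hu
      refine le_max_of_le_right ?_
      rw [Nat.cast_zero, mul_zero, neg_zero, exp_zero]
      exact val_D_le_one ((hψ.1 u).trans_le hu)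
    | succ n ih =>
      intro u huE hu
      obtain ⟨w, hwE, hw, hwc⟩ := exists_approx_const hψ E.toSubfield
        (fun c => by
          show algebraMap k K' c ∈ E
          rw [IsScalarTower.algebraMap_apply k K K']; exact E.algebraMap_mem _)
        hu huE (hsepc _) (e' * (n + 1))
      set c := (ψ u).coeff 0
      have hDw : Valued.v (LocRes.D F' (ψ w)) ≤ exp (-((e' : ℤ) * (n + 1 : ℕ))) := by
        rw [show ψ w = (ψ w - HahnSeries.C c) + HahnSeries.C c by ring, map_add, LocRes.D_apply F' (HahnSeries.C c),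
          LocRes.derivative_C, add_zero]
        refine (val_D_le_of_le (N := ((e' * (n + 1) : ℕ) : ℤ) + 1) (hwc.trans_eq (by congr 1; ring))).trans_eq ?_
        push_cast; congr 1; ring
      have hlt : Q.1 (u - w) < 1 := by
        rw [← hψ.1, map_sub, show ψ u - ψ w = (ψ u - HahnSeries.C c) - (ψ w - HahnSeries.C c) by ring]
        refine lt_of_le_of_lt ((Valued.v.map_sub _ _).trans (max_le (val_le_one_coeff ((hψ.1 u).trans_le hu))
          (hwc.trans ?_))) (show exp (-1 : ℤ) < 1 by rw [← exp_zero, exp_lt_exp]; norm_num)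
        rw [exp_le_exp]; omega
      set u1 := (u - w) / algebraMap K K' t
      have hu1 : Q.1 u1 ≤ 1 := by
        rw [map_div₀, htv, div_le_iff₀ exp_pos, one_mul]
        exact hEstep _ (sub_mem huE hwE) hlt
      have hdec : u = w + algebraMap K K' t * u1 := by
        rw [mul_div_cancel₀ _ (ne_zero_of_val Q htv)]; ring
      rw [hdec, map_add, map_add, map_mul, Derivation.leibniz, smul_eq_mul, smul_eq_mul]
      refine (Valued.v.map_add _ _).trans (max_le (le_max_of_le_right hDw) ?_)
      refine (Valued.v.map_add _ _).trans (max_le ?_ ?_)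
      · rw [map_mul, hψ.1, htv]
        refine (mul_le_mul' le_rfl (ih u1 (div_mem (sub_mem huE hwE) htE) hu1)).trans ?_
        rw [mul_max]
        refine max_le_max (mul_le_of_le_one_left' (by rw [← exp_zero, exp_le_exp]; omega)) ?_
        rw [← exp_add, exp_le_exp]; push_cast; linarith
      · refine le_max_of_le_left ?_
        rw [map_mul]
        exact mul_le_of_le_one_left' ((hψ.1 _).trans_le hu1)
  have hder' : ∀ u ∈ E, Q.1 u ≤ 1 → Valued.v (LocRes.D F' (ψ u)) ≤ vT := fun u hu hu1 => by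
    refine (hder (-log vT).toNat u hu hu1).trans (max_le le_rfl ?_)
    rw [← exp_log hvT0, exp_le_exp, log_exp]
    have h1 : ((-log vT).toNat : ℤ) ≤ (e' : ℤ) * (-log vT).toNat :=
      le_mul_of_one_le_left (Int.natCast_nonneg _) (by omega)
    omega
  -- the polynomial of the inertia group
  set Gs := Finset.univ.filter fun σ : K' ≃ₐ[K] K' => InG Q 1 σ with hGs
  have hmem : ∀ σ, σ ∈ Gs ↔ σ ∈ I := fun σ => by rw [hGs, Finset.mem_filter, inG_one_iff]; simp [hI]
  have hcard : Gs.card = e' := by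
    rw [← hIe, Nat.card_eq_fintype_card, ← Fintype.card_coe]
    exact Fintype.card_congr (Equiv.subtypeEquivRight hmem)
  have hσs : ∀ σ ∈ Gs, Q.1 (σ s) = exp (-1) := fun σ hσ =>
    (InG.param_eq (Finset.mem_filter.1 hσ).2 le_rfl hs)
  set g : K'[X] := ∏ σ ∈ Gs, (X - C (σ s))
  have h1mem : (1 : K' ≃ₐ[K] K') ∈ Gs := (hmem 1).2 (one_mem I)
  have hgE : ∀ i, g.coeff i ∈ E := fun i => by
    rintro ⟨τ, hτ⟩
    show τ (g.coeff i) = g.coeff i
    refine (coeff_map (τ : K' →+* K') i).symm.trans ?_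
    congr 1
    rw [Polynomial.map_prod]
    refine Finset.prod_equiv (Equiv.mulLeft τ) (fun σ => ?_) fun σ _ => by simp [AlgEquiv.mul_apply]
    rw [hmem, hmem]
    exact (Subgroup.mul_mem_cancel_left I hτ).symm
  have hgint : ∀ i, Q.1 (g.coeff i) ≤ 1 := fun i => by
    let g0 : Q.O[X] := ∏ σ ∈ Gs.attach,
      (X - C ⟨σ.1 s, show Q.1 (σ.1 s) ≤ 1 by rw [hσs σ.1 σ.2, ← exp_zero, exp_le_exp]; norm_num⟩)
    have h : g0.map Q.O.subtype = g := by
      simp only [g0, g, Polynomial.map_prod, Polynomial.map_sub, map_X, map_C]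
      exact Finset.prod_attach Gs fun σ => (X - C (σ s))
    rw [← h, coeff_map]; exact (g0.coeff i).2
  have hg0v : Q.1 (g.coeff 0) = exp (-(e' : ℤ)) := by
    rw [coeff_zero_eq_eval_zero, eval_prod, map_prod, Finset.prod_congr rfl (g := fun _ => exp (-1)) fun σ hσ => by
      rw [eval_sub, eval_X, eval_C, zero_sub, Valuation.map_neg, hσs σ hσ], Finset.prod_const, hcard, ← exp_nsmul]
    simp
  have hD0 : Valued.v (LocRes.D F' (ψ (g.coeff 0))) = vT := by
    set w := g.coeff 0 / algebraMap K K' t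
    have hwv : Q.1 w = 1 := by rw [map_div₀, hg0v, htv, div_self exp_ne_zero]
    rw [show g.coeff 0 = algebraMap K K' t * w from (mul_div_cancel₀ _ (ne_zero_of_val Q htv)).symm, map_mul,
      Derivation.leibniz, smul_eq_mul, smul_eq_mul, Valuation.map_add_eq_of_lt_right]
    · rw [map_mul, hψ.1, hwv, one_mul]
    · rw [map_mul, map_mul, hψ.1, hψ.1, hwv, htv, one_mul]
      refine lt_of_le_of_lt (mul_le_mul' le_rfl (hder' w (div_mem (hgE 0) htE) hwv.le)) ?_
      exact mul_lt_of_lt_one_left (zero_lt_iff.2 hvT0) (by rw [← exp_zero, exp_lt_exp]; omega)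
  have hgs : g.eval s = 0 := by
    rw [eval_prod]; exact Finset.prod_eq_zero h1mem (by simp)
  have hsum : Valued.v (g.sum fun i a => LocRes.D F' (ψ a) * ψ s ^ i) = vT := by
    rw [Polynomial.sum_def, Valued.v.map_sum_eq_of_lt (j := 0)]
    · rw [pow_zero, mul_one, hD0]
    · exact mem_support_iff.2 (ne_zero_of_val Q hg0v)
    · intro i hi
      simp only [Finset.mem_sdiff, Finset.mem_singleton] at hi
      rw [map_mul, map_mul, map_pow, map_pow, hψ.1, hs, hD0, pow_zero, mul_one]
      refine lt_of_le_of_lt (mul_le_mul' (hder' _ (hgE i) (hgint i)) le_rfl) ?_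
      exact mul_lt_of_lt_one_right (zero_lt_iff.2 hvT0)
        (pow_lt_one₀ zero_le (by rw [← exp_zero, exp_lt_exp]; norm_num) hi.2)
  have hkey : Q.1 (g.derivative.eval s) = vT := by
    have h := D_eval_eq ψ g s
    rw [hgs, map_zero, map_zero] at h
    have h2 := congrArg Valued.v (eq_neg_of_add_eq_zero_left h.symm)
    rwa [Valuation.map_neg, hsum, map_mul, hψ.1, val_D_of_val_eq ((hψ.1 s).trans hs), mul_one] at h2
  have hgd : g.derivative.eval s = ∏ σ ∈ Gs.erase 1, (s - σ s) := by
    rw [Polynomial.derivative_prod_finset, eval_finsetSum, Finset.sum_eq_single_of_mem 1 h1mem]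
    · simp [eval_prod]
    · intro τ hτ hne
      rw [eval_mul, eval_prod, Finset.prod_eq_zero (Finset.mem_erase.2 ⟨hne.symm, h1mem⟩) (by simp), zero_mul]
  have hne' : ∀ σ ∈ Gs.erase 1, σ s - s ≠ 0 := fun σ hσ h0 => hvT0 (by
    rw [← hkey, hgd, map_prod]
    exact Finset.prod_eq_zero hσ (by rw [← neg_sub, h0, neg_zero, map_zero]))
  set j : (K' ≃ₐ[K] K') → ℕ := fun σ => (Q.ord (σ s - s)).toNat with hj
  have hjv : ∀ σ ∈ Gs.erase 1, Q.1 (σ s - s) = exp (-(j σ : ℤ)) ∧ 1 ≤ j σ := fun σ hσ => by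
    have h := (Finset.mem_filter.1 (Finset.mem_of_mem_erase hσ)).2 s (by rw [hs, ← exp_zero, exp_le_exp]; norm_num)
    rw [val_eq_exp Q (hne' σ hσ), exp_le_exp] at h
    refine ⟨?_, by simp only [hj]; omega⟩
    rw [val_eq_exp Q (hne' σ hσ), exp_inj]; simp only [hj]; omega
  have hdj : LocRes.diffExp φ ψ e' x = ∑ σ ∈ Gs.erase 1, (j σ : ℤ) := by
    rw [hd, ← hkey, hgd, map_prod, Finset.prod_congr rfl (g := fun σ => exp (-(j σ : ℤ))) fun σ hσ => by
      rw [Valuation.map_sub_swap, (hjv σ hσ).1], show ∀ S : Finset (K' ≃ₐ[K] K'),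
        ∏ σ ∈ S, exp (-(j σ : ℤ)) = exp (∑ σ ∈ S, -(j σ : ℤ)) from fun S => by
          induction S using Finset.induction_on with
          | empty => simp
          | insert a S ha ih => rw [Finset.prod_insert ha, Finset.sum_insert ha, ih, exp_add],
      log_exp, Finset.sum_neg_distrib, neg_neg]
  have hG : ∀ i, 1 ≤ i → (Nat.card {σ : K' ≃ₐ[K] K' // InG Q i σ} : ℤ) - 1 =
      ((Gs.erase 1).filter fun σ => i ≤ j σ).card := fun i hi => by
    have hset : ∀ σ, InG Q i σ ↔ σ ∈ insert 1 ((Gs.erase 1).filter fun σ => i ≤ j σ) := fun σ => by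
      rw [Finset.mem_insert, Finset.mem_filter]
      refine ⟨fun h => ?_, ?_⟩
      · rcases eq_or_ne σ 1 with h1 | h1
        · exact Or.inl h1
        have hm : σ ∈ Gs.erase 1 := Finset.mem_erase.2 ⟨h1, Finset.mem_filter.2 ⟨Finset.mem_univ _, h.mono hi⟩⟩
        have h2 := h s (by rw [hs, ← exp_zero, exp_le_exp]; norm_num)
        rw [(hjv σ hm).1, exp_le_exp] at h2
        exact Or.inr ⟨hm, by omega⟩
      · rintro (rfl | ⟨hm, hij⟩)
        · exact inG_one
        · exact inG_of_param (Finset.mem_filter.1 (Finset.mem_of_mem_erase hm)).2 hs (hjv σ hm).1.le i hij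
    rw [Nat.card_congr (Equiv.subtypeEquivRight hset), Nat.card_eq_fintype_card, Fintype.card_coe,
      Finset.card_insert_of_notMem (by simp)]
    push_cast; ring
  set M := ∑ σ ∈ Gs.erase 1, j σ
  have hzero : ∀ i, M < i → (Nat.card {σ : K' ≃ₐ[K] K' // InG Q i σ} : ℤ) - 1 = 0 := fun i hi => by
    rw [hG i (by omega), Finset.card_eq_zero.2 (Finset.filter_eq_empty_iff.2 fun σ hσ h => by
      have := Finset.single_le_sum (f := j) (fun _ _ => Nat.zero_le _) hσ
      omega), Nat.cast_zero]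
  refine ⟨(Finset.range (M + 1)).finite_toSet.subset fun i hi => ?_, ?_⟩
  · rw [Finset.coe_range, Set.mem_Iio]
    by_contra h
    exact hi (hzero i (by omega))
  rw [finsum_eq_finsetSum_of_support_subset _ (s := Finset.Icc 1 M) fun i hi => by
    rw [Function.mem_support] at hi
    rw [Finset.coe_Icc, Set.mem_Icc]
    by_contra h
    by_cases h1 : 1 ≤ i
    · rw [if_pos h1] at hi; exact hi (hzero i (by omega))
    · rw [if_neg h1] at hi; exact hi rfl]
  rw [hdj, Finset.sum_congr rfl (g := fun i => (((Gs.erase 1).filter fun σ => i ≤ j σ).card : ℤ)) fun i hi => by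
    rw [if_pos (Finset.mem_Icc.1 hi).1, hG i (Finset.mem_Icc.1 hi).1]]
  rw [Finset.sum_congr rfl (g := fun i => ∑ σ ∈ Gs.erase 1, if i ≤ j σ then (1 : ℤ) else 0) fun i _ => by
    rw [Finset.sum_boole], Finset.sum_comm]
  refine Finset.sum_congr rfl fun σ hσ => ?_
  have hle : j σ ≤ M := Finset.single_le_sum (f := j) (fun _ _ => Nat.zero_le _) hσ
  rw [Finset.sum_boole, show (Finset.Icc 1 M).filter (fun i => i ≤ j σ) = Finset.Icc 1 (j σ) by
    ext i; simp only [Finset.mem_filter, Finset.mem_Icc]; omega, Nat.card_Icc]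
  simp

end Groth.Agent.FunFldLib
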