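import Groth.Agent.FunFld.Pencils

/-!
Genus one: the pole-order basis of `L(n P)`, and places as divisor classes of degree zero.
-/

namespace Groth.Agent.FunFldLib

open FunFld WithZero

variable {k K : Type*} [Field k] [Field K] [Algebra k K]

theorem linearIndependent_of_ord_injective {ι : Type*} [Fintype ι] (P : Place k K) (v : ι → K)
    (hv : ∀ i, v i ≠ 0) (hinj : Function.Injective fun i => P.ord (v i)) : LinearIndependent k v := by
  classical
  rw [Fintype.linearIndependent_iff]
  intro g hg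
  by_contra hne
  push Not at hne
  obtain ⟨s₁, hs₁⟩ := hne
  obtain ⟨s₀, hs₀, hmin⟩ := Finset.exists_min_image (Finset.univ.filter fun s => g s ≠ 0)
    (fun s => P.ord (v s)) ⟨s₁, by simpa using hs₁⟩
  simp only [Finset.mem_filter, Finset.mem_univ, true_and] at hs₀ hmin
  have hsum : ∑ s ∈ Finset.univ.filter (fun s => g s ≠ 0), g s • v s = 0 := by
    rw [Finset.sum_filter_of_ne (p := fun s => g s ≠ 0) (fun s _ h h0 => h (by rw [h0, zero_smul]))]
    exact hg
  have h := P.1.map_sum_eq_of_lt (f := fun s => g s • v s)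
    (s := Finset.univ.filter fun s => g s ≠ 0) (j := s₀) (by simp [hs₀]) fun s hs => by
      simp only [Finset.mem_sdiff, Finset.mem_filter, Finset.mem_univ, true_and,
        Finset.mem_singleton] at hs
      rw [Algebra.smul_def, Algebra.smul_def, map_mul, map_mul, val_algebraMap P hs.1,
        val_algebraMap P hs₀, one_mul, one_mul, val_eq_exp P (hv s), val_eq_exp P (hv s₀), exp_lt_exp]
      have h1 := hmin s hs.1
      have h2 : P.ord (v s) ≠ P.ord (v s₀) := fun h' => hs.2 (hinj h')
      omega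
  rw [hsum, map_zero, eq_comm, Algebra.smul_def, map_mul, val_algebraMap P hs₀, one_mul] at h
  exact val_ne_zero P (hv s₀) h

theorem ell_genus_one (hK : IsFunctionField k K) (hg : genus k K = 1) {P : Place k K} (hP : P.deg = 1)
    {n : ℕ} (hn : 1 ≤ n) : Module.finrank k ↥(L (Finsupp.single P (n : ℤ))) = n := by
  have h := ell_eq_of_deg_ge hK (D := Finsupp.single P (n : ℤ))
    (by rw [deg_single, hP, hg]; push_cast; omega)
  rw [deg_single, hP, hg, ell] at h
  omega

theorem pow_mul_mem_L_single {P : Place k K} {x y : K} (hx0 : x ≠ 0) (hy0 : y ≠ 0) {a b : ℤ}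
    (hx : x ∈ L (Finsupp.single P a)) (hy : y ∈ L (Finsupp.single P b)) (i : ℕ) {n : ℤ}
    (hn : -n ≤ i * P.ord x + P.ord y) : x ^ i * y ∈ L (Finsupp.single P n) := by
  refine (mem_L_iff (mul_ne_zero (pow_ne_zero _ hx0) hy0)).2 fun Q => ?_
  rw [ord_mul Q (pow_ne_zero _ hx0) hy0, ord_pow]
  rcases eq_or_ne Q P with rfl | hQ
  · rw [Finsupp.single_eq_same]; exact hn
  · have h1 := (mem_L_iff hx0).1 hx Q
    have h2 := (mem_L_iff hy0).1 hy Q
    rw [Finsupp.single_eq_of_ne hQ] at h1 h2 ⊢
    have : 0 ≤ (i : ℤ) * Q.ord x := mul_nonneg (Int.natCast_nonneg i) (by omega)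
    omega

/-- The basis `f^i, f^i g` of `L(n P)` on a curve of genus one. -/
theorem basis_L_genus_one (hK : IsFunctionField k K) (hgen : genus k K = 1) {P : Place k K}
    (hP : P.deg = 1) {f g : K} (hf : f ∈ L (Finsupp.single P 2)) (hf2 : P.ord f = -2)
    (hg : g ∈ L (Finsupp.single P 3)) (hg3 : P.ord g = -3) (n : ℕ) (hn : 2 ≤ n) :
    LinearIndependent k
        (Sum.elim (fun i : Fin (n / 2 + 1) => f ^ (i : ℕ)) (fun i : Fin ((n - 1) / 2) => f ^ (i : ℕ) * g)) ∧
      Submodule.span k (Set.range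
        (Sum.elim (fun i : Fin (n / 2 + 1) => f ^ (i : ℕ)) (fun i : Fin ((n - 1) / 2) => f ^ (i : ℕ) * g))) =
        L (Finsupp.single P (n : ℤ)) := by
  have hf0 : f ≠ 0 := fun h => by simp [h, Place.ord] at hf2
  have hg0 : g ≠ 0 := fun h => by simp [h, Place.ord] at hg3
  set v := Sum.elim (fun i : Fin (n / 2 + 1) => f ^ (i : ℕ)) (fun i : Fin ((n - 1) / 2) => f ^ (i : ℕ) * g) with hv
  have hv0 : ∀ s, v s ≠ 0 := by
    rintro (i | i)
    · exact pow_ne_zero _ hf0
    · exact mul_ne_zero (pow_ne_zero _ hf0) hg0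
  have hord : ∀ s, P.ord (v s) = Sum.elim (fun i : Fin (n / 2 + 1) => -(2 * (i : ℤ)))
      (fun i : Fin ((n - 1) / 2) => -(2 * (i : ℤ) + 3)) s := by
    rintro (i | i)
    · simp only [hv, Sum.elim_inl, ord_pow, hf2]; ring
    · simp only [hv, Sum.elim_inr, ord_mul P (pow_ne_zero _ hf0) hg0, ord_pow, hf2, hg3]; ring
  have hli : LinearIndependent k v := linearIndependent_of_ord_injective P v hv0 fun s s' h => by
    simp only [hord] at h
    rcases s with i | i <;> rcases s' with j | j <;> simp only [Sum.elim_inl, Sum.elim_inr] at h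
    · exact congrArg Sum.inl (Fin.ext (by omega))
    · exfalso; omega
    · exfalso; omega
    · exact congrArg Sum.inr (Fin.ext (by omega))
  refine ⟨hli, ?_⟩
  have := finiteDimensional_L hK (Finsupp.single P (n : ℤ))
  refine Submodule.eq_of_le_of_finrank_eq ?_ ?_
  · rw [Submodule.span_le]
    rintro _ ⟨i | i, rfl⟩
    · have hi : (i : ℕ) ≤ n / 2 := Nat.lt_succ_iff.1 i.2
      have h1 : (1 : K) ∈ L (Finsupp.single P (0 : ℤ) : Divisor k K) := by
        rw [Finsupp.single_zero, L_zero hK]; exact Submodule.one_le.1 le_rfl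
      have h2 : P.ord (1 : K) = 0 := by rw [ord_eq_of_val P (n := 0) (by simp)]; rfl
      simpa [hv] using pow_mul_mem_L_single hf0 one_ne_zero hf h1 (i : ℕ) (n := (n : ℤ))
        (by rw [hf2, h2]; omega)
    · have hi : (i : ℕ) < (n - 1) / 2 := i.2
      exact pow_mul_mem_L_single hf0 hg0 hf hg (i : ℕ) (n := (n : ℤ)) (by rw [hf2, hg3]; omega)
  · rw [finrank_span_eq_card hli, ell_genus_one hK hgen hP (by omega), Fintype.card_sum,
      Fintype.card_fin, Fintype.card_fin]
    omega

theorem exists_of_degree_one (hK : IsFunctionField k K) {E : Divisor k K} (hE : 0 ≤ E) (hd : E.deg = 1) :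
    ∃ P : Place k K, P.deg = 1 ∧ E = Finsupp.single P 1 := by
  classical
  obtain ⟨P, hP⟩ : ∃ P, E P ≠ 0 := by
    by_contra hall
    push Not at hall
    rw [show E = 0 from Finsupp.ext hall, deg_zero] at hd
    exact zero_ne_one hd
  have h1 : Finsupp.single P 1 ≤ E := fun R => by
    rcases eq_or_ne R P with rfl | hR
    · have h0 := hE R
      simp only [Finsupp.zero_apply, Finsupp.single_eq_same] at *
      omega
    · simpa [Finsupp.single_eq_of_ne hR] using hE R
  have h2 := deg_mono h1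
  rw [deg_single, hd, one_mul] at h2
  have h3 := deg_pos hK P
  refine ⟨P, by omega, (eq_of_le_of_deg_le hK h1 ?_).symm⟩
  rw [deg_single, hd, one_mul]; omega

end Groth.Agent.FunFldLib
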