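import Groth.Agent.FunFld.Canonical
import Groth.Agent.FunFld.GenusOne
import Mathlib.FieldTheory.IntermediateField.Adjoin.Algebra
import Mathlib.RingTheory.RootsOfUnity.AlgebraicallyClosed

/-!
Automorphisms of a Weierstrass curve fixing the origin.
-/

namespace Groth.Agent.FunFldLib.EllAut

open FunFld WithZero MvPolynomial

variable {k K : Type*} [Field k] [Field K] [Algebra k K] {P : Place k K} {a b : k} {x y : K}

theorem exists_normal_form (p : MvPolynomial (Fin 2) k) :
    ∃ A B : Polynomial k, ∀ x' y' : K, y' ^ 2 = x' ^ 3 + algebraMap k K a * x' + algebraMap k K b →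
      aeval ![x', y'] p = Polynomial.aeval x' A + Polynomial.aeval x' B * y' := by
  induction p using MvPolynomial.induction_on with
  | C c => exact ⟨Polynomial.C c, 0, fun x' y' _ => by simp⟩
  | add p q hp hq =>
    obtain ⟨A, B, h⟩ := hp
    obtain ⟨A', B', h'⟩ := hq
    exact ⟨A + A', B + B', fun x' y' e => by rw [map_add, h x' y' e, h' x' y' e, map_add, map_add]; ring⟩
  | mul_X p i hp =>
    obtain ⟨A, B, h⟩ := hp
    fin_cases i
    · exact ⟨A * Polynomial.X, B * Polynomial.X, fun x' y' e => by rw [map_mul, h x' y' e]; simp; ring⟩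
    · refine ⟨B * (Polynomial.X ^ 3 + Polynomial.C a * Polynomial.X + Polynomial.C b), A, fun x' y' e => ?_⟩
      rw [map_mul, h x' y' e]
      simp only [Fin.mk_one, aeval_X, map_mul, map_add, map_pow, Polynomial.aeval_X,
        Polynomial.aeval_C, Matrix.cons_val_one, Matrix.cons_val_fin_one, ← e]
      ring

theorem ord_aeval_of_neg (P : Place k K) {x : K} (hx : P.ord x < 0) {A : Polynomial k} (hA : A ≠ 0) :
    Polynomial.aeval x A ≠ 0 ∧ P.ord (Polynomial.aeval x A) = A.natDegree * P.ord x := by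
  have hx0 : x ≠ 0 := fun h => by simp [h] at hx
  have hterm : ∀ i, A.coeff i ≠ 0 → P.1 (A.coeff i • x ^ i) = exp (-((i : ℤ) * P.ord x)) := fun i hi => by
    rw [Algebra.smul_def, map_mul, val_algebraMap P hi, one_mul, map_pow, val_eq_exp P hx0, ← exp_nsmul]
    simp
  have hl : A.coeff A.natDegree ≠ 0 := Polynomial.leadingCoeff_ne_zero.2 hA
  have h := P.1.map_sum_eq_of_lt (f := fun i => A.coeff i • x ^ i) (s := Finset.range (A.natDegree + 1))
    (j := A.natDegree) (by simp) fun i hi => by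
      simp only [Finset.mem_sdiff, Finset.mem_range, Finset.mem_singleton] at hi
      rw [hterm _ hl]
      rcases eq_or_ne (A.coeff i) 0 with h0 | h0
      · simp [h0]
      rw [hterm i h0, exp_lt_exp]
      nlinarith [show (i : ℤ) + 1 ≤ A.natDegree by omega]
  rw [← Polynomial.aeval_eq_sum_range, hterm _ hl] at h
  exact ⟨ne_zero_of_val P h, (ord_eq_of_val P h).trans (neg_neg _)⟩

theorem aeval_eq_zero_iff (hx : P.ord x = -2) (hy : P.ord y = -3) (A B : Polynomial k) :
    Polynomial.aeval x A + Polynomial.aeval x B * y = 0 ↔ A = 0 ∧ B = 0 := by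
  refine ⟨fun h => ?_, by rintro ⟨rfl, rfl⟩; simp⟩
  have hy0 : y ≠ 0 := fun h => by simp [h] at hy
  rcases eq_or_ne B 0 with rfl | hB
  · refine ⟨by_contra fun hA => (ord_aeval_of_neg P (x := x) (by omega) hA).1 ?_, rfl⟩
    simpa using h
  exfalso
  obtain ⟨hB0, hBo⟩ := ord_aeval_of_neg P (x := x) (by omega) hB
  have h1 : Polynomial.aeval x A = -(Polynomial.aeval x B * y) := eq_neg_of_add_eq_zero_left h
  rcases eq_or_ne A 0 with rfl | hA
  · simp [hB0, hy0] at h1
  obtain ⟨-, hAo⟩ := ord_aeval_of_neg P (x := x) (by omega) hA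
  rw [h1, neg_eq_neg_one_mul, ord_mul P (neg_ne_zero.2 one_ne_zero) (mul_ne_zero hB0 hy0),
    show (-1 : K) = algebraMap k K (-1) by simp, ord_algebraMap, ord_mul P hB0 hy0, hBo, hx, hy] at hAo
  omega

theorem exists_endo (hxy : IntermediateField.adjoin k ({x, y} : Set K) = ⊤)
    (heq : y ^ 2 = x ^ 3 + algebraMap k K a * x + algebraMap k K b) (hx : P.ord x = -2) (hy : P.ord y = -3)
    {x' y' : K} (heq' : y' ^ 2 = x' ^ 3 + algebraMap k K a * x' + algebraMap k K b) (hx' : P.ord x' = -2)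
    (hy' : P.ord y' = -3) : ∃ σ : K →ₐ[k] K, σ x = x' ∧ σ y = y' := by
  let f : MvPolynomial (Fin 2) k →ₐ[k] K := aeval ![x, y]
  let f' : MvPolynomial (Fin 2) k →ₐ[k] K := aeval ![x', y']
  have hker : ∀ p, f p = 0 ↔ f' p = 0 := fun p => by
    obtain ⟨A, B, h⟩ := exists_normal_form (K := K) (a := a) (b := b) p
    show aeval ![x, y] p = 0 ↔ aeval ![x', y'] p = 0
    rw [h x y heq, h x' y' heq', aeval_eq_zero_iff hx hy, aeval_eq_zero_iff hx' hy']
  set R := MvPolynomial (Fin 2) k ⧸ RingHom.ker f.toRingHom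
  let g : R →ₐ[k] K := Ideal.Quotient.liftₐ _ f fun p hp => hp
  let g' : R →ₐ[k] K := Ideal.Quotient.liftₐ _ f' fun p hp => (hker p).1 hp
  have hg : Function.Injective g := (injective_iff_map_eq_zero g).2 fun r hr => by
    obtain ⟨p, rfl⟩ := Ideal.Quotient.mk_surjective r
    exact Ideal.Quotient.eq_zero_iff_mem.2 hr
  have hg' : Function.Injective g' := (injective_iff_map_eq_zero g').2 fun r hr => by
    obtain ⟨p, rfl⟩ := Ideal.Quotient.mk_surjective r
    exact Ideal.Quotient.eq_zero_iff_mem.2 ((hker p).2 hr)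
  letI : Algebra R K := g.toRingHom.toAlgebra
  haveI : IsScalarTower k R K := IsScalarTower.of_algebraMap_eq fun c => (g.commutes c).symm
  haveI : FaithfulSMul R K := (faithfulSMul_iff_algebraMap_injective R K).2 hg
  haveI : IsFractionRing R K := IsFractionRing.of_field R K fun z => by
    have hz : z ∈ IntermediateField.adjoin k (Set.range ![x, y]) := by
      rw [show Set.range ![x, y] = {x, y} by simp [Matrix.range_cons, Set.pair_comm]]
      rw [hxy]; exact IntermediateField.mem_top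
    rw [IntermediateField.mem_adjoin_range_iff] at hz
    obtain ⟨p, q, rfl⟩ := hz
    exact ⟨Ideal.Quotient.mk _ p, Ideal.Quotient.mk _ q, rfl⟩
  refine ⟨IsFractionRing.liftAlgHom hg', ?_, ?_⟩
  · have h := IsFractionRing.lift_algebraMap (K := K) hg' (Ideal.Quotient.mk _ (X 0))
    rw [show algebraMap R K (Ideal.Quotient.mk _ (X 0)) = x from by show f (X 0) = x; simp [f]] at h
    refine h.trans ?_
    show f' (X 0) = x'; simp [f']
  · have h := IsFractionRing.lift_algebraMap (K := K) hg' (Ideal.Quotient.mk _ (X 1))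
    rw [show algebraMap R K (Ideal.Quotient.mk _ (X 1)) = y from by show f (X 1) = y; simp [f]] at h
    refine h.trans ?_
    show f' (X 1) = y'; simp [f']

variable (hK : IsFunctionField k K) (hgen : genus k K = 1) (hdeg : P.deg = 1)
  (heq : y ^ 2 = x ^ 3 + algebraMap k K a * x + algebraMap k K b)
  (hxy : IntermediateField.adjoin k ({x, y} : Set K) = ⊤)
  (hx : x ∈ L (Finsupp.single P 2)) (hx2 : P.ord x = -2)
  (hy : y ∈ L (Finsupp.single P 3)) (hy3 : P.ord y = -3) (h2 : (2 : k) ≠ 0) (h3 : (3 : k) ≠ 0)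

include hK hgen hdeg hx hx2 hy hy3 in
theorem coeff_eq_zero {c₀ c₁ c₂ c₃ d₀ d₁ : k}
    (h : c₀ • (1 : K) + c₁ • x + c₂ • x ^ 2 + c₃ • x ^ 3 + d₀ • y + d₁ • (x * y) = 0) :
    c₀ = 0 ∧ c₁ = 0 ∧ c₂ = 0 ∧ c₃ = 0 ∧ d₀ = 0 ∧ d₁ = 0 := by
  have hli := (basis_L_genus_one hK hgen hdeg hx hx2 hy hy3 6 (by norm_num)).1
  have h' := Fintype.linearIndependent_iff.1 hli
    (Sum.elim ![c₀, c₁, c₂, c₃] ![d₀, d₁]) (by
      rw [Fintype.sum_sum_type]
      simp only [Nat.reduceDiv, Nat.reduceAdd, Nat.reduceSub, Fin.sum_univ_succ, Finset.univ_eq_empty,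
        Finset.sum_empty]
      simp
      linear_combination h)
  exact ⟨h' (.inl 0), h' (.inl 1), h' (.inl 2), h' (.inl 3), h' (.inr 0), h' (.inr 1)⟩

include hK hgen hdeg heq hx hx2 hy hy3 h2 h3 in
/-- The shape of an automorphism fixing `P`. -/
theorem exists_scalar (σ : K ≃ₐ[k] K) (hσ : ∀ z : K, P.1 (σ z) = P.1 z) :
    ∃ l : k, (a * (l ^ 4 - 1) = 0 ∧ b * (l ^ 6 - 1) = 0) ∧
      σ x = algebraMap k K (l ^ 2) * x ∧ σ y = algebraMap k K (l ^ 3) * y := by
  have hordσ : ∀ z, P.ord (σ z) = P.ord z := fun z => by rw [Place.ord, Place.ord, hσ]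
  have hfix : comapPlace P σ = P := Subtype.ext (Valuation.ext fun z => hσ z)
  have hother : ∀ R : Place k K, R ≠ P → comapPlace R σ ≠ P := fun R hR h =>
    hR (comapPlace_injective σ (h.trans hfix.symm))
  have hmem : ∀ (n : ℤ) (z : K), z ∈ L (Finsupp.single P n) → σ z ∈ L (Finsupp.single P n) := fun n z hz R => by
    rcases eq_or_ne R P with rfl | hR
    · rw [hσ]; exact hz R
    · have h := hz (comapPlace R σ)
      rw [Finsupp.single_eq_of_ne (hother R hR)] at h
      rw [Finsupp.single_eq_of_ne hR]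
      exact h
  obtain ⟨r, u, hσx⟩ : ∃ r u : k, σ x = r • (1 : K) + u • x := by
    have h := hmem 2 x hx
    rw [show Finsupp.single P (2 : ℤ) = Finsupp.single P ((2 : ℕ) : ℤ) by norm_num,
      ← (basis_L_genus_one hK hgen hdeg hx hx2 hy hy3 2 le_rfl).2,
      Submodule.mem_span_range_iff_exists_fun] at h
    obtain ⟨c, hc⟩ := h
    refine ⟨c (.inl 0), c (.inl 1), hc.symm.trans ?_⟩
    rw [Fintype.sum_sum_type]
    simp [Fin.sum_univ_succ]
  obtain ⟨w, t, s, hσy⟩ : ∃ w t s : k, σ y = w • (1 : K) + t • x + s • y := by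
    have h := hmem 3 y hy
    rw [show Finsupp.single P (3 : ℤ) = Finsupp.single P ((3 : ℕ) : ℤ) by norm_num,
      ← (basis_L_genus_one hK hgen hdeg hx hx2 hy hy3 3 (by norm_num)).2,
      Submodule.mem_span_range_iff_exists_fun] at h
    obtain ⟨c, hc⟩ := h
    refine ⟨c (.inl 0), c (.inl 1), c (.inr 0), hc.symm.trans ?_⟩
    rw [Fintype.sum_sum_type]
    simp [Fin.sum_univ_succ]
  have hu : u ≠ 0 := fun h => by
    have h1 := hordσ x
    rw [hσx, h, zero_smul, add_zero, Algebra.smul_def, mul_one, ord_algebraMap, hx2] at h1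
    omega
  have hs : s ≠ 0 := fun h => by
    have h1 := hordσ y
    rw [hσy, h, zero_smul, add_zero, hy3] at h1
    rcases eq_or_ne t 0 with rfl | ht
    · rw [zero_smul, add_zero, Algebra.smul_def, mul_one, ord_algebraMap] at h1; omega
    · have h2 : P.1 (w • (1 : K) + t • x) = exp (2 : ℤ) := by
        have e2 : P.1 (t • x) = exp (2 : ℤ) := by
          rw [Algebra.smul_def, map_mul, val_algebraMap P ht, one_mul,
            val_eq_exp P (fun h => by simp [h] at hx2), hx2, neg_neg]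
        rw [P.1.map_add_eq_of_lt_right, e2]
        rw [e2, Algebra.smul_def, mul_one]
        exact lt_of_le_of_lt (P.2.1 w) (by rw [← exp_zero, exp_lt_exp]; norm_num)
      rw [ord_eq_of_val P h2] at h1; omega
  have he := congrArg σ heq
  rw [map_add, map_add, map_pow, map_pow, map_mul, σ.commutes, σ.commutes, hσx, hσy] at he
  obtain ⟨e0, e1, e2, e3, f0, f1⟩ := coeff_eq_zero hK hgen hdeg hx hx2 hy hy3
    (c₀ := s ^ 2 * b + w ^ 2 - r ^ 3 - a * r - b) (c₁ := s ^ 2 * a + 2 * t * w - 3 * u * r ^ 2 - a * u)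
    (c₂ := t ^ 2 - 3 * u ^ 2 * r) (c₃ := s ^ 2 - u ^ 3) (d₀ := 2 * s * w) (d₁ := 2 * s * t) (by
      simp only [Algebra.smul_def, map_sub, map_add, map_mul, map_pow, map_ofNat] at he ⊢
      linear_combination he - (algebraMap k K s) ^ 2 * heq)
  have hw : w = 0 := by simpa [h2, hs] using f0
  have ht : t = 0 := by simpa [h2, hs] using f1
  subst hw ht
  have hr : r = 0 := by simpa [h3, hu] using e2
  subst hr
  refine ⟨s / u, ⟨?_, ?_⟩, ?_, ?_⟩
  · field_simp
    linear_combination s ^ 2 * e1 + a * u * e3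
  · field_simp
    linear_combination s ^ 4 * e0 + b * (s ^ 2 + u ^ 3) * e3
  · rw [hσx, show (s / u) ^ 2 = u by field_simp; linear_combination sub_eq_zero.1 e3]
    simp [Algebra.smul_def]
  · rw [hσy, show (s / u) ^ 3 = s by field_simp; linear_combination sub_eq_zero.1 e3]
    simp [Algebra.smul_def]

theorem card_pow_eq_one [IsAlgClosed k] (n : ℕ) [NeZero (n : k)] : Nat.card {l : k // l ^ n = 1} = n := by
  have hn : 0 < n := Nat.pos_of_ne_zero fun h => NeZero.ne (n : k) (by rw [h, Nat.cast_zero])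
  obtain ⟨ζ, hζ⟩ := HasEnoughRootsOfUnity.exists_primitiveRoot k n
  rw [Nat.card_congr (Equiv.subtypeEquivRight fun l : k => (Polynomial.mem_nthRootsFinset hn 1).symm),
    Nat.card_eq_fintype_card, Fintype.card_coe, hζ.card_nthRootsFinset]

include hK hgen hdeg heq hxy hx hx2 hy hy3 h2 h3 in
open Classical in
theorem card_fix [IsAlgClosed k] (hdisc : 4 * a ^ 3 + 27 * b ^ 2 ≠ 0) :
    Nat.card {σ : K ≃ₐ[k] K // ∀ z : K, P.1 (σ z) = P.1 z} = if a = 0 then 6 else if b = 0 then 4 else 2 := by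
  have hx0 : x ≠ 0 := fun h => by simp [h] at hx2
  have hy0 : y ≠ 0 := fun h => by simp [h] at hy3
  let S := {l : k // a * (l ^ 4 - 1) = 0 ∧ b * (l ^ 6 - 1) = 0}
  have hl0 : ∀ l : S, l.1 ≠ 0 := fun l h => by
    obtain ⟨h4, h6⟩ := l.2
    simp [h] at h4 h6
    simp [h4, h6] at hdisc
  have hex : ∀ l : S, ∃ σ : {σ : K ≃ₐ[k] K // ∀ z : K, P.1 (σ z) = P.1 z},
      σ.1 x = algebraMap k K (l.1 ^ 2) * x ∧ σ.1 y = algebraMap k K (l.1 ^ 3) * y := fun l => by
    have ho2 : algebraMap k K (l.1 ^ 2) ≠ 0 := by simpa using hl0 l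
    have ho3 : algebraMap k K (l.1 ^ 3) ≠ 0 := by simpa using hl0 l
    obtain ⟨f, hfx, hfy⟩ := exists_endo hxy heq hx2 hy3
      (x' := algebraMap k K (l.1 ^ 2) * x) (y' := algebraMap k K (l.1 ^ 3) * y) (by
        obtain ⟨h4, h6⟩ := l.2
        have h4' := congrArg (algebraMap k K) h4
        have h6' := congrArg (algebraMap k K) h6
        simp only [map_mul, map_sub, map_pow, map_one, map_zero] at h4' h6' ⊢
        linear_combination (algebraMap k K l.1) ^ 6 * heq + (algebraMap k K l.1) ^ 2 * x * h4' + h6')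
      (by rw [ord_mul P ho2 hx0, ord_algebraMap, hx2]; norm_num)
      (by rw [ord_mul P ho3 hy0, ord_algebraMap, hy3]; norm_num)
    have hsurj : Function.Surjective f := fun z => by
      have hz : z ∈ f.fieldRange := by
        have hle : IntermediateField.adjoin k ({x, y} : Set K) ≤ f.fieldRange :=
          IntermediateField.adjoin_le_iff.2 (by
            rintro z' (hz' | hz') <;> rw [hz']
            · exact ⟨algebraMap k K (l.1 ^ 2)⁻¹ * x, by
                show f _ = _
                rw [map_mul, f.commutes, hfx, ← mul_assoc, ← map_mul, inv_mul_cancel₀ (pow_ne_zero _ (hl0 l)), map_one, one_mul]⟩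
            · exact ⟨algebraMap k K (l.1 ^ 3)⁻¹ * y, by
                show f _ = _
                rw [map_mul, f.commutes, hfy, ← mul_assoc, ← map_mul, inv_mul_cancel₀ (pow_ne_zero _ (hl0 l)), map_one, one_mul]⟩)
        rw [hxy] at hle
        exact hle IntermediateField.mem_top
      exact hz
    let σ := AlgEquiv.ofBijective f ⟨f.toRingHom.injective, hsurj⟩
    refine ⟨⟨σ, fun z => ?_⟩, hfx, hfy⟩
    have hP : comapPlace P σ = P := by
      by_contra hne
      have h := hx (comapPlace P σ)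
      rw [Finsupp.single_eq_of_ne hne, exp_zero, comapPlace_val, show σ x = f x from rfl, hfx, map_mul,
        val_algebraMap P (pow_ne_zero _ (hl0 l)), one_mul, val_eq_exp P hx0, hx2, ← exp_zero, exp_le_exp] at h
      omega
    exact congrArg (fun R : Place k K => R.1 z) hP
  choose g hgx hgy using hex
  have hbij : Function.Bijective g := by
    refine ⟨fun l l' h => Subtype.ext ?_, fun σ => ?_⟩
    · have hx' : l.1 ^ 2 = l'.1 ^ 2 := (algebraMap k K).injective
        (mul_right_cancel₀ hx0 ((hgx l).symm.trans (h ▸ hgx l')))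
      have hy' : l.1 ^ 3 = l'.1 ^ 3 := (algebraMap k K).injective
        (mul_right_cancel₀ hy0 ((hgy l).symm.trans (h ▸ hgy l')))
      refine mul_left_cancel₀ (pow_ne_zero 2 (hl0 l)) ?_
      calc l.1 ^ 2 * l.1 = l.1 ^ 3 := by ring
        _ = l'.1 ^ 3 := hy'
        _ = l'.1 ^ 2 * l'.1 := by ring
        _ = l.1 ^ 2 * l'.1 := by rw [hx']
    · obtain ⟨l, hl, hlx, hly⟩ := exists_scalar hK hgen hdeg heq hx hx2 hy hy3 h2 h3 σ.1 σ.2
      refine ⟨⟨l, hl⟩, Subtype.ext (AlgEquiv.coe_toAlgHom_injective ?_)⟩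
      refine AlgHom.ext fun z => ?_
      have hz : z ∈ IntermediateField.adjoin k ({x, y} : Set K) := hxy ▸ IntermediateField.mem_top
      induction hz using IntermediateField.adjoin_induction with
      | mem w hw =>
        rcases hw with rfl | rfl
        · exact (hgx _).trans hlx.symm
        · exact (hgy _).trans hly.symm
      | algebraMap c => rw [AlgHom.commutes, AlgHom.commutes]
      | add u w _ _ hu hw => rw [map_add, map_add, hu, hw]
      | inv u _ hu => rw [map_inv₀, map_inv₀, hu]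
      | mul u w _ _ hu hw => rw [map_mul, map_mul, hu, hw]
  rw [← Nat.card_congr (Equiv.ofBijective g hbij)]
  split_ifs with ha hb
  · subst ha
    have hb : b ≠ 0 := fun h => hdisc (by rw [h]; ring)
    have : NeZero ((6 : ℕ) : k) := ⟨by rw [show ((6 : ℕ) : k) = 2 * 3 by norm_num]; exact mul_ne_zero h2 h3⟩
    rw [← card_pow_eq_one (k := k) 6]
    exact Nat.card_congr (Equiv.subtypeEquivRight fun l => by simp [hb, sub_eq_zero])
  · subst hb
    have : NeZero ((4 : ℕ) : k) := ⟨by rw [show ((4 : ℕ) : k) = 2 * 2 by norm_num]; exact mul_ne_zero h2 h2⟩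
    rw [← card_pow_eq_one (k := k) 4]
    exact Nat.card_congr (Equiv.subtypeEquivRight fun l => by simp [ha, sub_eq_zero])
  · have : NeZero ((2 : ℕ) : k) := ⟨by simpa using h2⟩
    rw [← card_pow_eq_one (k := k) 2]
    refine Nat.card_congr (Equiv.subtypeEquivRight fun l => ?_)
    simp only [mul_eq_zero, ha, hb, false_or, sub_eq_zero]
    exact ⟨fun ⟨e4, e6⟩ => by rw [show l ^ 6 = l ^ 4 * l ^ 2 by ring, e4, one_mul] at e6; exact e6,
      fun e => ⟨by rw [show l ^ 4 = (l ^ 2) ^ 2 by ring, e, one_pow], by rw [show l ^ 6 = (l ^ 2) ^ 3 by ring, e, one_pow]⟩⟩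

end Groth.Agent.FunFldLib.EllAut
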