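import Groth.Agent.FunFld.Plucker
import Groth.Prelude.Def_LocRes

/-!
Laurent expansions at a place of degree one in a given local parameter.
-/

namespace Groth.Agent.FunFldLib

open FunFld WithZero
open scoped LaurentSeries

variable {k K : Type*} [Field k] [Field K] [Algebra k K]

set_option linter.unusedSectionVars false

/-- The truncations of `a` in the parameter `t` approximate `x` at `P`. -/
def Rep (P : Place k K) (t : K) (x : K) (a : PowerSeries k) : Prop :=
  ∀ n : ℕ, P.1 (x - Polynomial.aeval t (PowerSeries.trunc n a)) ≤ exp (-(n : ℤ))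

section

variable {P : Place k K} {t : K} (ht : P.1 t = exp (-1 : ℤ))

include ht

theorem val_param_pow (n : ℕ) : P.1 (t ^ n) = exp (-(n : ℤ)) := by
  rw [map_pow, ht, ← exp_nsmul]; simp

theorem val_param_le_one : P.1 t ≤ 1 := by rw [ht, ← exp_zero, exp_le_exp]; norm_num

theorem rep_add {x y : K} {a b : PowerSeries k} (hx : Rep P t x a) (hy : Rep P t y b) :
    Rep P t (x + y) (a + b) := fun n => by
  rw [map_add, map_add, add_sub_add_comm]
  exact (P.1.map_add _ _).trans (max_le (hx n) (hy n))

theorem rep_sub {x y : K} {a b : PowerSeries k} (hx : Rep P t x a) (hy : Rep P t y b) :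
    Rep P t (x - y) (a - b) := fun n => by
  rw [map_sub (PowerSeries.trunc n), map_sub (Polynomial.aeval (R := k) t), sub_sub_sub_comm]
  exact (P.1.map_sub _ _).trans (max_le (hx n) (hy n))

theorem rep_smul (c : k) {x : K} {a : PowerSeries k} (hx : Rep P t x a) : Rep P t (c • x) (c • a) :=
  fun n => by
    rw [show PowerSeries.trunc n (c • a) = c • PowerSeries.trunc n a from map_smul _ c a, map_smul,
      ← smul_sub, Algebra.smul_def, map_mul]
    exact mul_le_of_le_one_of_le (P.2.1 c) (hx n)

theorem rep_zero : Rep P t (0 : K) 0 := fun n => by simp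

theorem rep_one : Rep P t (1 : K) 1 := fun n => by
  rcases Nat.eq_zero_or_pos n with rfl | hn
  · simp
  · obtain ⟨m, rfl⟩ : ∃ m, n = m + 1 := ⟨n - 1, by omega⟩
    simp [PowerSeries.trunc_one]

theorem rep_param : Rep P t t PowerSeries.X := fun n => by
  rcases lt_or_ge n 2 with hn | hn
  · interval_cases n
    · simpa using val_param_le_one ht
    · simp [ht, PowerSeries.trunc_succ, PowerSeries.trunc_zero', PowerSeries.coeff_X]
  · obtain ⟨m, rfl⟩ : ∃ m, n = m + 2 := ⟨n - 2, by omega⟩
    rw [PowerSeries.trunc_X, Polynomial.aeval_X, sub_self, map_zero]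
    exact exp_pos.le

theorem rep_mul {x y : K} {a b : PowerSeries k} (hx : Rep P t x a) (hy : Rep P t y b) :
    Rep P t (x * y) (a * b) := fun n => by
  set p := PowerSeries.trunc n a
  set q := PowerSeries.trunc n b
  have hb : P.1 y ≤ 1 := by simpa [Rep] using hy 0
  have ha : P.1 (Polynomial.aeval t p) ≤ 1 := val_aeval_le_one P (val_param_le_one ht) p
  obtain ⟨r, hr⟩ : (Polynomial.X : Polynomial k) ^ n ∣ p * q - PowerSeries.trunc n (a * b) := by
    rw [Polynomial.X_pow_dvd_iff]
    intro i hi
    have h1 : PowerSeries.trunc n ((p : PowerSeries k) * (q : PowerSeries k)) = PowerSeries.trunc n (a * b) :=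
      PowerSeries.trunc_trunc_mul_trunc a b
    have h2 := congrArg (fun f : Polynomial k => f.coeff i) h1
    simp only [PowerSeries.coeff_trunc, if_pos hi] at h2
    rw [← Polynomial.coe_mul, Polynomial.coeff_coe] at h2
    rw [Polynomial.coeff_sub, h2, PowerSeries.coeff_trunc, if_pos hi, sub_self]
  have e : x * y - Polynomial.aeval t (PowerSeries.trunc n (a * b)) =
      (x - Polynomial.aeval t p) * y + Polynomial.aeval t p * (y - Polynomial.aeval t q) +
        t ^ n * Polynomial.aeval t r := by
    have h := congrArg (Polynomial.aeval t) hr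
    simp only [map_sub, map_mul, map_pow, Polynomial.aeval_X] at h
    linear_combination h
  rw [e]
  refine (P.1.map_add _ _).trans (max_le ((P.1.map_add _ _).trans (max_le ?_ ?_)) ?_)
  · rw [map_mul]; exact mul_le_of_le_of_le_one (hx n) hb
  · rw [map_mul]; exact mul_le_of_le_one_of_le ha (hy n)
  · rw [map_mul, val_param_pow ht]
    exact mul_le_of_le_one_right' (val_aeval_le_one P (val_param_le_one ht) r)

theorem val_of_rep {x : K} {a : PowerSeries k} (hx : Rep P t x a) {i : ℕ}
    (hlt : ∀ j < i, PowerSeries.coeff j a = 0) (hi : PowerSeries.coeff i a ≠ 0) :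
    P.1 x = exp (-(i : ℤ)) := by
  have e : PowerSeries.trunc (i + 1) a = Polynomial.monomial i (PowerSeries.coeff i a) := by
    ext j
    rw [PowerSeries.coeff_trunc, Polynomial.coeff_monomial]
    split_ifs with h1 h2 h2
    · subst h2; rfl
    · exact hlt j (by omega)
    · omega
    · rfl
  have h := hx (i + 1)
  rw [e, Polynomial.aeval_monomial] at h
  have hm : P.1 (algebraMap k K (PowerSeries.coeff i a) * t ^ i) = exp (-(i : ℤ)) := by
    rw [map_mul, val_algebraMap P hi, one_mul, val_param_pow ht]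
  have hlt' : P.1 (x - algebraMap k K (PowerSeries.coeff i a) * t ^ i) <
      P.1 (algebraMap k K (PowerSeries.coeff i a) * t ^ i) := by
    rw [hm]; refine h.trans_lt ?_; rw [exp_lt_exp]; push_cast; omega
  have := P.1.map_add_eq_of_lt_left hlt'
  rw [add_sub_cancel, hm] at this
  exact this

theorem rep_unique {x : K} {a b : PowerSeries k} (hx : Rep P t x a) (hy : Rep P t x b) : a = b := by
  have h := rep_sub ht hx hy
  rw [sub_self] at h
  by_contra hne
  obtain ⟨i, hi, hmin⟩ : ∃ i, PowerSeries.coeff i (a - b) ≠ 0 ∧ ∀ j < i, PowerSeries.coeff j (a - b) = 0 := by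
    classical
    have hex : ∃ i, PowerSeries.coeff i (a - b) ≠ 0 := by
      by_contra hall
      push Not at hall
      exact hne (sub_eq_zero.1 (PowerSeries.ext fun i => by rw [hall i, map_zero]))
    exact ⟨Nat.find hex, Nat.find_spec hex, fun j hj => not_not.1 (Nat.find_min hex hj)⟩
  have h1 := val_of_rep ht h hmin hi
  rw [map_zero] at h1
  exact exp_ne_zero h1.symm

theorem exists_rep (hK : IsFunctionField k K) (hP : P.deg = 1) {x : K} (hx : P.1 x ≤ 1) :
    ∃ a, Rep P t x a := by
  classical
  have ht0 : t ≠ 0 := ne_zero_of_val P ht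
  let c : {y : K // P.1 y ≤ 1} → k := fun y => (exists_sub_const_val_lt_one hK P hP y.2).choose
  have hc : ∀ y : {y : K // P.1 y ≤ 1}, P.1 ((y : K) - algebraMap k K (c y)) < 1 := fun y =>
    (exists_sub_const_val_lt_one hK P hP y.2).choose_spec
  have hsucc : ∀ y : {y : K // P.1 y ≤ 1}, P.1 (((y : K) - algebraMap k K (c y)) / t) ≤ 1 := fun y => by
    rw [map_div₀, ht, div_le_one₀ exp_pos]
    rcases eq_or_ne ((y : K) - algebraMap k K (c y)) 0 with h | h
    · rw [h, map_zero]; exact exp_pos.le
    · have := (val_lt_one_iff P h).1 (hc y)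
      rw [val_le_exp_iff P h]; omega
  let step : {y : K // P.1 y ≤ 1} → {y : K // P.1 y ≤ 1} :=
    fun y => ⟨((y : K) - algebraMap k K (c y)) / t, hsucc y⟩
  refine ⟨PowerSeries.mk fun i => c (step^[i] ⟨x, hx⟩), fun n => ?_⟩
  have key : x = Polynomial.aeval t (PowerSeries.trunc n (PowerSeries.mk fun i => c (step^[i] ⟨x, hx⟩))) +
      t ^ n * ((step^[n] ⟨x, hx⟩ : {y : K // P.1 y ≤ 1}) : K) := by
    induction n with
    | zero => simp
    | succ n ih =>
      rw [PowerSeries.trunc_succ, map_add, Polynomial.aeval_monomial, PowerSeries.coeff_mk,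
        Function.iterate_succ_apply']
      conv_lhs => rw [ih]
      simp only [step]
      rw [pow_succ, add_assoc, mul_assoc _ t, mul_div_cancel₀ _ ht0]
      ring
  rw [show x - Polynomial.aeval t (PowerSeries.trunc n (PowerSeries.mk fun i => c (step^[i] ⟨x, hx⟩))) =
    t ^ n * ((step^[n] ⟨x, hx⟩ : {y : K // P.1 y ≤ 1}) : K) by linear_combination key]
  rw [map_mul, val_param_pow ht]
  exact mul_le_of_le_one_right' (step^[n] ⟨x, hx⟩).2

/-- The expansion homomorphism at `P` in the parameter `t`. -/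
theorem exists_expansion (hK : IsFunctionField k K) (hP : P.deg = 1) :
    ∃ φ : K →ₐ[k] k⸨X⸩, LocRes.IsExpansionAt P.1 φ ∧
      φ t = ((PowerSeries.X : PowerSeries k) : k⸨X⸩) ∧
      ∀ (x : K) (a : PowerSeries k), Rep P t x a → φ x = (a : k⸨X⸩) := by
  classical
  choose e he using fun y : P.O => exists_rep ht hK hP ((Valuation.mem_valuationSubring_iff _ _).1 y.2)
  have huniq : ∀ (y : P.O) (a : PowerSeries k), Rep P t (y : K) a → a = e y :=
    fun y a h => rep_unique ht h (he y)
  let E : P.O →+* k⸨X⸩ := (HahnSeries.ofPowerSeries ℤ k).comp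
    { toFun := e
      map_one' := (huniq 1 1 (rep_one ht)).symm
      map_zero' := (huniq 0 0 (rep_zero ht)).symm
      map_add' := fun a b => (huniq (a + b) _ (rep_add ht (he a) (he b))).symm
      map_mul' := fun a b => (huniq (a * b) _ (rep_mul ht (he a) (he b))).symm }
  have hEc : ∀ c : k, E (algebraMap k P.O c) = algebraMap k k⸨X⸩ c := fun c => by
    have h : Rep P t (c • (1 : K)) (c • (1 : PowerSeries k)) := rep_smul ht c (rep_one ht)
    rw [← Algebra.algebraMap_eq_smul_one] at h
    show HahnSeries.ofPowerSeries ℤ k (e (algebraMap k P.O c)) = _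
    rw [← huniq (algebraMap k P.O c) _ h, LocRes.algebraMap_eq_C, PowerSeries.smul_eq_C_mul, mul_one,
      HahnSeries.ofPowerSeries_C]
  have hEinj : Function.Injective E := by
    refine (injective_iff_map_eq_zero E).2 fun y hy => ?_
    have h0 : e y = 0 := HahnSeries.ofPowerSeries_injective (hy.trans (map_zero _).symm)
    by_contra hne
    have hy0 : (y : K) ≠ 0 := fun h => hne (Subtype.ext h)
    have := he y ((P.ord (y : K)).natAbs + 1)
    rw [h0, map_zero, map_zero, sub_zero, val_le_exp_iff P hy0] at this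
    omega
  let ψ : K →+* k⸨X⸩ := IsFractionRing.lift (A := P.O) hEinj
  have hψ : ∀ y : P.O, ψ (y : K) = E y := fun y => IsFractionRing.lift_algebraMap hEinj y
  let φ : K →ₐ[k] k⸨X⸩ :=
    { ψ with commutes' := fun c => (hψ (algebraMap k P.O c)).trans (hEc c) }
  have hφ : ∀ (x : K) (a : PowerSeries k), Rep P t x a → φ x = (a : k⸨X⸩) := fun x a h => by
    have hx : P.1 x ≤ 1 := by simpa [Rep] using h 0
    show ψ x = _
    rw [show x = ((⟨x, (Valuation.mem_valuationSubring_iff _ _).2 hx⟩ : P.O) : K) from rfl, hψ]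
    exact congrArg (HahnSeries.ofPowerSeries ℤ k) (huniq _ a h).symm
  have hφt : φ t = ((PowerSeries.X : PowerSeries k) : k⸨X⸩) := hφ t _ (rep_param ht)
  have hXv : Valued.v ((PowerSeries.X : PowerSeries k) : k⸨X⸩) = exp (-1 : ℤ) := by
    have := LaurentSeries.valuation_X_pow k 1
    simpa using this
  refine ⟨φ, ⟨fun f => ?_, fun a => ?_, ⟨t, ht⟩⟩, hφt, hφ⟩
  · rcases eq_or_ne f 0 with rfl | hf
    · simp
    -- normalise to a unit
    set u := f / t ^ P.ord f with hu
    have ht0 : t ≠ 0 := ne_zero_of_val P ht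
    have htz : t ^ P.ord f ≠ 0 := zpow_ne_zero _ ht0
    have hu0 : u ≠ 0 := div_ne_zero hf htz
    have huv : P.1 u = 1 := by
      rw [hu, map_div₀, map_zpow₀, ht, val_eq_exp P hf, ← exp_zsmul, ← exp_sub, ← exp_zero]
      congr 1; simp
    obtain ⟨a, ha⟩ := exists_rep ht hK hP huv.le
    have ha0 : PowerSeries.constantCoeff a ≠ 0 := by
      intro h0
      have h1 := ha 1
      rw [PowerSeries.trunc_succ, PowerSeries.trunc_zero', PowerSeries.coeff_zero_eq_constantCoeff_apply,
        h0, map_zero, add_zero, map_zero, sub_zero, huv, ← exp_zero, exp_le_exp] at h1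
      norm_num at h1
    have hva : Valued.v ((a : PowerSeries k) : k⸨X⸩) = 1 := by
      obtain ⟨b, hb⟩ := PowerSeries.isUnit_iff_constantCoeff.2 (isUnit_iff_ne_zero.2 ha0)
      have h1 : ∀ c : PowerSeries k, Valued.v (c : k⸨X⸩) ≤ 1 := fun c =>
        (LaurentSeries.val_le_one_iff_eq_coe k _).2 ⟨c, rfl⟩
      refine le_antisymm (h1 a) ?_
      have h2 : Valued.v ((a : PowerSeries k) : k⸨X⸩) * Valued.v ((↑b⁻¹ : PowerSeries k) : k⸨X⸩) = 1 := by
        rw [← map_mul, ← PowerSeries.coe_mul, ← hb, Units.mul_inv, PowerSeries.coe_one, map_one]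
      calc (1 : WithZero (Multiplicative ℤ)) = _ := h2.symm
        _ ≤ Valued.v ((a : PowerSeries k) : k⸨X⸩) * 1 := mul_le_mul' le_rfl (h1 _)
        _ = _ := mul_one _
    have hf' : f = u * t ^ P.ord f := by rw [hu, div_mul_cancel₀ _ htz]
    conv_lhs => rw [hf']
    rw [map_mul, hφ u a ha, map_zpow₀, hφt, map_mul, map_zpow₀, hva, one_mul, hXv, val_eq_exp P hf,
      ← exp_zsmul]
    congr 1; simp
  · refine ⟨algebraMap k K a, P.2.1 a, ?_⟩
    rw [φ.commutes, LocRes.algebraMap_eq_C]
    simp

end

end Groth.Agent.FunFldLib
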