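import Groth.Agent.FunFld.Hasse
import Groth.Agent.FunFld.Degree
import Mathlib.FieldTheory.SeparablyGenerated
import Mathlib.FieldTheory.PurelyInseparable.PerfectClosure
import Mathlib.FieldTheory.KummerPolynomial
import Mathlib.FieldTheory.IsAlgClosed.AlgebraicClosure
import Mathlib.RingTheory.Kaehler.Basic

/-!
Separating elements of a geometric function field of one variable.
-/

namespace Groth.Agent.FunFldLib

open FunFld

universe u v

variable {k : Type u} {K : Type v} [Field k] [Field K] [Algebra k K]

/-- `s` is a separating element. -/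
abbrev IsSepVar (k : Type*) {K : Type*} [Field k] [Field K] [Algebra k K] (s : K) : Prop :=
  Algebra.IsSeparable (IntermediateField.adjoin k ({s} : Set K)) K

theorem isGeometric_of_isAlgClosed [IsAlgClosed k] : IsGeometric k K := fun k' _ _ _ => by
  have hbij : Function.Bijective (algebraMap k k') := IsAlgClosed.algebraMap_bijective_of_isIntegral
  let e : TensorProduct k k' K ≃ₐ[k] K :=
    (Algebra.TensorProduct.congr (AlgEquiv.ofBijective (Algebra.ofId k k') hbij).symm AlgEquiv.refl).trans
      (Algebra.TensorProduct.lid k K)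
  exact e.toMulEquiv.isField (Field.toIsField K)

theorem linearIndepOn_pow (hg : IsGeometric k K) (p : ℕ) [Fact p.Prime] [CharP K p] (s : Finset K)
    (hs : LinearIndepOn k _root_.id (s : Set K)) : LinearIndepOn k (· ^ p) (s : Set K) := by
  classical
  rw [linearIndepOn_finset_iff] at hs ⊢
  intro c hc i hi
  have : CharP k p := (algebraMap k K).charP (algebraMap k K).injective p
  choose r hr using fun j : K => IsAlgClosed.exists_pow_nat_eq
    (algebraMap k (AlgebraicClosure k) (c j)) (Fact.out : p.Prime).pos
  let k' : IntermediateField k (AlgebraicClosure k) := IntermediateField.adjoin k (r '' (s : Set K))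
  have : FiniteDimensional k k' := by
    have : Finite (r '' (s : Set K)) := (s.finite_toSet.image r).to_subtype
    exact IntermediateField.finiteDimensional_adjoin fun y _ => (Algebra.IsAlgebraic.isAlgebraic y).isIntegral
  have hf := hg k' this
  letI := hf.toField
  let r' : K → k' := fun j => if h : j ∈ s then ⟨r j, IntermediateField.subset_adjoin k _ ⟨j, h, rfl⟩⟩ else 0
  have hr' : ∀ j ∈ s, r' j ^ p = algebraMap k k' (c j) := fun j hj => Subtype.ext (by simp [r', hj, hr])
  have : CharP (TensorProduct k k' K) p :=
    charP_of_injective_algebraMap (algebraMap k (TensorProduct k k' K)).injective p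
  have hT : ∑ j ∈ s, r' j ⊗ₜ[k] j = (0 : TensorProduct k k' K) := by
    refine (pow_eq_zero_iff (Fact.out : p.Prime).ne_zero).1 ?_
    rw [sum_pow_char p s, Finset.sum_congr rfl (g := fun j => (1 : k') ⊗ₜ[k] (c j • j ^ p)) fun j hj => by
      rw [Algebra.TensorProduct.tmul_pow, hr' j hj, Algebra.algebraMap_eq_smul_one, TensorProduct.smul_tmul],
      ← TensorProduct.tmul_sum, hc, TensorProduct.tmul_zero]
  let b := Module.Free.chooseBasis k k'
  have hcoord : ∀ l, (b.coord l) (r' i) = 0 := fun l => by
    have := congrArg ((TensorProduct.lid k K).toLinearMap ∘ₗ (TensorProduct.map (b.coord l) LinearMap.id)) hT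
    simp only [map_sum, map_zero, LinearMap.comp_apply, TensorProduct.map_tmul, LinearMap.id_apply,
      LinearEquiv.coe_coe, TensorProduct.lid_tmul] at this
    exact hs (fun j => b.coord l (r' j)) this i hi
  have h0 : r' i = 0 := b.forall_coord_eq_zero_iff.1 hcoord
  have := hr' i hi
  rw [h0, zero_pow (Fact.out : p.Prime).ne_zero] at this
  exact (map_eq_zero _).1 this.symm

theorem essFiniteType (hK : IsFunctionField k K) : Algebra.EssFiniteType k K := by
  obtain ⟨x, hx, hfin⟩ := hK.1
  have h1 : Algebra.EssFiniteType k (IntermediateField.adjoin k ({x} : Set K)) :=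
    IntermediateField.essFiniteType_iff.2 ⟨{x}, by simp⟩
  exact Algebra.EssFiniteType.comp k (IntermediateField.adjoin k ({x} : Set K)) K

theorem exists_sepVar (hK : IsFunctionField k K) (hg : IsGeometric k K) :
    ∃ s : K, Transcendental k s ∧ IsSepVar k s := by
  classical
  have := essFiniteType hK
  obtain ⟨t, ht, hsep⟩ : ∃ s : Finset K, IsTranscendenceBasis k ((↑) : s → K) ∧
      Algebra.IsSeparable (IntermediateField.adjoin k (s : Set K)) K := by
    obtain _ | ⟨p, hp, hpk⟩ := CharP.exists' k
    · exact exists_isTranscendenceBasis_and_isSeparable_of_perfectField k K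
    · have : CharP K p := charP_of_injective_algebraMap (algebraMap k K).injective p
      exact exists_isTranscendenceBasis_and_isSeparable_of_linearIndepOn_pow_of_essFiniteType p hp.out
        fun s hs => linearIndepOn_pow hg p s hs
  obtain ⟨x, hx, hfin⟩ := hK.1
  have hbx : IsTranscendenceBasis k (fun _ : PUnit.{1} => x) := by
    refine (algebraicIndependent_unique_type_iff (x := fun _ : PUnit.{1} => x)).2 hx |>.isTranscendenceBasis_iff_isAlgebraic.2 ?_
    rw [show Set.range (fun _ : PUnit.{1} => x) = {x} from Set.range_const]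
    open IntermediateField.algebraAdjoinAdjoin in
    exact (IsFractionRing.comap_isAlgebraic_iff (A := Algebra.adjoin k ({x} : Set K))
      (K := IntermediateField.adjoin k ({x} : Set K)) (C := K)).2 inferInstance
  have hcard := ht.lift_cardinalMk_eq hbx
  have hc : t.card = 1 := by simpa using hcard
  obtain ⟨s, rfl⟩ := Finset.card_eq_one.1 hc
  refine ⟨s, ?_, by rw [Finset.coe_singleton] at hsep; exact hsep⟩
  exact ht.1.transcendental ⟨s, Finset.mem_singleton_self s⟩

/-- `k K^p`. -/
noncomputable abbrev Epow (k : Type*) (K : Type*) [Field k] [Field K] [Algebra k K] (p : ℕ) : IntermediateField k K :=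
  IntermediateField.adjoin k (Set.range fun y : K => y ^ p)

theorem hasseD_one_mul (H : K →ₐ[k] PowerSeries K) (h0 : ∀ y, PowerSeries.constantCoeff (H y) = y) (a b : K) :
    LocRes.hasseD H 1 (a * b) = a * LocRes.hasseD H 1 b + b * LocRes.hasseD H 1 a := by
  simp only [LocRes.hasseD, map_mul, PowerSeries.coeff_mul]
  rw [show Finset.HasAntidiagonal.antidiagonal 1 = ({(0, 1), (1, 0)} : Finset (ℕ × ℕ)) from rfl,
    Finset.sum_pair (by simp), PowerSeries.coeff_zero_eq_constantCoeff_apply,
    PowerSeries.coeff_zero_eq_constantCoeff_apply, h0, h0]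
  ring

theorem hasseD_one_eq_zero_of_mem {s : K} {H : K →ₐ[k] PowerSeries K} (hH : LocRes.IsHasseFamily s H)
    (p : ℕ) [Fact p.Prime] [CharP K p] {y : K} (hy : y ∈ Epow k K p) : LocRes.hasseD H 1 y = 0 := by
  have hmul := hasseD_one_mul H hH.2
  induction hy using IntermediateField.adjoin_induction with
  | mem y hy =>
    obtain ⟨z, rfl⟩ := hy
    have : CharP (PowerSeries K) p := charP_of_injective_ringHom PowerSeries.C_injective p
    have hn : ∀ n : ℕ, LocRes.hasseD H 1 (z ^ n) = n * z ^ (n - 1) * LocRes.hasseD H 1 z := fun n => by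
      induction n with
      | zero => simp [LocRes.hasseD, PowerSeries.coeff_one]
      | succ n ih =>
        rw [pow_succ, hmul, ih]
        rcases n with _ | n
        · simp
        · push_cast
          ring_nf
    show LocRes.hasseD H 1 (z ^ p) = 0
    rw [hn, CharP.cast_eq_zero, zero_mul, zero_mul]
  | algebraMap c => simp [LocRes.hasseD, PowerSeries.algebraMap_apply, PowerSeries.coeff_C]
  | add a b _ _ ha hb =>
    simp only [LocRes.hasseD] at ha hb ⊢
    rw [map_add, map_add, ha, hb, add_zero]
  | inv a _ ha =>
    rcases eq_or_ne a 0 with rfl | hne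
    · simp [LocRes.hasseD]
    have := hmul a a⁻¹
    rw [mul_inv_cancel₀ hne, ha, mul_zero, add_zero, show LocRes.hasseD H 1 (1 : K) = 0 by
      simp [LocRes.hasseD, PowerSeries.coeff_one]] at this
    exact (mul_eq_zero.1 this.symm).resolve_left hne
  | mul a b _ _ ha hb => rw [hmul, ha, hb, mul_zero, mul_zero, add_zero]

theorem hasseD_one_self {s : K} {H : K →ₐ[k] PowerSeries K} (hH : LocRes.IsHasseFamily s H) :
    LocRes.hasseD H 1 s = 1 := by
  simp [LocRes.hasseD, hH.1]

theorem sepVar_notMem_Epow (hK : IsFunctionField k K) (p : ℕ) [Fact p.Prime] [CharP K p] {s : K}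
    (hs : Transcendental k s) (hsep : IsSepVar k s) : s ∉ Epow k K p := fun h => by
  have := finiteDimensional_adjoin hK hs
  obtain ⟨H, hH⟩ := exists_hasseFamily hs hsep
  exact one_ne_zero ((hasseD_one_self hH).symm.trans (hasseD_one_eq_zero_of_mem hH p h))

theorem finrank_Epow (hK : IsFunctionField k K) (hg : IsGeometric k K) (p : ℕ) [Fact p.Prime] [CharP K p] :
    Module.finrank (Epow k K p) K = p := by
  obtain ⟨s, hs, hsep⟩ := exists_sepVar hK hg
  set E := Epow k K p
  have hp : p.Prime := Fact.out
  have : CharP E p := (algebraMap E K).charP (algebraMap E K).injective p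
  let c : E := ⟨s ^ p, IntermediateField.subset_adjoin k _ ⟨s, rfl⟩⟩
  have hirr : Irreducible (Polynomial.X ^ p - Polynomial.C c) := X_pow_sub_C_irreducible_of_prime hp fun d hd => by
    refine sepVar_notMem_Epow hK p hs hsep ?_
    have h1 : (d : K) ^ p = s ^ p := congrArg Subtype.val hd
    rw [show s = (d : K) from (frobenius_inj K p h1).symm]
    exact d.2
  have hroot : Polynomial.aeval s (Polynomial.X ^ p - Polynomial.C c) = 0 := by simp [c]
  have hmin : Polynomial.X ^ p - Polynomial.C c = minpoly E s :=
    minpoly.eq_of_irreducible_of_monic hirr hroot (Polynomial.monic_X_pow_sub_C _ hp.ne_zero)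
  have hint : IsIntegral E s := ⟨_, Polynomial.monic_X_pow_sub_C c hp.ne_zero, hroot⟩
  have htop : IntermediateField.adjoin E ({s} : Set K) = ⊤ := by
    refine eq_top_iff.2 fun z _ => ?_
    set M := IntermediateField.adjoin E ({s} : Set K)
    have hle : IntermediateField.adjoin k ({s} : Set K) ≤ M.restrictScalars k :=
      IntermediateField.adjoin_simple_le_iff.2 (IntermediateField.mem_adjoin_simple_self E s)
    letI := (IntermediateField.inclusion hle).toRingHom.toAlgebra
    letI : IsScalarTower (IntermediateField.adjoin k ({s} : Set K)) (M.restrictScalars k) K :=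
      IsScalarTower.of_algebraMap_eq' rfl
    have h1 : IsSeparable (M.restrictScalars k) z := IsSeparable.tower_top _ (Algebra.IsSeparable.isSeparable (IntermediateField.adjoin k ({s} : Set K)) z)
    have : CharP (M.restrictScalars k) p :=
      (algebraMap (M.restrictScalars k) K).charP (algebraMap (M.restrictScalars k) K).injective p
    have : ExpChar (M.restrictScalars k) p := ExpChar.prime hp
    have h2 := IntermediateField.adjoin_simple_eq_adjoin_pow_expChar_pow_of_isSeparable
      (F := M.restrictScalars k) (E := K) h1 p 1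
    rw [pow_one] at h2
    have hzp : z ^ p ∈ (⊥ : IntermediateField (M.restrictScalars k) K) :=
      IntermediateField.mem_bot.2 ⟨⟨z ^ p, IntermediateField.algebraMap_mem M
        (⟨z ^ p, IntermediateField.subset_adjoin k _ ⟨z, rfl⟩⟩ : E)⟩, rfl⟩
    have hz := IntermediateField.mem_adjoin_simple_self (M.restrictScalars k) z
    rw [h2, IntermediateField.adjoin_simple_eq_bot_iff.2 hzp, IntermediateField.mem_bot] at hz
    obtain ⟨w, hw⟩ := hz
    exact hw ▸ w.2
  rw [← IntermediateField.finrank_top', ← htop, IntermediateField.adjoin.finrank hint, ← hmin,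
    Polynomial.natDegree_X_pow_sub_C]

theorem isSepVar_of_notMem_Epow (hK : IsFunctionField k K) (hg : IsGeometric k K) (p : ℕ) [Fact p.Prime]
    [CharP K p] {y : K} (hy : y ∉ Epow k K p) : IsSepVar k y := by
  have hp : p.Prime := Fact.out
  set F := IntermediateField.adjoin k ({y} : Set K)
  have hyt : Transcendental k y := fun halg => hy (by
    obtain ⟨c, rfl⟩ := hK.2 y halg; exact IntermediateField.algebraMap_mem _ c)
  have := finiteDimensional_adjoin hK hyt
  set M := separableClosure F K
  have : CharP M p := (algebraMap M K).charP (algebraMap M K).injective p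
  have : ExpChar M p := ExpChar.prime hp
  have : ExpChar K p := ExpChar.prime hp
  let N : IntermediateField k K := M.restrictScalars k ⊔ Epow k K p
  let S : ℕ → IntermediateField k K := fun m =>
    ((M.restrictScalars k).toSubfield.comap (iterateFrobenius K p m)).toIntermediateField fun c => by
      show iterateFrobenius K p m (algebraMap k K c) ∈ M.restrictScalars k
      rw [iterateFrobenius_def, ← map_pow]; exact IntermediateField.algebraMap_mem _ _
  have hS : ∀ m z, z ∈ S m ↔ z ^ p ^ m ∈ M.restrictScalars k := fun m z => Iff.rfl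
  have hN : N ≠ ⊤ → IsSepVar k y := by
    intro hN
    exfalso
    -- `N` is between `k K^p` and `K`
    letI := (IntermediateField.inclusion (le_sup_right : Epow k K p ≤ N)).toRingHom.toAlgebra
    letI : IsScalarTower (Epow k K p) N K := IsScalarTower.of_algebraMap_eq' rfl
    have hmul := Module.finrank_mul_finrank (Epow k K p) N K
    rw [finrank_Epow hK hg p] at hmul
    rcases hp.eq_one_or_self_of_dvd _ (Dvd.intro _ hmul) with h1 | h1
    · refine hy ?_
      have hyN : y ∈ N := le_sup_left (a := M.restrictScalars k) (b := Epow k K p)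
        (IntermediateField.algebraMap_mem M (⟨y, IntermediateField.mem_adjoin_simple_self k y⟩ : F))
      have : FiniteDimensional (Epow k K p) N := Module.finite_of_finrank_eq_succ (n := 0) h1
      obtain ⟨a, ha⟩ := (Algebra.bijective_algebraMap_iff.2 (Subalgebra.bot_eq_top_of_finrank_eq_one h1).symm).2
        ⟨y, hyN⟩
      rw [show y = (a : K) from (congrArg Subtype.val ha).symm]
      exact a.2
    · rw [h1, Nat.mul_eq_left hp.ne_zero] at hmul
      exact hN (IntermediateField.finrank_eq_one_iff_eq_top.1 hmul)
  by_cases hNtop : N = ⊤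
  swap
  · exact hN hNtop
  -- descent
  have hstep : ∀ m, S (m + 1) = ⊤ → S m = ⊤ := fun m hm => by
    rw [eq_top_iff, ← hNtop]
    refine sup_le (fun z hz => (hS m z).2 (pow_mem hz _)) (IntermediateField.adjoin_le_iff.2 ?_)
    rintro _ ⟨z, rfl⟩
    refine (hS m _).2 ?_
    rw [← pow_mul, ← pow_succ']
    exact (hS (m + 1) z).1 (hm ▸ IntermediateField.mem_top)
  choose e he using fun z : K => IsPurelyInseparable.pow_mem M p z
  let b := Module.finBasis F K
  let m₀ := Finset.univ.sup fun i => e (b i)
  have hmono : ∀ z n, e z ≤ n → z ^ p ^ n ∈ M := fun z n hn => by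
    obtain ⟨a, ha⟩ := he z
    rw [show z ^ p ^ n = (z ^ p ^ e z) ^ p ^ (n - e z) by
      rw [← pow_mul, ← pow_add, Nat.add_sub_cancel' hn], ← ha]
    exact pow_mem a.2 _
  have htop : S m₀ = ⊤ := by
    refine eq_top_iff.2 fun z _ => ?_
    rw [← b.sum_repr z]
    refine sum_mem fun i _ => ?_
    rw [Algebra.smul_def]
    refine mul_mem ((hS _ _).2 (pow_mem (IntermediateField.algebraMap_mem M (b.repr z i)) _))
      ((hS _ _).2 (hmono _ _ (Finset.le_sup (f := fun i => e (b i)) (Finset.mem_univ i))))
  have h0 : S 0 = ⊤ := by
    have : ∀ m, S m = ⊤ → S 0 = ⊤ := fun m => by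
      induction m with
      | zero => exact id
      | succ m ih => exact fun h => ih (hstep m h)
    exact this _ htop
  refine (separableClosure.eq_top_iff F K).1 (eq_top_iff.2 fun z _ => ?_)
  have := (hS 0 z).1 (h0 ▸ IntermediateField.mem_top)
  simpa using this

theorem transcendental_of_hasse (hK : IsFunctionField k K) {s : K} {H : K →ₐ[k] PowerSeries K}
    (hH : LocRes.IsHasseFamily s H) : Transcendental k s := fun halg => by
  obtain ⟨c, rfl⟩ := hK.2 s halg
  have := hasseD_one_self hH
  simp [LocRes.hasseD, PowerSeries.algebraMap_apply, PowerSeries.coeff_C] at this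

/-- The element of a total Hasse derivative is separating. -/
theorem isSepVar_of_hasse (hK : IsFunctionField k K) (hg : IsGeometric k K) {s : K}
    {H : K →ₐ[k] PowerSeries K} (hH : LocRes.IsHasseFamily s H) : IsSepVar k s := by
  obtain _ | ⟨p, hp, hpK⟩ := CharP.exists' K
  · have := finiteDimensional_adjoin hK (transcendental_of_hasse hK hH)
    infer_instance
  · exact isSepVar_of_notMem_Epow hK hg p fun h =>
      one_ne_zero ((hasseD_one_self hH).symm.trans (hasseD_one_eq_zero_of_mem hH p h))

/-- A local parameter at a place is separating when every residue field is `k`. -/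
theorem isSepVar_of_uniformizer (hK : IsFunctionField k K) (hg : IsGeometric k K) [PerfectField k]
    {P : Place k K} {t : K} (ht : P.1 t = WithZero.exp (-1)) : IsSepVar k t := by
  have htt : Transcendental k t :=
    transcendental_of_val_lt_one (P := P) (ne_zero_of_val P ht) (by rw [ht, Ne, WithZero.exp_eq_one]; omega) hK.2
  obtain _ | ⟨p, hp, hpK⟩ := CharP.exists' K
  · have := finiteDimensional_adjoin hK htt
    infer_instance
  · refine isSepVar_of_notMem_Epow hK hg p fun h => ?_
    have : CharP k p := (algebraMap k K).charP (algebraMap k K).injective p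
    have : ExpChar k p := ExpChar.prime hp.out
    have : ExpChar K p := ExpChar.prime hp.out
    -- over a perfect base `k K^p = K^p`
    have hroot : ∀ y ∈ Epow k K p, ∃ z, z ^ p = y := fun y hy => by
      induction hy using IntermediateField.adjoin_induction with
      | mem y hy => exact hy
      | algebraMap c => exact ⟨algebraMap k K ((frobeniusEquiv k p).symm c), by
          rw [← map_pow, ← frobenius_def, frobenius_apply_frobeniusEquiv_symm]⟩
      | add a b _ _ ha hb =>
        obtain ⟨u, rfl⟩ := ha; obtain ⟨v, rfl⟩ := hb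
        exact ⟨u + v, add_pow_expChar u v p⟩
      | inv a _ ha => obtain ⟨u, rfl⟩ := ha; exact ⟨u⁻¹, inv_pow u p⟩
      | mul a b _ _ ha hb =>
        obtain ⟨u, rfl⟩ := ha; obtain ⟨v, rfl⟩ := hb
        exact ⟨u * v, mul_pow u v p⟩
    obtain ⟨z, hz⟩ := hroot t h
    have h2 := ord_eq_of_val P ht
    rw [← hz, ord_pow] at h2
    have h3 : (p : ℤ) ∣ 1 := ⟨P.ord z, by omega⟩
    have := hp.out.one_lt
    have := Int.le_of_dvd one_pos h3
    omega

/-- `du = D¹(u) ds`. -/
theorem kaehler_eq_hasseD_smul {s : K} {H : K →ₐ[k] PowerSeries K} (hH : LocRes.IsHasseFamily s H)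
    (hsep : IsSepVar k s) (y : K) :
    KaehlerDifferential.D k K y = LocRes.hasseD H 1 y • KaehlerDifferential.D k K s := by
  have hmul := hasseD_one_mul H hH.2
  -- the exceptional set is a derivation
  let δ : Derivation k K (KaehlerDifferential k K) := KaehlerDifferential.D k K -
    { toFun := fun y => LocRes.hasseD H 1 y • KaehlerDifferential.D k K s
      map_add' := fun a b => by simp [LocRes.hasseD, add_smul]
      map_smul' := fun c a => by
        simp [LocRes.hasseD, Algebra.smul_def, PowerSeries.algebraMap_apply, ← IsScalarTower.algebraMap_smul K c,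
          smul_smul]
      map_one_eq_zero' := by simp [LocRes.hasseD, PowerSeries.coeff_one]
      leibniz' := fun a b => by
        show LocRes.hasseD H 1 (a * b) • KaehlerDifferential.D k K s = a • LocRes.hasseD H 1 b • KaehlerDifferential.D k K s +
          b • LocRes.hasseD H 1 a • KaehlerDifferential.D k K s
        rw [hmul, add_smul, smul_smul, smul_smul] }
  suffices h : δ y = 0 from sub_eq_zero.1 h
  have hbase : ∀ z ∈ IntermediateField.adjoin k ({s} : Set K), δ z = 0 := fun z hz => by
    induction hz using IntermediateField.adjoin_induction with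
    | mem z hz =>
      obtain rfl := Set.mem_singleton_iff.1 hz
      show KaehlerDifferential.D k K z - LocRes.hasseD H 1 z • _ = 0
      rw [hasseD_one_self hH, one_smul, sub_self]
    | algebraMap c => exact δ.map_algebraMap c
    | add a b _ _ ha hb => rw [map_add, ha, hb, add_zero]
    | inv a _ ha => rw [δ.leibniz_inv, ha, smul_zero]
    | mul a b _ _ ha hb => rw [δ.leibniz, ha, hb, smul_zero, smul_zero, add_zero]
  set E := IntermediateField.adjoin k ({s} : Set K)
  have hy : IsSeparable E y := Algebra.IsSeparable.isSeparable _ y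
  have h0 := congrArg δ (minpoly.aeval E y)
  rw [map_zero, Polynomial.aeval_eq_sum_range, map_sum] at h0
  have hder : ∀ i, δ ((minpoly E y).coeff i • y ^ i) =
      (((minpoly E y).coeff i : K) * (i * y ^ (i - 1))) • δ y := fun i => by
    rw [Algebra.smul_def, δ.leibniz, δ.leibniz_pow]
    show ((minpoly E y).coeff i : K) • i • y ^ (i - 1) • δ y + y ^ i • δ ((minpoly E y).coeff i : K) = _
    rw [hbase _ ((minpoly E y).coeff i).2, smul_zero, add_zero, ← Nat.cast_smul_eq_nsmul K, smul_smul, smul_smul,
      mul_assoc]
  simp only [hder, ← Finset.sum_smul] at h0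
  refine (smul_eq_zero.1 h0).resolve_left ?_
  have := hy.aeval_derivative_ne_zero (minpoly.aeval E y)
  rw [Polynomial.derivative_apply, Polynomial.sum_over_range _ (by simp), map_sum] at this
  refine fun hz => this (Eq.trans (Finset.sum_congr rfl fun i _ => ?_) hz)
  simp [mul_assoc]

theorem kaehler_D_sepVar_ne_zero (hK : IsFunctionField k K) {s : K} (hs : Transcendental k s)
    (hsep : IsSepVar k s) : KaehlerDifferential.D k K s ≠ 0 := fun h0 => by
  have := finiteDimensional_adjoin hK hs
  obtain ⟨H, hH⟩ := exists_hasseFamily hs hsep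
  let d : Derivation k K K :=
    { toFun := LocRes.hasseD H 1
      map_add' := fun a b => by simp [LocRes.hasseD]
      map_smul' := fun c a => by simp [LocRes.hasseD, Algebra.smul_def, PowerSeries.algebraMap_apply]
      map_one_eq_zero' := by simp [LocRes.hasseD, PowerSeries.coeff_one]
      leibniz' := fun a b => hasseD_one_mul H hH.2 a b }
  have := d.liftKaehlerDifferential_comp_D s
  rw [h0, map_zero] at this
  exact one_ne_zero ((hasseD_one_self hH).symm.trans this.symm)

end Groth.Agent.FunFldLib
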