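import Groth.Agent.FunFld.ConstField
import Groth.Agent.FunFld.Separating
import Mathlib.FieldTheory.Galois.Basic
import Mathlib.FieldTheory.SeparableClosure

/-!
Counting the places of a function field over a finite field by the fixed places of Frobenius on the
extension to an algebraic closure, and the square-root error term.
-/

namespace Groth.Agent.FunFldLib

open FunFld WithZero

/-- `∑_{deg P ∣ m} deg P`: the number of points with values in the extension of degree `m`. -/
noncomputable def pointCount (k K : Type*) [Field k] [Field K] [Algebra k K] (m : ℕ) : ℕ :=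
  ∑ᶠ P ∈ {P : Place k K | P.deg ∣ m}, P.deg

section Fix

variable {k K kb Kb : Type*} [Field k] [Field K] [Field kb] [Field Kb]
  [Algebra k K] [Algebra k kb] [Algebra k Kb] [Algebra K Kb] [Algebra kb Kb]
  [IsScalarTower k K Kb] [IsScalarTower k kb Kb]
  [Finite k] [IsAlgClosed kb] [Algebra.IsAlgebraic k kb] [Algebra.IsAlgebraic K Kb]

omit [IsAlgClosed kb] [Algebra.IsAlgebraic k kb] [Algebra.IsAlgebraic K Kb] in
theorem forall_pow_eq_iff_deg_dvd (hK : IsFunctionField k K) (P : Place k K) (m : ℕ) :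
    (∀ w : IsLocalRing.ResidueField P.O, w ^ Nat.card k ^ m = w) ↔ P.deg ∣ m := by
  have : Fintype k := Fintype.ofFinite k
  have : @Module.Finite k (IsLocalRing.ResidueField P.O) _ _ Algebra.toModule :=
    finiteDimensional_residueField hK P
  have : Finite (IsLocalRing.ResidueField P.O) :=
    @Module.finite_of_finite k (IsLocalRing.ResidueField P.O) _ _ Algebra.toModule _ this
  rw [show P.deg = @Module.finrank k (IsLocalRing.ResidueField P.O) _ _ Algebra.toModule from rfl,
    ← FiniteField.orderOf_frobeniusAlgHom k (IsLocalRing.ResidueField P.O), orderOf_dvd_iff_pow_eq_one,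
    Nat.card_eq_fintype_card]
  have happ : ∀ w, (FiniteField.frobeniusAlgHom k (IsLocalRing.ResidueField P.O) ^ m) w =
      w ^ Fintype.card k ^ m := fun w => by
    rw [AlgHom.coe_pow, FiniteField.coe_frobeniusAlgHom, pow_iterate]
  constructor
  · intro h
    exact AlgHom.ext fun w => (happ w).trans (h w)
  · intro h w
    rw [← happ, h]
    rfl

omit [IsAlgClosed kb] [Algebra.IsAlgebraic k kb] in
theorem one_lt_card_pow {m : ℕ} (hm : 0 < m) : 1 < Nat.card k ^ m :=
  Nat.one_lt_pow hm.ne' Finite.one_lt_card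

/-- The places fixed by Frobenius are those over places of degree dividing `m`. -/
theorem mem_fixPlaces_iff (hK : IsFunctionField k K)
    (hgen : Algebra.adjoin K (Set.range (algebraMap kb Kb)) = ⊤) (hKb : IsFunctionField kb Kb)
    {m : ℕ} (hm : 0 < m) {ψ : Kb ≃+* Kb} (hid : ∀ x : K, ψ (algebraMap K Kb x) = algebraMap K Kb x)
    (hψ : IsFrobSemi kb (Nat.card k ^ m) ψ) (Q : Place kb Kb) :
    Q ∈ fixPlaces kb ψ ↔ (belowC k K Q).deg ∣ m := by
  have hq := one_lt_card_pow (k := k) hm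
  set Q' := semiPull hq hψ Q
  have hb : belowC k K Q' = belowC k K Q := belowC_eq fun x hx => by
    rw [semiPull_val, hid]; exact (le_one_iff_belowC Q x).2 hx
  have hfix : Q ∈ fixPlaces kb ψ ↔ Q' = Q :=
    ⟨fun h => Subtype.ext (Valuation.ext fun z => h z), fun h z => congrArg (fun R : Place kb Kb => R.1 z) h⟩
  have hres : ∀ w, embC hKb (belowC k K Q) ⟨Q', hb⟩ w =
      embC hKb (belowC k K Q) ⟨Q, rfl⟩ w ^ Nat.card k ^ m := fun w => by
    obtain ⟨a, rfl⟩ := IsLocalRing.residue_surjective w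
    rw [embC_residue, embC_residue]
    refine resC_eq ?_
    rw [semiPull_val, map_sub, hid, map_pow, map_pow, hψ]
    exact resC_spec hKb ((le_one_iff_belowC Q (a : K)).2 a.2)
  rw [hfix, ← forall_pow_eq_iff_deg_dvd hK]
  constructor
  · intro h w
    refine (embC hKb (belowC k K Q) ⟨Q, rfl⟩).injective ?_
    show embC hKb (belowC k K Q) ⟨Q, rfl⟩ (w ^ Nat.card k ^ m) = embC hKb (belowC k K Q) ⟨Q, rfl⟩ w
    rw [map_pow, ← hres w]
    exact congrArg (fun R => embC hKb (belowC k K Q) R w) (Subtype.ext h)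
  · intro h
    refine congrArg Subtype.val ((embC_bijective hK hgen hKb (belowC k K Q)).1
      (a₁ := ⟨Q', hb⟩) (a₂ := ⟨Q, rfl⟩) (AlgHom.ext fun w => ?_))
    rw [hres w, ← map_pow, h]

theorem card_fixPlaces (hK : IsFunctionField k K)
    (hgen : Algebra.adjoin K (Set.range (algebraMap kb Kb)) = ⊤) (hKb : IsFunctionField kb Kb)
    {m : ℕ} (hm : 0 < m) {ψ : Kb ≃+* Kb} (hid : ∀ x : K, ψ (algebraMap K Kb x) = algebraMap K Kb x)
    (hψ : IsFrobSemi kb (Nat.card k ^ m) ψ) (hfin : (fixPlaces kb ψ).Finite) :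
    {P : Place k K | P.deg ∣ m}.Finite ∧ (fixPlaces kb ψ).ncard = pointCount k K m := by
  classical
  have hiff := mem_fixPlaces_iff hK hgen hKb hm hid hψ
  have hbij := embC_bijective (k := k) (K := K) hK hgen hKb
  have hne : ∀ P : Place k K, ∃ Q : Place kb Kb, belowC k K Q = P := fun P => by
    have h := Nat.card_eq_of_bijective _ (hbij P)
    rw [card_embC hK P] at h
    have hpos := deg_pos hK P
    have : Nonempty {Q : Place kb Kb // belowC k K Q = P} := (Nat.card_pos_iff.1 (h ▸ hpos)).1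
    exact ⟨this.some.1, this.some.2⟩
  have hset : {P : Place k K | P.deg ∣ m} = belowC k K '' fixPlaces kb ψ := Set.ext fun P => by
    constructor
    · intro hP
      obtain ⟨Q, rfl⟩ := hne P
      exact ⟨Q, (hiff Q).2 hP, rfl⟩
    · rintro ⟨Q, hQ, rfl⟩
      exact (hiff Q).1 hQ
  have hS : {P : Place k K | P.deg ∣ m}.Finite := hset ▸ hfin.image _
  refine ⟨hS, ?_⟩
  rw [pointCount, finsum_mem_eq_finite_toFinset_sum _ hS, Set.ncard_eq_toFinset_card _ hfin,
    Finset.card_eq_sum_card_fiberwise (f := belowC k K) (t := hS.toFinset) fun Q hQ => by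
      rw [Finset.mem_coe, Set.Finite.mem_toFinset] at hQ ⊢
      exact (hiff Q).1 hQ]
  refine Finset.sum_congr rfl fun P hP => ?_
  rw [Set.Finite.mem_toFinset] at hP
  rw [← card_embC (kb := kb) hK P, ← Nat.card_eq_of_bijective _ (hbij P), ← Nat.card_eq_finsetCard]
  refine Nat.card_congr
    { toFun := fun Q => ⟨Q.1, (Finset.mem_filter.1 Q.2).2⟩
      invFun := fun Q => ⟨Q.1, Finset.mem_filter.2 ⟨hfin.mem_toFinset.2 ((hiff Q.1).2 (Q.2.symm ▸ hP)), Q.2⟩⟩
      left_inv := fun _ => rfl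
      right_inv := fun _ => rfl }

/-- The inverse Frobenius on constants, extended. -/
theorem exists_frobSemi (hK : IsFunctionField k K)
    (hgen : Algebra.adjoin K (Set.range (algebraMap kb Kb)) = ⊤) (m : ℕ) :
    ∃ (ψ : Kb ≃+* Kb) (τ : kb ≃+* kb), (∀ x : K, ψ (algebraMap K Kb x) = algebraMap K Kb x) ∧
      (∀ c, ψ (algebraMap kb Kb c) = algebraMap kb Kb (τ c)) ∧ IsFrobSemi kb (Nat.card k ^ m) ψ := by
  have : Fintype k := Fintype.ofFinite k
  let τ : kb ≃ₐ[k] kb := (FiniteField.frobeniusAlgEquivOfAlgebraic k kb ^ m).symm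
  refine ⟨(constAut hK.2 hgen τ).toRingEquiv, τ.toRingEquiv, constAut_algebraMap hK.2 hgen τ,
    constAut_const hK.2 hgen τ, fun c => ?_⟩
  show constAut hK.2 hgen τ (algebraMap kb Kb c) ^ Nat.card k ^ m = algebraMap kb Kb c
  rw [constAut_const, ← map_pow, Nat.card_eq_fintype_card]
  congr 1
  have h := (FiniteField.frobeniusAlgEquivOfAlgebraic k kb ^ m).apply_symm_apply c
  rwa [AlgEquiv.coe_pow, FiniteField.coe_frobeniusAlgEquivOfAlgebraic, pow_iterate] at h

end Fix

section Stable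

variable {K₀ K Ω : Type*} [Field K₀] [Field K] [Field Ω] [Algebra K₀ K] [Algebra K₀ Ω] [Algebra K Ω]
  [IsScalarTower K₀ K Ω]

theorem normalClosure_stable (Φ : Ω ≃+* Ω) (ψ : K ≃+* K)
    (hcomp : ∀ z, Φ (algebraMap K Ω z) = algebraMap K Ω (ψ z))
    (h₁ : ∀ y : K₀, ∃ y' : K₀, ψ (algebraMap K₀ K y) = algebraMap K₀ K y')
    (h₂ : ∀ y : K₀, ∃ y' : K₀, ψ.symm (algebraMap K₀ K y) = algebraMap K₀ K y')
    {z : Ω} (hz : z ∈ IntermediateField.normalClosure K₀ K Ω) :
    Φ z ∈ IntermediateField.normalClosure K₀ K Ω := by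
  let M : IntermediateField K₀ Ω :=
    { (IntermediateField.normalClosure K₀ K Ω).toSubfield.comap (Φ : Ω →+* Ω) with
      algebraMap_mem' := fun y => by
        obtain ⟨y', hy'⟩ := h₁ y
        show Φ (algebraMap K₀ Ω y) ∈ IntermediateField.normalClosure K₀ K Ω
        rw [IsScalarTower.algebraMap_apply K₀ K Ω, hcomp, hy', ← IsScalarTower.algebraMap_apply]
        exact IntermediateField.algebraMap_mem _ y' }
  have hle : IntermediateField.normalClosure K₀ K Ω ≤ M := normalClosure_le_iff.2 fun f => by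
    rintro _ ⟨w, rfl⟩
    show Φ (f w) ∈ IntermediateField.normalClosure K₀ K Ω
    let g : K →ₐ[K₀] Ω :=
      { (Φ : Ω →+* Ω).comp ((f : K →+* Ω).comp (ψ.symm : K →+* K)) with
        commutes' := fun y => by
          obtain ⟨y', hy'⟩ := h₂ y
          show Φ (f (ψ.symm (algebraMap K₀ K y))) = algebraMap K₀ Ω y
          rw [hy', f.commutes, IsScalarTower.algebraMap_apply K₀ K Ω, hcomp, ← hy', RingEquiv.apply_symm_apply,
            ← IsScalarTower.algebraMap_apply] }
    have hg : g (ψ w) = Φ (f w) := by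
      show Φ (f (ψ.symm (ψ w))) = Φ (f w)
      rw [RingEquiv.symm_apply_apply]
    exact hg ▸ g.fieldRange_le_normalClosure ⟨ψ w, rfl⟩
  exact hle hz

end Stable

section Bound

theorem mapsTo_adjoin_simple {F E : Type*} [Field F] [Field E] [Algebra F E] (ψ : E ≃+* E)
    (hF : ∀ c : F, ∃ c' : F, ψ (algebraMap F E c) = algebraMap F E c') {s : E} (hs : ψ s = s)
    {y : E} (hy : y ∈ IntermediateField.adjoin F ({s} : Set E)) :
    ψ y ∈ IntermediateField.adjoin F ({s} : Set E) := by
  induction hy using IntermediateField.adjoin_induction with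
  | mem u hu => rw [Set.mem_singleton_iff.1 hu, hs]; exact IntermediateField.mem_adjoin_simple_self F s
  | algebraMap c => obtain ⟨c', hc'⟩ := hF c; rw [hc']; exact IntermediateField.algebraMap_mem _ c'
  | add u v _ _ hu hv => rw [map_add]; exact add_mem hu hv
  | inv u _ hu => rw [map_inv₀]; exact inv_mem hu
  | mul u v _ _ hu hv => rw [map_mul]; exact mul_mem hu hv

variable {k K kb Kb : Type*} [Field k] [Field K] [Field kb] [Field Kb]
  [Algebra k K] [Algebra k kb] [Algebra k Kb] [Algebra K Kb] [Algebra kb Kb]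
  [IsScalarTower k K Kb] [IsScalarTower k kb Kb]
  [Finite k] [IsAlgClosed kb] [Algebra.IsAlgebraic k kb] [Algebra.IsAlgebraic K Kb]

omit [IsAlgClosed kb] [Algebra.IsAlgebraic k kb] [Algebra.IsAlgebraic K Kb] in
theorem exists_notMem_Epow (p : ℕ) (hgen : Algebra.adjoin K (Set.range (algebraMap kb Kb)) = ⊤)
    {s : Kb} (hs : s ∉ Epow kb Kb p) : ∃ x : K, algebraMap K Kb x ∉ Epow kb Kb p := by
  by_contra hall
  push Not at hall
  refine hs ?_
  have hz : s ∈ Algebra.adjoin K (Set.range (algebraMap kb Kb)) := by rw [hgen]; trivial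
  clear hs
  induction hz using Algebra.adjoin_induction with
  | mem y hy => obtain ⟨c, rfl⟩ := hy; exact IntermediateField.algebraMap_mem _ c
  | algebraMap r => exact hall r
  | add x y _ _ hx hy => exact add_mem hx hy
  | mul x y _ _ hx hy => exact mul_mem hx hy

theorem pointCount_bound_aux (hK : IsFunctionField k K)
    (hgen : Algebra.adjoin K (Set.range (algebraMap kb Kb)) = ⊤) :
    ∃ C : ℝ, ∀ m : ℕ, 0 < m → {P : Place k K | P.deg ∣ m}.Finite ∧
      |(pointCount k K m : ℝ) - ((Nat.card k : ℝ) ^ m)| ≤ C * Real.sqrt ((Nat.card k : ℝ) ^ m) := by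
  classical
  have : Fintype k := Fintype.ofFinite k
  have hKb := isFunctionField_constExt hK hgen
  obtain ⟨p, hchar⟩ := CharP.exists k
  obtain ⟨f, hp, hcard⟩ := FiniteField.card k p
  have : Fact p.Prime := ⟨hp⟩
  have : CharP kb p := charP_of_injective_algebraMap (algebraMap k kb).injective p
  have : CharP Kb p := charP_of_injective_algebraMap (algebraMap k Kb).injective p
  have hg : IsGeometric kb Kb := isGeometric_of_isAlgClosed
  obtain ⟨s, hs, hsep⟩ := exists_sepVar hKb hg
  obtain ⟨x, hx⟩ := exists_notMem_Epow p hgen (sepVar_notMem_Epow hKb p hs hsep)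
  have hxsep : IsSepVar kb (algebraMap K Kb x) := isSepVar_of_notMem_Epow hKb hg p hx
  have hxt : Transcendental kb (algebraMap K Kb x) := fun halg => hx (by
    obtain ⟨c, hc⟩ := hKb.2 _ halg
    rw [← hc]
    exact IntermediateField.algebraMap_mem _ c)
  set K₀ := IntermediateField.adjoin kb ({algebraMap K Kb x} : Set Kb)
  have : FiniteDimensional K₀ Kb := finiteDimensional_adjoin hKb hxt
  have : Algebra.IsSeparable K₀ Kb := hxsep
  obtain ⟨hK₀, htop⟩ := isFunctionField_adjoin hKb hxt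
  let Ω := AlgebraicClosure Kb
  have : Algebra.IsAlgebraic K₀ Ω := Algebra.IsAlgebraic.trans K₀ Kb Ω
  have : IsAlgClosure K₀ Ω := ⟨inferInstance, inferInstance⟩
  have : Normal K₀ Ω := IsAlgClosure.normal K₀ Ω
  let L := IntermediateField.normalClosure K₀ Kb Ω
  have : Algebra.IsSeparable K₀ L := (le_separableClosure_iff K₀ Ω L).1 (normalClosure_le_iff.2 fun g => by
    rintro _ ⟨w, rfl⟩
    rw [mem_separableClosure_iff]
    show (minpoly K₀ (g w)).Separable
    rw [minpoly.algHom_eq g g.injective]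
    exact Algebra.IsSeparable.isSeparable K₀ w)
  have : IsGalois K₀ L := ⟨⟩
  have : FiniteDimensional K₀ L := inferInstance
  have : FiniteDimensional Kb L := Module.Finite.of_restrictScalars_finite K₀ Kb L
  have : CharP L p := charP_of_injective_algebraMap (algebraMap Kb L).injective p
  have : IsScalarTower kb Kb L := IsScalarTower.of_algebraMap_eq fun c => Subtype.ext (by
    show algebraMap kb Ω c = algebraMap Kb Ω (algebraMap kb Kb c)
    exact IsScalarTower.algebraMap_apply kb Kb Ω c)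
  have hL : IsFunctionField kb L := by
    refine ⟨isFF_of_finite (K := Kb) hKb, fun y hy => ?_⟩
    have : Algebra.IsAlgebraic kb (IntermediateField.adjoin kb ({y} : Set L)) :=
      IntermediateField.isAlgebraic_adjoin_simple hy.isIntegral
    obtain ⟨c, hc⟩ := (IsAlgClosed.algebraMap_bijective_of_isIntegral
      (k := kb) (K := IntermediateField.adjoin kb ({y} : Set L))).2
      ⟨y, IntermediateField.mem_adjoin_simple_self kb y⟩
    exact ⟨c, congrArg Subtype.val hc⟩
  obtain ⟨C, hC⟩ := fix_lower (K := Kb) (L := L) hK₀ hKb hL htop p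
  set C₀ := 2 * (genus kb Kb : ℝ) ^ 3 + 2 * genus kb Kb ^ 2 + 4 * genus kb Kb
  refine ⟨max C (C₀ + 1), fun m hm => ?_⟩
  obtain ⟨ψ, τ, hid, hτ, hψ⟩ := exists_frobSemi (kb := kb) (Kb := Kb) hK hgen m
  have he : 0 < (f : ℕ) * m := Nat.mul_pos f.pos hm
  have hqe : Nat.card k ^ m = p ^ ((f : ℕ) * m) := by rw [Nat.card_eq_fintype_card, hcard, pow_mul]
  rw [hqe] at hψ
  obtain ⟨hfin, hup⟩ := fix_upper hKb p _ he hψ
  -- extend to the normal closure
  let Φ : Ω ≃+* Ω := IsAlgClosure.equivOfEquiv Ω Ω ψ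
  have hΦ : ∀ z, Φ (algebraMap Kb Ω z) = algebraMap Kb Ω (ψ z) := fun z =>
    IsAlgClosure.equivOfEquiv_algebraMap Ω Ω ψ z
  have hΦ' : ∀ z, Φ.symm (algebraMap Kb Ω z) = algebraMap Kb Ω (ψ.symm z) := fun z =>
    IsAlgClosure.equivOfEquiv_symm_algebraMap Ω Ω ψ z
  have h₁ : ∀ y : K₀, ∃ y' : K₀, ψ (algebraMap K₀ Kb y) = algebraMap K₀ Kb y' := fun y =>
    ⟨⟨_, mapsTo_adjoin_simple ψ (fun c => ⟨_, hτ c⟩) (hid x) y.2⟩, rfl⟩
  have h₂ : ∀ y : K₀, ∃ y' : K₀, ψ.symm (algebraMap K₀ Kb y) = algebraMap K₀ Kb y' := fun y =>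
    ⟨⟨_, mapsTo_adjoin_simple ψ.symm (fun c => ⟨τ.symm c, ψ.injective (by
        rw [RingEquiv.apply_symm_apply, hτ, RingEquiv.apply_symm_apply])⟩)
      (ψ.injective (by rw [RingEquiv.apply_symm_apply, hid])) y.2⟩, rfl⟩
  let ψL : L ≃+* L :=
    { toFun := fun z => ⟨Φ z, normalClosure_stable Φ ψ hΦ h₁ h₂ z.2⟩
      invFun := fun z => ⟨Φ.symm z, normalClosure_stable Φ.symm ψ.symm hΦ' h₂ h₁ z.2⟩
      left_inv := fun z => Subtype.ext (Φ.symm_apply_apply z)
      right_inv := fun z => Subtype.ext (Φ.apply_symm_apply z)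
      map_mul' := fun a b => Subtype.ext (map_mul Φ _ _)
      map_add' := fun a b => Subtype.ext (map_add Φ _ _) }
  have hLcomp : ∀ z, ψL (algebraMap Kb L z) = algebraMap Kb L (ψ z) := fun z => Subtype.ext (hΦ z)
  have hψL : IsFrobSemi kb (p ^ ((f : ℕ) * m)) ψL := fun c => by
    rw [IsScalarTower.algebraMap_apply kb Kb L, hLcomp, ← map_pow, hψ c]
  have hlow := hC _ he ψL ψ hψL hψ hLcomp (by
    rw [IsScalarTower.algebraMap_apply K₀ Kb L, hLcomp]
    exact congrArg _ (hid x))
  rw [← hqe] at hψ hup hlow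
  obtain ⟨hS, hN⟩ := card_fixPlaces hK hgen hKb hm hid hψ hfin
  refine ⟨hS, ?_⟩
  rw [hN, Nat.cast_pow] at hup hlow
  have hsq : 1 ≤ Real.sqrt ((Nat.card k : ℝ) ^ m) := Real.one_le_sqrt.2 (by
    exact_mod_cast (one_lt_card_pow (k := k) hm).le)
  rw [abs_le]
  constructor
  · nlinarith [mul_le_mul_of_nonneg_right (le_max_left C (C₀ + 1)) (zero_le_one.trans hsq)]
  · nlinarith [mul_le_mul_of_nonneg_right (le_max_right C (C₀ + 1)) (zero_le_one.trans hsq)]

end Bound

/-- The number of points over the extension of degree `m` is `q ^ m` up to a square-root error. -/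
theorem pointCount_bound {k K : Type*} [Field k] [Finite k] [Field K] [Algebra k K] (hK : IsFunctionField k K) :
    ∃ C : ℝ, ∀ m : ℕ, 0 < m → {P : Place k K | P.deg ∣ m}.Finite ∧
      |(pointCount k K m : ℝ) - ((Nat.card k : ℝ) ^ m)| ≤ C * Real.sqrt ((Nat.card k : ℝ) ^ m) := by
  let Ω := AlgebraicClosure K
  let kb := algebraicClosure k Ω
  let Kb := IntermediateField.adjoin K (kb : Set Ω)
  have hmem : ∀ c : kb, (c : Ω) ∈ Kb := fun c => IntermediateField.subset_adjoin K _ c.2
  let _ : Algebra kb Kb := (RingHom.codRestrict (algebraMap kb Ω) Kb hmem).toAlgebra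
  have : IsScalarTower k kb Kb := IsScalarTower.of_algebraMap_eq fun c => Subtype.ext (by
    show algebraMap K Ω (algebraMap k K c) = algebraMap k Ω c
    rw [← IsScalarTower.algebraMap_apply])
  have : IsAlgClosure k kb := algebraicClosure.isAlgClosure k Ω
  have : IsAlgClosed kb := this.isAlgClosed
  have : Algebra.IsAlgebraic k kb := algebraicClosure.isAlgebraic k Ω
  have hgen : Algebra.adjoin K (Set.range (algebraMap kb Kb)) = ⊤ := by
    refine Subalgebra.map_injective (f := Kb.val) Subtype.val_injective ?_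
    rw [Algebra.map_top, AlgHom.map_adjoin, ← Set.range_comp]
    have hr : Set.range (Kb.val ∘ algebraMap kb Kb) = (kb : Set Ω) :=
      Set.ext fun z => ⟨by rintro ⟨c, rfl⟩; exact c.2, fun hz => ⟨⟨z, hz⟩, rfl⟩⟩
    rw [hr, ← IntermediateField.adjoin_toSubalgebra_of_isAlgebraic fun z hz =>
      IsAlgebraic.tower_top (K := k) (A := Ω) K (mem_algebraicClosure_iff.1 hz)]
    exact SetLike.ext' (Subtype.range_val).symm
  exact pointCount_bound_aux hK hgen

end Groth.Agent.FunFldLib
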