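import Groth.Agent.FunFld.Local
import Mathlib.RingTheory.Valuation.RamificationGroup
import Mathlib.FieldTheory.Galois.Basic

/-!
Places in a finite Galois extension: conjugation, transitivity, decomposition groups; finiteness of
ramification in separable extensions.
-/

namespace Groth.Agent.FunFldLib

open FunFld WithZero
open scoped Pointwise

variable {k K K' : Type*} [Field k] [Field K] [Field K'] [Algebra k K] [Algebra K K'] [Algebra k K']
  [IsScalarTower k K K']

/-- The conjugate place `Q ∘ σ`. -/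
noncomputable def conjPlace (Q : Place k K') (σ : K' ≃ₐ[K] K') : Place k K' :=
  ⟨Q.1.comap (σ : K' →+* K'), fun c => by
      rw [Valuation.comap_apply, IsScalarTower.algebraMap_apply k K K']
      simp only [RingHom.coe_coe, AlgEquiv.commutes]
      rw [← IsScalarTower.algebraMap_apply]
      exact Q.2.1 c,
    fun a => let ⟨z, hz⟩ := Q.2.2 a; ⟨σ.symm z, by simp [hz]⟩⟩

theorem conjPlace_val (Q : Place k K') (σ : K' ≃ₐ[K] K') (x : K') : (conjPlace Q σ).1 x = Q.1 (σ x) := rfl

theorem conjPlace_mul (Q : Place k K') (σ τ : K' ≃ₐ[K] K') :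
    conjPlace Q (σ * τ) = conjPlace (conjPlace Q σ) τ := Subtype.ext (Valuation.ext fun _ => rfl)

theorem conjPlace_one (Q : Place k K') : conjPlace Q (1 : K' ≃ₐ[K] K') = Q :=
  Subtype.ext (Valuation.ext fun _ => rfl)

theorem isOverWith_conjPlace {Q : Place k K'} {P : Place k K} {e : ℕ} (h : IsOverWith Q P e)
    (σ : K' ≃ₐ[K] K') : IsOverWith (conjPlace Q σ) P e := fun x => by
  rw [conjPlace_val, AlgEquiv.commutes]; exact h x

theorem deg_conjPlace (Q : Place k K') (σ : K' ≃ₐ[K] K') : (conjPlace Q σ).deg = Q.deg := by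
  let s : (conjPlace Q σ).O ≃+* Q.O :=
    { toFun := fun x => ⟨σ x.1, x.2⟩
      invFun := fun x => ⟨σ.symm x.1, by show Q.1 (σ (σ.symm x.1)) ≤ 1; rw [AlgEquiv.apply_symm_apply]; exact x.2⟩
      left_inv := fun x => Subtype.ext (σ.symm_apply_apply _)
      right_inv := fun x => Subtype.ext (σ.apply_symm_apply _)
      map_mul' := fun x y => Subtype.ext (map_mul σ _ _)
      map_add' := fun x y => Subtype.ext (map_add σ _ _) }
  refine Algebra.finrank_eq_of_equiv_equiv (RingEquiv.refl k) (IsLocalRing.ResidueField.mapEquiv s) ?_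
  ext c
  show IsLocalRing.residue Q.O (algebraMap k Q.O c) =
    IsLocalRing.ResidueField.map (s : (conjPlace Q σ).O →+* Q.O)
      (IsLocalRing.residue (conjPlace Q σ).O (algebraMap k (conjPlace Q σ).O c))
  rw [IsLocalRing.ResidueField.map_residue]
  refine congrArg _ (Subtype.ext ?_)
  show algebraMap k K' c = σ (algebraMap k K' c)
  rw [IsScalarTower.algebraMap_apply k K K', AlgEquiv.commutes]

variable [FiniteDimensional K K'] [IsGalois K K']

theorem exists_conjPlace (hK : IsFunctionField k K) {Q₁ Q₂ : Place k K'} {P : Place k K}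
    (h₁ : IsOver Q₁ P) (h₂ : IsOver Q₂ P) : ∃ σ : K' ≃ₐ[K] K', conjPlace Q₁ σ = Q₂ := by
  classical
  by_contra hne
  push Not at hne
  let O₁ := Finset.univ.image fun σ : K' ≃ₐ[K] K' => conjPlace Q₁ σ
  let O₂ := Finset.univ.image fun σ : K' ≃ₐ[K] K' => conjPlace Q₂ σ
  have hdis : ∀ R ∈ O₂, R ∉ O₁ := fun R hR hR' => by
    obtain ⟨σ, -, rfl⟩ := Finset.mem_image.1 hR
    obtain ⟨τ, -, hτ⟩ := Finset.mem_image.1 hR'
    refine hne (τ * σ⁻¹) ?_
    rw [conjPlace_mul, hτ, ← conjPlace_mul, mul_inv_cancel, conjPlace_one]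
  obtain ⟨x, hx⟩ := exists_approx_eq (k := k) (K := K') (O₁ ∪ O₂) (fun _ => 0)
    (fun R => if R ∈ O₂ then -1 else 0)
  have hx' : ∀ R ∈ O₁ ∪ O₂, R.ord x = if R ∈ O₂ then 1 else 0 := fun R hR => by
    have := hx R hR
    rw [sub_zero] at this
    rw [ord_eq_of_val R this]; split_ifs <;> rfl
  have hx0 : x ≠ 0 := by
    have := hx (conjPlace Q₁ 1) (Finset.mem_union_left _ (Finset.mem_image_of_mem _ (Finset.mem_univ _)))
    rw [sub_zero] at this
    exact ne_zero_of_val _ this
  have hN : ∀ Q : Place k K', Q.ord (algebraMap K K' (Algebra.norm K x)) =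
      ∑ σ : K' ≃ₐ[K] K', (conjPlace Q σ).ord x := fun Q => by
    rw [Algebra.norm_eq_prod_automorphisms]
    induction (Finset.univ : Finset (K' ≃ₐ[K] K')) using Finset.induction_on with
    | empty => simp
    | insert a s ha ih =>
      rw [Finset.prod_insert ha, Finset.sum_insert ha, ord_mul Q (by simpa using hx0)
        (Finset.prod_ne_zero_iff.2 fun σ _ => by simpa using hx0), ih]
      rfl
  have h1 : Q₁.ord (algebraMap K K' (Algebra.norm K x)) = 0 := by
    rw [hN]
    refine Finset.sum_eq_zero fun σ _ => ?_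
    have hm : conjPlace Q₁ σ ∈ O₁ := Finset.mem_image_of_mem _ (Finset.mem_univ _)
    rw [hx' _ (Finset.mem_union_left _ hm), if_neg fun h => hdis _ h hm]
  have h2 : 0 < Q₂.ord (algebraMap K K' (Algebra.norm K x)) := by
    rw [hN]
    refine Finset.sum_pos (fun σ _ => ?_) Finset.univ_nonempty
    have hm : conjPlace Q₂ σ ∈ O₂ := Finset.mem_image_of_mem _ (Finset.mem_univ _)
    rw [hx' _ (Finset.mem_union_right _ hm), if_pos hm]
    exact one_pos
  have hn0 : Algebra.norm K x ≠ 0 := Algebra.norm_ne_zero_iff.2 hx0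
  obtain ⟨e₁, he₁⟩ := h₁
  obtain ⟨e₂, he₂⟩ := h₂
  rw [isOverWith_ord he₁ hn0] at h1
  rw [isOverWith_ord he₂ hn0] at h2
  rw [(mul_eq_zero.1 h1).resolve_left (by exact_mod_cast (isOverWith_pos he₁).ne'), mul_zero] at h2
  exact h2.false

omit [FiniteDimensional K K'] [IsGalois K K'] in
theorem decomposition_iff (Q : Place k K') (σ : K' ≃ₐ[K] K') :
    σ ∈ Q.O.decompositionSubgroup K ↔ conjPlace Q σ = Q := by
  rw [MulAction.mem_stabilizer_iff, ValuationSubring.ext_iff]
  constructor
  · intro h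
    refine place_ext fun x hx => ?_
    have := (h (σ x)).2 (show Q.1 (σ x) ≤ 1 from hx)
    rwa [show σ x = σ • x from rfl, ValuationSubring.smul_mem_pointwise_smul_iff] at this
  · intro h y
    rw [ValuationSubring.mem_pointwise_smul_iff_inv_smul_mem]
    show Q.1 (σ.symm y) ≤ 1 ↔ Q.1 y ≤ 1
    conv_rhs => rw [← σ.apply_symm_apply y, ← conjPlace_val Q σ, h]

open scoped Classical in
theorem card_places_mul_card_decomposition (hK : IsFunctionField k K) {Q : Place k K'} {P : Place k K}
    (hQ : IsOver Q P) :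
    Nat.card {Q' : Place k K' // IsOver Q' P} * Nat.card (Q.O.decompositionSubgroup K) =
      Module.finrank K K' := by
  rw [← IsGalois.card_aut_eq_finrank K K', Subgroup.card_eq_card_quotient_mul_card_subgroup
    (Q.O.decompositionSubgroup K)]
  congr 1
  -- cosets correspond to conjugates
  have key : ∀ σ τ : K' ≃ₐ[K] K', conjPlace Q σ⁻¹ = conjPlace Q τ⁻¹ ↔
      QuotientGroup.mk (s := Q.O.decompositionSubgroup K) σ = QuotientGroup.mk τ := fun σ τ => by
    rw [QuotientGroup.eq, decomposition_iff]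
    constructor
    · intro h
      rw [conjPlace_mul, h, ← conjPlace_mul, inv_mul_cancel, conjPlace_one]
    · intro h
      calc conjPlace Q σ⁻¹ = conjPlace (conjPlace Q (σ⁻¹ * τ)) τ⁻¹ := by
            rw [← conjPlace_mul]; congr 1; group
        _ = conjPlace Q τ⁻¹ := by rw [h]
  let f : (K' ≃ₐ[K] K') ⧸ Q.O.decompositionSubgroup K → {Q' : Place k K' // IsOver Q' P} :=
    Quotient.lift (fun σ => ⟨conjPlace Q σ⁻¹, let ⟨e, he⟩ := hQ; ⟨e, isOverWith_conjPlace he _⟩⟩)
      fun a b hab => Subtype.ext ((key a b).2 (Quotient.sound hab))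
  refine (Nat.card_congr (Equiv.ofBijective f ⟨?_, ?_⟩)).symm
  · intro a b
    induction a using QuotientGroup.induction_on
    induction b using QuotientGroup.induction_on
    intro h
    exact (key _ _).1 (congrArg Subtype.val h)
  · rintro ⟨R, hR⟩
    obtain ⟨σ, hσ⟩ := exists_conjPlace hK hQ hR
    exact ⟨QuotientGroup.mk σ⁻¹, Subtype.ext (by simpa [f] using hσ)⟩

theorem card_decomposition_mul_deg (hK : IsFunctionField k K) {Q : Place k K'} {P : Place k K} {e : ℕ}
    (he : IsOverWith Q P e) : Nat.card (Q.O.decompositionSubgroup K) * P.deg = e * Q.deg := by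
  classical
  have hfin := finite_isOver (K' := K') hK P
  have h1 := card_places_mul_card_decomposition hK ⟨e, he⟩
  have h2 := (finite_isOver_and_sum (K' := K') hK P).2 hfin.toFinset fun _ => hfin.mem_toFinset
  rw [Finset.sum_congr rfl (g := fun _ => e * Q.deg) fun R hR => by
    obtain ⟨σ, hσ⟩ := exists_conjPlace hK ⟨e, he⟩ (hfin.mem_toFinset.1 hR)
    rw [← hσ, ramIdx_eq (isOverWith_conjPlace he σ), deg_conjPlace], Finset.sum_const, smul_eq_mul] at h2
  have h3 : Nat.card {Q' : Place k K' // IsOver Q' P} = hfin.toFinset.card := Nat.card_eq_card_finite_toFinset hfin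
  rw [← h1, h3, mul_assoc] at h2
  exact (Nat.eq_of_mul_eq_mul_left (Finset.card_pos.2 ⟨Q, hfin.mem_toFinset.2 ⟨e, he⟩⟩) h2).symm

end Groth.Agent.FunFldLib
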