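import Groth.Agent.FunFld.Local
import Mathlib.LinearAlgebra.Matrix.Charpoly.Coeff
import Mathlib.RingTheory.Trace.Basic

/-!
Almost all places are unramified in a finite separable extension.
-/

namespace Groth.Agent.FunFldLib

open FunFld WithZero

variable {k K K' : Type*} [Field k] [Field K] [Field K'] [Algebra k K] [Algebra K K'] [Algebra k K']
  [IsScalarTower k K K'] [FiniteDimensional K K']

theorem val_trace_le_one (hK : IsFunctionField k K) {P : Place k K} {x : K'} (hx : IntAbove P x) :
    P.1 (Algebra.trace K K' x) ≤ 1 := by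
  classical
  obtain ⟨z, hz, hrep, -, -⟩ := exists_local_basis (K' := K') hK P
  rw [Algebra.trace_eq_matrix_trace z]
  exact P.1.map_sum_le fun i _ => by
    rw [Matrix.diag_apply, Algebra.leftMulMatrix_eq_repr_mul]; exact hrep _ (hx.mul (hz i)) i

theorem val_trace_lt_one (hK : IsFunctionField k K) {P : Place k K} {x : K'} (hx : IntAbove P x)
    (hx2 : ∀ Q : Place k K', IsOver Q P → Q.1 (x * x) ≤ exp (-(ramIdx Q P : ℤ))) :
    P.1 (Algebra.trace K K' x) < 1 := by
  classical
  obtain ⟨z, hz, hrep, hlt, -⟩ := exists_local_basis (K' := K') hK P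
  let M : Matrix (Fin (Module.finrank K K')) (Fin (Module.finrank K K')) P.O := Matrix.of fun i j =>
    ⟨Algebra.leftMulMatrix z x i j, by
      show P.1 _ ≤ 1
      rw [Algebra.leftMulMatrix_eq_repr_mul]; exact hrep _ (hx.mul (hz j)) i⟩
  have hM : M.map P.O.subtype = Algebra.leftMulMatrix z x := by ext i j; rfl
  have h2 : (M * M).map (IsLocalRing.residue P.O) = 0 := by
    ext i j
    rw [Matrix.map_apply, Matrix.zero_apply, ← val_lt_one_iff_residue]
    have h : ((M * M) i j : K) = Algebra.leftMulMatrix z (x * x) i j := by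
      rw [map_mul, ← hM, ← Matrix.map_mul]; rfl
    rw [h, Algebra.leftMulMatrix_eq_repr_mul]
    refine hlt _ (fun Q hQ => ?_) i
    rw [map_mul]
    exact (mul_le_of_le_one_right' (hz j Q hQ)).trans (hx2 Q hQ)
  have hnil : IsNilpotent (M.map (IsLocalRing.residue P.O)) :=
    ⟨2, by rw [pow_two, ← Matrix.map_mul, h2]⟩
  have h0 := (Matrix.isNilpotent_trace_of_isNilpotent hnil).eq_zero
  rw [← AddMonoidHom.map_trace, ← val_lt_one_iff_residue] at h0
  rw [Algebra.trace_eq_matrix_trace z, ← hM, ← AddMonoidHom.map_trace]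
  exact h0

theorem finite_ramified (hK : IsFunctionField k K) [Algebra.IsSeparable K K'] :
    {Q : Place k K' | ramIdx Q (below (K := K) Q) ≠ 1}.Finite := by
  classical
  let w := Module.finBasis K K'
  let T := Algebra.traceMatrix K w
  have hdet : T.det ≠ 0 := by
    show (Algebra.traceMatrix K w).det ≠ 0
    rw [Algebra.traceMatrix_of_basis]
    exact (LinearMap.BilinForm.nondegenerate_iff_det_ne_zero _).1 (traceForm_nondegenerate K K')
  let badK' : Set (Place k K') := ⋃ i, {Q | Q.ord (w i) < 0}
  let bad : Set (Place k K) := (below (K := K)) '' badK' ∪ Function.support fun P : Place k K => P.ord T.det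
  have hbad : bad.Finite :=
    ((Set.finite_iUnion fun i => finite_poles_ff (isFF_of_finite hK) (w i)).image _).union (finite_support_ord hK _)
  refine (hbad.biUnion fun P _ => finite_isOver (K' := K') hK P).subset fun Q hQ => ?_
  set P := below (K := K) Q with hPdef
  refine Set.mem_iUnion₂.2 ⟨P, ?_, isOver_below Q⟩
  by_contra hP
  simp only [bad, Set.mem_union, not_or, Set.mem_image, not_exists, not_and, Function.mem_support, not_not] at hP
  obtain ⟨hw, hT⟩ := hP
  have hwint : ∀ i, IntAbove P (w i) := fun i R hR => by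
    rw [val_le_one_iff R (w.ne_zero i)]
    by_contra hneg
    exact hw R (Set.mem_iUnion.2 ⟨i, not_le.1 hneg⟩) ((isOver_iff_below R P).1 hR)
  have hPdet : P.1 T.det = 1 := by rw [val_eq_exp P hdet, hT, neg_zero, exp_zero]
  have he : 2 ≤ ramIdx Q P := by
    have := isOverWith_pos (isOverWith_ramIdx (isOver_below (K := K) Q))
    have : ramIdx Q P ≠ 1 := hQ
    rw [← hPdef] at *
    omega
  set S := (finite_isOver (K' := K') hK P).toFinset
  obtain ⟨y, hy⟩ := exists_approx_eq (k := k) (K := K') S (fun _ => 0)
    (fun R => if R = Q then 1 - (ramIdx R P : ℤ) else -(ramIdx R P : ℤ))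
  have hy' : ∀ R, IsOver R P → R.1 y = exp (if R = Q then 1 - (ramIdx R P : ℤ) else -(ramIdx R P : ℤ)) :=
    fun R hR => by simpa using hy R ((finite_isOver hK P).mem_toFinset.2 hR)
  have hpos : ∀ R : Place k K', IsOver R P → 1 ≤ ramIdx R P := fun R hR => isOverWith_pos (isOverWith_ramIdx hR)
  have hyint : IntAbove P y := fun R hR => by
    rw [hy' R hR, ← exp_zero, exp_le_exp]; have := hpos R hR; split_ifs <;> omega
  have htr : ∀ j, P.1 (Algebra.trace K K' (y * w j)) < 1 := fun j =>
    val_trace_lt_one hK (hyint.mul (hwint j)) fun R hR => by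
      have h1 : R.1 (y * w j) ≤ R.1 y := by rw [map_mul]; exact mul_le_of_le_one_right' (hwint j R hR)
      rw [map_mul]
      refine (mul_le_mul' h1 h1).trans ?_
      rw [hy' R hR, ← exp_add, exp_le_exp]
      have := hpos R hR
      split_ifs with h
      · subst h; omega
      · omega
  have hTint : ∀ i j, P.1 (T i j) ≤ 1 := fun i j => by
    show P.1 (Algebra.traceForm K K' (w i) (w j)) ≤ 1
    rw [Algebra.traceForm_apply]; exact val_trace_le_one hK ((hwint i).mul (hwint j))
  let c : Fin (Module.finrank K K') → K := fun i => w.repr y i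
  have hTc : ∀ j, T.mulVec c j = Algebra.trace K K' (y * w j) := fun j => by
    conv_rhs => rw [← w.sum_repr y, Finset.sum_mul, map_sum]
    simp only [Matrix.mulVec, dotProduct]
    refine Finset.sum_congr rfl fun i _ => ?_
    show Algebra.traceForm K K' (w j) (w i) * c i = _
    rw [Algebra.traceForm_apply, smul_mul_assoc, map_smul, smul_eq_mul, mul_comm (w j), mul_comm]
  have hc : ∀ i, P.1 (c i) < 1 := fun i => by
    have hadj : T.det * c i = ∑ j, T.adjugate i j * T.mulVec c j := by
      have := congrFun (congrArg (fun A : Matrix _ _ K => A.mulVec c) T.adjugate_mul) i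
      simp only [← Matrix.mulVec_mulVec, Matrix.smul_mulVec, Matrix.one_mulVec, Pi.smul_apply, smul_eq_mul] at this
      exact this.symm
    have hA : ∀ a b, P.1 (T.adjugate a b) ≤ 1 := fun a b => by
      rw [Matrix.adjugate_apply]
      refine val_det_le_one P _ fun u v => ?_
      rw [Matrix.updateRow_apply]
      split_ifs
      · rcases eq_or_ne v a with rfl | hne
        · simp
        · simp [hne]
      · exact hTint u v
    have := congrArg P.1 hadj
    rw [map_mul, hPdet, one_mul] at this
    rw [this]
    refine P.1.map_sum_lt one_ne_zero fun j _ => ?_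
    rw [map_mul, hTc]
    exact (mul_le_of_le_one_left' (hA i j)).trans_lt (htr j)
  have hbound : Q.1 y ≤ exp (-(ramIdx Q P : ℤ)) := by
    conv_lhs => rw [← w.sum_repr y]
    refine Q.1.map_sum_le fun i _ => ?_
    rw [Algebra.smul_def, map_mul]
    refine (mul_le_of_le_one_right' (hwint i Q (isOver_below Q))).trans ?_
    rw [isOverWith_ramIdx (isOver_below (K := K) Q) (c i), ← hPdef]
    rcases eq_or_ne (c i) 0 with h0 | h0
    · simp [h0, (hpos Q (isOver_below Q)).trans_lt' zero_lt_one |>.ne']
    have := hc i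
    rw [val_lt_one_iff P h0] at this
    rw [val_eq_exp P h0, ← exp_nsmul, exp_le_exp, nsmul_eq_mul]
    have : (0 : ℤ) ≤ ramIdx Q P := Int.natCast_nonneg _
    nlinarith
  rw [hy' Q (isOver_below Q), if_pos rfl, exp_le_exp] at hbound
  omega

end Groth.Agent.FunFldLib
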