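import Groth.Agent.S11053
import Groth.Agent.FunFld.Unramified
import Groth.Agent.FunFld.Galois
import Groth.Agent.FunFld.CanDeg

/-!
Counting places fixed by a Frobenius-semilinear automorphism: upper and lower square-root bounds.
-/

namespace Groth.Agent.FunFldLib

open FunFld WithZero

section Semilinear

variable {k K : Type*} [Field k] [IsAlgClosed k] [Field K] [Algebra k K]

/-- An automorphism whose `q`-th power is linear: on constants it is the inverse of `c ↦ c ^ q`. -/
def IsFrobSemi (k : Type*) {K : Type*} [Field k] [Field K] [Algebra k K] (q : ℕ) (ψ : K ≃+* K) : Prop :=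
  ∀ c : k, ψ (algebraMap k K c) ^ q = algebraMap k K c

/-- The places fixed by an automorphism. -/
def fixPlaces (k : Type*) {K : Type*} [Field k] [Field K] [Algebra k K] (ψ : K ≃+* K) : Set (Place k K) :=
  {P | ∀ z, P.1 (ψ z) = P.1 z}

omit [IsAlgClosed k] in
theorem val_const_le {q : ℕ} (hq : 1 < q) {ψ : K ≃+* K} (hψ : IsFrobSemi k q ψ) (P : Place k K) (c : k) :
    P.1 (ψ (algebraMap k K c)) ≤ 1 := by
  by_contra h
  push Not at h
  have h2 := one_lt_pow₀ h (show q ≠ 0 by omega)
  rw [← map_pow, hψ c] at h2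
  exact absurd (P.2.1 c) (not_le.2 h2)

/-- The place `P ∘ ψ`. -/
noncomputable def semiPull {q : ℕ} (hq : 1 < q) {ψ : K ≃+* K} (hψ : IsFrobSemi k q ψ) (P : Place k K) :
    Place k K :=
  ⟨P.1.comap (ψ : K →+* K), fun c => val_const_le hq hψ P c,
    fun a => let ⟨z, hz⟩ := P.2.2 a; ⟨ψ.symm z, by simp [hz]⟩⟩

omit [IsAlgClosed k] in
theorem semiPull_val {q : ℕ} (hq : 1 < q) {ψ : K ≃+* K} (hψ : IsFrobSemi k q ψ) (P : Place k K) (z : K) :
    (semiPull hq hψ P).1 z = P.1 (ψ z) := rfl

omit [IsAlgClosed k] in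
theorem semiPull_ord {q : ℕ} (hq : 1 < q) {ψ : K ≃+* K} (hψ : IsFrobSemi k q ψ) (P : Place k K) (z : K) :
    (semiPull hq hψ P).ord z = P.ord (ψ z) := rfl

omit [IsAlgClosed k] in
theorem semiPull_injective {q : ℕ} (hq : 1 < q) {ψ : K ≃+* K} (hψ : IsFrobSemi k q ψ) :
    Function.Injective (semiPull (k := k) hq hψ) := fun P Q h => Subtype.ext (Valuation.ext fun x => by
  have := congrArg (fun S : Place k K => S.1 (ψ.symm x)) h
  simpa [semiPull_val] using this)

theorem semiPull_surjective (hK : IsFunctionField k K) {q : ℕ} (hq : 1 < q) {ψ : K ≃+* K}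
    (hψ : IsFrobSemi k q ψ) : Function.Surjective (semiPull (k := k) hq hψ) := fun P => by
  have hc : ∀ c : k, P.1 (ψ.symm (algebraMap k K c)) ≤ 1 := fun c => by
    have h2 : ψ.symm (algebraMap k K c) = algebraMap k K c ^ q := ψ.injective (by
      rw [RingEquiv.apply_symm_apply, map_pow, hψ])
    rw [h2, map_pow]
    exact pow_le_one₀ zero_le (P.2.1 c)
  exact ⟨⟨P.1.comap (ψ.symm : K →+* K), hc, fun a => let ⟨z, hz⟩ := P.2.2 a; ⟨ψ z, by simp [hz]⟩⟩,
    Subtype.ext (Valuation.ext fun x => by simp [semiPull_val])⟩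

/-- The linear endomorphism `z ↦ ψ z ^ q`. -/
noncomputable def frobEnd (p e : ℕ) [Fact p.Prime] [CharP K p] {ψ : K ≃+* K} (hψ : IsFrobSemi k (p ^ e) ψ) :
    K →ₐ[k] K :=
  { (iterateFrobenius K p e).comp (ψ : K →+* K) with
    commutes' := fun c => by
      show iterateFrobenius K p e (ψ (algebraMap k K c)) = algebraMap k K c
      rw [iterateFrobenius_def]; exact hψ c }

theorem frobEnd_apply (p e : ℕ) [Fact p.Prime] [CharP K p] {ψ : K ≃+* K} (hψ : IsFrobSemi k (p ^ e) ψ) (z : K) :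
    frobEnd p e hψ z = ψ z ^ p ^ e := iterateFrobenius_def p e (ψ z)

theorem finrank_frobEnd (hK : IsFunctionField k K) (p e : ℕ) [Fact p.Prime] [CharP K p] (he : 0 < e)
    {ψ : K ≃+* K} (hψ : IsFrobSemi k (p ^ e) ψ) :
    Module.finrank (frobEnd p e hψ).fieldRange K = p ^ e := by
  classical
  have hq : 1 < p ^ e := Nat.one_lt_pow he.ne' (Fact.out : p.Prime).one_lt
  have := finiteDimensional_fieldRange hK (frobEnd p e hψ)
  obtain ⟨x, hx, -⟩ := hK.1
  have hx0 : x ≠ 0 := fun h => hx (h ▸ isAlgebraic_zero)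
  set φ : Fin 2 → K := ![1, x] with hφ
  have hφ0 : ∀ i, φ i ≠ 0 := fun i => by fin_cases i <;> simp [φ, hx0]
  have h1 := deg_mapDiv_algHom hK (frobEnd p e hψ) φ hφ0
  have happ : ∀ P : Place k K, mapDiv k ((frobEnd p e hψ) ∘ φ) P =
      (p ^ e : ℕ) * mapDiv k φ (semiPull hq hψ P) := fun P => by
    rw [mapDiv_apply hK.1, mapDiv_apply hK.1, mul_neg]
    congr 1
    rw [Finset.inf'_congr Finset.univ_nonempty rfl fun i _ => show P.ord ((frobEnd p e hψ ∘ φ) i) =
        ((p ^ e : ℕ) : ℤ) * (semiPull hq hψ P).ord (φ i) by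
      rw [Function.comp_apply, frobEnd_apply, ord_pow, semiPull_ord]]
    exact (Finset.apply_inf'_eq_inf'_comp Finset.univ_nonempty (fun x : ℤ => ((p ^ e : ℕ) : ℤ) * x)
      (fun a b => mul_min_of_nonneg a b (Int.natCast_nonneg _))).symm
  let E : Place k K ≃ Place k K :=
    Equiv.ofBijective (semiPull (k := k) hq hψ) ⟨semiPull_injective hq hψ, semiPull_surjective hK hq hψ⟩
  have hsum : ∀ D : Divisor k K, D.deg = ∑ P ∈ D.support, D P := fun D => by
    rw [Divisor.deg, Finsupp.sum]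
    exact Finset.sum_congr rfl fun P _ => by rw [deg_eq_one hK P, Nat.cast_one, mul_one]
  have h2 : (mapDiv k ((frobEnd p e hψ) ∘ φ)).deg = ((p ^ e : ℕ) : ℤ) * (mapDiv k φ).deg := by
    rw [hsum, hsum, Finset.mul_sum]
    refine Finset.sum_bij' (fun P _ => E P) (fun P _ => E.symm P) (fun P hP => ?_) (fun P hP => ?_)
      (fun P _ => E.symm_apply_apply P) (fun P _ => E.apply_symm_apply P) (fun P _ => happ P)
    · simp only [Finsupp.mem_support_iff] at hP ⊢
      intro h
      exact hP (by rw [happ P, show semiPull hq hψ P = E P from rfl, h, mul_zero])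
    · simp only [Finsupp.mem_support_iff] at hP ⊢
      rw [happ, show semiPull hq hψ (E.symm P) = P from E.apply_symm_apply P]
      exact mul_ne_zero (by have := hq; omega) hP
  have h3 : 0 < (mapDiv k φ).deg := by
    have hm : mapDiv k φ = polesDiv k x := Finsupp.ext fun P => by
      rw [mapDiv_apply hK.1, polesDiv_apply hK]
      have : (Finset.univ : Finset (Fin 2)).inf' Finset.univ_nonempty (fun i => P.ord (φ i)) = min 0 (P.ord x) := by
        refine le_antisymm (le_min ?_ ?_) (Finset.le_inf' _ _ fun i _ => ?_)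
        · exact Finset.inf'_le_of_le _ (Finset.mem_univ 0) (by simp [φ])
        · exact Finset.inf'_le_of_le _ (Finset.mem_univ 1) (by simp [φ])
        · fin_cases i <;> simp [φ]
      rw [this]; omega
    rw [hm, deg_poles hK hx]
    have := finiteDimensional_adjoin hK hx
    exact_mod_cast Module.finrank_pos
  rw [h2] at h1
  exact_mod_cast (mul_right_cancel₀ h3.ne' h1).symm

/-- The upper bound. -/
theorem fix_upper (hK : IsFunctionField k K) (p e : ℕ) [Fact p.Prime] [CharP K p] (he : 0 < e)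
    {ψ : K ≃+* K} (hψ : IsFrobSemi k (p ^ e) ψ) :
    (fixPlaces k ψ).Finite ∧ ((fixPlaces k ψ).ncard : ℝ) ≤
      (p ^ e : ℕ) + 1 + (2 * (genus k K : ℝ) ^ 3 + 2 * genus k K ^ 2 + 4 * genus k K) * Real.sqrt (p ^ e : ℕ) := by
  have hq : 2 ≤ p ^ e := Nat.one_lt_pow he.ne' (Fact.out : p.Prime).one_lt
  set g := genus k K
  set n := g + 1 + Nat.sqrt (p ^ e) with hn
  obtain ⟨hfin, hbound⟩ := Groth.Agent.S11053.result k K hK (frobEnd p e hψ) n (by omega)
  have hsub : fixPlaces k ψ ⊆ {P : Place k K | ∀ x : K, P.1 x < 1 → P.1 (frobEnd p e hψ x) ≤ exp (-2)} :=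
    fun P hP z hz => by
      rw [frobEnd_apply, map_pow, hP z]
      rcases eq_or_ne z 0 with rfl | h0
      · rw [map_zero, zero_pow (by omega)]; exact zero_le
      have hpos := (val_lt_one_iff P h0).1 hz
      rw [val_eq_exp P h0, ← exp_nsmul, exp_le_exp, nsmul_eq_mul]
      have h2q : (2 : ℤ) ≤ ((p ^ e : ℕ) : ℤ) := by exact_mod_cast hq
      nlinarith
  refine ⟨hfin.subset hsub, le_trans (Nat.cast_le.2 (Set.ncard_le_ncard hsub hfin)) (hbound.trans ?_)⟩
  rw [finrank_frobEnd hK p e he hψ]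
  set Q : ℝ := ((p ^ e : ℕ) : ℝ)
  set S := Real.sqrt Q with hS
  have hQ1 : (1 : ℝ) ≤ Q := by simp only [Q]; exact_mod_cast (le_trans one_le_two hq)
  have hSS : S * S = Q := Real.mul_self_sqrt (by linarith)
  have hS1 : 1 ≤ S := Real.one_le_sqrt.2 hQ1
  have hn1 : (n : ℝ) ≤ g + 1 + S := by
    have h := Real.nat_sqrt_le_real_sqrt (a := p ^ e)
    simp only [n, Nat.cast_add, Nat.cast_one]
    linarith
  have hn2 : S ≤ n := by
    have h := Real.real_sqrt_le_nat_sqrt_succ (a := p ^ e)
    simp only [n, Nat.cast_add, Nat.cast_one]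
    have : (0 : ℝ) ≤ g := Nat.cast_nonneg g
    linarith
  have hnpos : (0 : ℝ) < n := by linarith
  have h1 : Q / n ≤ S := by rw [div_le_iff₀ hnpos, ← hSS]; exact mul_le_mul_of_nonneg_left hn2 (by linarith)
  have hg0 : (0 : ℝ) ≤ g := Nat.cast_nonneg g
  have h2 : 2 * (g : ℝ) ^ 2 * ((g : ℝ) - 1) / n ≤ 2 * (g : ℝ) ^ 3 := by
    rw [div_le_iff₀ hnpos]
    have hn1' : (1 : ℝ) ≤ n := by linarith
    have : 0 ≤ (g : ℝ) ^ 3 := by positivity
    nlinarith [mul_le_mul_of_nonneg_left hn1' (show (0 : ℝ) ≤ 2 * (g : ℝ) ^ 3 by positivity)]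
  have h3 : ((n : ℝ) + Q / n) * g ≤ ((g : ℝ) + 1 + 2 * S) * g := mul_le_mul_of_nonneg_right (by linarith) hg0
  nlinarith [mul_le_mul_of_nonneg_left hS1 (show (0 : ℝ) ≤ 2 * (g : ℝ) ^ 3 + 2 * g ^ 2 + 2 * g by positivity)]

end Semilinear

section Lower

variable {k K₀ K L : Type*} [Field k] [IsAlgClosed k] [Field K₀] [Field K] [Field L]
  [Algebra k K₀] [Algebra k K] [Algebra k L] [Algebra K₀ K] [Algebra K₀ L] [Algebra K L]
  [IsScalarTower k K₀ K] [IsScalarTower k K₀ L] [IsScalarTower k K L] [IsScalarTower K₀ K L]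
  [FiniteDimensional K₀ L] [FiniteDimensional K L] [IsGalois K₀ L]

open scoped Classical in
/-- The lower bound, by averaging over the cosets of a Galois group. -/
theorem fix_lower (hK₀ : IsFunctionField k K₀) (hK : IsFunctionField k K) (hL : IsFunctionField k L) {x : K₀}
    (htop : IntermediateField.adjoin k ({x} : Set K₀) = ⊤) (p : ℕ) [Fact p.Prime] [CharP L p] [CharP K p]
    [CharP k p] :
    ∃ C : ℝ, ∀ (e : ℕ), 0 < e → ∀ (ψL : L ≃+* L) (ψK : K ≃+* K), IsFrobSemi k (p ^ e) ψL →
      IsFrobSemi k (p ^ e) ψK → (∀ z, ψL (algebraMap K L z) = algebraMap K L (ψK z)) →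
      ψL (algebraMap K₀ L x) = algebraMap K₀ L x →
      ((p ^ e : ℕ) : ℝ) - C * Real.sqrt (p ^ e : ℕ) ≤ ((fixPlaces k ψK).ncard : ℝ) := by
  set G := L ≃ₐ[K₀] L
  set C₀ := 2 * (genus k L : ℝ) ^ 3 + 2 * genus k L ^ 2 + 4 * genus k L
  have hramfin := finite_ramified (K' := L) hK₀
  set r := (hramfin.toFinset.image fun Q => below (K := K₀) Q).card with hr
  refine ⟨(Fintype.card G : ℝ) * (r + 2 + C₀), fun e he ψL ψK hψL hψK hcomp hx => ?_⟩
  have hq : 1 < p ^ e := Nat.one_lt_pow he.ne' (Fact.out : p.Prime).one_lt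
  set q := p ^ e
  have hxt : Transcendental k x := not_isAlgebraic_all hK₀ htop
  obtain ⟨Pi, hPix, hfinite⟩ := rat_places hK₀ htop
  -- the constants fixed by the Frobenius
  set R := ((Polynomial.X ^ q - Polynomial.X : Polynomial k).rootSet k).toFinset with hR
  have hRcard : R.card = q := by
    rw [hR, Set.toFinset_card, Polynomial.card_rootSet_eq_natDegree
      (galois_poly_separable p q (dvd_pow_self p he.ne')) (IsAlgClosed.splits _)]
    exact FiniteField.X_pow_card_sub_X_natDegree_eq k hq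
  have hRfix : ∀ c ∈ R, ψL (algebraMap k L c) = algebraMap k L c := fun c hc => by
    rw [hR, Set.mem_toFinset, Polynomial.mem_rootSet] at hc
    have hc' : c ^ q = c := by simpa [sub_eq_zero] using hc.2
    refine iterateFrobenius_inj L p e ?_
    rw [iterateFrobenius_def, iterateFrobenius_def, hψL, ← map_pow, hc']
  -- their places
  have hPc : ∀ c : k, ∃ P : Place k K₀, P.1 (x - algebraMap k K₀ c) = exp (-1) := fun c => by
    obtain ⟨P, hP⟩ := exists_place_ord_pos hK₀ (t := x - algebraMap k K₀ c) fun h => hxt (by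
      have := h.add (isAlgebraic_algebraMap (A := K₀) c)
      rwa [sub_add_cancel] at this)
    have hy0 : x - algebraMap k K₀ c ≠ 0 := fun h => by rw [h, ord_zero] at hP; omega
    have hlt : P.1 (x - algebraMap k K₀ c) < 1 := (val_lt_one_iff P hy0).2 hP
    obtain ⟨-, d, hd⟩ := hfinite P fun h => by
      subst h
      rw [P.1.map_sub_eq_of_lt_left ((P.2.1 c).trans_lt (by rw [hPix, ← exp_zero, exp_lt_exp]; omega)), hPix,
        ← exp_zero, exp_lt_exp] at hlt
      omega
    exact ⟨P, by rwa [sub_const_unique hlt (hd.trans_lt (by rw [← exp_zero, exp_lt_exp]; omega))]⟩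
  choose Pc hPc using hPc
  have hPinj : Function.Injective Pc := fun c d h => by
    have h1 := (hPc c).trans_lt (show exp (-1 : ℤ) < 1 by rw [← exp_zero, exp_lt_exp]; omega)
    have h2 := (hPc d).trans_lt (show exp (-1 : ℤ) < 1 by rw [← exp_zero, exp_lt_exp]; omega)
    rw [h] at h1
    exact sub_const_unique h1 h2
  -- the good base places
  set S := (R.image Pc) \ (hramfin.toFinset.image fun Q => below (K := K₀) Q) with hSdef
  have hScard : (q : ℤ) - r ≤ S.card := by
    have h := Finset.le_card_sdiff (hramfin.toFinset.image fun Q => below (K := K₀) Q) (R.image Pc)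
    rw [Finset.card_image_of_injective _ hPinj, hRcard] at h
    rw [hSdef]
    omega
  choose Qs hQs using fun P : Place k K₀ =>
    (⟨(finite_isOver_and_sum (K' := L) hK₀ P).1.toFinset, fun Q => Set.Finite.mem_toFinset _⟩ :
      ∃ T : Finset (Place k L), ∀ Q, Q ∈ T ↔ IsOver Q P)
  have hgood : ∀ P ∈ S, ∀ Q ∈ Qs P, IsOverWith Q P 1 := fun P hP Q hQ => by
    have h1 := (hQs P Q).1 hQ
    have h2 := isOverWith_ramIdx h1
    have h3 : ramIdx Q P = 1 := by
      by_contra hne
      refine (Finset.mem_sdiff.1 hP).2 (Finset.mem_image.2 ⟨Q, ?_, (isOver_iff_below Q P).1 h1⟩)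
      rw [Set.Finite.mem_toFinset, Set.mem_ofPred_eq, (isOver_iff_below Q P).1 h1]
      exact hne
    rwa [h3] at h2
  have hQcard : ∀ P ∈ S, (Qs P).card = Fintype.card G := fun P hP => by
    have h := (finite_isOver_and_sum (K' := L) hK₀ P).2 (Qs P) (hQs P)
    rw [deg_eq_one hK₀ P, mul_one, Finset.sum_congr rfl fun Q hQ => by
      rw [ramIdx_eq (hgood P hP Q hQ), deg_eq_one hL Q, mul_one]] at h
    rw [Finset.sum_const, smul_eq_mul, mul_one] at h
    rw [h, ← IsGalois.card_aut_eq_finrank, Nat.card_eq_fintype_card]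
  set T := S.biUnion Qs with hT
  have hTcard : T.card = S.card * Fintype.card G := by
    rw [hT, Finset.card_biUnion fun P _ P' _ hne => Finset.disjoint_left.2 fun Q h1 h2 =>
      hne (eq_of_isOver ((hQs P Q).1 h1) ((hQs P' Q).1 h2)), Finset.sum_congr rfl hQcard,
      Finset.sum_const, smul_eq_mul]
  -- the twisted automorphisms
  have hσψ : ∀ σ : G, IsFrobSemi k q ((σ : L ≃+* L).trans ψL) := fun σ c => by
    show ψL (σ (algebraMap k L c)) ^ q = algebraMap k L c
    rw [IsScalarTower.algebraMap_apply k K₀ L, AlgEquiv.commutes, ← IsScalarTower.algebraMap_apply]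
    exact hψL c
  let Fx : G → Set (Place k L) := fun σ => fixPlaces k ((σ : L ≃+* L).trans ψL)
  have hfixmem : ∀ (σ : G) (Q : Place k L), Q ∈ Fx σ ↔ conjPlace (semiPull hq hψL Q) σ = Q := fun σ Q =>
    ⟨fun h => Subtype.ext (Valuation.ext fun z => h z), fun h z => congrArg (fun R : Place k L => R.1 z) h⟩
  -- exactly one for each place over a good base place
  have huniq : ∀ Q ∈ T, ∃! σ : G, Q ∈ Fx σ := fun Q hQ => by
    obtain ⟨P, hP, hQP⟩ := Finset.mem_biUnion.1 hQ
    have he1 := hgood P hP Q hQP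
    obtain ⟨c, hc, rfl⟩ := Finset.mem_image.1 (Finset.mem_sdiff.1 hP).1
    set y := x - algebraMap k K₀ c
    have hyfix : ψL (algebraMap K₀ L y) = algebraMap K₀ L y := by
      simp only [y, map_sub, hx, ← IsScalarTower.algebraMap_apply, hRfix c hc]
    have hover : IsOver (semiPull hq hψL Q) (Pc c) := by
      have hb := isOver_below (K := K₀) (semiPull hq hψL Q)
      have hlt : (semiPull hq hψL Q).1 (algebraMap K₀ L y) < 1 := by
        rw [semiPull_val, hyfix, he1 y, pow_one, hPc c, ← exp_zero, exp_lt_exp]; omega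
      obtain ⟨e', he'⟩ := hb
      set P' := below (K := K₀) (semiPull hq hψL Q)
      rw [he' y, pow_lt_one_iff_of_nonneg zero_le (isOverWith_pos he').ne'] at hlt
      suffices hP' : P' = Pc c by rw [← hP']; exact ⟨e', he'⟩
      -- `x - c` has only one zero
      by_contra hne
      have hy0 : y ≠ 0 := ne_zero_of_val (Pc c) (hPc c)
      have hyt : IntermediateField.adjoin k ({y⁻¹} : Set K₀) = ⊤ := by
        rw [eq_top_iff, ← htop]
        refine IntermediateField.adjoin_simple_le_iff.2 ?_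
        have hyi := inv_mem (IntermediateField.mem_adjoin_simple_self k y⁻¹)
        rw [inv_inv] at hyi
        rw [show x = y + algebraMap k K₀ c from (sub_add_cancel _ _).symm]
        exact add_mem hyi (IntermediateField.algebraMap_mem _ c)
      have hle : Finsupp.single P' 1 + Finsupp.single (Pc c) 1 ≤ polesDiv k y⁻¹ := fun U => by
        rw [Finsupp.add_apply, polesDiv_apply hK₀, ord_inv, neg_neg]
        have h1 := (val_lt_one_iff P' hy0).1 hlt
        have h2 : (Pc c).ord y = - -1 := ord_eq_of_val (Pc c) (hPc c)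
        rcases eq_or_ne U P' with rfl | hU
        · rw [Finsupp.single_eq_same, Finsupp.single_eq_of_ne hne]; omega
        · rw [Finsupp.single_eq_of_ne hU, zero_add]
          rcases eq_or_ne U (Pc c) with rfl | hU'
          · rw [Finsupp.single_eq_same]; omega
          · rw [Finsupp.single_eq_of_ne hU']; exact le_max_right _ _
      have := deg_mono hle
      rw [deg_add, deg_single, deg_single, deg_eq_one hK₀, deg_eq_one hK₀,
        (genus_eq_zero_of_adjoin_eq_top hK₀ hyt).2] at this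
      omega
    obtain ⟨σ, hσ⟩ := exists_conjPlace hK₀ hover ⟨1, he1⟩
    refine ⟨σ, (hfixmem σ Q).2 hσ, fun τ hτ => ?_⟩
    have hτ' := ((hfixmem τ Q).1 hτ).trans hσ.symm
    obtain ⟨e', he'⟩ := hover
    have he'1 : e' = 1 := by
      have h := isOverWith_conjPlace he' σ
      rw [hσ] at h
      exact (ramIdx_eq h).symm.trans (ramIdx_eq he1)
    subst he'1
    have hD := card_decomposition_mul_deg hK₀ he'
    rw [deg_eq_one hK₀, deg_eq_one hL, mul_one, mul_one] at hD
    have := (Nat.card_eq_one_iff_unique.1 hD).1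
    have hmem : τ * σ⁻¹ ∈ (semiPull hq hψL Q).O.decompositionSubgroup K₀ := by
      rw [decomposition_iff, conjPlace_mul, hτ', ← conjPlace_mul, mul_inv_cancel, conjPlace_one]
    exact mul_inv_eq_one.1 (congrArg Subtype.val
      (Subsingleton.elim (⟨_, hmem⟩ : (semiPull hq hψL Q).O.decompositionSubgroup K₀) ⟨1, one_mem _⟩))
  have hpart : ∑ σ : G, (T.filter fun Q => Q ∈ Fx σ).card = T.card := by
    rw [Finset.sum_congr rfl fun σ _ => Finset.card_filter _ _, Finset.sum_comm,
      Finset.card_eq_sum_ones T]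
    refine Finset.sum_congr rfl fun Q hQ => ?_
    obtain ⟨σ, hσ, huni⟩ := huniq Q hQ
    rw [Finset.sum_eq_single σ (fun τ _ hτ => if_neg fun h => hτ (huni τ h)) (by simp), if_pos hσ]
  -- each class is small
  have hC0 : 0 ≤ C₀ := by positivity
  set Sq := Real.sqrt (q : ℝ)
  have hSq1 : 1 ≤ Sq := Real.one_le_sqrt.2 (by exact_mod_cast hq.le)
  have hsmall : ∀ σ : G, ((T.filter fun Q => Q ∈ Fx σ).card : ℝ) ≤ q + 1 + C₀ * Sq := fun σ => by
    obtain ⟨hfin, hb⟩ := fix_upper hL p e he (hσψ σ)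
    refine le_trans ?_ hb
    rw [← Set.ncard_coe_finset]
    exact Nat.cast_le.2 (Set.ncard_le_ncard (fun Q hQ => (Finset.mem_filter.1 hQ).2) hfin)
  -- the classes fixing `K`
  let Hs : Finset G := Finset.univ.filter fun σ => ∀ z : K, σ (algebraMap K L z) = algebraMap K L z
  have hHscard : Hs.card = Module.finrank K L := by
    have : IsGalois K L := IsGalois.tower_top_of_isGalois K₀ K L
    rw [← IsGalois.card_aut_eq_finrank K L, ← Fintype.card_coe, ← Nat.card_eq_fintype_card]
    exact Nat.card_congr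
      { toFun := fun σ => AlgEquiv.ofRingEquiv (f := (σ.1 : L ≃+* L)) (Finset.mem_filter.1 σ.2).2
        invFun := fun σ => ⟨σ.restrictScalars K₀, Finset.mem_filter.2 ⟨Finset.mem_univ _, fun z => σ.commutes z⟩⟩
        left_inv := fun σ => Subtype.ext (AlgEquiv.ext fun _ => rfl)
        right_inv := fun σ => AlgEquiv.ext fun _ => rfl }
  obtain ⟨hfinK, -⟩ := fix_upper hK p e he hψK
  have hHsum : ∑ σ ∈ Hs, (T.filter fun Q => Q ∈ Fx σ).card ≤ hfinK.toFinset.card * Hs.card := by
    rw [← Finset.card_biUnion fun σ _ τ _ hne => Finset.disjoint_left.2 fun Q h1 h2 => hne (by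
      obtain ⟨hT1, h1'⟩ := Finset.mem_filter.1 h1
      obtain ⟨-, h2'⟩ := Finset.mem_filter.1 h2
      exact (huniq Q hT1).unique h1' h2')]
    have hbelow : ∀ Q ∈ Hs.biUnion (fun σ => T.filter fun Q => Q ∈ Fx σ),
        below (K := K) Q ∈ hfinK.toFinset := fun Q hQ => by
      obtain ⟨σ, hσ, hQσ⟩ := Finset.mem_biUnion.1 hQ
      have hfix := (Finset.mem_filter.1 hQσ).2
      rw [Set.Finite.mem_toFinset]
      intro z
      obtain ⟨e', he'⟩ := isOver_below (K := K) Q
      have h := hfix (algebraMap K L z)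
      change Q.1 (ψL (σ (algebraMap K L z))) = _ at h
      rw [(Finset.mem_filter.1 hσ).2 z, hcomp, he', he'] at h
      exact (pow_left_inj₀ zero_le zero_le (isOverWith_pos he').ne').1 h
    refine (Finset.card_le_mul_card_image _ Hs.card fun P hP => ?_).trans
      ((Nat.mul_comm _ _).trans_le (Nat.mul_le_mul_right _ (Finset.card_le_card (Finset.image_subset_iff.2 hbelow))))
    obtain ⟨hfinP, hsumP⟩ := finite_isOver_and_sum (K' := L) hK P
    refine (Finset.card_le_card fun Q hQ => hfinP.mem_toFinset.2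
      ((isOver_iff_below Q P).2 (Finset.mem_filter.1 hQ).2)).trans ?_
    have h := hsumP hfinP.toFinset fun Q => hfinP.mem_toFinset
    rw [deg_eq_one hK P, mul_one] at h
    rw [hHscard, ← h, Finset.card_eq_sum_ones]
    exact Finset.sum_le_sum fun Q hQ => by
      rw [deg_eq_one hL Q, mul_one]
      exact isOverWith_pos (isOverWith_ramIdx (hfinP.mem_toFinset.1 hQ))
  -- the arithmetic
  rw [Set.ncard_eq_toFinset_card _ hfinK]
  have hsplit : (T.card : ℝ) ≤ (hfinK.toFinset.card : ℝ) * Hs.card +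
      ((Fintype.card G : ℝ) - Hs.card) * (q + 1 + C₀ * Sq) := by
    rw [← hpart, ← Finset.sum_add_sum_compl Hs]
    push_cast
    refine add_le_add (by exact_mod_cast hHsum) ?_
    refine (Finset.sum_le_sum fun σ (_ : σ ∈ Hsᶜ) => hsmall σ).trans (le_of_eq ?_)
    rw [Finset.sum_const, Finset.card_compl, nsmul_eq_mul, Nat.cast_sub (Finset.card_le_univ _)]
  have hTlow : ((q : ℝ) - r) * Fintype.card G ≤ T.card := by
    rw [hTcard, Nat.cast_mul]
    refine mul_le_mul_of_nonneg_right ?_ (Nat.cast_nonneg _)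
    have : (((q : ℤ) - r : ℤ) : ℝ) ≤ ((S.card : ℤ) : ℝ) := Int.cast_le.2 hScard
    push_cast at this
    exact this
  have hH1 : (1 : ℝ) ≤ Hs.card := by rw [hHscard]; exact_mod_cast Module.finrank_pos
  have hG : (0 : ℝ) ≤ Fintype.card G := Nat.cast_nonneg _
  have hr0 : (0 : ℝ) ≤ r := Nat.cast_nonneg _
  set N := (hfinK.toFinset.card : ℝ)
  have hkey : (q : ℝ) * Hs.card - (Fintype.card G : ℝ) * (r + 2 + C₀) * Sq ≤ N * Hs.card := by
    nlinarith [mul_le_mul_of_nonneg_left hSq1 (mul_nonneg hG (add_nonneg hr0 (show (0 : ℝ) ≤ 2 by norm_num))),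
      mul_nonneg (show (0 : ℝ) ≤ Hs.card by linarith) (add_nonneg (show (0 : ℝ) ≤ 1 by norm_num)
        (mul_nonneg hC0 (show (0 : ℝ) ≤ Sq by linarith)))]
  by_contra hlt
  push Not at hlt
  have hC : 0 ≤ (Fintype.card G : ℝ) * (r + 2 + C₀) * Sq := by
    have : 0 ≤ Sq := by linarith
    positivity
  nlinarith [mul_le_mul_of_nonneg_right hlt.le (show (0 : ℝ) ≤ (Hs.card : ℝ) - 1 by linarith)]

end Lower

end Groth.Agent.FunFldLib
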