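import Groth.Prelude.Def_LocRes
import Mathlib.RingTheory.PowerSeries.Substitution
import Mathlib.FieldTheory.PrimitiveElement
import Mathlib.RingTheory.AdicCompletion.Completeness
import Mathlib.RingTheory.Henselian
import Mathlib.FieldTheory.IntermediateField.Adjoin.Algebra
import Mathlib.Tactic

/-!
Total Hasse derivatives: uniqueness and existence over a separating variable, Taylor expansion of
Laurent series.
-/

namespace Groth.Agent.FunFldLib

open PowerSeries LaurentSeries

section Uniq

variable {k K L : Type*} [Field k] [Field K] [Algebra k K] [Field L]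

/-- Two homomorphisms into power series with the same constant term which agree on constants and on a
separating element agree. -/
theorem hasse_hom_ext {s : K} (hs : Algebra.IsSeparable (IntermediateField.adjoin k ({s} : Set K)) K)
    (f g : K →+* PowerSeries L) (h0 : ∀ y, constantCoeff (f y) = constantCoeff (g y))
    (hk : ∀ c : k, f (algebraMap k K c) = g (algebraMap k K c)) (hfs : f s = g s) : f = g := by
  have hbase : ∀ y ∈ IntermediateField.adjoin k ({s} : Set K), f y = g y := fun y hy => by
    induction hy using IntermediateField.adjoin_induction with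
    | mem y hy => rw [Set.mem_singleton_iff.1 hy, hfs]
    | algebraMap c => exact hk c
    | add a b _ _ ha hb => rw [map_add, map_add, ha, hb]
    | inv a _ ha =>
      rcases eq_or_ne a 0 with rfl | hne
      · simp
      calc f a⁻¹ = f a⁻¹ * (g a * g a⁻¹) := by rw [← map_mul, mul_inv_cancel₀ hne, map_one, mul_one]
        _ = (f a⁻¹ * f a) * g a⁻¹ := by rw [ha]; ring
        _ = g a⁻¹ := by rw [← map_mul, inv_mul_cancel₀ hne, map_one, one_mul]
    | mul a b _ _ ha hb => rw [map_mul, map_mul, ha, hb]
  ext1 y
  have hsep : ∀ z : K, IsSeparable (IntermediateField.adjoin k ({s} : Set K)) z :=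
    fun z => Algebra.IsSeparable.isSeparable _ z
  have hint : IsIntegral (IntermediateField.adjoin k ({s} : Set K)) y := (hsep y).isIntegral
  set p := minpoly (IntermediateField.adjoin k ({s} : Set K)) y
  let inc := algebraMap (IntermediateField.adjoin k ({s} : Set K)) K
  have hfg : f.comp inc = g.comp inc := RingHom.ext fun z => hbase z.1 z.2
  let q : Polynomial (PowerSeries L) := p.map (f.comp inc)
  have hqf : q.eval (f y) = 0 := by
    rw [Polynomial.eval_map, ← Polynomial.hom_eval₂, ← Polynomial.aeval_def, minpoly.aeval, map_zero]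
  have hqg : q.eval (g y) = 0 := by
    rw [show q = p.map (g.comp inc) from congrArg p.map hfg, Polynomial.eval_map, ← Polynomial.hom_eval₂,
      ← Polynomial.aeval_def, minpoly.aeval, map_zero]
  obtain ⟨r, hr⟩ := q.binomExpansion (f y) (g y - f y)
  rw [add_sub_cancel, hqg, hqf, zero_add] at hr
  have hunit : IsUnit (q.derivative.eval (f y) + r * (g y - f y)) := by
    rw [isUnit_iff_constantCoeff, map_add, map_mul, map_sub, h0, sub_self, mul_zero, add_zero]
    refine Ne.isUnit ?_
    rw [Polynomial.derivative_map, Polynomial.eval_map, ← Polynomial.hom_eval₂, ← RingHom.comp_apply]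
    rw [map_ne_zero, ← Polynomial.aeval_def]
    exact (hsep y).aeval_derivative_ne_zero (minpoly.aeval _ _)
  have : (g y - f y) * (q.derivative.eval (f y) + r * (g y - f y)) = 0 := by rw [hr]; ring
  exact (sub_eq_zero.1 ((hunit.mul_left_eq_zero).1 this)).symm

end Uniq

section Exists

variable {k K : Type*} [Field k] [Field K] [Algebra k K]

instance : HenselianRing (PowerSeries K) (Ideal.span {(PowerSeries.X : PowerSeries K)}) :=
  inferInstance

theorem exists_hasseFamily {x : K} (hx : Transcendental k x)
    [FiniteDimensional (IntermediateField.adjoin k ({x} : Set K)) K]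
    (hs : Algebra.IsSeparable (IntermediateField.adjoin k ({x} : Set K)) K) :
    ∃ H : K →ₐ[k] PowerSeries K, LocRes.IsHasseFamily x H := by
  classical
  set E := IntermediateField.adjoin k ({x} : Set K)
  let xe : E := ⟨x, IntermediateField.mem_adjoin_simple_self k x⟩
  -- on polynomials
  let A := Algebra.adjoin k ({x} : Set K)
  let eA : Polynomial k ≃ₐ[k] A := Polynomial.algEquivOfTranscendental k x hx
  let f₀ : A →ₐ[k] PowerSeries K := (Polynomial.aeval (PowerSeries.C x + PowerSeries.X)).comp eA.symm.toAlgHom
  have hcc : ∀ p : Polynomial k,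
      constantCoeff (Polynomial.aeval (PowerSeries.C x + PowerSeries.X) p) = Polynomial.aeval x p := fun p => by
    rw [Polynomial.aeval_def, Polynomial.hom_eval₂, Polynomial.aeval_def]
    rw [show constantCoeff (PowerSeries.C x + PowerSeries.X) = x by simp,
      show (constantCoeff).comp (algebraMap k (PowerSeries K)) = algebraMap k K from
        RingHom.ext fun c => by simp [PowerSeries.algebraMap_apply]]
  have hA : ∀ a : A, constantCoeff (f₀ a) = (a : K) := fun a => by
    obtain ⟨p, rfl⟩ := eA.surjective a
    show constantCoeff (Polynomial.aeval _ (eA.symm (eA p))) = _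
    rw [eA.symm_apply_apply, hcc]
    simp [eA, Polynomial.algEquivOfTranscendental]
  open IntermediateField.algebraAdjoinAdjoin in
  have hloc : IsFractionRing A E := inferInstance
  have hunits : ∀ a : nonZeroDivisors A, IsUnit (f₀.toRingHom a) := fun a => by
    rw [isUnit_iff_constantCoeff]
    exact Ne.isUnit (by rw [AlgHom.toRingHom_eq_coe, RingHom.coe_coe, hA]
                        exact fun h => nonZeroDivisors.coe_ne_zero a (Subtype.ext h))
  open IntermediateField.algebraAdjoinAdjoin in
  let f₁ : E →+* PowerSeries K := IsLocalization.lift hunits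
  open IntermediateField.algebraAdjoinAdjoin in
  have hf₁ : ∀ a : A, f₁ (algebraMap A E a) = f₀ a := fun a => IsLocalization.lift_eq hunits a
  have hE : ∀ e : E, constantCoeff (f₁ e) = (e : K) := fun e => by
    open IntermediateField.algebraAdjoinAdjoin in
    have : (constantCoeff).comp f₁ = algebraMap E K :=
      IsLocalization.ringHom_ext (nonZeroDivisors A) (RingHom.ext fun a => by
        show constantCoeff (f₁ _) = _
        rw [hf₁, hA]; rfl)
    exact RingHom.congr_fun this e
  -- extension
  obtain ⟨θ, hθ⟩ := Field.exists_primitive_element E K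
  let pb := (IntermediateField.adjoin.powerBasis (Algebra.IsIntegral.isIntegral (R := E) θ)).map
    ((IntermediateField.equivOfEq hθ).trans IntermediateField.topEquiv)
  have hgen : pb.gen = θ := rfl
  let q : Polynomial (PowerSeries K) := (minpoly E θ).map f₁
  have hmon : q.Monic := (minpoly.monic (.of_finite E θ)).map f₁
  have hcomp : (constantCoeff).comp f₁ = algebraMap E K := RingHom.ext hE
  have hevalθ : ∀ p : Polynomial E, constantCoeff ((p.map f₁).eval (PowerSeries.C θ)) = Polynomial.aeval θ p :=
    fun p => by
      rw [Polynomial.eval_map, Polynomial.hom_eval₂, hcomp, constantCoeff_C]; rfl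
  obtain ⟨a, ha, ha0⟩ := HenselianRing.is_henselian (I := Ideal.span {(PowerSeries.X : PowerSeries K)})
    q hmon (PowerSeries.C θ) (by rw [Ideal.mem_span_singleton, X_dvd_iff, hevalθ, minpoly.aeval]) (by
      refine IsUnit.map _ ?_
      rw [isUnit_iff_constantCoeff, Polynomial.derivative_map, hevalθ]
      exact Ne.isUnit ((Algebra.IsSeparable.isSeparable E θ).aeval_derivative_ne_zero (minpoly.aeval _ _)))
  have ha0' : constantCoeff a = θ := by
    rwa [Ideal.mem_span_singleton, X_dvd_iff, map_sub, constantCoeff_C, sub_eq_zero] at ha0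
  letI : Algebra E (PowerSeries K) := f₁.toAlgebra
  let G : K →ₐ[E] PowerSeries K := pb.lift a (by
    rw [hgen, Polynomial.aeval_def, ← Polynomial.eval_map]; exact ha)
  have hG0 : ∀ y, constantCoeff (G y) = y := fun y => by
    obtain ⟨p, hp, rfl⟩ := pb.exists_eq_aeval y
    rw [← Polynomial.aeval_algHom_apply, show G pb.gen = a from pb.lift_gen a _, Polynomial.aeval_def,
      Polynomial.hom_eval₂, ha0', hgen, show (constantCoeff).comp (algebraMap E (PowerSeries K)) = algebraMap E K
        from hcomp]
    rfl
  have hGe : ∀ e : E, G (e : K) = f₁ e := fun e => G.commutes e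
  refine ⟨{ G.toRingHom with commutes' := fun c => ?_ }, ?_, hG0⟩
  · open IntermediateField.algebraAdjoinAdjoin in
    show G ((algebraMap A E (algebraMap k A c) : E) : K) = _
    rw [hGe, hf₁, f₀.commutes]
  · open IntermediateField.algebraAdjoinAdjoin in
    show G ((algebraMap A E ⟨x, Algebra.subset_adjoin rfl⟩ : E) : K) = _
    rw [hGe, hf₁]
    show Polynomial.aeval _ (eA.symm _) = _
    rw [show eA.symm ⟨x, Algebra.subset_adjoin rfl⟩ = Polynomial.X from eA.injective (by
      rw [eA.apply_symm_apply]; exact Subtype.ext (by simp [eA, Polynomial.algEquivOfTranscendental])), Polynomial.aeval_X]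

end Exists

section Taylor

variable (F : Type*) [Field F]

/-- Taylor shift of a power series, with Laurent series coefficients. -/
noncomputable def tayFun (f : PowerSeries F) : PowerSeries F⸨X⸩ :=
  PowerSeries.mk fun j => ((PowerSeries.mk fun n => ((n + j).choose j : F) * coeff (n + j) f : PowerSeries F) : F⸨X⸩)

theorem tayFun_mul (f g : PowerSeries F) : tayFun F (f * g) = tayFun F f * tayFun F g := by
  ext1 j
  simp only [tayFun, coeff_mk, PowerSeries.coeff_mul j]
  simp only [← PowerSeries.coe_mul, ← map_sum]
  refine congrArg _ (PowerSeries.ext fun n => ?_)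
  rw [coeff_mk, map_sum, PowerSeries.coeff_mul (n + j), Finset.mul_sum]
  simp only [PowerSeries.coeff_mul n, coeff_mk]
  calc ∑ p ∈ Finset.HasAntidiagonal.antidiagonal (n + j), ((n + j).choose j : F) * (coeff p.1 f * coeff p.2 g)
      = ∑ p ∈ Finset.HasAntidiagonal.antidiagonal (n + j), ∑ q ∈ Finset.HasAntidiagonal.antidiagonal j,
          ((p.1.choose q.1 : F) * coeff p.1 f) * ((p.2.choose q.2 : F) * coeff p.2 g) := by
        refine Finset.sum_congr rfl fun p hp => ?_
        rw [← Finset.HasAntidiagonal.mem_antidiagonal.1 hp, Nat.add_choose_eq, Nat.cast_sum, Finset.sum_mul]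
        exact Finset.sum_congr rfl fun q _ => by push_cast; ring
    _ = _ := by
        rw [Finset.sum_comm]
        refine Finset.sum_congr rfl fun q hq => ?_
        rw [Finset.HasAntidiagonal.mem_antidiagonal] at hq
        symm
        refine Finset.sum_bij_ne_zero (fun r _ _ => (r.1 + q.1, r.2 + q.2)) (fun r hr _ => ?_)
          (fun r _ _ r' _ _ h => by simpa [Prod.ext_iff] using h) (fun p hp hne => ?_) fun r _ _ => rfl
        · rw [Finset.HasAntidiagonal.mem_antidiagonal] at hr ⊢; omega
        · have h1 : q.1 ≤ p.1 := by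
            by_contra h; exact hne (by rw [Nat.choose_eq_zero_of_lt (not_le.1 h)]; simp)
          have h2 : q.2 ≤ p.2 := by
            by_contra h; exact hne (by rw [Nat.choose_eq_zero_of_lt (not_le.1 h)]; simp)
          rw [Finset.HasAntidiagonal.mem_antidiagonal] at hp
          refine ⟨(p.1 - q.1, p.2 - q.2), Finset.HasAntidiagonal.mem_antidiagonal.2 (by omega), ?_, ?_⟩
          · simpa only [Nat.sub_add_cancel h1, Nat.sub_add_cancel h2] using hne
          · exact Prod.ext (Nat.sub_add_cancel h1) (Nat.sub_add_cancel h2)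

/-- Taylor shift as a ring homomorphism on power series. -/
noncomputable def tayP : PowerSeries F →+* PowerSeries F⸨X⸩ where
  toFun := tayFun F
  map_mul' := tayFun_mul F
  map_one' := by
    ext1 j
    simp only [tayFun, coeff_mk, coeff_one]
    rcases eq_or_ne j 0 with rfl | hj
    · simp only [if_pos rfl]
      rw [show (PowerSeries.mk fun n => ((n + 0).choose 0 : F) * if n + 0 = 0 then (1 : F) else 0) = 1 from
        PowerSeries.ext fun n => by simp [coeff_one]]
      exact PowerSeries.coe_one
    · rw [show (PowerSeries.mk fun n => ((n + j).choose j : F) * if n + j = 0 then (1 : F) else 0) = 0 from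
        PowerSeries.ext fun n => by simp [hj], if_neg hj]
      exact PowerSeries.coe_zero
  map_zero' := by
    ext1 j
    rw [tayFun, coeff_mk, show (PowerSeries.mk fun n => ((n + j).choose j : F) * coeff (n + j) 0) = 0 from
      PowerSeries.ext fun n => by simp, PowerSeries.coe_zero, map_zero]
  map_add' f g := by
    ext1 j
    simp only [tayFun, coeff_mk, map_add, mul_add]
    rw [← PowerSeries.coe_add]
    rfl

theorem constantCoeff_tayP (f : PowerSeries F) :
    PowerSeries.constantCoeff (R := F⸨X⸩) (tayP F f) = (f : F⸨X⸩) := by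
  show constantCoeff (tayFun F f) = _
  rw [← coeff_zero_eq_constantCoeff_apply, tayFun, coeff_mk]
  congr 1
  ext n
  simp

theorem tayP_units (f : nonZeroDivisors (PowerSeries F)) : IsUnit (tayP F f) := by
  rw [isUnit_iff_constantCoeff, constantCoeff_tayP]
  exact Ne.isUnit ((map_ne_zero_iff _ HahnSeries.ofPowerSeries_injective).2 (nonZeroDivisors.coe_ne_zero f))

/-- Taylor shift on Laurent series. -/
noncomputable def tay : F⸨X⸩ →+* PowerSeries F⸨X⸩ := IsLocalization.lift (tayP_units F)

theorem tay_coe (f : PowerSeries F) : tay F (f : F⸨X⸩) = tayP F f :=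
  IsLocalization.lift_eq (tayP_units F) f

theorem constantCoeff_tay (g : F⸨X⸩) : PowerSeries.constantCoeff (R := F⸨X⸩) (tay F g) = g := by
  have : (constantCoeff).comp (tay F) = RingHom.id F⸨X⸩ :=
    IsLocalization.ringHom_ext (nonZeroDivisors (PowerSeries F)) (RingHom.ext fun f => by
      show constantCoeff (tay F (f : F⸨X⸩)) = _
      rw [tay_coe, constantCoeff_tayP]; rfl)
  exact RingHom.congr_fun this g

theorem coeff_tay_coe (f : PowerSeries F) (j : ℕ) :
    coeff j (tay F (f : F⸨X⸩)) = LaurentSeries.hasseDeriv F j (f : F⸨X⸩) := by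
  rw [tay_coe]
  show coeff j (tayFun F f) = _
  rw [tayFun, coeff_mk]
  ext n
  rw [LaurentSeries.hasseDeriv_coeff, PowerSeries.coeff_coe, PowerSeries.coeff_coe]
  rcases lt_or_ge n 0 with h | h
  · rw [if_pos h]
    split_ifs with h2
    · rw [smul_zero]
    · lift n + j to ℕ using (by omega) with m hm
      rw [Ring.choose_natCast, Nat.choose_eq_zero_of_lt (by omega)]
      simp
  · lift n to ℕ using h
    rw [if_neg (by omega), if_neg (by omega), ← Nat.cast_add, Int.natAbs_natCast, Int.natAbs_natCast,
      Ring.choose_natCast, coeff_mk]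
    simp

theorem tay_C (c : F) : tay F (HahnSeries.C c) = PowerSeries.C (HahnSeries.C c) := by
  ext1 j
  rw [← HahnSeries.ofPowerSeries_C, coeff_tay_coe, coeff_C]
  rcases eq_or_ne j 0 with rfl | hj
  · rw [LaurentSeries.hasseDeriv_zero]; rfl
  rw [if_neg hj, HahnSeries.ofPowerSeries_C]
  ext n
  rw [LaurentSeries.hasseDeriv_coeff]
  rcases eq_or_ne (n + j) 0 with h | h
  · rw [h, Ring.choose_zero_pos _ (Nat.pos_of_ne_zero hj)]; simp
  · simp [h]

theorem tay_X : tay F (HahnSeries.single 1 1) = PowerSeries.C (HahnSeries.single 1 1) + PowerSeries.X := by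
  ext1 j
  rw [← HahnSeries.ofPowerSeries_X, coeff_tay_coe, map_add, coeff_C, coeff_X, HahnSeries.ofPowerSeries_X,
    LaurentSeries.hasseDeriv_single]
  rcases j with _ | _ | j
  · simp
  · simp
  · rw [if_neg (by omega), if_neg (by omega), add_zero,
      show Ring.choose (1 : ℤ) (j + 1 + 1) = 0 by
        rw [show (1 : ℤ) = ((1 : ℕ) : ℤ) from rfl, Ring.choose_natCast, Nat.choose_eq_zero_of_lt (by omega)]
        rfl]
    simp

theorem coeff_one_tay (g : F⸨X⸩) : coeff 1 (tay F g) = LocRes.D F g := by
  have hpow : ∀ f : PowerSeries F, coeff 1 (tay F (f : F⸨X⸩)) = LocRes.D F (f : F⸨X⸩) := fun f => by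
    rw [coeff_tay_coe, LocRes.D_apply, LaurentSeries.derivative_apply]
  have hder : ∀ a b : PowerSeries F⸨X⸩,
      coeff 1 (a * b) = constantCoeff a * coeff 1 b + constantCoeff b * coeff 1 a := fun a b => by
    rw [PowerSeries.coeff_mul, show Finset.HasAntidiagonal.antidiagonal 1 = ({(0, 1), (1, 0)} : Finset (ℕ × ℕ)) from rfl,
      Finset.sum_pair (by simp), coeff_zero_eq_constantCoeff_apply, coeff_zero_eq_constantCoeff_apply]
    ring
  obtain ⟨⟨f, ⟨d, hd⟩⟩, h⟩ := IsLocalization.surj (nonZeroDivisors (PowerSeries F)) g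
  change g * ((d : PowerSeries F) : F⸨X⸩) = (f : F⸨X⸩) at h
  have h1 := congrArg (fun z => coeff 1 (tay F z)) h
  have h2 := congrArg (LocRes.D F) h
  simp only [map_mul, hder, constantCoeff_tay, hpow] at h1
  rw [Derivation.leibniz, smul_eq_mul, smul_eq_mul, ← h1] at h2
  have hd0 : (d : F⸨X⸩) ≠ 0 := (map_ne_zero_iff _ HahnSeries.ofPowerSeries_injective).2
    (nonZeroDivisors.ne_zero hd)
  exact (mul_left_cancel₀ hd0 (add_left_cancel h2)).symm

end Taylor

end Groth.Agent.FunFldLib
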