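import Groth.Agent.FunFld.QuadCanonical
import Groth.Agent.FunFld.DiffExp

/-!
The order of `dx` in quadratic extensions of `k(x)`, read through expansions.
-/

namespace Groth.Agent.FunFldLib

open FunFld WithZero LaurentSeries

theorem val_D_exp_int {F : Type*} [Field F] {f : F⸨X⸩} {n : ℤ} (hf : Valued.v f = exp (-n)) (hn : (n : F) ≠ 0) :
    Valued.v (LocRes.D F f) = exp (1 - n) := by
  obtain ⟨m, rfl | rfl⟩ := Int.eq_nat_or_neg n
  · exact (val_D_of_val_eq_exp hf).1 (by simpa using hn)
  · have hf0 : f ≠ 0 := fun h => by rw [h, map_zero] at hf; exact exp_ne_zero hf.symm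
    have hg : Valued.v f⁻¹ = exp (-(m : ℤ)) := by rw [map_inv₀, hf, ← exp_neg, neg_neg]
    have hD := (val_D_of_val_eq_exp hg).1 (by simpa using hn)
    have hlb := congrArg (LocRes.D F) (mul_inv_cancel₀ hf0)
    rw [Derivation.leibniz, Derivation.map_one_eq_zero, smul_eq_mul, smul_eq_mul] at hlb
    have h2 : LocRes.D F f = -(f * f) * LocRes.D F f⁻¹ := by
      field_simp at hlb ⊢
      linear_combination hlb
    rw [h2, map_mul, Valuation.map_neg, map_mul, hf, hD, ← exp_add, ← exp_add]
    congr 1; ring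

variable {k : Type*} [Field k]

/-- The derivative of a rational function. -/
noncomputable def ratDeriv (w : RatFunc k) : RatFunc k :=
  (polR (Polynomial.derivative w.num) * polR w.denom - polR w.num * polR (Polynomial.derivative w.denom)) /
    polR w.denom ^ 2

/-- The parameter at a place of `k(x)`: a prime polynomial or `1/x`. -/
def IsRatParam (P₀ : Place k (RatFunc k)) (t : RatFunc k) : Prop :=
  P₀.1 t = exp (-1) ∧ ((P₀.1 RatFunc.X ≤ 1 ∧ ∃ p : Polynomial k, Irreducible p ∧ t = polR p) ∨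
    (1 < P₀.1 RatFunc.X ∧ t = RatFunc.X⁻¹))

theorem exists_ratParam (P₀ : Place k (RatFunc k)) : ∃ t, IsRatParam P₀ t := by
  by_cases hX : P₀.1 RatFunc.X ≤ 1
  · obtain ⟨z, hz⟩ := exists_val_eq P₀ (-1)
    have hz0 := ne_zero_of_val P₀ hz
    have hlt : P₀.1 (polR z.num) < 1 := by
      have h := congrArg P₀.1 (RatFunc.num_div_denom z)
      rw [map_div₀, hz, div_eq_iff (val_ne_zero P₀ (by simpa using z.denom_ne_zero))] at h
      rw [show P₀.1 (polR z.num) = _ from h]
      exact lt_of_le_of_lt (mul_le_of_le_one_right' (rat_val_pol_le_one P₀ hX _)) (by rw [← exp_zero, exp_lt_exp]; norm_num)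
    obtain ⟨p, hp, -, hpv⟩ := rat_exists_prime P₀ (RatFunc.num_ne_zero hz0) hlt
    exact ⟨polR p, rat_val_prime P₀ hp hpv, Or.inl ⟨hX, p, hp, rfl⟩⟩
  · exact ⟨RatFunc.X⁻¹, by rw [map_inv₀, rat_val_X_inf P₀ (not_le.1 hX), exp_neg],
      Or.inr ⟨not_le.1 hX, rfl⟩⟩

/-- The derivative of an integral function is small. -/
theorem val_ratDeriv_le (P₀ : Place k (RatFunc k)) {w : RatFunc k} (hw : P₀.1 w ≤ 1) :
    (P₀.1 RatFunc.X ≤ 1 → P₀.1 (ratDeriv w) ≤ 1) ∧ (1 < P₀.1 RatFunc.X → P₀.1 (ratDeriv w) ≤ exp (-2)) := by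
  have hden := w.denom_ne_zero
  refine ⟨fun hX => ?_, fun hX => ?_⟩
  · have h1 : P₀.1 (polR w.denom) = 1 := by
      refine le_antisymm (rat_val_pol_le_one P₀ hX _) (not_lt.1 fun hlt => ?_)
      obtain ⟨q, hq, hqd, hqv⟩ := rat_exists_prime P₀ hden hlt
      have hnd : ¬ q ∣ w.num := fun h => hq.not_isUnit ((RatFunc.isCoprime_num_denom w).isUnit_of_dvd' h hqd)
      have h3 := congrArg P₀.1 (RatFunc.num_div_denom w)
      rw [map_div₀, show P₀.1 (algebraMap (Polynomial k) (RatFunc k) w.num) = 1 from rat_val_eq_one P₀ hq hqv hnd] at h3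
      rw [← h3, one_div, inv_le_one₀ (zero_lt_iff.2 (val_ne_zero P₀ (by simpa using hden)))] at hw
      exact absurd hlt (not_lt.2 hw)
    rw [ratDeriv, map_div₀, map_pow, h1, one_pow, div_one]
    refine (P₀.1.map_sub _ _).trans (max_le ?_ ?_) <;>
      · rw [map_mul]
        exact mul_le_one' (rat_val_pol_le_one P₀ hX _) (rat_val_pol_le_one P₀ hX _)
  · set A := w.num
    set B := w.denom
    have hle : A.natDegree ≤ B.natDegree := by
      rcases eq_or_ne w 0 with h | h
      · simp [A, h]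
      · have hA : A ≠ 0 := RatFunc.num_ne_zero h
        have h2 := congrArg P₀.1 (RatFunc.num_div_denom w)
        rw [map_div₀, rat_val_pol_inf P₀ hX hA, rat_val_pol_inf P₀ hX hden, rat_val_X_inf P₀ hX, ← exp_nsmul,
          ← exp_nsmul, ← exp_sub] at h2
        rw [← h2, ← exp_zero, exp_le_exp, nsmul_eq_mul, nsmul_eq_mul] at hw
        push_cast at hw
        omega
    set m := B.natDegree
    set N := Polynomial.derivative A * B - A * Polynomial.derivative B
    have hN : ∀ j, 2 * m - 2 < j → N.coeff j = 0 := by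
      set c := A.coeff m / B.leadingCoeff
      set R := A - Polynomial.C c * B
      have hR : R.natDegree ≤ m - 1 := by
        rw [Polynomial.natDegree_le_iff_coeff_eq_zero]
        intro j hj
        rcases eq_or_ne j m with rfl | hjm
        · rw [Polynomial.coeff_sub, Polynomial.coeff_C_mul, show B.coeff m = B.leadingCoeff from rfl,
            div_mul_cancel₀ _ (Polynomial.leadingCoeff_ne_zero.2 hden), sub_self]
        · rw [Polynomial.coeff_sub, Polynomial.coeff_C_mul, Polynomial.coeff_eq_zero_of_natDegree_lt (by omega),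
            Polynomial.coeff_eq_zero_of_natDegree_lt (p := B) (by omega), mul_zero, sub_zero]
      have hN2 : N = Polynomial.derivative R * B - R * Polynomial.derivative B := by
        simp only [N, R, Polynomial.derivative_sub, Polynomial.derivative_C_mul]; ring
      intro j hj
      refine Polynomial.coeff_eq_zero_of_natDegree_lt (lt_of_le_of_lt ?_ hj)
      rw [hN2]
      have d2 := Polynomial.natDegree_derivative_le B
      rcases Nat.eq_zero_or_pos R.natDegree with h0 | hpos
      · rw [Polynomial.eq_C_of_natDegree_eq_zero h0]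
        simp only [Polynomial.derivative_C, zero_mul, zero_sub, Polynomial.natDegree_neg]
        exact (Polynomial.natDegree_C_mul_le _ _).trans (by omega)
      · refine (Polynomial.natDegree_sub_le _ _).trans (max_le ?_ ?_)
        · have d1 := Polynomial.natDegree_derivative_le R
          exact Polynomial.natDegree_mul_le.trans (by omega)
        · exact Polynomial.natDegree_mul_le.trans (by omega)
    rcases eq_or_ne N 0 with h0 | h0
    · have : ratDeriv w = 0 := by
        simp only [ratDeriv, polR, ← map_mul, ← map_sub]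
        rw [show Polynomial.derivative w.num * w.denom - w.num * Polynomial.derivative w.denom = 0 from h0, map_zero,
          zero_div]
      rw [this, map_zero]; exact zero_le
    · have h2 : P₀.1 (ratDeriv w) = exp ((N.natDegree : ℤ) - 2 * m) := by
        simp only [ratDeriv, polR, ← map_mul, ← map_sub]
        rw [map_div₀, map_pow, rat_val_pol_inf P₀ hX h0, rat_val_pol_inf P₀ hX hden, rat_val_X_inf P₀ hX, ← exp_nsmul,
          ← exp_nsmul, ← exp_nsmul, ← exp_sub, exp_inj]
        simp only [nsmul_eq_mul]; push_cast; ring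
      rw [h2, exp_le_exp]
      have hlt : N.natDegree ≤ 2 * m - 2 := by
        by_contra hlt
        exact h0 (Polynomial.leadingCoeff_eq_zero.1 (hN _ (not_le.1 hlt)))
      have hm : m = 0 → False := fun hm => h0 (by
        have hA0 : A.natDegree = 0 := by omega
        simp only [N]
        rw [Polynomial.eq_C_of_natDegree_eq_zero hA0, Polynomial.eq_C_of_natDegree_eq_zero (show B.natDegree = 0 from hm)]
        simp)
      rcases Nat.eq_zero_or_pos m with hm0 | hm1
      · exact (hm hm0).elim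
      · omega

section Expansion

variable {K : Type*} [Field K] [Algebra k K] [Algebra (RatFunc k) K] [IsScalarTower k (RatFunc k) K]
  {F : Type*} [Field F] [Algebra k F] {ψ : K →ₐ[k] F⸨X⸩}

theorem D_pol (q : Polynomial k) :
    LocRes.D F (ψ (algebraMap (RatFunc k) K (polR q))) =
      ψ (algebraMap (RatFunc k) K (polR (Polynomial.derivative q))) *
        LocRes.D F (ψ (algebraMap (RatFunc k) K RatFunc.X)) := by
  have e : ∀ r : Polynomial k, algebraMap (RatFunc k) K (polR r) =
      Polynomial.aeval (algebraMap (RatFunc k) K RatFunc.X) r := fun r => by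
    rw [Polynomial.aeval_algebraMap_apply]
    congr 1
    rw [polR, ← RatFunc.algebraMap_X, Polynomial.aeval_algebraMap_apply, Polynomial.aeval_X_left_apply]
  refine D_smul_expansion ψ ?_
  rw [e, e, Derivation.map_aeval]

theorem D_rat (w : RatFunc k) :
    LocRes.D F (ψ (algebraMap (RatFunc k) K w)) =
      ψ (algebraMap (RatFunc k) K (ratDeriv w)) * LocRes.D F (ψ (algebraMap (RatFunc k) K RatFunc.X)) := by
  set j : RatFunc k →+* F⸨X⸩ := ψ.toRingHom.comp (algebraMap (RatFunc k) K)
  set Dx := LocRes.D F (j RatFunc.X)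
  show LocRes.D F (j w) = j (ratDeriv w) * Dx
  have hB0 : j (polR w.denom) ≠ 0 := by simpa [polR] using w.denom_ne_zero
  have h : j w * j (polR w.denom) = j (polR w.num) := by
    rw [← map_mul]; congr 1
    nth_rw 1 [← RatFunc.num_div_denom w]
    exact div_mul_cancel₀ _ (by simpa using w.denom_ne_zero)
  have h2 := congrArg (LocRes.D F) h
  rw [Derivation.leibniz, smul_eq_mul, smul_eq_mul] at h2
  have eA : LocRes.D F (j (polR w.num)) = j (polR (Polynomial.derivative w.num)) * Dx := D_pol (ψ := ψ) _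
  have eB : LocRes.D F (j (polR w.denom)) = j (polR (Polynomial.derivative w.denom)) * Dx := D_pol (ψ := ψ) _
  rw [eA, eB] at h2
  simp only [ratDeriv, map_div₀, map_sub, map_mul, map_pow]
  rw [← h]
  field_simp
  linear_combination h2

variable {Q : Place k K} {P₀ : Place k (RatFunc k)} {e : ℕ} (hψ : LocRes.IsExpansionAt Q.1 ψ)
  (he : IsOverWith Q P₀ e)

include hψ he in
theorem val_expansion (w : RatFunc k) : Valued.v (ψ (algebraMap (RatFunc k) K w)) = P₀.1 w ^ e := by
  rw [hψ.1, he]

include hψ he in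
/-- `v(dx)` in terms of `v(dt)`. -/
theorem val_Dx_of_param {t : RatFunc k} (ht : IsRatParam P₀ t) (hsep : ∀ p : Polynomial k, Irreducible p →
    t = polR p → Polynomial.derivative p ≠ 0) :
    (P₀.1 RatFunc.X ≤ 1 → Valued.v (LocRes.D F (ψ (algebraMap (RatFunc k) K RatFunc.X))) =
        Valued.v (LocRes.D F (ψ (algebraMap (RatFunc k) K t)))) ∧
      (1 < P₀.1 RatFunc.X → Valued.v (LocRes.D F (ψ (algebraMap (RatFunc k) K RatFunc.X))) =
        exp (2 * (e : ℤ)) * Valued.v (LocRes.D F (ψ (algebraMap (RatFunc k) K t)))) := by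
  obtain ⟨htv, ⟨hX, p, hp, rfl⟩ | ⟨hX, rfl⟩⟩ := ht
  · refine ⟨fun _ => ?_, fun h => absurd hX (not_le.2 h)⟩
    have h1 : P₀.1 (polR (Polynomial.derivative p)) = 1 := by
      refine rat_val_eq_one P₀ hp (htv.trans_lt (by rw [← exp_zero, exp_lt_exp]; norm_num)) fun hdvd => ?_
      have := Polynomial.natDegree_le_of_dvd hdvd (hsep p hp rfl)
      have := Polynomial.natDegree_derivative_lt hp.natDegree_pos.ne'
      omega
    rw [D_pol, map_mul, val_expansion hψ he, h1, one_pow, one_mul]
  · refine ⟨fun h => absurd h (not_le.2 hX), fun _ => ?_⟩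
    have hX0 : (RatFunc.X : RatFunc k) ≠ 0 := RatFunc.X_ne_zero
    set jX := ψ (algebraMap (RatFunc k) K RatFunc.X) with hjX
    set jt := ψ (algebraMap (RatFunc k) K RatFunc.X⁻¹) with hjt
    have hmul : jX * jt = 1 := by rw [hjX, hjt, ← map_mul, ← map_mul, mul_inv_cancel₀ hX0, map_one, map_one]
    have hne : jX ≠ 0 := left_ne_zero_of_mul_eq_one hmul
    have h2 := congrArg (LocRes.D F) hmul
    rw [Derivation.leibniz, Derivation.map_one_eq_zero, smul_eq_mul, smul_eq_mul] at h2
    have h3 : LocRes.D F jX = -(jX * jX) * LocRes.D F jt := by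
      linear_combination jX * h2 - LocRes.D F jX * hmul
    rw [h3, map_mul, Valuation.map_neg, map_mul, hjX, val_expansion hψ he, rat_val_X_inf P₀ hX, ← exp_nsmul,
      ← exp_add]
    congr 2; simp; ring

include hψ he in
theorem val_D_param_tame {t : RatFunc k} (ht : IsRatParam P₀ t) (hk : (e : k) ≠ 0) :
    Valued.v (LocRes.D F (ψ (algebraMap (RatFunc k) K t))) = exp (1 - (e : ℤ)) :=
  val_D_exp_int (by rw [val_expansion hψ he, ht.1, ← exp_nsmul]; simp)
    (by rw [Int.cast_natCast, ← map_natCast (algebraMap k F)]; exact (map_ne_zero _).2 hk)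

include hψ he in
theorem val_Dx_tame (hk : (e : k) ≠ 0) :
    (P₀.1 RatFunc.X ≤ 1 → Valued.v (LocRes.D F (ψ (algebraMap (RatFunc k) K RatFunc.X))) = exp (1 - (e : ℤ))) ∧
      (1 < P₀.1 RatFunc.X →
        Valued.v (LocRes.D F (ψ (algebraMap (RatFunc k) K RatFunc.X))) = exp ((e : ℤ) + 1)) := by
  obtain ⟨t, ht⟩ := exists_ratParam P₀
  have hDt := val_D_param_tame hψ he ht hk
  have h := val_Dx_of_param hψ he ht fun p _ hpt h0 => by
    rw [hpt, D_pol, h0] at hDt
    simp [polR] at hDt
    exact exp_ne_zero hDt.symm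
  refine ⟨fun hX => (h.1 hX).trans hDt, fun hX => ?_⟩
  rw [h.2 hX, hDt, ← exp_add]; congr 1; ring

include hψ in
theorem val_Dx_wild [CharP k 2] [PerfectField k] (he : IsOverWith Q P₀ 2) {y : K} {f : RatFunc k}
    (heq : y ^ 2 + y = algebraMap (RatFunc k) K f) {d : ℤ} (hf : P₀.ord f = 1 - 2 * d) (hyo : Q.ord y = P₀.ord f)
    (hneg : P₀.ord f < 0) :
    (P₀.1 RatFunc.X ≤ 1 → Valued.v (LocRes.D F (ψ (algebraMap (RatFunc k) K RatFunc.X))) = exp (-(2 * d))) ∧
      (1 < P₀.1 RatFunc.X →
        Valued.v (LocRes.D F (ψ (algebraMap (RatFunc k) K RatFunc.X))) = exp (4 - 2 * d)) := by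
  obtain ⟨t, ht⟩ := exists_ratParam P₀
  have h := val_Dx_of_param hψ he ht fun p hp _ h0 => by
    have h1 := (PerfectField.separable_of_irreducible hp)
    rw [Polynomial.separable_iff_derivative_ne_zero hp] at h1
    exact h1 h0
  suffices hDt : Valued.v (LocRes.D F (ψ (algebraMap (RatFunc k) K t))) = exp (-(2 * d)) by
    refine ⟨fun hX => (h.1 hX).trans hDt, fun hX => ?_⟩
    rw [h.2 hX, hDt, ← exp_add]; congr 1
  have hy0 : y ≠ 0 := fun h0 => by
    rw [h0] at hyo; simp [Place.ord] at hyo; simp [Place.ord] at hneg; omega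
  have hf0 : f ≠ 0 := fun h0 => by rw [h0] at hneg; simp [Place.ord] at hneg
  have h2F : (2 : F) = 0 := as_two_eq_zero k
  have h2L : (2 : F⸨X⸩) = 0 := by rw [← map_ofNat (algebraMap F F⸨X⸩) 2, h2F, map_zero]
  obtain ⟨n, hn⟩ : ∃ n : ℕ, (n : ℤ) + 1 = 2 * d := ⟨(2 * d - 1).toNat, by omega⟩
  have hyv : Valued.v (ψ y) = exp (-(-(n : ℤ))) := by
    rw [hψ.1, val_eq_exp Q hy0, hyo, hf]; congr 1; omega
  have hDy : Valued.v (LocRes.D F (ψ y)) = exp (2 * d) := by
    rw [val_D_exp_int hyv ?_]
    · congr 1; omega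
    · push_cast
      have : ((n : ℤ) : F) + 1 = 2 * (d : F) := by exact_mod_cast congrArg (fun z : ℤ => (z : F)) hn
      rw [h2F, zero_mul] at this
      push_cast at this
      rw [show -(n : F) = 1 by linear_combination -this]
      exact one_ne_zero
  set jf := ψ (algebraMap (RatFunc k) K f) with hjf
  set jt := ψ (algebraMap (RatFunc k) K t) with hjt
  have hDf : LocRes.D F jf = LocRes.D F (ψ y) := by
    rw [hjf, ← heq, map_add, map_add, map_pow, Derivation.leibniz_pow, nsmul_eq_mul, Nat.cast_ofNat, h2L, zero_mul,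
      zero_add]
  set w := f * t ^ n with hw
  have hwv : P₀.1 w = 1 := by
    rw [hw, map_mul, map_pow, ht.1, val_eq_exp P₀ hf0, ← exp_nsmul, ← exp_add, ← exp_zero, exp_inj, nsmul_eq_mul]
    omega
  have hDw : Valued.v (LocRes.D F (ψ (algebraMap (RatFunc k) K w))) ≤ Valued.v (LocRes.D F jt) := by
    rw [D_rat, map_mul, val_expansion hψ he]
    rcases le_or_gt (P₀.1 RatFunc.X) 1 with hX | hX
    · rw [h.1 hX]; exact mul_le_of_le_one_left' (pow_le_one₀ zero_le ((val_ratDeriv_le P₀ hwv.le).1 hX))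
    · rw [h.2 hX, ← mul_assoc]
      refine mul_le_of_le_one_left' ((mul_le_mul' (pow_le_pow_left₀ zero_le ((val_ratDeriv_le P₀ hwv.le).2 hX) 2)
        le_rfl).trans_eq ?_)
      rw [← exp_nsmul, ← exp_add, ← exp_zero, exp_inj]; simp
  have hlb : LocRes.D F (ψ (algebraMap (RatFunc k) K w)) =
      jf * ((n : F⸨X⸩) * jt ^ (n - 1) * LocRes.D F jt) + jt ^ n * LocRes.D F jf := by
    rw [hw, map_mul, map_mul, map_pow, map_pow, Derivation.leibniz, smul_eq_mul, smul_eq_mul,
      Derivation.leibniz_pow, nsmul_eq_mul, smul_eq_mul]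
    rw [← hjf, ← hjt]; ring
  have hn1 : (n : F⸨X⸩) = 1 := by
    have h1 : ((n : ℤ) : F⸨X⸩) + 1 = 2 * (d : F⸨X⸩) := by exact_mod_cast congrArg (fun z : ℤ => (z : F⸨X⸩)) hn
    rw [h2L, zero_mul] at h1
    push_cast at h1
    linear_combination h1 - h2L
  rw [hn1, one_mul] at hlb
  have hjtv : Valued.v jt = exp (-2) := by rw [hjt, val_expansion hψ he, ht.1, ← exp_nsmul]; simp
  have hjfv : Valued.v jf = exp (2 * (2 * d - 1)) := by
    rw [hjf, val_expansion hψ he, val_eq_exp P₀ hf0, ← exp_nsmul, exp_inj, nsmul_eq_mul]; push_cast; omega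
  have hA : Valued.v (jt ^ n * LocRes.D F jf) = exp (2 - 2 * d) := by
    rw [map_mul, map_pow, hjtv, hDf, hDy, ← exp_nsmul, ← exp_add, exp_inj, nsmul_eq_mul]; omega
  have hB : Valued.v (jf * (jt ^ (n - 1) * LocRes.D F jt)) = exp 2 * Valued.v (LocRes.D F jt) := by
    rw [map_mul, map_mul, map_pow, hjtv, hjfv, ← mul_assoc, ← exp_nsmul, ← exp_add]
    congr 2
    rw [nsmul_eq_mul, Nat.cast_sub (by omega)]
    push_cast; omega
  have hkey : Valued.v (jf * (jt ^ (n - 1) * LocRes.D F jt)) = exp (2 - 2 * d) := by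
    have hrw : jf * (jt ^ (n - 1) * LocRes.D F jt) =
        LocRes.D F (ψ (algebraMap (RatFunc k) K w)) - jt ^ n * LocRes.D F jf := by rw [hlb]; ring
    rcases lt_or_ge (Valued.v (LocRes.D F (ψ (algebraMap (RatFunc k) K w)))) (exp (2 - 2 * d)) with hlt | hge
    · rw [hrw, Valuation.map_sub_eq_of_lt_right _ (by rw [hA]; exact hlt), hA]
    · have h1 : Valued.v (LocRes.D F (ψ (algebraMap (RatFunc k) K w))) <
          Valued.v (jf * (jt ^ (n - 1) * LocRes.D F jt)) := by
        rw [hB]
        refine lt_of_le_of_lt hDw (lt_mul_of_one_lt_left ?_ (by rw [← exp_zero, exp_lt_exp]; norm_num))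
        exact lt_of_lt_of_le exp_pos (hge.trans hDw)
      have h4 : jt ^ n * LocRes.D F jf =
          LocRes.D F (ψ (algebraMap (RatFunc k) K w)) - jf * (jt ^ (n - 1) * LocRes.D F jt) := by rw [hrw]; ring
      have h3 := Valuation.map_sub_eq_of_lt_right _ h1
      rw [← h4, hA] at h3
      exact h3.symm
  rw [hB] at hkey
  rw [← mul_right_inj' (exp_ne_zero (a := (2 : ℤ))), hkey, ← exp_add]
  congr 1

end Expansion

/-- `L(n·∞)` in `k(x)` is the space of polynomials of degree `≤ n`. -/
theorem rat_mem_L_inf {Pi : Place k (RatFunc k)} (hPi : 1 < Pi.1 RatFunc.X) {n : ℤ} {a : RatFunc k} :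
    a ∈ L (Finsupp.single Pi n) ↔ ∃ q : Polynomial k, a = polR q ∧ (q = 0 ∨ (q.natDegree : ℤ) ≤ n) := by
  constructor
  · intro ha
    obtain ⟨q, rfl⟩ := rat_eq_pol (z := a) fun P hP => by
      have := ha P
      rwa [Finsupp.single_eq_of_ne (show P ≠ Pi from fun h' => not_le.2 hPi (h' ▸ hP)), exp_zero] at this
    refine ⟨q, rfl, ?_⟩
    rcases eq_or_ne q 0 with h | h
    · exact Or.inl h
    have := ha Pi
    rw [Finsupp.single_eq_same, rat_val_pol_inf Pi hPi h, rat_val_X_inf Pi hPi, ← exp_nsmul, exp_le_exp,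
      nsmul_eq_mul, mul_one] at this
    exact Or.inr this
  · rintro ⟨q, rfl, hq⟩ P
    rcases eq_or_ne P Pi with rfl | hP
    · rcases eq_or_ne q 0 with rfl | h
      · simp [polR]
      rw [Finsupp.single_eq_same, rat_val_pol_inf _ hPi h, rat_val_X_inf _ hPi, ← exp_nsmul, exp_le_exp,
        nsmul_eq_mul, mul_one]
      exact hq.resolve_left h
    · rw [Finsupp.single_eq_of_ne hP, exp_zero]
      exact rat_val_pol_le_one P (not_lt.1 fun h => hP (rat_inf_unique h hPi)) q

end Groth.Agent.FunFldLib
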