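import Groth.Agent.FunFld.Degree

/-!
The theorems of Riemann and Riemann–Roch for a function field of one variable, with repartitions and
Weil differentials.
-/

namespace Groth.Agent.FunFldLib

open FunFld WithZero

variable {k K : Type*} [Field k] [Field K] [Algebra k K]

/-- `δ(D) = deg D + 1 - ℓ(D)`. -/
noncomputable def delta (D : Divisor k K) : ℤ := D.deg + 1 - (ell D : ℤ)

theorem delta_mono (hK : IsFunctionField k K) {D₁ D₂ : Divisor k K} (h : D₁ ≤ D₂) :
    delta D₁ ≤ delta D₂ := by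
  have := ell_sub_ell_le hK h
  simp only [delta]; omega

theorem delta_add_div (hK : IsFunctionField k K) (D : Divisor k K) {x : K} (hx : x ≠ 0) :
    delta (D + div k x) = delta D := by
  simp only [delta, ell_add_div hK D hx, deg_add, deg_div hK, add_zero]

theorem delta_bdd (hK : IsFunctionField k K) : ∃ G : ℤ, ∀ D : Divisor k K, delta D ≤ G := by
  classical
  obtain ⟨x, hx, -⟩ := hK.1
  set n := Module.finrank (IntermediateField.adjoin k ({x} : Set K)) K
  have := finiteDimensional_adjoin hK hx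
  have hn : 0 < n := Module.finrank_pos
  set C := polesDiv k x
  obtain ⟨m, hm⟩ : ∃ m : ℕ, ∀ l : ℕ, (n : ℤ) * (l + 1) ≤ ell (((m + l : ℕ) : ℤ) • C) :=
    (finrank_le_deg_poles hK hx).2
  have hC : C.deg = n := deg_poles hK hx
  have hlC : ∀ l : ℕ, delta (((m + l : ℕ) : ℤ) • C) ≤ (m : ℤ) * n + 1 := fun l => by
    have h := hm l
    simp only [delta, deg_zsmul, hC]
    push_cast at h ⊢
    nlinarith
  refine ⟨(m : ℤ) * n + 1, fun D => ?_⟩
  refine le_trans (delta_mono hK (le_sup_left : D ≤ D ⊔ 0)) ?_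
  set E := D ⊔ 0
  let l : ℕ := E.deg.toNat + m + 1
  have h1 := hm l
  have h2 := ell_sub_ell_le hK (D₁ := ((m + l : ℕ) : ℤ) • C - E) (D₂ := ((m + l : ℕ) : ℤ) • C)
    (sub_le_self _ le_sup_right)
  rw [deg_sub] at h2
  have hEle : E.deg < (l : ℤ) := by omega
  obtain ⟨y, hy0, hy⟩ := exists_ne_zero_of_ell_pos (D := ((m + l : ℕ) : ℤ) • C - E) (by
    have h3 : (l : ℤ) + 1 ≤ (n : ℤ) * (l + 1) :=
      le_mul_of_one_le_left (by positivity) (by exact_mod_cast hn)
    omega)
  have h4 : E ≤ ((m + l : ℕ) : ℤ) • C + div k y := by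
    have := nonneg_of_mem_L hK hy0 hy
    rwa [sub_add_eq_add_sub, sub_nonneg] at this
  calc delta E ≤ delta (((m + l : ℕ) : ℤ) • C + div k y) := delta_mono hK h4
    _ = delta (((m + l : ℕ) : ℤ) • C) := delta_add_div hK _ hy0
    _ ≤ _ := hlC l

theorem delta_le_genus (hK : IsFunctionField k K) (D : Divisor k K) : delta D ≤ genus k K := by
  obtain ⟨G, hG⟩ := delta_bdd hK
  have hb : BddAbove (Set.range fun D : Divisor k K => (D.deg + 1 - (ell D : ℤ)).toNat) :=
    ⟨G.toNat, by rintro _ ⟨E, rfl⟩; exact Int.toNat_le_toNat (hG E)⟩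
  have h := le_csSup hb ⟨D, rfl⟩
  simp only [genus, delta] at *
  omega

theorem exists_delta_eq_genus (hK : IsFunctionField k K) :
    ∃ D : Divisor k K, delta D = genus k K := by
  obtain ⟨G, hG⟩ := delta_bdd hK
  have hb : BddAbove (Set.range fun D : Divisor k K => (D.deg + 1 - (ell D : ℤ)).toNat) :=
    ⟨G.toNat, by rintro _ ⟨E, rfl⟩; exact Int.toNat_le_toNat (hG E)⟩
  have h0 : delta (0 : Divisor k K) = 0 := by simp [delta, ell_zero hK]
  obtain ⟨D, hD : (D.deg + 1 - (ell D : ℤ)).toNat = genus k K⟩ := Nat.sSup_mem (Set.range_nonempty _) hb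
  rcases le_or_gt 0 (delta D) with h | h
  · exact ⟨D, by simp only [delta] at *; omega⟩
  · exact ⟨0, by simp only [delta] at *; omega⟩

theorem riemann_eventually (hK : IsFunctionField k K) :
    ∃ N : ℤ, ∀ D : Divisor k K, N ≤ D.deg → delta D = genus k K := by
  obtain ⟨D₀, h₀⟩ := exists_delta_eq_genus hK
  refine ⟨D₀.deg + genus k K, fun D hD => le_antisymm (delta_le_genus hK D) ?_⟩
  have h := delta_le_genus hK (D - D₀)
  simp only [delta, deg_sub] at h
  obtain ⟨y, hy0, hy⟩ := exists_ne_zero_of_ell_pos (D := D - D₀) (by omega)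
  have h4 : D₀ ≤ D + div k y := by
    have := nonneg_of_mem_L hK hy0 hy
    rwa [sub_add_eq_add_sub, sub_nonneg] at this
  rw [← h₀, ← delta_add_div hK D hy0]
  exact delta_mono hK h4

/-! ### Repartitions -/

theorem exists_place (hK : IsFunctionField k K) : Nonempty (Place k K) := by
  obtain ⟨x, hx, -⟩ := hK.1
  exact ⟨(exists_place_ord_pos hK hx).choose⟩

theorem diag_injective (hK : IsFunctionField k K) : Function.Injective (diag k K) :=
  fun _ _ h => congrFun h (exists_place hK).some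

theorem AD_le_adele (D : Divisor k K) : AD D ≤ adele k K := by
  intro a ha
  refine Filter.eventually_cofinite.2 (D.support.finite_toSet.subset fun P hP => ?_)
  by_contra h
  rw [Finset.mem_coe, Finsupp.notMem_support_iff] at h
  exact hP (by simpa [h] using ha P)

theorem diag_mem_adele (hK : IsFunctionField k K) (x : K) : diag k K x ∈ adele k K :=
  Filter.eventually_cofinite.2 (finite_not_integral hK x)

theorem range_diag_le_adele (hK : IsFunctionField k K) :
    LinearMap.range (diag k K) ≤ adele k K := by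
  rintro _ ⟨x, rfl⟩; exact diag_mem_adele hK x

theorem smul_mem_adele (hK : IsFunctionField k K) (x : K) :
    ∀ a ∈ adele k K, x • a ∈ adele k K := by
  intro a ha
  refine ((Filter.eventually_cofinite.2 (finite_not_integral hK x)).and ha).mono fun P h => ?_
  show P.1 (x * a P) ≤ 1
  rw [map_mul]; exact mul_le_one' h.1 h.2

theorem exists_mem_AD {a : Place k K → K} (ha : a ∈ adele k K) :
    ∃ D : Divisor k K, 0 ≤ D ∧ a ∈ AD D := by
  classical
  let S := (Filter.eventually_cofinite.1 ha).toFinset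
  refine ⟨Finsupp.onFinset S (fun P => if P ∈ S then max (log (P.1 (a P))) 0 else 0)
    (fun P h => by by_contra h'; simp [h'] at h), fun P => ?_, fun P => ?_⟩
  · simp only [Finsupp.onFinset_apply, Finsupp.zero_apply]; split_ifs <;> omega
  · simp only [Finsupp.onFinset_apply]
    split_ifs with h
    · exact le_exp_of_log_le (le_max_left _ _)
    · simpa [S] using h

theorem AD_inf_diag (D : Divisor k K) :
    AD D ⊓ LinearMap.range (diag k K) = (L D).map (diag k K) := by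
  ext a
  constructor
  · rintro ⟨ha, x, rfl⟩; exact ⟨x, mem_AD_diag.1 ha, rfl⟩
  · rintro ⟨x, hx, rfl⟩; exact ⟨mem_AD_diag.2 hx, x, rfl⟩

theorem relDim_AD_diag (hK : IsFunctionField k K) {D₁ D₂ : Divisor k K} (h : D₁ ≤ D₂) :
    ∃ n : ℕ, (n : ℤ) = delta D₂ - delta D₁ ∧
      RelDim (AD D₁ ⊔ LinearMap.range (diag k K)) (AD D₂ ⊔ LinearMap.range (diag k K)) n := by
  obtain ⟨n, hn, hrel⟩ := exists_relDim_AD hK h
  have hd := ell_mono hK h
  have := finiteDimensional_L hK D₂
  have hm : RelDim (AD D₁ ⊓ LinearMap.range (diag k K)) (AD D₂ ⊓ LinearMap.range (diag k K))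
      (ell D₂ - ell D₁) := by
    rw [AD_inf_diag, AD_inf_diag]
    have hf : FiniteDimensional k ↥((L D₂).map (diag k K)) := Module.Finite.map _ _
    refine ⟨inferInstance, ?_⟩
    have h1 := Submodule.finrank_quotient_add_finrank
      (Submodule.comap ((L D₂).map (diag k K)).subtype ((L D₁).map (diag k K)))
    rw [(Submodule.comapSubtypeEquivOfLe (Submodule.map_mono (L_mono h))).finrank_eq,
      ← (Submodule.equivMapOfInjective _ (diag_injective hK) (L D₁)).finrank_eq,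
      ← (Submodule.equivMapOfInjective _ (diag_injective hK) (L D₂)).finrank_eq] at h1
    simp only [ell] at *
    omega
  obtain ⟨hle, hr⟩ := hrel.sup (AD_mono h) hm
  refine ⟨_, ?_, hr⟩
  simp only [delta]; omega

/-- Strong approximation: with `δ(D) = g`, every repartition is in `A(D) + K`. -/
theorem adele_le_of_delta_eq (hK : IsFunctionField k K) {D : Divisor k K}
    (h : delta D = genus k K) : adele k K ≤ AD D ⊔ LinearMap.range (diag k K) := by
  intro a ha
  obtain ⟨E, -, hE⟩ := exists_mem_AD ha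
  obtain ⟨n, hn, hr⟩ := relDim_AD_diag hK (le_sup_left : D ≤ D ⊔ E)
  have := delta_le_genus hK (D ⊔ E)
  have hn0 : n = 0 := by have := delta_mono hK (le_sup_left : D ≤ D ⊔ E); omega
  subst hn0
  rw [RelDim.eq_of_zero (sup_le_sup_right (AD_mono le_sup_left) _) hr]
  exact Submodule.mem_sup_left (AD_mono le_sup_right hE)

theorem exists_ge_delta_eq (hK : IsFunctionField k K) (D : Divisor k K) :
    ∃ E, D ≤ E ∧ delta E = genus k K := by
  obtain ⟨E, hE⟩ := exists_delta_eq_genus hK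
  exact ⟨D ⊔ E, le_sup_left,
    le_antisymm (delta_le_genus hK _) (hE ▸ delta_mono hK le_sup_right)⟩

theorem finrank_adele_quotient (hK : IsFunctionField k K) (D : Divisor k K) :
    FiniteDimensional k (↥(adele k K) ⧸ ADK D) ∧
      (Module.finrank k (↥(adele k K) ⧸ ADK D) : ℤ) = genus k K - delta D := by
  obtain ⟨E, hDE, hE⟩ := exists_ge_delta_eq hK D
  obtain ⟨n, hn, hr⟩ := relDim_AD_diag hK hDE
  have heq : AD E ⊔ LinearMap.range (diag k K) = adele k K :=
    le_antisymm (sup_le (AD_le_adele E) (range_diag_le_adele hK)) (adele_le_of_delta_eq hK hE)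
  rw [heq] at hr
  obtain ⟨hf, hr⟩ := hr
  exact ⟨hf, by unfold ADK; rw [hr, hn, hE]⟩

theorem finrank_WD (hK : IsFunctionField k K) (D : Divisor k K) :
    FiniteDimensional k (WD D) ∧
      (Module.finrank k (WD D) : ℤ) = genus k K - delta D := by
  obtain ⟨hf, hn⟩ := finrank_adele_quotient hK D
  have e := (ADK D).dualQuotEquivDualAnnihilator
  refine ⟨Module.Finite.equiv e, ?_⟩
  rw [← hn]
  exact congrArg Nat.cast (e.finrank_eq.symm.trans Subspace.dual_finrank_eq)

/-! ### Weil differentials -/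

theorem ADK_mono {D₁ D₂ : Divisor k K} (h : D₁ ≤ D₂) : ADK D₁ ≤ ADK D₂ :=
  Submodule.comap_mono (sup_le_sup_right (AD_mono h) _)

theorem WD_antitone {D₁ D₂ : Divisor k K} (h : D₁ ≤ D₂) : WD D₂ ≤ WD D₁ :=
  Submodule.dualAnnihilator_anti (ADK_mono h)

theorem mem_WD {D : Divisor k K} {ω : Module.Dual k (adele k K)} :
    ω ∈ WD D ↔ ∀ a : adele k K, a.1 ∈ AD D ⊔ LinearMap.range (diag k K) → ω a = 0 :=
  Submodule.mem_dualAnnihilator ω

theorem AD_sup (D₁ D₂ : Divisor k K) : AD (D₁ ⊔ D₂) = AD D₁ ⊔ AD D₂ := by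
  classical
  refine le_antisymm (fun a ha => ?_) (sup_le (AD_mono le_sup_left) (AD_mono le_sup_right))
  refine Submodule.mem_sup.2 ⟨fun P => if D₂ P ≤ D₁ P then a P else 0, fun P => ?_,
    fun P => if D₂ P ≤ D₁ P then 0 else a P, fun P => ?_, funext fun P => ?_⟩
  · show P.1 (if D₂ P ≤ D₁ P then a P else 0) ≤ exp (D₁ P)
    have := ha P
    rw [Finsupp.sup_apply] at this
    split_ifs with h
    · rwa [sup_eq_left.2 h] at this
    · simp
  · show P.1 (if D₂ P ≤ D₁ P then 0 else a P) ≤ exp (D₂ P)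
    have := ha P
    rw [Finsupp.sup_apply] at this
    split_ifs with h
    · simp
    · rwa [sup_eq_right.2 (le_of_not_ge h)] at this
  · simp only [Pi.add_apply]; split_ifs <;> simp

theorem mem_WD_sup {D₁ D₂ : Divisor k K} {ω : Module.Dual k (adele k K)} (h₁ : ω ∈ WD D₁)
    (h₂ : ω ∈ WD D₂) : ω ∈ WD (D₁ ⊔ D₂) := by
  rw [mem_WD] at *
  intro a ha
  rw [AD_sup, sup_assoc] at ha
  obtain ⟨b, hb, c, hc, hbc⟩ := Submodule.mem_sup.1 ha
  have hbA : b ∈ adele k K := AD_le_adele D₁ hb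
  have hcA : c ∈ adele k K := by
    have : c = a.1 - b := eq_sub_of_add_eq' hbc
    rw [this]; exact sub_mem a.2 hbA
  have : a = ⟨b, hbA⟩ + ⟨c, hcA⟩ := Subtype.ext hbc.symm
  rw [this, map_add, h₁ _ (Submodule.mem_sup_left hb), h₂ _ hc, add_zero]

theorem exists_isDivOf (hK : IsFunctionField k K) {ω : Module.Dual k (adele k K)} (hω : IsWeil ω)
    (h0 : ω ≠ 0) : ∃ C : Divisor k K, IsDivOf ω C := by
  obtain ⟨N, hN⟩ := riemann_eventually hK
  have hbd : ∀ E, ω ∈ WD E → E.deg < N := fun E hE => by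
    by_contra h
    refine h0 (LinearMap.ext fun a => mem_WD.1 hE a ?_)
    exact adele_le_of_delta_eq hK (hN E (le_of_not_gt h)) a.2
  obtain ⟨E₀, hE₀⟩ := hω
  let S : Set ℕ := (fun E : Divisor k K => (N - E.deg).toNat) '' {E | ω ∈ WD E}
  obtain ⟨C, hC, hCmin⟩ := Nat.sInf_mem (s := S) ⟨_, E₀, hE₀, rfl⟩
  refine ⟨C, fun E => ⟨fun hE => ?_, fun h => WD_antitone h hC⟩⟩
  have hS := mem_WD_sup hC hE
  have hle : sInf S ≤ (N - (C ⊔ E).deg).toNat := Nat.sInf_le ⟨_, hS, rfl⟩
  have h1 := hbd _ hS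
  have h2 := hbd _ hC
  simp only at hCmin
  rw [eq_of_le_of_deg_le hK (le_sup_left : C ≤ C ⊔ E) (by omega)]
  exact le_sup_right

theorem mulW_apply {x : K} (hx : ∀ a ∈ adele k K, x • a ∈ adele k K)
    (ω : Module.Dual k (adele k K)) (a : adele k K) :
    mulW x hx ω a = ω ⟨x • a.1, hx a.1 a.2⟩ := rfl

theorem mulW_mem_WD {C D : Divisor k K} {x : K} (hxD : x ∈ L D)
    (hx : ∀ a ∈ adele k K, x • a ∈ adele k K) {ω : Module.Dual k (adele k K)} (hω : ω ∈ WD C) :
    mulW x hx ω ∈ WD (C - D) := by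
  rw [mem_WD] at *
  intro a ha
  rw [mulW_apply]
  refine hω _ ?_
  obtain ⟨b, hb, _, ⟨z, rfl⟩, hbz⟩ := Submodule.mem_sup.1 ha
  refine Submodule.mem_sup.2 ⟨x • b, fun P => ?_, diag k K (x * z), ⟨_, rfl⟩, ?_⟩
  · show P.1 (x * b P) ≤ exp (C P)
    rw [map_mul]
    refine (mul_le_mul' (hxD P) (hb P)).trans_eq ?_
    rw [← exp_add, Finsupp.sub_apply]; congr 1; ring
  · show _ = x • a.1
    rw [← hbz, smul_add]; rfl

theorem mem_L_div (hK : IsFunctionField k K) (x : K) : x ∈ L (-div k x) := by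
  rcases eq_or_ne x 0 with rfl | hx
  · exact zero_mem _
  exact (mem_L_iff hx).2 fun P => by rw [Finsupp.neg_apply, div_apply hK]; omega

theorem mulW_mulW {x y : K} (hx : ∀ a ∈ adele k K, x • a ∈ adele k K)
    (hy : ∀ a ∈ adele k K, y • a ∈ adele k K) (hxy : ∀ a ∈ adele k K, (x * y) • a ∈ adele k K)
    (ω : Module.Dual k (adele k K)) : mulW x hx (mulW y hy ω) = mulW (x * y) hxy ω := by
  ext a
  simp only [mulW_apply]
  congr 1
  exact Subtype.ext (by simp [smul_smul, mul_comm])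

theorem mulW_one {x : K} (h1 : x = 1) (hx : ∀ a ∈ adele k K, x • a ∈ adele k K)
    (ω : Module.Dual k (adele k K)) : mulW x hx ω = ω := by
  subst h1
  ext a
  rw [mulW_apply]
  congr 1
  exact Subtype.ext (one_smul _ _)

theorem mulW_congr {x y : K} (h : x = y) (hx : ∀ a ∈ adele k K, x • a ∈ adele k K)
    (hy : ∀ a ∈ adele k K, y • a ∈ adele k K) (ω : Module.Dual k (adele k K)) :
    mulW x hx ω = mulW y hy ω := by subst h; rfl

theorem mulW_eq_zero (hK : IsFunctionField k K) {x : K} (h0 : x ≠ 0)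
    {hx : ∀ a ∈ adele k K, x • a ∈ adele k K} {ω : Module.Dual k (adele k K)}
    (h : mulW x hx ω = 0) : ω = 0 := by
  ext a
  have h2 := LinearMap.congr_fun h ⟨x⁻¹ • a.1, smul_mem_adele hK _ _ a.2⟩
  rw [mulW_apply] at h2
  simpa [smul_smul, h0] using h2

/-- `x ↦ x ω` as a linear map on `K`. -/
noncomputable def mulWₗ (hK : IsFunctionField k K) (ω : Module.Dual k (adele k K)) :
    K →ₗ[k] Module.Dual k (adele k K) where
  toFun x := mulW x (smul_mem_adele hK x) ω
  map_add' x y := LinearMap.ext fun a => by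
    simp only [LinearMap.add_apply, mulW_apply]
    rw [← map_add]
    congr 1
    exact Subtype.ext (add_smul _ _ _)
  map_smul' c x := LinearMap.ext fun a => by
    simp only [LinearMap.smul_apply, RingHom.id_apply, mulW_apply]
    rw [← map_smul]
    congr 1
    exact Subtype.ext (smul_assoc _ _ _)

theorem mulWₗ_injective (hK : IsFunctionField k K) {ω : Module.Dual k (adele k K)} (h0 : ω ≠ 0) :
    Function.Injective (mulWₗ hK ω) :=
  (injective_iff_map_eq_zero _).2 fun _ hx => by_contra fun h => h0 (mulW_eq_zero hK (hx := smul_mem_adele hK _) h hx)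

/-- The space of Weil differentials has dimension one over `K`. -/
theorem exists_mulW_eq (hK : IsFunctionField k K)
    {ω₁ ω₂ : Module.Dual k (adele k K)} (h₁ : IsWeil ω₁) (h0 : ω₁ ≠ 0) (h₂ : IsWeil ω₂) :
    ∃ x : K, mulW x (smul_mem_adele hK x) ω₁ = ω₂ := by
  rcases eq_or_ne ω₂ 0 with rfl | h20
  · exact ⟨0, map_zero (mulWₗ hK ω₁)⟩
  obtain ⟨E₁, hE₁⟩ := h₁
  obtain ⟨E₂, hE₂⟩ := h₂
  obtain ⟨P⟩ := exists_place hK
  have hdP := deg_pos hK P
  obtain ⟨t, ht⟩ : ∃ t : ℕ, 3 * (genus k K : ℤ) - E₁.deg - E₂.deg < t ∧ 0 < (t : ℤ) :=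
    ⟨(3 * (genus k K : ℤ) - E₁.deg - E₂.deg).toNat + 1, by omega⟩
  set B : Divisor k K := Finsupp.single P (t : ℤ)
  have hB : B.deg = t * P.deg := deg_single P t
  have hB' : (t : ℤ) ≤ B.deg := by
    rw [hB]; exact le_mul_of_one_le_right (by omega) (by exact_mod_cast hdP)
  obtain ⟨hfW, hW⟩ := finrank_WD hK (-B)
  have hneg : ell (-B) = 0 := ell_eq_zero_of_deg_neg hK (by rw [deg_neg]; omega)
  simp only [delta, deg_neg, hneg] at hW
  have hmap : ∀ (E : Divisor k K) (ω : Module.Dual k (adele k K)), ω ∈ WD E →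
      (L (E + B)).map (mulWₗ hK ω) ≤ WD (-B) := by
    rintro E ω hω _ ⟨x, hx, rfl⟩
    have := mulW_mem_WD hx (smul_mem_adele hK x) hω
    rwa [sub_add_cancel_left] at this
  set V₁ := (L (E₁ + B)).map (mulWₗ hK ω₁)
  set V₂ := (L (E₂ + B)).map (mulWₗ hK ω₂)
  have hV₁ : Module.finrank k V₁ = ell (E₁ + B) :=
    (Submodule.equivMapOfInjective _ (mulWₗ_injective hK h0) _).finrank_eq.symm
  have hV₂ : Module.finrank k V₂ = ell (E₂ + B) :=
    (Submodule.equivMapOfInjective _ (mulWₗ_injective hK h20) _).finrank_eq.symm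
  have : FiniteDimensional k (L (E₁ + B)) := finiteDimensional_L hK _
  have : FiniteDimensional k (L (E₂ + B)) := finiteDimensional_L hK _
  have hsup : Module.finrank k ↥(V₁ ⊔ V₂) ≤ Module.finrank k (WD (-B)) :=
    Submodule.finrank_mono (sup_le (hmap E₁ ω₁ hE₁) (hmap E₂ ω₂ hE₂))
  have hinf := Submodule.finrank_sup_add_finrank_inf_eq V₁ V₂
  have r1 := delta_le_genus hK (E₁ + B)
  have r2 := delta_le_genus hK (E₂ + B)
  simp only [delta, deg_add] at r1 r2
  have hne : V₁ ⊓ V₂ ≠ ⊥ := fun h => by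
    rw [h, finrank_bot] at hinf
    omega
  obtain ⟨v, ⟨⟨x₁, -, hx₁⟩, ⟨x₂, -, hx₂⟩⟩, hv0⟩ := Submodule.exists_mem_ne_zero_of_ne_bot hne
  have hx20 : x₂ ≠ 0 := by rintro rfl; simp at hx₂; exact hv0 hx₂.symm
  refine ⟨x₂⁻¹ * x₁, ?_⟩
  calc mulW (x₂⁻¹ * x₁) _ ω₁ = mulW x₂⁻¹ (smul_mem_adele hK _) (mulW x₁ (smul_mem_adele hK _) ω₁) :=
        (mulW_mulW _ _ _ _).symm
    _ = mulW x₂⁻¹ (smul_mem_adele hK _) (mulW x₂ (smul_mem_adele hK _) ω₂) := by
        rw [show mulW x₁ (smul_mem_adele hK x₁) ω₁ = mulW x₂ (smul_mem_adele hK x₂) ω₂ from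
          hx₁.trans hx₂.symm]
    _ = ω₂ := by
        rw [mulW_mulW _ _ (smul_mem_adele hK _), mulW_one (inv_mul_cancel₀ hx20)]

theorem isDivOf_mulW (hK : IsFunctionField k K) {x : K} (h0 : x ≠ 0)
    {hx : ∀ a ∈ adele k K, x • a ∈ adele k K} {ω : Module.Dual k (adele k K)} {C : Divisor k K}
    (hω : IsDivOf ω C) : IsDivOf (mulW x hx ω) (C + div k x) := by
  intro E
  constructor
  · intro h
    have h2 := mulW_mem_WD (mem_L_div hK x⁻¹) (smul_mem_adele hK x⁻¹) h
    rw [mulW_mulW _ _ (smul_mem_adele hK _), mulW_one (inv_mul_cancel₀ h0), div_inv hK, neg_neg] at h2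
    exact sub_le_iff_le_add.1 ((hω _).1 h2)
  · intro h
    have h2 := mulW_mem_WD (mem_L_div hK x) hx ((hω C).2 le_rfl)
    rw [sub_neg_eq_add] at h2
    exact WD_antitone h h2

theorem IsDivOf.ne_zero (hK : IsFunctionField k K) {ω : Module.Dual k (adele k K)} {C : Divisor k K}
    (hω : IsDivOf ω C) : ω ≠ 0 := by
  intro h
  obtain ⟨P⟩ := exists_place hK
  have h1 : C + Finsupp.single P 1 ≤ C := (hω _).1 (h ▸ zero_mem _)
  have h2 : (C + Finsupp.single P (1 : ℤ)) P ≤ C P := h1 P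
  simp at h2

theorem IsDivOf.isWeil {ω : Module.Dual k (adele k K)} {C : Divisor k K} (hω : IsDivOf ω C) :
    IsWeil ω := ⟨C, (hω C).2 le_rfl⟩

/-- Duality: `x ↦ x ω` maps `L(C - D)` onto `W(D)`. -/
theorem WD_eq_map (hK : IsFunctionField k K) {ω : Module.Dual k (adele k K)} {C : Divisor k K}
    (hω : IsDivOf ω C) (D : Divisor k K) : (L (C - D)).map (mulWₗ hK ω) = WD D := by
  apply le_antisymm
  · rintro _ ⟨x, hx, rfl⟩
    have := mulW_mem_WD hx (smul_mem_adele hK x) ((hω C).2 le_rfl)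
    rwa [sub_sub_cancel] at this
  · intro ω' hω'
    obtain ⟨x, rfl⟩ := exists_mulW_eq hK (IsDivOf.isWeil hω) (IsDivOf.ne_zero hK hω) ⟨D, hω'⟩
    rcases eq_or_ne x 0 with rfl | h0
    · exact ⟨0, zero_mem _, rfl⟩
    refine ⟨x, (mem_L_iff h0).2 fun P => ?_, rfl⟩
    have := ((isDivOf_mulW hK h0 hω) D).1 hω' P
    rw [Finsupp.add_apply, div_apply hK] at this
    rw [Finsupp.sub_apply]; omega

theorem riemann_roch (hK : IsFunctionField k K) {C : Divisor k K} (hC : IsCanonical k K C)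
    (D : Divisor k K) : (ell D : ℤ) = D.deg + 1 - genus k K + ell (C - D) := by
  obtain ⟨ω, h0, hω⟩ := hC
  have h1 := (finrank_WD hK D).2
  rw [← WD_eq_map hK hω D,
    ← (Submodule.equivMapOfInjective _ (mulWₗ_injective hK h0) _).finrank_eq] at h1
  simp only [delta, ell] at *
  omega

theorem exists_isCanonical (hK : IsFunctionField k K) : ∃ C : Divisor k K, IsCanonical k K C := by
  obtain ⟨P⟩ := exists_place hK
  obtain ⟨hf, hn⟩ := finrank_WD hK (-Finsupp.single P 2)
  have hdeg : Divisor.deg (-Finsupp.single P 2 : Divisor k K) = -(2 * (P.deg : ℤ)) := by rw [deg_neg, deg_single]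
  have hdP := deg_pos hK P
  have hne : WD (-Finsupp.single P 2 : Divisor k K) ≠ ⊥ := fun h => by
    rw [h, finrank_bot] at hn
    simp only [delta, hdeg] at hn
    omega
  obtain ⟨ω, hω, h0⟩ := Submodule.exists_mem_ne_zero_of_ne_bot hne
  obtain ⟨C, hC⟩ := exists_isDivOf hK ⟨_, hω⟩ h0
  exact ⟨C, ω, h0, hC⟩

theorem canonical_ell_deg (hK : IsFunctionField k K) {C : Divisor k K} (hC : IsCanonical k K C) :
    (ell C : ℤ) = genus k K ∧ C.deg = 2 * genus k K - 2 := by
  have h1 := riemann_roch hK hC 0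
  have h2 := riemann_roch hK hC C
  rw [sub_zero, ell_zero hK, deg_zero] at h1
  rw [sub_self, ell_zero hK] at h2
  omega

theorem ell_eq_of_deg_ge (hK : IsFunctionField k K) {D : Divisor k K}
    (h : 2 * (genus k K : ℤ) - 1 ≤ D.deg) : (ell D : ℤ) = D.deg + 1 - genus k K := by
  obtain ⟨C, hC⟩ := exists_isCanonical hK
  have h1 := riemann_roch hK hC D
  rw [ell_eq_zero_of_deg_neg hK (D := C - D)
    (by rw [deg_sub, (canonical_ell_deg hK hC).2]; omega)] at h1
  omega

end Groth.Agent.FunFldLib
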