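import Groth.Agent.FunFld.Hyperelliptic
import Groth.Agent.FunFld.Unramified
import Groth.Agent.FunFld.RR
import Mathlib.RingTheory.Polynomial.DegreeLT

/-!
Riemann-Roch spaces and genus of `y ^ 2 = f(x)`.
-/

namespace Groth.Agent.FunFldLib

open FunFld WithZero

variable {k : Type*} [Field k]

/-- Over every irreducible polynomial lies a place. -/
theorem rat_exists_place {p : Polynomial k} (hp : Irreducible p) :
    ∃ P : Place k (RatFunc k), P.1 (polR p) < 1 := by
  have hp0 : polR p ≠ 0 := by simpa [polR] using hp.ne_zero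
  have ht : Transcendental k (polR p) := fun h => by
    obtain ⟨c, hc⟩ := isFunctionField_ratFunc.2 _ h
    rw [IsScalarTower.algebraMap_apply k (Polynomial k) (RatFunc k), Polynomial.algebraMap_eq] at hc
    have := RatFunc.algebraMap_injective k hc
    exact hp.natDegree_pos.ne' (by rw [← this, Polynomial.natDegree_C])
  obtain ⟨P, hP⟩ := exists_place_ord_pos isFunctionField_ratFunc ht
  exact ⟨P, (val_lt_one_iff P hp0).2 hP⟩

/-- Integral at every finite place means polynomial. -/
theorem rat_eq_pol {z : RatFunc k} (hz : ∀ P : Place k (RatFunc k), P.1 RatFunc.X ≤ 1 → P.1 z ≤ 1) :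
    ∃ q : Polynomial k, z = polR q := by
  by_cases hu : IsUnit z.denom
  · obtain ⟨c, hc⟩ := hu
    refine ⟨z.num * (↑c⁻¹ : Polynomial k), ?_⟩
    conv_lhs => rw [← RatFunc.num_div_denom z]
    rw [div_eq_iff (by simpa using z.denom_ne_zero), polR, ← map_mul, mul_assoc, ← hc, Units.inv_mul, mul_one]
  · exfalso
    obtain ⟨p, hp, hpd⟩ := WfDvdMonoid.exists_irreducible_factor hu z.denom_ne_zero
    obtain ⟨P, hP⟩ := rat_exists_place hp
    have hX := rat_val_X_of_prime P hp.ne_zero hP
    have hnd : ¬ p ∣ z.num := fun h => hp.not_isUnit ((RatFunc.isCoprime_num_denom z).isUnit_of_dvd' h hpd)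
    have h1 := rat_val_eq_one P hp hP hnd
    have h2 : P.1 (polR z.denom) < 1 := by
      obtain ⟨r, hr⟩ := hpd
      rw [hr, polR, map_mul, map_mul]
      exact lt_of_le_of_lt (mul_le_of_le_one_right' (rat_val_pol_le_one P hX r)) hP
    have h3 := congrArg P.1 (RatFunc.num_div_denom z)
    rw [map_div₀, show P.1 (algebraMap (Polynomial k) (RatFunc k) z.num) = 1 from h1] at h3
    have h4 := hz P hX
    rw [← h3, one_div, inv_le_one₀ (zero_lt_iff.2 (val_ne_zero P (by simpa using z.denom_ne_zero)))] at h4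
    exact absurd h2 (not_lt.2 h4)

theorem rat_exists_inf : ∃ P : Place k (RatFunc k), 1 < P.1 RatFunc.X := by
  have h : Transcendental k (RatFunc.X : RatFunc k)⁻¹ := fun h => RatFunc.transcendental_X (by simpa using h.inv)
  obtain ⟨P, hP⟩ := exists_place_ord_pos isFunctionField_ratFunc h
  exact ⟨P, (one_lt_val_iff P RatFunc.X_ne_zero).2 (by rw [ord_inv] at hP; omega)⟩

theorem rat_inf_unique {P P' : Place k (RatFunc k)} (hP : 1 < P.1 RatFunc.X) (hP' : 1 < P'.1 RatFunc.X) : P = P' := by
  refine place_ext fun z hz => ?_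
  rcases eq_or_ne z 0 with rfl | hz0
  · simp
  have e : ∀ Q : Place k (RatFunc k), 1 < Q.1 RatFunc.X → Q.1 z = exp ((z.num.natDegree : ℤ) - z.denom.natDegree) :=
    fun Q hQ => by
      rw [← congrArg Q.1 (RatFunc.num_div_denom z), map_div₀, rat_val_pol_inf Q hQ (RatFunc.num_ne_zero hz0),
        rat_val_pol_inf Q hQ z.denom_ne_zero, rat_val_X_inf Q hQ, ← exp_nsmul, ← exp_nsmul, ← exp_sub]
      simp
  rw [e P' hP', ← e P hP]
  exact hz

variable {K : Type*} [Field K] [Algebra k K] [Algebra (RatFunc k) K] [IsScalarTower k (RatFunc k) K]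

theorem genus_hyperelliptic (hK : IsFunctionField k K) (h2 : (2 : k) ≠ 0)
    (hdeg : Module.finrank (RatFunc k) K = 2) (y : K) {f : Polynomial k} (hf : Squarefree f)
    (hd : 1 ≤ f.natDegree) (heq : y ^ 2 = algebraMap (RatFunc k) K (polR f)) :
    genus k K = (f.natDegree - 1) / 2 := by
  classical
  have : FiniteDimensional (RatFunc k) K := Module.finite_of_finrank_pos (by rw [hdeg]; exact two_pos)
  have hF := isFunctionField_ratFunc (k := k)
  have hy := hyper_notMem hf hd heq
  have hy0 : y ≠ 0 := fun h => hy ⟨0, by rw [map_zero, h]⟩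
  obtain ⟨Pi, hPi⟩ := rat_exists_inf (k := k)
  have hdPi := rat_deg_inf Pi hPi
  have hXi := rat_val_X_inf Pi hPi
  have hX0 : (RatFunc.X : RatFunc k) ≠ 0 := RatFunc.X_ne_zero
  set d := f.natDegree with hddef
  set n := genus k K + d with hn
  set c := (d + 1) / 2 with hc
  have h2F : (2 : RatFunc k) ≠ 0 := by
    rw [← map_ofNat (algebraMap k (RatFunc k)) 2]; exact (map_ne_zero _).2 h2
  have h2v : ∀ P : Place k (RatFunc k), P.1 (2 : RatFunc k) = 1 := fun P => by
    rw [← map_ofNat (algebraMap k (RatFunc k)) 2]; exact val_algebraMap P h2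
  let N : Divisor k K := conorm K (Finsupp.single Pi (n : ℤ))
  have hN : N.deg = 2 * n := by rw [deg_conorm hF, deg_single, hdeg, hdPi]; simp
  have hmem : ∀ u : K, u ∈ L N ↔ (∀ P : Place k (RatFunc k), P.1 RatFunc.X ≤ 1 → IntAbove P u) ∧
      IntAbove Pi (u * algebraMap (RatFunc k) K (RatFunc.X ^ n)⁻¹) := fun u => by
    have hinf : ∀ Q : Place k K, IsOver Q Pi →
        (Q.1 (u * algebraMap (RatFunc k) K (RatFunc.X ^ n)⁻¹) ≤ 1 ↔ Q.1 u ≤ exp (N Q)) := fun Q hQ => by
      show _ ↔ Q.1 u ≤ exp (conorm K (Finsupp.single Pi (n : ℤ)) Q)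
      rw [conorm_apply hF, (isOver_iff_below Q Pi).1 hQ, Finsupp.single_eq_same, map_mul, isOverWith_ramIdx hQ,
        map_inv₀, map_pow, hXi, ← exp_nsmul, ← exp_neg, ← exp_nsmul]
      have h1 : ∀ (a : WithZero (Multiplicative ℤ)) (m : ℤ), a * exp (-m) ≤ 1 ↔ a ≤ exp m := fun a m => by
        rw [exp_neg, mul_inv_le_iff₀ (exp_pos (a := m)), one_mul]
      have h2 : ((ramIdx Q Pi : ℕ) • -((n : ℕ) • (1 : ℤ))) = -((n : ℤ) * ramIdx Q Pi) := by
        simp only [nsmul_eq_mul, mul_one]; ring
      rw [h2, h1]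
    constructor
    · intro h
      refine ⟨fun P hP Q hQ => ?_, fun Q hQ => (hinf Q hQ).2 (h Q)⟩
      have h3 := h Q
      rw [show N Q = 0 from by
        show conorm K (Finsupp.single Pi (n : ℤ)) Q = 0
        rw [conorm_apply hF, (isOver_iff_below Q P).1 hQ,
          Finsupp.single_eq_of_ne (show P ≠ Pi from fun h' => not_le.2 hPi (h' ▸ hP)), zero_mul], exp_zero] at h3
      exact h3
    · rintro ⟨h1, h2⟩ Q
      by_cases hQ : IsOver Q Pi
      · exact (hinf Q hQ).1 (h2 Q hQ)
      · have hb := isOver_below (K := RatFunc k) Q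
        have hne : below (K := RatFunc k) Q ≠ Pi := fun h => hQ (h ▸ hb)
        rw [show N Q = 0 from by
          show conorm K (Finsupp.single Pi (n : ℤ)) Q = 0
          rw [conorm_apply hF, Finsupp.single_eq_of_ne hne, zero_mul], exp_zero]
        refine h1 _ (not_lt.1 fun h => hne (rat_inf_unique h hPi)) Q hb
  have htr : ∀ a b : RatFunc k,
      Algebra.trace (RatFunc k) K (algebraMap _ K a + algebraMap _ K b * y) = 2 * a := fun a b => by
    rw [map_add, Algebra.trace_algebraMap, hdeg, ← Algebra.smul_def, map_smul, quad_trace hdeg hy heq,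
      smul_zero, add_zero, two_smul, two_mul]
  have hintF : ∀ (P : Place k (RatFunc k)) (a : RatFunc k), IntAbove P (algebraMap (RatFunc k) K a) ↔ P.1 a ≤ 1 :=
    fun P a => by
      constructor
      · intro h
        obtain ⟨Q, hQ⟩ := exists_above (K' := K) hF P
        have := h Q hQ
        rwa [isOverWith_ramIdx hQ, pow_le_one_iff_of_nonneg zero_le (isOverWith_pos (isOverWith_ramIdx hQ)).ne'] at this
      · intro h Q hQ
        rw [isOverWith_ramIdx hQ]; exact pow_le_one₀ zero_le h
  have hsq : ∀ (P : Place k (RatFunc k)) (b : RatFunc k),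
      IntAbove P (algebraMap (RatFunc k) K b * y) ↔ P.1 (b ^ 2 * polR f) ≤ 1 := fun P b => by
    rw [← hintF, map_mul, map_pow, ← heq, ← mul_pow]
    refine ⟨fun h Q hQ => by rw [map_pow]; exact pow_le_one₀ zero_le (h Q hQ), fun h Q hQ => ?_⟩
    have := h Q hQ
    rw [map_pow] at this
    exact (pow_le_one_iff_of_nonneg zero_le two_ne_zero).1 this
  have hfin : ∀ P : Place k (RatFunc k), ∀ a b : RatFunc k,
      IntAbove P (algebraMap _ K a + algebraMap _ K b * y) ↔ P.1 a ≤ 1 ∧ P.1 (b ^ 2 * polR f) ≤ 1 := fun P a b => by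
    constructor
    · intro h
      have ha : P.1 a ≤ 1 := by
        have := val_trace_le_one hF h
        rwa [htr, map_mul, h2v, one_mul] at this
      refine ⟨ha, (hsq P b).1 fun Q hQ => ?_⟩
      have h1 := (Q.1.map_sub _ _).trans (max_le (h Q hQ) ((hintF P a).2 ha Q hQ))
      rwa [add_sub_cancel_left] at h1
    · rintro ⟨ha, hb⟩ Q hQ
      exact (Q.1.map_add _ _).trans (max_le ((hintF P a).2 ha Q hQ) ((hsq P b).2 hb Q hQ))
  have hval : ∀ q : Polynomial k, q ≠ 0 → Pi.1 (polR q) = exp (q.natDegree : ℤ) := fun q hq => by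
    rw [rat_val_pol_inf Pi hPi hq, hXi, ← exp_nsmul]; simp
  have hf0 : f ≠ 0 := hf.ne_zero
  have hXn : Pi.1 (RatFunc.X ^ n)⁻¹ = exp (-(n : ℤ)) := by
    rw [map_inv₀, map_pow, hXi, ← exp_nsmul, ← exp_neg]; simp
  let j : Polynomial k →ₗ[k] K :=
    ((Algebra.linearMap (RatFunc k) K).restrictScalars k) ∘ₗ (IsScalarTower.toAlgHom k (Polynomial k) (RatFunc k)).toLinearMap
  let Φ : (Polynomial.degreeLT k (n + 1) × Polynomial.degreeLT k (n - c + 1)) →ₗ[k] K :=
    (j ∘ₗ (Polynomial.degreeLT k (n + 1)).subtype).coprod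
      (LinearMap.mulRight k y ∘ₗ j ∘ₗ (Polynomial.degreeLT k (n - c + 1)).subtype)
  have hΦ : ∀ p, Φ p = algebraMap (RatFunc k) K (polR p.1.1) + algebraMap (RatFunc k) K (polR p.2.1) * y :=
    fun p => rfl
  have hinj : Function.Injective Φ := by
    rw [injective_iff_map_eq_zero]
    intro p hp
    rw [hΦ] at hp
    have hb : polR p.2.1 = 0 := by
      by_contra hb
      refine hy ⟨-polR p.1.1 / polR p.2.1, ?_⟩
      rw [map_div₀, map_neg, div_eq_iff (by simpa using hb)]
      linear_combination -hp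
    rw [hb, map_zero, zero_mul, add_zero, map_eq_zero] at hp
    exact Prod.ext (Subtype.ext ((map_eq_zero_iff _ (RatFunc.algebraMap_injective k)).1 hp))
      (Subtype.ext ((map_eq_zero_iff _ (RatFunc.algebraMap_injective k)).1 hb))
  have hdlt : ∀ (q : Polynomial k) (m : ℕ), q ∈ Polynomial.degreeLT k (m + 1) ↔ q = 0 ∨ q.natDegree ≤ m := by
    intro q m
    rw [Polynomial.mem_degreeLT]
    rcases eq_or_ne q 0 with rfl | hq
    · simp
    · rw [Polynomial.degree_eq_natDegree hq, Nat.cast_lt]; simp [hq]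
  have hrange : LinearMap.range Φ = L N := by
    apply le_antisymm
    · rintro _ ⟨⟨⟨a, ha⟩, ⟨b, hb⟩⟩, rfl⟩
      rw [hΦ, hmem]
      refine ⟨fun P hP => (hfin P _ _).2 ⟨rat_val_pol_le_one P hP a, ?_⟩, ?_⟩
      · rw [← map_pow, ← map_mul]; exact rat_val_pol_le_one P hP _
      · rw [add_mul, ← map_mul, mul_right_comm, ← map_mul]
        refine (hfin Pi _ _).2 ⟨?_, ?_⟩
        · rcases (hdlt a n).1 ha with h | h
          · subst h; simp [polR]
          · rcases eq_or_ne a 0 with rfl | ha0
            · simp [polR]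
            rw [map_mul, hXn, hval a ha0, ← exp_add, ← exp_zero, exp_le_exp]; omega
        · rcases eq_or_ne b 0 with rfl | hb0
          · simp [polR]
          have h := ((hdlt b (n - c)).1 hb).resolve_left hb0
          rw [map_mul, map_pow, map_mul, hXn, hval b hb0, hval f hf0, ← exp_add, ← exp_nsmul, ← exp_add,
            ← exp_zero, exp_le_exp]
          simp only [nsmul_eq_mul]; push_cast
          omega
    · intro u hu
      obtain ⟨a, b, rfl⟩ := quad_repr hdeg hy u
      obtain ⟨h1, h3⟩ := (hmem _).1 hu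
      obtain ⟨a', rfl⟩ := rat_eq_pol fun P hP => ((hfin P a b).1 (h1 P hP)).1
      obtain ⟨b', rfl⟩ := rat_eq_pol (z := b) fun P hP => by
        have hb := ((hfin P _ b).1 (h1 P hP)).2
        by_contra hlt
        rw [not_le] at hlt
        have hb0 : b ≠ 0 := fun h => by rw [h, map_zero] at hlt; exact not_lt_zero hlt
        have hfl : exp (-1) ≤ P.1 (polR f) := by
          by_cases hPf : P.1 (polR f) < 1
          · obtain ⟨p, hp, hpf, hpv⟩ := rat_exists_prime P hf0 hPf
            exact (rat_val_squarefree P hp hpv hf hpf).ge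
          · exact (le_of_lt (by rw [← exp_zero, exp_lt_exp]; norm_num)).trans (not_lt.1 hPf)
        rw [map_mul, map_pow] at hb
        have h4 := (mul_le_mul' (le_refl (P.1 b ^ 2)) hfl).trans hb
        rw [val_eq_exp P hb0, ← exp_zero, exp_lt_exp] at hlt
        rw [val_eq_exp P hb0, ← exp_nsmul, ← exp_add, ← exp_zero, exp_le_exp, nsmul_eq_mul] at h4
        push_cast at h4
        omega
      rw [add_mul, ← map_mul, mul_right_comm, ← map_mul] at h3
      obtain ⟨ha, hb⟩ := (hfin Pi _ _).1 h3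
      refine ⟨(⟨a', ?_⟩, ⟨b', ?_⟩), rfl⟩
      · rw [hdlt]
        rcases eq_or_ne a' 0 with h | h
        · exact Or.inl h
        rw [map_mul, hXn, hval a' h, ← exp_add, ← exp_zero, exp_le_exp] at ha
        exact Or.inr (by omega)
      · rw [hdlt]
        rcases eq_or_ne b' 0 with h | h
        · exact Or.inl h
        rw [map_mul, map_pow, map_mul, hXn, hval b' h, hval f hf0, ← exp_add, ← exp_nsmul, ← exp_add,
          ← exp_zero, exp_le_exp, nsmul_eq_mul] at hb
        push_cast at hb
        exact Or.inr (by omega)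
  have hell : ell N = (n + 1) + (n - c + 1) := by
    rw [ell, ← hrange, LinearMap.finrank_range_of_inj hinj, Module.finrank_prod,
      (Polynomial.degreeLTEquiv k (n + 1)).finrank_eq, (Polynomial.degreeLTEquiv k (n - c + 1)).finrank_eq,
      Module.finrank_fin_fun, Module.finrank_fin_fun]
  have hRR := ell_eq_of_deg_ge hK (D := N) (by rw [hN]; omega)
  rw [hell, hN] at hRR
  omega

end Groth.Agent.FunFldLib
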