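import Groth.Agent.FunFld.Over
import Groth.Agent.FunFld.Local
import Mathlib.FieldTheory.RatFunc.IntermediateField
import Mathlib.RingTheory.UniqueFactorizationDomain.Multiplicity
import Mathlib.RingTheory.Trace.Basic

/-!
Places of the rational function field and quadratic extensions `y ^ 2 = f(x)`.
-/

namespace Groth.Agent.FunFldLib

open FunFld WithZero

section Rat

variable {k : Type*} [Field k]

/-- A polynomial as a rational function. -/
noncomputable abbrev polR (f : Polynomial k) : RatFunc k := algebraMap (Polynomial k) (RatFunc k) f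

theorem isFunctionField_ratFunc : IsFunctionField k (RatFunc k) := by
  refine ⟨⟨RatFunc.X, RatFunc.transcendental_X, ?_⟩, fun y hy => ?_⟩
  · rw [RatFunc.adjoin_X]
    exact Module.finite_of_finrank_pos (by rw [IntermediateField.finrank_top]; exact one_pos)
  · by_contra h
    exact RatFunc.transcendental_of_ne_C y (fun ⟨c, hc⟩ => h ⟨c, by rw [hc, RatFunc.algebraMap_eq_C]⟩) hy

variable (P : Place k (RatFunc k))

theorem rat_val_pol_le_one (hX : P.1 RatFunc.X ≤ 1) (q : Polynomial k) : P.1 (polR q) ≤ 1 := by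
  induction q using Polynomial.induction_on with
  | C c =>
    rw [polR, ← Polynomial.algebraMap_eq, ← IsScalarTower.algebraMap_apply]
    exact P.2.1 c
  | add p q hp hq => rw [polR, map_add]; exact (P.1.map_add _ _).trans (max_le hp hq)
  | monomial n c hn =>
    rw [polR, pow_succ, ← mul_assoc, map_mul, map_mul, RatFunc.algebraMap_X]
    exact mul_le_one' hn hX

theorem rat_val_pol_inf (hX : 1 < P.1 RatFunc.X) {q : Polynomial k} (hq : q ≠ 0) :
    P.1 (polR q) = P.1 RatFunc.X ^ q.natDegree := by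
  classical
  have hterm : ∀ i, P.1 (polR (Polynomial.C (q.coeff i) * Polynomial.X ^ i)) =
      P.1 (algebraMap k (RatFunc k) (q.coeff i)) * P.1 RatFunc.X ^ i := fun i => by
    rw [polR, map_mul, map_mul, map_pow, map_pow, RatFunc.algebraMap_X, ← Polynomial.algebraMap_eq,
      ← IsScalarTower.algebraMap_apply]
  have hlead : P.1 (polR (Polynomial.C (q.coeff q.natDegree) * Polynomial.X ^ q.natDegree)) =
      P.1 RatFunc.X ^ q.natDegree := by
    rw [hterm, val_algebraMap P (c := q.coeff q.natDegree) (Polynomial.leadingCoeff_ne_zero.2 hq), one_mul]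
  conv_lhs => rw [q.as_sum_range_C_mul_X_pow, polR, map_sum]
  rw [P.1.map_sum_eq_of_lt (j := q.natDegree) (by simp) fun i hi => ?_]
  · exact hlead
  · simp only [Finset.mem_sdiff, Finset.mem_range, Finset.mem_singleton] at hi
    refine lt_of_le_of_lt (b := P.1 RatFunc.X ^ i) ?_ ?_
    · rw [show P.1 (algebraMap (Polynomial k) (RatFunc k) (Polynomial.C (q.coeff i) * Polynomial.X ^ i)) = _ from hterm i]
      exact mul_le_of_le_one_left' (P.2.1 _)
    · rw [show P.1 (algebraMap (Polynomial k) (RatFunc k) _) = _ from hlead]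
      exact pow_lt_pow_right₀ hX (by omega)

theorem rat_val_X_inf (hX : 1 < P.1 RatFunc.X) : P.1 RatFunc.X = exp 1 := by
  obtain ⟨z, hz⟩ := exists_val_eq P (-1)
  have hz0 := ne_zero_of_val P hz
  have hn : z.num ≠ 0 := RatFunc.num_ne_zero hz0
  have hX0 : (RatFunc.X : RatFunc k) ≠ 0 := RatFunc.X_ne_zero
  have hd := z.denom_ne_zero
  have h := congrArg P.1 (RatFunc.num_div_denom z)
  rw [map_div₀, rat_val_pol_inf P hX hn, rat_val_pol_inf P hX hd, val_eq_exp P hX0, hz, ← exp_nsmul, ← exp_nsmul,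
    ← exp_sub, exp_inj, nsmul_eq_mul, nsmul_eq_mul] at h
  have hpos : 0 < -P.ord RatFunc.X := by
    rw [val_eq_exp P hX0, ← exp_zero, exp_lt_exp] at hX; exact hX
  have h1 : (-P.ord RatFunc.X) ∣ 1 := ⟨(z.denom.natDegree : ℤ) - z.num.natDegree, by linarith⟩
  have := Int.le_of_dvd one_pos h1
  rw [val_eq_exp P hX0, exp_inj]
  omega

theorem rat_deg_inf (hX : 1 < P.1 RatFunc.X) : P.deg = 1 := by
  have hff : IsFF k (RatFunc k) := isFF_of_finite (K := RatFunc k) isFunctionField_ratFunc
  have hfin := finite_poles_ff hff (RatFunc.X : RatFunc k)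
  classical
  have hsum := sum_poles_ff hff RatFunc.transcendental_X (insert P hfin.toFinset) fun T hT =>
    Finset.mem_insert_of_mem (hfin.mem_toFinset.2 hT)
  rw [RatFunc.adjoin_X, IntermediateField.finrank_top] at hsum
  have hle : max (-P.ord RatFunc.X) 0 * (P.deg : ℤ) ≤ 1 := le_trans
    (Finset.single_le_sum (f := fun T : Place k (RatFunc k) => max (-T.ord RatFunc.X) 0 * (T.deg : ℤ))
      (fun T _ => mul_nonneg (le_max_right _ _) (Int.natCast_nonneg _)) (Finset.mem_insert_self _ _)) hsum.le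
  rw [ord_eq_of_val P (rat_val_X_inf P hX)] at hle
  have := deg_pos isFunctionField_ratFunc P
  simp at hle
  omega

theorem rat_val_X_of_prime {p : Polynomial k} (hp : p ≠ 0) (hP : P.1 (polR p) < 1) : P.1 RatFunc.X ≤ 1 := by
  by_contra hX
  rw [not_le] at hX
  rw [rat_val_pol_inf P hX hp] at hP
  exact absurd hP (not_lt.2 (one_le_pow₀ hX.le))

variable {p : Polynomial k}

theorem rat_val_eq_one (hp : Irreducible p) (hP : P.1 (polR p) < 1) {q : Polynomial k} (hq : ¬ p ∣ q) :
    P.1 (polR q) = 1 := by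
  have hX := rat_val_X_of_prime P hp.ne_zero hP
  obtain ⟨a, b, hab⟩ := (hp.coprime_iff_not_dvd).2 hq
  refine le_antisymm (rat_val_pol_le_one P hX q) (not_lt.1 fun hlt => ?_)
  have h := congrArg (fun r => P.1 (polR r)) hab
  simp only [polR, map_add, map_mul, map_one] at h
  have h1 := P.1.map_add_lt
    (x := algebraMap (Polynomial k) (RatFunc k) a * algebraMap (Polynomial k) (RatFunc k) p)
    (y := algebraMap (Polynomial k) (RatFunc k) b * algebraMap (Polynomial k) (RatFunc k) q) (g := 1)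
    (by rw [map_mul]; exact lt_of_le_of_lt (mul_le_of_le_one_left' (rat_val_pol_le_one P hX a)) hP)
    (by rw [map_mul]; exact lt_of_le_of_lt (mul_le_of_le_one_left' (rat_val_pol_le_one P hX b)) hlt)
  exact h1.ne h

theorem rat_val_prime (hp : Irreducible p) (hP : P.1 (polR p) < 1) : P.1 (polR p) = exp (-1) := by
  have hp0 : polR p ≠ 0 := by simpa [polR] using hp.ne_zero
  have hval : ∀ q : Polynomial k, q ≠ 0 → ∃ n : ℕ, P.1 (polR q) = P.1 (polR p) ^ n := fun q hq => by
    obtain ⟨n, a, hna, rfl⟩ := WfDvdMonoid.max_power_factor' hq hp.not_isUnit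
    exact ⟨n, by rw [polR, map_mul, map_mul, map_pow, map_pow, show P.1 (algebraMap _ _ a) = 1 from
      rat_val_eq_one P hp hP hna, mul_one]⟩
  obtain ⟨z, hz⟩ := exists_val_eq P (-1)
  have hz0 := ne_zero_of_val P hz
  obtain ⟨a, ha⟩ := hval z.num (RatFunc.num_ne_zero hz0)
  obtain ⟨b, hb⟩ := hval z.denom z.denom_ne_zero
  have h := congrArg P.1 (RatFunc.num_div_denom z)
  rw [map_div₀, ha, hb, hz, val_eq_exp P hp0, ← exp_nsmul, ← exp_nsmul, ← exp_sub, exp_inj, nsmul_eq_mul,
    nsmul_eq_mul] at h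
  have hpos : 0 < P.ord (polR p) := (val_lt_one_iff P hp0).1 hP
  have h1 : P.ord (polR p) ∣ 1 := ⟨(a : ℤ) - b, by linarith⟩
  have := Int.le_of_dvd one_pos h1
  rw [val_eq_exp P hp0, exp_inj]
  omega

theorem rat_val_squarefree (hp : Irreducible p) (hP : P.1 (polR p) < 1) {f : Polynomial k} (hf : Squarefree f)
    (hpf : p ∣ f) : P.1 (polR f) = exp (-1) := by
  obtain ⟨q, rfl⟩ := hpf
  have hq : ¬ p ∣ q := fun ⟨r, hr⟩ => hp.not_isUnit (hf p ⟨r, by rw [hr, mul_assoc]⟩)
  rw [polR, map_mul, map_mul, show P.1 (algebraMap _ _ q) = 1 from rat_val_eq_one P hp hP hq, mul_one]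
  exact rat_val_prime P hp hP

theorem rat_exists_prime {f : Polynomial k} (hf : f ≠ 0) (h : P.1 (polR f) < 1) :
    ∃ p, Irreducible p ∧ p ∣ f ∧ P.1 (polR p) < 1 := by
  induction f using UniqueFactorizationMonoid.induction_on_prime with
  | h₁ => exact absurd rfl hf
  | h₂ x hx =>
    exfalso
    obtain ⟨c, hc, rfl⟩ := Polynomial.isUnit_iff.1 hx
    rw [polR, ← Polynomial.algebraMap_eq, ← IsScalarTower.algebraMap_apply, val_algebraMap P hc.ne_zero] at h
    exact lt_irrefl _ h
  | h₃ a q ha hq ih =>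
    by_cases hqv : P.1 (polR q) < 1
    · exact ⟨q, hq.irreducible, dvd_mul_right _ _, hqv⟩
    · have hX : P.1 RatFunc.X ≤ 1 := by
        by_contra hX
        rw [rat_val_pol_inf P (not_le.1 hX) hf] at h
        exact absurd h (not_lt.2 (one_le_pow₀ (not_le.1 hX).le))
      rw [polR, map_mul, map_mul] at h
      obtain ⟨p, hp, hpa, hpv⟩ := ih ha (by
        by_contra hav
        exact absurd h (not_lt.2 (one_le_mul (not_lt.1 hqv) (not_lt.1 hav))))
      exact ⟨p, hp, hpa.mul_left q, hpv⟩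

omit P in
/-- A squarefree non-constant polynomial is not a square. -/
theorem polR_ne_sq {f : Polynomial k} (hf : Squarefree f) (hd : 1 ≤ f.natDegree) (a : RatFunc k) :
    a ^ 2 ≠ polR f := fun h => by
  have hint : IsIntegral (Polynomial k) a :=
    IsIntegral.of_pow two_pos (h ▸ isIntegral_algebraMap)
  obtain ⟨q, rfl⟩ := IsIntegrallyClosed.isIntegral_iff.1 hint
  rw [polR, ← map_pow] at h
  have h := RatFunc.algebraMap_injective k h
  have hu : IsUnit q := hf q (h ▸ by rw [pow_two])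
  obtain ⟨c, hc, rfl⟩ := Polynomial.isUnit_iff.1 hu
  rw [← h, ← map_pow, Polynomial.natDegree_C] at hd
  omega

end Rat

section Quad

variable {k F K : Type*} [Field k] [Field F] [Field K] [Algebra k F] [Algebra F K] [Algebra k K]
  [IsScalarTower k F K]

omit [Algebra k F] [Algebra k K] [IsScalarTower k F K] [Field k] in
theorem quad_basis (hdeg : Module.finrank F K = 2) {z : K} (hz : z ∉ Set.range (algebraMap F K)) :
    ∃ B : Module.Basis (Fin 2) F K, B 0 = 1 ∧ B 1 = z := by
  have hli : LinearIndependent F ![(1 : K), z] := by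
    rw [LinearIndependent.pair_iff]
    intro a b hab
    rcases eq_or_ne b 0 with rfl | hb
    · simpa using hab
    · refine absurd ⟨-a / b, ?_⟩ hz
      rw [map_div₀, map_neg, div_eq_iff (by simpa using hb)]
      rw [Algebra.smul_def, Algebra.smul_def, mul_one] at hab
      linear_combination -hab
  exact ⟨basisOfLinearIndependentOfCardEqFinrank hli (by simp [hdeg]), by simp, by simp⟩

omit [Algebra k F] [Algebra k K] [IsScalarTower k F K] [Field k] in
theorem quad_repr (hdeg : Module.finrank F K = 2) {z : K} (hz : z ∉ Set.range (algebraMap F K)) (u : K) :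
    ∃ a b : F, u = algebraMap F K a + algebraMap F K b * z := by
  obtain ⟨B, h0, h1⟩ := quad_basis hdeg hz
  refine ⟨B.repr u 0, B.repr u 1, ?_⟩
  conv_lhs => rw [← B.sum_repr u]
  rw [Fin.sum_univ_two, h0, h1, Algebra.smul_def, Algebra.smul_def, mul_one]

omit [Algebra k F] [Algebra k K] [IsScalarTower k F K] [Field k] in
theorem quad_trace (hdeg : Module.finrank F K = 2) {z : K} (hz : z ∉ Set.range (algebraMap F K)) {g : F}
    (hg : z ^ 2 = algebraMap F K g) : Algebra.trace F K z = 0 := by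
  obtain ⟨B, h0, h1⟩ := quad_basis hdeg hz
  rw [Algebra.trace_eq_matrix_trace B, Matrix.trace, Fin.sum_univ_two, Matrix.diag_apply, Matrix.diag_apply,
    Algebra.leftMulMatrix_eq_repr_mul, Algebra.leftMulMatrix_eq_repr_mul]
  have e0 : z * B 0 = B 1 := by rw [h0, h1, mul_one]
  have e1 : z * B 1 = g • B 0 := by rw [h1, h0, Algebra.smul_def, mul_one, ← pow_two, hg]
  rw [e0, e1, map_smul, B.repr_self, B.repr_self]
  simp

variable [FiniteDimensional F K]

theorem quad_ram (hF : IsFunctionField k F) (hdeg : Module.finrank F K = 2) {P : Place k F} {Q : Place k K}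
    (hQ : IsOver Q P) : ramIdx Q P ≤ 2 ∧ (ramIdx Q P = 2 → Q.deg = P.deg ∧ ∀ R, IsOver R P → R = Q) := by
  classical
  obtain ⟨hfin, hsum⟩ := finite_isOver_and_sum (K' := K) hF P
  have hs := hsum hfin.toFinset fun R => hfin.mem_toFinset
  rw [hdeg] at hs
  have hPpos := deg_pos hF P
  have hge : ∀ R : Place k K, IsOver R P → P.deg ≤ R.deg := fun R hR => by
    obtain ⟨f, b, hf, -, -⟩ := exists_residue_basis hF hR
    rcases Nat.eq_zero_or_pos f with rfl | hfp
    · have := deg_pos_ff (isFF_of_finite hF) R; omega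
    · exact hf ▸ Nat.le_mul_of_pos_left _ hfp
  have hmem := hfin.mem_toFinset.2 hQ
  rw [← Finset.add_sum_erase _ _ hmem] at hs
  have h1 := Nat.mul_le_mul_left (ramIdx Q P) (hge Q hQ)
  have h3 : ramIdx Q P * P.deg ≤ 2 * P.deg := by omega
  refine ⟨Nat.le_of_mul_le_mul_right h3 hPpos, fun he => ?_⟩
  rw [he] at hs h1
  refine ⟨by have := hge Q hQ; omega, fun R hR => by_contra fun hne => ?_⟩
  have hRm : R ∈ hfin.toFinset.erase Q := Finset.mem_erase.2 ⟨hne, hfin.mem_toFinset.2 hR⟩
  have h2 : ramIdx R P * R.deg ≤ ∑ T ∈ hfin.toFinset.erase Q, ramIdx T P * T.deg :=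
    Finset.single_le_sum (f := fun T => ramIdx T P * T.deg) (fun T _ => Nat.zero_le _) hRm
  have : 0 < ramIdx R P * R.deg :=
    Nat.mul_pos (isOverWith_pos (isOverWith_ramIdx hR)) (deg_pos_ff (isFF_of_finite hF) R)
  omega

theorem quad_ramified (hF : IsFunctionField k F) (hdeg : Module.finrank F K = 2) {P : Place k F} {z : K} {g : F}
    (hg0 : g ≠ 0) (hg : z ^ 2 = algebraMap F K g) (hodd : Odd (P.ord g)) :
    (∃! Q : Place k K, IsOver Q P) ∧
      ∀ Q : Place k K, IsOver Q P → IsOverWith Q P 2 ∧ Q.deg = P.deg ∧ Q.ord z = P.ord g := by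
  have key : ∀ Q : Place k K, IsOver Q P → ramIdx Q P = 2 ∧ Q.ord z = P.ord g := fun Q hQ => by
    have he := isOverWith_ramIdx hQ
    have h := isOverWith_ord he hg0
    rw [← hg, ord_pow] at h
    have h2 := (quad_ram hF hdeg hQ).1
    have h1 := isOverWith_pos he
    rcases (show ramIdx Q P = 1 ∨ ramIdx Q P = 2 by omega) with e | e
    · rw [e] at h
      obtain ⟨m, hm⟩ := hodd
      push_cast at h; omega
    · refine ⟨e, ?_⟩
      rw [e] at h
      push_cast at h; omega
  obtain ⟨Q, hQ⟩ := exists_above (K' := K) hF P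
  refine ⟨⟨Q, hQ, fun R hR => ((quad_ram hF hdeg hQ).2 (key Q hQ).1).2 R hR⟩, fun R hR => ?_⟩
  refine ⟨?_, ((quad_ram hF hdeg hR).2 (key R hR).1).1, (key R hR).2⟩
  rw [← (key R hR).1]
  exact isOverWith_ramIdx hR

theorem quad_unramified (hF : IsFunctionField k F) (hdeg : Module.finrank F K = 2) (h2 : (2 : k) ≠ 0)
    {P : Place k F} {z : K} {g : F} (hz : z ∉ Set.range (algebraMap F K)) (hg : z ^ 2 = algebraMap F K g)
    (hv : P.1 g = 1) {Q : Place k K} (hQ : IsOver Q P) : IsOverWith Q P 1 := by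
  have he := isOverWith_ramIdx hQ
  have hle := (quad_ram hF hdeg hQ).1
  have h1 := isOverWith_pos he
  rcases (show ramIdx Q P = 1 ∨ ramIdx Q P = 2 by omega) with e | e
  · rwa [e] at he
  exfalso
  rw [e] at he
  have heven : ∀ c : F, c ≠ 0 → Even (Q.ord (algebraMap F K c)) := fun c hc =>
    ⟨P.ord c, by rw [isOverWith_ord he hc]; ring⟩
  have hzv : Q.1 z = 1 := by
    have : Q.1 z ^ 2 = 1 := by rw [← map_pow, hg, he, hv, one_pow]
    exact (pow_eq_one_iff_of_nonneg zero_le two_ne_zero).1 this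
  have hz0 : z ≠ 0 := fun h => by rw [h, map_zero] at hzv; exact zero_ne_one hzv
  obtain ⟨π, hπ⟩ := exists_val_eq Q (-1)
  obtain ⟨a, b, rfl⟩ := quad_repr hdeg hz π
  have hπ0 := ne_zero_of_val Q hπ
  have hπo : Q.ord (algebraMap F K a + algebraMap F K b * z) = 1 := by rw [ord_eq_of_val Q hπ]; norm_num
  have hb : b ≠ 0 := by
    rintro rfl
    simp only [map_zero, zero_mul, add_zero] at hπo hπ0
    obtain ⟨m, hm⟩ := heven a (by simpa using hπ0)
    omega
  set A := algebraMap F K (a / b) with hA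
  have hbK : algebraMap F K b ≠ 0 := by simpa using hb
  have hfac : algebraMap F K a + algebraMap F K b * z = algebraMap F K b * (A + z) := by
    rw [hA, map_div₀]; field_simp
  have hAz : A + z ≠ 0 := fun h => hπ0 (by rw [hfac, h, mul_zero])
  rw [hfac, ord_mul Q hbK hAz] at hπo
  obtain ⟨n, hn⟩ := heven b hb
  set m := Q.ord (A + z) with hm
  have hodd : m = 1 - 2 * n := by omega
  -- the conjugate factor
  have hprod : (A + z) * (A - z) = algebraMap F K ((a / b) ^ 2 - g) := by
    rw [map_sub, map_pow, ← hA, ← hg]; ring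
  have hA0 : (a / b) ^ 2 - g ≠ 0 := fun h => by
    have : (A + z) * (A - z) = 0 := by rw [hprod, h, map_zero]
    rcases mul_eq_zero.1 this with h' | h'
    · exact hAz h'
    · exact hz ⟨a / b, sub_eq_zero.1 h'⟩
  have hAz' : A - z ≠ 0 := fun h => hz ⟨a / b, sub_eq_zero.1 h⟩
  have h2K : Q.1 (2 * z) = 1 := by
    rw [map_mul, hzv, mul_one, ← map_ofNat (algebraMap k K) 2, val_algebraMap Q h2]
  obtain ⟨l, hl⟩ := heven _ hA0
  rw [← hprod, ord_mul Q hAz hAz', ← hm] at hl
  rcases lt_trichotomy m 0 with hneg | h0 | hpos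
  · have hlt : Q.1 z < Q.1 (A + z) := by rw [hzv]; exact (one_lt_val_iff Q hAz).2 hneg
    have := Q.1.map_sub_eq_of_lt_left hlt
    rw [add_sub_cancel_right] at this
    have hA0' : A ≠ 0 := fun h => by rw [h, map_zero, zero_add, hzv] at this; exact zero_ne_one this
    rw [val_eq_exp Q hA0', val_eq_exp Q hAz, exp_inj] at this
    obtain ⟨r, hr⟩ := heven (a / b) (fun h => hA0' (by rw [hA, h, map_zero]))
    rw [← hA] at hr
    omega
  · omega
  · have hlt : Q.1 (A + z) < Q.1 (2 * z) := by rw [h2K]; exact (val_lt_one_iff Q hAz).2 hpos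
    have := Q.1.map_sub_eq_of_lt_right hlt
    rw [show A + z - 2 * z = A - z by ring, h2K, val_eq_exp Q hAz', ← exp_zero, exp_inj] at this
    omega

end Quad

section Main

variable {k K : Type*} [Field k] [Field K] [Algebra (RatFunc k) K]

theorem hyper_notMem {f : Polynomial k} (hf : Squarefree f) (hd : 1 ≤ f.natDegree) {y : K}
    (heq : y ^ 2 = algebraMap (RatFunc k) K (polR f)) : y ∉ Set.range (algebraMap (RatFunc k) K) := by
  rintro ⟨a, rfl⟩
  rw [← map_pow] at heq
  exact polR_ne_sq hf hd a ((algebraMap (RatFunc k) K).injective heq)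

variable [Algebra k K] [IsScalarTower k (RatFunc k) K]

theorem hyper_finite_place (hdeg : Module.finrank (RatFunc k) K = 2) (y : K) {f : Polynomial k}
    (hf : Squarefree f) (heq : y ^ 2 = algebraMap (RatFunc k) K (polR f)) {p : Polynomial k} (hp : Irreducible p)
    (hpf : p ∣ f) (P₀ : Place k (RatFunc k)) (hP₀ : P₀.1 (polR p) < 1) :
    (∃! P : Place k K, IsOver P P₀) ∧
      ∀ P : Place k K, IsOver P P₀ → IsOverWith P P₀ 2 ∧ P.deg = P₀.deg ∧ P.ord y = 1 := by
  have : FiniteDimensional (RatFunc k) K := Module.finite_of_finrank_pos (by rw [hdeg]; exact two_pos)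
  have hv := rat_val_squarefree P₀ hp hP₀ hf hpf
  have ho : P₀.ord (polR f) = 1 := by rw [ord_eq_of_val P₀ hv]; norm_num
  have h := quad_ramified isFunctionField_ratFunc hdeg (ne_zero_of_val P₀ hv) heq (by rw [ho]; exact odd_one)
  exact ⟨h.1, fun P hP => ⟨(h.2 P hP).1, (h.2 P hP).2.1, (h.2 P hP).2.2.trans ho⟩⟩

end Main

end Groth.Agent.FunFldLib
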