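import Groth.Agent.FunFld.Galois

/-!
The inertia group of a place with separable residue field has order `e`.
-/

namespace Groth.Agent.FunFldLib

open FunFld WithZero Polynomial

attribute [local instance 2000] Algebra.toModule

variable {k K K' : Type*} [Field k] [Field K] [Field K'] [Algebra k K] [Algebra K K'] [Algebra k K']
  [IsScalarTower k K K'] [FiniteDimensional K K'] {Q : Place k K'} {P : Place k K} {e : ℕ}

omit [FiniteDimensional K K'] in
theorem residue_eq_zero_iff (P : Place k K) (a : P.O) : IsLocalRing.residue P.O a = 0 ↔ P.1 a < 1 := by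
  rw [IsLocalRing.residue_eq_zero_iff, IsLocalRing.mem_maximalIdeal, mem_nonunits_iff]
  exact P.1.mem_maximalIdeal_iff

theorem mem_O_of_isOverWith (he : IsOverWith Q P e) (a : P.O) : algebraMap K K' a ∈ Q.O := by
  show Q.1 _ ≤ 1
  rw [he]; exact pow_le_one₀ zero_le a.2

/-- The residue map of `O_P` into the residue field of a place above. -/
noncomputable def resBelow (he : IsOverWith Q P e) : P.O →+* IsLocalRing.ResidueField Q.O :=
  (IsLocalRing.residue Q.O).comp (((algebraMap K K').comp P.O.subtype).codRestrict Q.O (mem_O_of_isOverWith he))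

/-- The residue field of the place below inside the residue field of the place above. -/
theorem exists_residueField_below (hK : IsFunctionField k K) (he : IsOverWith Q P e) :
    ∃ L : IntermediateField k (IsLocalRing.ResidueField Q.O),
      Module.finrank k L = P.deg ∧ (L : Set (IsLocalRing.ResidueField Q.O)) = Set.range (resBelow he) := by
  have hloc : IsLocalHom (resBelow he) := ⟨fun a ha => by
    rw [← IsLocalRing.residue_ne_zero_iff_isUnit, Ne, residue_eq_zero_iff]
    intro hlt
    have h0 : IsLocalRing.residue Q.O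
        ((((algebraMap K K').comp P.O.subtype).codRestrict Q.O (mem_O_of_isOverWith he)) a) = 0 := by
      rw [residue_eq_zero_iff]
      show Q.1 (algebraMap K K' a) < 1
      rw [he]
      exact pow_lt_one₀ zero_le hlt (isOverWith_pos he).ne'
    exact ha.ne_zero h0⟩
  let j : IsLocalRing.ResidueField P.O →ₐ[k] IsLocalRing.ResidueField Q.O :=
    { IsLocalRing.ResidueField.lift (resBelow he) with
      commutes' := fun c => by
        show IsLocalRing.ResidueField.lift (resBelow he) (IsLocalRing.residue P.O (algebraMap k P.O c)) = _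
        rw [IsLocalRing.ResidueField.lift_residue_apply]
        show IsLocalRing.residue Q.O _ = IsLocalRing.residue Q.O (algebraMap k Q.O c)
        congr 1
        exact Subtype.ext (IsScalarTower.algebraMap_apply k K K' c).symm }
  refine ⟨j.fieldRange, ?_, ?_⟩
  · exact (LinearEquiv.finrank_eq (AlgEquiv.ofInjectiveField j).toLinearEquiv).symm
  · rw [AlgHom.coe_fieldRange]
    refine Set.ext fun x => ⟨?_, ?_⟩
    · rintro ⟨r, rfl⟩
      obtain ⟨a, rfl⟩ := IsLocalRing.residue_surjective r
      exact ⟨a, (IsLocalRing.ResidueField.lift_residue_apply _ _).symm⟩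
    · rintro ⟨a, rfl⟩
      exact ⟨IsLocalRing.residue P.O a, IsLocalRing.ResidueField.lift_residue_apply _ _⟩

variable [IsGalois K K']

theorem card_inertia (hK : IsFunctionField k K) (he : IsOverWith Q P e)
    [Algebra.IsSeparable k (IsLocalRing.ResidueField Q.O)] :
    Nat.card ((Q.O).inertiaSubgroup K) = e := by
  classical
  have hK' : IsFunctionField k K' → 0 < Q.deg := fun h => deg_pos h Q
  set G := Q.O.decompositionSubgroup K
  set κ := IsLocalRing.ResidueField Q.O
  have hQdeg : 0 < Q.deg := by
    have hfin := finite_isOver (K' := K') hK P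
    have h := (finite_isOver_and_sum (K' := K') hK P).2 hfin.toFinset fun _ => hfin.mem_toFinset
    rw [Finset.sum_congr rfl (g := fun _ => e * Q.deg) fun R hR => by
      obtain ⟨σ, hσ⟩ := exists_conjPlace hK ⟨e, he⟩ (hfin.mem_toFinset.1 hR)
      rw [← hσ, ramIdx_eq (isOverWith_conjPlace he σ), deg_conjPlace], Finset.sum_const, smul_eq_mul] at h
    by_contra h0
    rw [show Q.deg = 0 by omega, mul_zero, mul_zero] at h
    exact (Nat.mul_pos Module.finrank_pos (deg_pos hK P)).ne h
  have : FiniteDimensional k κ := Module.finite_of_finrank_pos hQdeg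
  obtain ⟨L, hL, hLr⟩ := exists_residueField_below hK he
  obtain ⟨θ₀, hθ₀⟩ := Field.exists_primitive_element k κ
  obtain ⟨x₀, hx₀⟩ := IsLocalRing.residue_surjective θ₀
  have hfin := finite_isOver (K' := K') hK P
  obtain ⟨θ, hθ⟩ := exists_approx hfin.toFinset (fun R => if R = Q then (x₀ : K') else 0) (fun _ => -1)
  have hlt1 : exp (-1 : ℤ) < (1 : WithZero (Multiplicative ℤ)) := by rw [← exp_zero, exp_lt_exp]; norm_num
  have hθQ : Q.1 (θ - (x₀ : K')) < 1 := by
    have := hθ Q (hfin.mem_toFinset.2 ⟨e, he⟩)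
    rw [if_pos rfl] at this
    exact this.trans_lt hlt1
  have hθR : ∀ R : Place k K', IsOver R P → R ≠ Q → R.1 θ < 1 := fun R hR hne => by
    have := hθ R (hfin.mem_toFinset.2 hR)
    rw [if_neg hne, sub_zero] at this
    exact this.trans_lt hlt1
  have hθint : ∀ R : Place k K', IsOver R P → R.1 θ ≤ 1 := fun R hR => by
    rcases eq_or_ne R Q with rfl | hne
    · have := (R.1.map_add _ _).trans (max_le hθQ.le x₀.2)
      rwa [sub_add_cancel] at this
    · exact (hθR R hR hne).le
  have hσint : ∀ σ : K' ≃ₐ[K] K', σ θ ∈ Q.O := fun σ =>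
    hθint (conjPlace Q σ) ⟨e, isOverWith_conjPlace he σ⟩
  let θ' : (K' ≃ₐ[K] K') → Q.O := fun σ => ⟨σ θ, hσint σ⟩
  have hone : IsLocalRing.residue Q.O (θ' 1) = θ₀ := by
    rw [← hx₀, ← sub_eq_zero, ← map_sub, residue_eq_zero_iff]
    exact hθQ
  have hout : ∀ σ : K' ≃ₐ[K] K', σ ∉ G → IsLocalRing.residue Q.O (θ' σ) = 0 := fun σ hσ => by
    rw [residue_eq_zero_iff]
    exact hθR (conjPlace Q σ) ⟨e, isOverWith_conjPlace he σ⟩ fun h => hσ ((decomposition_iff Q σ).2 h)
  have hin : ∀ g : G, IsLocalRing.residue Q.O (θ' g.1) = g • θ₀ := fun g => by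
    rw [← hone, ← IsLocalRing.ResidueField.residue_smul]
    rfl
  -- the residue action fixes the residue field below
  have hfixL : ∀ (g : G) (x : κ), x ∈ L → g • x = x := fun g x hx => by
    obtain ⟨a, rfl⟩ : x ∈ Set.range (resBelow he) := hLr ▸ hx
    show g • IsLocalRing.residue Q.O _ = IsLocalRing.residue Q.O _
    rw [← IsLocalRing.ResidueField.residue_smul]
    congr 1
    exact Subtype.ext (g.1.commutes a)
  have hfixk : ∀ (g : G) (c : k), g • algebraMap k κ c = algebraMap k κ c := fun g c =>
    hfixL g _ (L.algebraMap_mem c)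
  have htopk : Algebra.adjoin k ({θ₀} : Set κ) = ⊤ := by
    rw [← IntermediateField.adjoin_simple_toSubalgebra_of_isAlgebraic (Algebra.IsAlgebraic.isAlgebraic θ₀), hθ₀,
      IntermediateField.top_toSubalgebra]
  have hstab : MulAction.stabilizer G θ₀ = Q.O.inertiaSubgroup K := by
    ext g
    rw [MulAction.mem_stabilizer_iff, ValuationSubring.inertiaSubgroup, MonoidHom.mem_ker]
    constructor
    · intro hg
      let gA : κ →ₐ[k] κ := { MulSemiringAction.toRingHom G κ g with commutes' := hfixk g }
      have := AlgHom.ext_of_adjoin_eq_top (φ₁ := gA) (φ₂ := AlgHom.id k κ) htopk fun x hx => by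
        rw [Set.mem_singleton_iff] at hx
        rw [hx]
        exact hg
      exact RingEquiv.ext fun x => (AlgHom.congr_fun this x : _)
    · intro hg
      exact RingEquiv.congr_fun hg θ₀
  -- the orbit is the set of conjugates over `L`
  have htopL : IntermediateField.adjoin L ({θ₀} : Set κ) = ⊤ := by
    rw [eq_top_iff]
    intro x _
    have hx : x ∈ IntermediateField.adjoin k ({θ₀} : Set κ) := hθ₀ ▸ IntermediateField.mem_top
    have hle : IntermediateField.adjoin k ({θ₀} : Set κ) ≤
        (IntermediateField.adjoin L ({θ₀} : Set κ)).restrictScalars k :=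
      IntermediateField.adjoin_le_iff.2 (IntermediateField.subset_adjoin _ _)
    exact hle hx
  have : Algebra.IsSeparable L κ := Algebra.isSeparable_tower_top_of_isSeparable k L κ
  set m := minpoly L θ₀
  have hint : IsIntegral L θ₀ := (Algebra.IsSeparable.isIntegral L θ₀)
  have hm : m.natDegree = Module.finrank L κ := by
    rw [← IntermediateField.adjoin.finrank hint, htopL, IntermediateField.finrank_top']
  let g0 : Q.O[X] := ∏ σ : K' ≃ₐ[K] K', (X - C (θ' σ))
  have hcoeff : ∀ n, (g0.map (IsLocalRing.residue Q.O)).coeff n ∈ Set.range (algebraMap L κ) := fun n => by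
    have hmap : g0.map Q.O.subtype = ∏ σ : K' ≃ₐ[K] K', (X - C (σ θ)) := by
      simp [g0, Polynomial.map_prod, θ']
    have hfix : ∀ τ : K' ≃ₐ[K] K', τ (g0.coeff n : K') = (g0.coeff n : K') := fun τ => by
      have e1 : ((g0.coeff n : Q.O) : K') = (g0.map Q.O.subtype).coeff n := by rw [Polynomial.coeff_map]; rfl
      rw [e1, hmap]
      refine ((Polynomial.coeff_map (τ : K' →+* K') n).symm.trans ?_)
      congr 1
      rw [Polynomial.map_prod]
      exact Fintype.prod_equiv (Equiv.mulLeft τ) _ _ fun σ => by simp [AlgEquiv.mul_apply]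
    obtain ⟨a, ha⟩ := (IsGalois.mem_range_algebraMap_iff_fixed (F := K) _).2 hfix
    have haP : P.1 a ≤ 1 := by
      have h : Q.1 (algebraMap K K' a) ≤ 1 := by rw [ha]; exact (g0.coeff n).2
      rw [he, pow_le_one_iff_of_nonneg zero_le (isOverWith_pos he).ne'] at h
      exact h
    have hmem : IsLocalRing.residue Q.O (g0.coeff n) ∈ L := by
      rw [← SetLike.mem_coe, hLr]
      exact ⟨⟨a, haP⟩, congrArg (IsLocalRing.residue Q.O) (Subtype.ext ha)⟩
    rw [Polynomial.coeff_map]
    exact ⟨⟨_, hmem⟩, rfl⟩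
  obtain ⟨gL, hgL⟩ := (Polynomial.lifts_iff_coeff_lifts _).2 hcoeff
  rw [Polynomial.coe_mapRingHom] at hgL
  have hg0 : g0.map (IsLocalRing.residue Q.O) = ∏ σ : K' ≃ₐ[K] K', (X - C (IsLocalRing.residue Q.O (θ' σ))) := by
    simp [g0, Polynomial.map_prod]
  have hdvd : m.map (algebraMap L κ) ∣ ∏ σ : K' ≃ₐ[K] K', (X - C (IsLocalRing.residue Q.O (θ' σ))) := by
    rw [← hg0, ← hgL]
    refine Polynomial.map_dvd _ (minpoly.dvd L θ₀ ?_)
    rw [Polynomial.aeval_def, ← Polynomial.eval_map, hgL, hg0, Polynomial.eval_prod]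
    exact Finset.prod_eq_zero (Finset.mem_univ 1) (by simp [hone])
  have hm0 : m.map (algebraMap L κ) ≠ 0 := Polynomial.map_ne_zero (minpoly.ne_zero hint)
  have hsplit : (m.map (algebraMap L κ)).Splits :=
    (Polynomial.Splits.prod fun σ _ => Polynomial.Splits.X_sub_C _).of_dvd
      (Finset.prod_ne_zero_iff.2 fun σ _ => Polynomial.X_sub_C_ne_zero _) hdvd
  have hnodup := Polynomial.nodup_roots (Polynomial.Separable.map (f := algebraMap L κ)
    (Algebra.IsSeparable.isSeparable L θ₀))
  have horbit : MulAction.orbit G θ₀ = ((m.map (algebraMap L κ)).roots.toFinset : Set κ) := by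
    ext r
    rw [Finset.mem_coe, Multiset.mem_toFinset, Polynomial.mem_roots hm0, Polynomial.IsRoot.def, Polynomial.eval_map]
    constructor
    · rintro ⟨g, rfl⟩
      let gA : κ →ₐ[L] κ := { MulSemiringAction.toRingHom G κ g with commutes' := fun c => hfixL g c c.2 }
      have h := Polynomial.aeval_algHom_apply gA θ₀ m
      rw [minpoly.aeval, map_zero] at h
      rw [← Polynomial.aeval_def]
      exact h
    · intro hr
      have h0 : (∏ σ : K' ≃ₐ[K] K', (X - C (IsLocalRing.residue Q.O (θ' σ)))).eval r = 0 := by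
        obtain ⟨q, hq⟩ := hdvd
        rw [hq, Polynomial.eval_mul, Polynomial.eval_map, hr, zero_mul]
      rw [Polynomial.eval_prod, Finset.prod_eq_zero_iff] at h0
      obtain ⟨σ, -, hσ⟩ := h0
      rw [Polynomial.eval_sub, Polynomial.eval_X, Polynomial.eval_C, sub_eq_zero] at hσ
      by_cases hσG : σ ∈ G
      · exact ⟨⟨σ, hσG⟩, ((hin ⟨σ, hσG⟩).symm.trans hσ.symm)⟩
      · rw [hout σ hσG] at hσ
        rw [hσ, Polynomial.eval₂_at_zero, map_eq_zero] at hr
        have h1 : θ₀ = 0 := (minpoly.coeff_zero_eq_zero hint).1 hr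
        exact ⟨1, by rw [hσ]; exact (one_smul G θ₀).trans h1⟩
  have hncard : (MulAction.orbit G θ₀).ncard = Module.finrank L κ := by
    rw [horbit, Set.ncard_coe_finset, Multiset.toFinset_card_of_nodup hnodup, ← hsplit.natDegree_eq_card_roots,
      Polynomial.natDegree_map, hm]
  have hcard := Subgroup.card_mul_index (MulAction.stabilizer G θ₀)
  rw [MulAction.index_stabilizer, hncard, hstab] at hcard
  have hdd := card_decomposition_mul_deg hK he
  have hQd : Q.deg = Module.finrank L κ * P.deg := by
    rw [← hL, mul_comm]; exact (Module.finrank_mul_finrank k L κ).symm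
  rw [← hcard, mul_assoc, ← hQd] at hdd
  exact Nat.eq_of_mul_eq_mul_right hQdeg hdd

end Groth.Agent.FunFldLib
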