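import Groth.Prelude.Def_W4bk4goldsch45p2
import Mathlib.LinearAlgebra.Dimension.Finrank
import Mathlib.LinearAlgebra.Dual.Lemmas
import Mathlib.LinearAlgebra.FiniteDimensional.Basic
import Mathlib.Tactic

/-!
Jumps of a sequence of vectors, order sequences.
-/

namespace Groth.Agent.FunFldLib

open FunFld

variable {R V : Type*} [Field R] [AddCommGroup V] [Module R V] {c : ℕ → V}

/-- The span of the first `m` vectors. -/
abbrev colSpan (R : Type*) {V : Type*} [Field R] [AddCommGroup V] [Module R V] (c : ℕ → V) (m : ℕ) : Submodule R V :=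
  Submodule.span R (c '' Set.Iio m)

theorem colSpan_succ (m : ℕ) : colSpan R c (m + 1) = colSpan R c m ⊔ Submodule.span R {c m} := by
  rw [colSpan, colSpan, ← Submodule.span_union, show Set.Iio (m + 1) = Set.Iio m ∪ {m} by
    ext i; simp only [Set.mem_Iio, Set.mem_union, Set.mem_singleton_iff]; omega, Set.image_union, Set.image_singleton]

theorem colSpan_mono {m m' : ℕ} (h : m ≤ m') : colSpan R c m ≤ colSpan R c m' :=
  Submodule.span_mono (Set.image_mono (Set.Iio_subset_Iio h))

theorem mem_colSpan {i m : ℕ} (h : i < m) : c i ∈ colSpan R c m := Submodule.subset_span ⟨i, h, rfl⟩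

theorem colSpan_eq_span_jumps (m : ℕ) :
    colSpan R c m = Submodule.span R (c '' {i | i < m ∧ IsJump R c i}) := by
  induction m with
  | zero =>
    have h0 : Set.Iio 0 = (∅ : Set ℕ) := by simp
    have h1 : {i | i < 0 ∧ IsJump R c i} = (∅ : Set ℕ) := by simp
    rw [colSpan, h0, h1]
  | succ m ih =>
    refine le_antisymm ?_ (Submodule.span_mono (Set.image_mono fun i hi => hi.1))
    rw [colSpan_succ, sup_le_iff, Submodule.span_singleton_le_iff_mem]
    have hle : colSpan R c m ≤ Submodule.span R (c '' {i | i < m + 1 ∧ IsJump R c i}) := by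
      rw [ih]; exact Submodule.span_mono (Set.image_mono fun i hi => ⟨Nat.lt_succ_of_lt hi.1, hi.2⟩)
    refine ⟨hle, ?_⟩
    by_cases h : IsJump R c m
    · exact Submodule.subset_span ⟨m, ⟨Nat.lt_succ_self m, h⟩, rfl⟩
    · exact hle (not_not.1 h)

theorem linearIndepOn_jumps (m : ℕ) : LinearIndepOn R c {i | i < m ∧ IsJump R c i} := by
  induction m with
  | zero => simp
  | succ m ih =>
    by_cases h : IsJump R c m
    · have hset : {i | i < m + 1 ∧ IsJump R c i} = insert m {i | i < m ∧ IsJump R c i} := by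
        ext i
        simp only [Set.mem_ofPred_eq, Set.mem_insert_iff, Nat.lt_succ_iff_lt_or_eq]
        constructor
        · rintro ⟨hi | hi, hj⟩
          exacts [Or.inr ⟨hi, hj⟩, Or.inl hi]
        · rintro (rfl | ⟨hi, hj⟩)
          exacts [⟨Or.inr rfl, h⟩, ⟨Or.inl hi, hj⟩]
      rw [hset]
      refine ih.insert ?_
      rw [← colSpan_eq_span_jumps]
      exact h
    · have hset : {i | i < m + 1 ∧ IsJump R c i} = {i | i < m ∧ IsJump R c i} := by
        ext i
        simp only [Set.mem_ofPred_eq, Nat.lt_succ_iff_lt_or_eq]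
        exact ⟨fun ⟨hi, hj⟩ => ⟨hi.resolve_right fun e => h (e ▸ hj), hj⟩, fun ⟨hi, hj⟩ => ⟨Or.inl hi, hj⟩⟩
      rwa [hset]

open scoped Classical in
theorem finrank_colSpan (m : ℕ) :
    Module.finrank R (colSpan R c m) = ((Finset.range m).filter fun i => IsJump R c i).card := by
  have hs : (((Finset.range m).filter fun i => IsJump R c i : Finset ℕ) : Set ℕ) = {i | i < m ∧ IsJump R c i} := by
    ext i; simp
  have h1 := linearIndepOn_jumps (R := R) (c := c) m
  rw [← hs] at h1
  rw [colSpan_eq_span_jumps, ← hs, Set.image_eq_range,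
    finrank_span_eq_card (LinearIndepOn.linearIndependent h1)]
  simp

theorem isJump_congr {c' : ℕ → V} (h : ∀ m, colSpan R c m = colSpan R c' m) (j : ℕ) :
    IsJump R c j ↔ IsJump R c' j := by
  have key : ∀ (d : ℕ → V), ¬ IsJump R d j ↔ colSpan R d (j + 1) = colSpan R d j := fun d => by
    rw [colSpan_succ, sup_eq_left, Submodule.span_singleton_le_iff_mem, IsJump, not_not]
  rw [← not_iff_not, key, key, h, h]

theorem isOrders_congr {c' : ℕ → V} (h : ∀ m, colSpan R c m = colSpan R c' m) {n : ℕ} (J : Fin n → ℕ) :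
    IsOrders R c J ↔ IsOrders R c' J :=
  and_congr_right fun _ => forall_congr' fun j => by rw [isJump_congr h]

theorem isJump_map {W : Type*} [AddCommGroup W] [Module R W] (f : V →ₗ[R] W) (hf : Function.Injective f) (j : ℕ) :
    IsJump R (fun i => f (c i)) j ↔ IsJump R c j := by
  rw [IsJump, IsJump, ← not_iff_not, not_not, not_not, ← Set.image_image, ← Submodule.map_span]
  exact ⟨fun ⟨x, hx, he⟩ => hf he ▸ hx, fun h => ⟨_, h, rfl⟩⟩

theorem isJump_iff_exists_dual (j : ℕ) :
    IsJump R c j ↔ ∃ f : Module.Dual R V, (∀ i < j, f (c i) = 0) ∧ f (c j) ≠ 0 := by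
  constructor
  · intro h
    obtain ⟨f, hf, hker⟩ := Submodule.exists_dual_map_eq_bot_of_notMem h inferInstance
    refine ⟨f, fun i hi => ?_, hf⟩
    have : f (c i) ∈ (colSpan R c j).map f := Submodule.mem_map_of_mem (mem_colSpan hi)
    rwa [hker, Submodule.mem_bot] at this
  · rintro ⟨f, hf, hne⟩ h
    have hle : colSpan R c j ≤ LinearMap.ker f := Submodule.span_le.2 fun x hx => by
      obtain ⟨i, hi, rfl⟩ := hx; exact hf i hi
    exact hne (hle h)

theorem isOrders_unique {n : ℕ} {J J' : Fin n → ℕ} (h : IsOrders R c J) (h' : IsOrders R c J') : J = J' :=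
  (h.1.range_inj h'.1).1 (Set.ext fun j => (h.2 j).trans (h'.2 j).symm)

section Basis

variable [FiniteDimensional R V]

open scoped Classical in
theorem exists_isOrders (hc0 : c 0 ≠ 0) (hspan : Submodule.span R (Set.range c) = ⊤) {n : ℕ}
    (hn : Module.finrank R V = n + 1) : ∃ J : Fin n → ℕ, IsOrders R c J := by
  classical
  have hbound : ∀ m, ((Finset.range m).filter fun i => IsJump R c i).card ≤ n + 1 := fun m => by
    rw [← finrank_colSpan, ← hn]; exact Submodule.finrank_le _
  -- some finite stage is everything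
  obtain ⟨M, hM⟩ : ∃ M, colSpan R c M = ⊤ := by
    obtain ⟨b, hb⟩ : ∃ b : Finset V, Submodule.span R (b : Set V) = ⊤ := Module.finite_def.1 inferInstance
    have hmem' : ∀ v, ∃ m, v ∈ colSpan R c m := fun v => by
      have hv : v ∈ Submodule.span R (Set.range c) := hspan ▸ Submodule.mem_top
      induction hv using Submodule.span_induction with
      | mem x hx => obtain ⟨i, rfl⟩ := hx; exact ⟨i + 1, mem_colSpan (Nat.lt_succ_self i)⟩
      | zero => exact ⟨0, zero_mem _⟩
      | add x y _ _ hx hy =>
        obtain ⟨a, ha⟩ := hx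
        obtain ⟨b, hb⟩ := hy
        exact ⟨max a b, add_mem (colSpan_mono (le_max_left a b) ha) (colSpan_mono (le_max_right a b) hb)⟩
      | smul r x _ hx => obtain ⟨a, ha⟩ := hx; exact ⟨a, Submodule.smul_mem _ r ha⟩
    choose g hg using hmem'
    refine ⟨b.sup g, eq_top_iff.2 ?_⟩
    rw [← hb, Submodule.span_le]
    exact fun v hv => colSpan_mono (Finset.le_sup hv) (hg v)
  set S := (Finset.range M).filter fun i => IsJump R c i
  have hS : ∀ i, i ∈ S ↔ IsJump R c i := fun i => by
    refine ⟨fun h => (Finset.mem_filter.1 h).2, fun h => Finset.mem_filter.2 ⟨Finset.mem_range.2 ?_, h⟩⟩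
    by_contra hge
    exact h (colSpan_mono (not_lt.1 hge) (hM ▸ Submodule.mem_top))
  have hcard : S.card = n + 1 := by rw [← finrank_colSpan, hM, finrank_top, hn]
  have h0 : 0 ∈ S := (hS 0).2 (by
    have he : Set.Iio 0 = (∅ : Set ℕ) := by simp
    rw [IsJump, he, Set.image_empty, Submodule.span_empty, Submodule.mem_bot]; exact hc0)
  have hc1 : (S.erase 0).card = n := by rw [Finset.card_erase_of_mem h0, hcard]; rfl
  let e := (S.erase 0).orderEmbOfFin hc1
  have he : ∀ l, 0 < e l := fun l => Nat.pos_of_ne_zero (Finset.mem_erase.1 (Finset.orderEmbOfFin_mem _ hc1 l)).1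
  refine ⟨fun l => e l - 1, fun a b hab => ?_, fun j => ?_⟩
  · have := e.strictMono hab; have := he a; show e a - 1 < e b - 1; omega
  · constructor
    · rintro ⟨l, rfl⟩
      have := Finset.orderEmbOfFin_mem _ hc1 l
      show IsJump R c (e l - 1 + 1)
      rw [Nat.sub_add_cancel (he l)]
      exact (hS _).1 (Finset.mem_of_mem_erase this)
    · intro hj
      have : j + 1 ∈ Set.range e := by
        rw [Finset.range_orderEmbOfFin]
        exact Finset.mem_erase.2 ⟨Nat.succ_ne_zero j, (hS _).2 hj⟩
      obtain ⟨l, hl⟩ := this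
      exact ⟨l, by show e l - 1 = j; omega⟩

end Basis

/-- Indices of the columns of an order sequence, with the leading column. -/
def withLead {n : ℕ} (J : Fin n → ℕ) : Fin (n + 1) → ℕ := Fin.cons 0 fun l => J l + 1

theorem withLead_strictMono {n : ℕ} {J : Fin n → ℕ} (hJ : StrictMono J) : StrictMono (withLead J) := by
  intro a b hab
  induction b using Fin.cases with
  | zero => exact absurd hab (Fin.not_lt_zero a)
  | succ l =>
    induction a using Fin.cases with
    | zero => simp [withLead]
    | succ m => simp only [withLead, Fin.cons_succ]; have := hJ (Fin.succ_lt_succ_iff.1 hab); omega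

theorem linearIndependent_orders {n : ℕ} {J : Fin n → ℕ} (h : IsOrders R c J) (hc0 : c 0 ≠ 0) :
    LinearIndependent R fun i => c (withLead J i) := by
  have hjump : ∀ i, IsJump R c (withLead J i) := Fin.cases (by
      have he : Set.Iio 0 = (∅ : Set ℕ) := by simp
      show c 0 ∉ Submodule.span R (c '' Set.Iio 0)
      rw [he, Set.image_empty, Submodule.span_empty, Submodule.mem_bot]; exact hc0)
    fun l => by simp only [withLead, Fin.cons_succ]; exact (h.2 _).1 ⟨l, rfl⟩
  let M := Finset.univ.sup (withLead J) + 1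
  have hmem : ∀ i, withLead J i ∈ {i | i < M ∧ IsJump R c i} := fun i =>
    ⟨Nat.lt_succ_of_le (Finset.le_sup (Finset.mem_univ i)), hjump i⟩
  exact (LinearIndepOn.linearIndependent (linearIndepOn_jumps (R := R) (c := c) M)).comp
    (fun i => (⟨_, hmem i⟩ : {i | i < M ∧ IsJump R c i}))
    (fun a b hab => (withLead_strictMono h.1).injective (congrArg Subtype.val hab))

/-- The order sequence is the least index sequence of independent columns. -/
theorem orders_le {n : ℕ} {J J' : Fin n → ℕ} (hJ : IsOrders R c J) (hJ' : StrictMono J')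
    (hli : LinearIndependent R fun i => c (withLead J' i)) : ∀ l, J l ≤ J' l := by
  classical
  intro l
  by_contra hlt
  push Not at hlt
  -- `l + 2` independent vectors inside the span of the columns before `J l + 1`
  let ι := {i : Fin (n + 1) // (i : ℕ) ≤ (l : ℕ) + 1}
  have hin : ∀ i : ι, c (withLead J' i.1) ∈ colSpan R c (J l + 1) := fun i => mem_colSpan (by
    have : withLead J' i.1 ≤ withLead J' l.succ := (withLead_strictMono hJ').monotone (by
      rw [Fin.le_iff_val_le_val]; simp; exact i.2)
    simp only [withLead, Fin.cons_succ] at this ⊢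
    omega)
  have hli' : LinearIndependent R fun i : ι => (⟨_, hin i⟩ : colSpan R c (J l + 1)) :=
    LinearIndependent.of_comp (colSpan R c (J l + 1)).subtype (hli.comp _ Subtype.val_injective)
  have : FiniteDimensional R (colSpan R c (J l + 1)) :=
    FiniteDimensional.span_of_finite R ((Set.finite_Iio _).image c)
  have h1 := hli'.fintype_card_le_finrank
  rw [finrank_colSpan] at h1
  have h2 : ((Finset.range (J l + 1)).filter fun i => IsJump R c i) ⊆
      insert 0 ((Finset.Iio l).image fun m => J m + 1) := fun i hi => by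
    obtain ⟨hi1, hi2⟩ := Finset.mem_filter.1 hi
    rcases Nat.eq_zero_or_pos i with rfl | hpos
    · exact Finset.mem_insert_self _ _
    refine Finset.mem_insert_of_mem (Finset.mem_image.2 ?_)
    obtain ⟨m, hm⟩ := (hJ.2 (i - 1)).2 (by rwa [Nat.sub_add_cancel hpos])
    refine ⟨m, Finset.mem_Iio.2 (hJ.1.lt_iff_lt.1 ?_), by omega⟩
    rw [Finset.mem_range] at hi1
    omega
  have h3 := (Finset.card_le_card h2).trans (Finset.card_insert_le _ _)
  have h4 := Finset.card_image_le (s := Finset.Iio l) (f := fun m => J m + 1)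
  rw [Fin.card_Iio] at h4
  have h5 : Fintype.card ι = (l : ℕ) + 2 := by
    rw [Fintype.card_subtype]
    have : (Finset.univ.filter fun i : Fin (n + 1) => (i : ℕ) ≤ (l : ℕ) + 1) = Finset.Iic l.succ := by
      ext i; simp [Fin.le_iff_val_le_val]
    rw [this, Fin.card_Iic]; simp
  omega

end Groth.Agent.FunFldLib
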