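import Groth.Agent.FunFld.Expansion

/-!
The derivation `d/dx` in characteristic zero, finiteness of ramification, Wronskians of linear series.
-/

namespace Groth.Agent.FunFldLib

open FunFld WithZero
open scoped LaurentSeries

variable {k K : Type*} [Field k] [Field K] [Algebra k K]

theorem exists_param (P : Place k K) : ∃ t : K, P.1 t = exp (-1 : ℤ) := exists_val_eq P (-1)

theorem eq_const_of_D_eq_zero [CharZero k] (φ : K →ₐ[k] k⸨X⸩) {u : K} (h : LocRes.D k (φ u) = 0) :
    u ∈ Set.range (algebraMap k K) := by
  refine ⟨(φ u).coeff 0, φ.toRingHom.injective ?_⟩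
  show φ (algebraMap k K ((φ u).coeff 0)) = φ u
  rw [LocRes.map_algebraMap]
  ext n
  rcases eq_or_ne n 0 with rfl | hn
  · simp
  · have h1 := congrArg (fun f : k⸨X⸩ => f.coeff (n - 1)) h
    simp only [LocRes.D_coeff, sub_add_cancel, HahnSeries.coeff_zero, zsmul_eq_mul, mul_eq_zero,
      Int.cast_eq_zero] at h1
    rw [HahnSeries.C_apply, HahnSeries.coeff_single_of_ne hn, h1.resolve_left hn]

theorem exists_some_expansion [IsAlgClosed k] (hK : IsFunctionField k K) :
    ∃ (P : Place k K) (φ : K →ₐ[k] k⸨X⸩), LocRes.IsExpansionAt P.1 φ := by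
  obtain ⟨P⟩ := exists_place hK
  obtain ⟨t, ht⟩ := exists_param P
  obtain ⟨φ, hφ, -⟩ := exists_expansion ht hK (deg_eq_one hK P)
  exact ⟨P, φ, hφ⟩

theorem lift_smul_D (φ : K →ₐ[k] k⸨X⸩) {a u x : K}
    (h : KaehlerDifferential.D k K u = a • KaehlerDifferential.D k K x) :
    LocRes.D k (φ u) = φ a * LocRes.D k (φ x) := by
  let _i := φ.toRingHom.toAlgebra
  have _t : IsScalarTower k K k⸨X⸩ := LocRes.isScalarTower_exp φ
  have h1 := congrArg (fun ω => (LocRes.dExp φ).liftKaehlerDifferential ω) h
  simp only [map_smul, Derivation.liftKaehlerDifferential_comp_D] at h1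
  exact h1

theorem kaehler_D_ne_zero [IsAlgClosed k] [CharZero k] (hK : IsFunctionField k K) {x : K}
    (hx : Transcendental k x) : KaehlerDifferential.D k K x ≠ 0 := by
  intro h
  obtain ⟨P, φ, -⟩ := exists_some_expansion hK
  have h1 := lift_smul_D φ (a := 0) (u := x) (x := x) (by rw [h, smul_zero])
  rw [map_zero, zero_mul] at h1
  obtain ⟨c, hc⟩ := eq_const_of_D_eq_zero φ h1
  exact hx (hc ▸ isAlgebraic_algebraMap c)

theorem exists_kaehler_eq_smul [CharZero k] (hK : IsFunctionField k K) {x : K}
    (hx : Transcendental k x) (u : K) :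
    ∃ a : K, KaehlerDifferential.D k K u = a • KaehlerDifferential.D k K x := by
  classical
  set d := KaehlerDifferential.D k K with hd
  let M := Submodule.span K ({d x} : Set Ω[K⁄k])
  let F : IntermediateField k K :=
    { carrier := {u | d u ∈ M}
      mul_mem' := fun {a b} ha hb => by
        show d (a * b) ∈ M
        rw [d.leibniz]; exact add_mem (M.smul_mem _ hb) (M.smul_mem _ ha)
      one_mem' := by show d 1 ∈ M; rw [d.map_one_eq_zero]; exact zero_mem _
      add_mem' := fun {a b} ha hb => by show d (a + b) ∈ M; rw [map_add]; exact add_mem ha hb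
      zero_mem' := by show d 0 ∈ M; rw [map_zero]; exact zero_mem _
      algebraMap_mem' := fun c => by show d _ ∈ M; rw [d.map_algebraMap]; exact zero_mem _
      inv_mem' := fun a ha => by
        show d a⁻¹ ∈ M
        rw [d.leibniz_inv]; exact M.smul_mem _ ha }
  have hle : IntermediateField.adjoin k ({x} : Set K) ≤ F :=
    IntermediateField.adjoin_le_iff.2 (Set.singleton_subset_iff.2 (Submodule.subset_span rfl))
  have := finiteDimensional_adjoin hK hx
  let E := IntermediateField.adjoin k ({x} : Set K)
  have hint : IsIntegral E u := .of_finite E u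
  have : CharZero E := charZero_of_injective_algebraMap (algebraMap k E).injective
  have hne : Polynomial.aeval u (minpoly E u).derivative ≠ 0 :=
    (minpoly.irreducible hint).separable.aeval_derivative_ne_zero (minpoly.aeval E u)
  have h0 : d (Polynomial.aeval u (minpoly E u)) = 0 := by rw [minpoly.aeval, map_zero]
  have key : ∀ p : Polynomial E, d (Polynomial.aeval u p) - Polynomial.aeval u p.derivative • d u ∈ M := by
    intro p
    induction p using Polynomial.induction_on' with
    | add p q hp hq =>
      rw [map_add, map_add, map_add, map_add, add_smul, add_sub_add_comm]; exact add_mem hp hq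
    | monomial n c =>
      rw [Polynomial.derivative_monomial, Polynomial.aeval_monomial, Polynomial.aeval_monomial, d.leibniz,
        d.leibniz_pow, map_mul, map_natCast]
      have hc : d (algebraMap E K c) ∈ M := hle c.2
      have e : algebraMap E K c • (n • u ^ (n - 1) • d u) =
          (algebraMap E K c * (n : K) * u ^ (n - 1)) • d u := by
        rw [← Nat.cast_smul_eq_nsmul K n (u ^ (n - 1) • d u), smul_smul, smul_smul]
      rw [e, add_sub_cancel_left]
      exact M.smul_mem _ hc
  have h1 := key (minpoly E u)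
  rw [h0, zero_sub, neg_mem_iff, Submodule.smul_mem_iff _ hne, Submodule.mem_span_singleton] at h1
  obtain ⟨a, ha⟩ := h1
  exact ⟨a, ha.symm⟩

/-- `d/dx`. -/
noncomputable def ddx [CharZero k] (hK : IsFunctionField k K) {x : K} (hx : Transcendental k x) (u : K) : K :=
  (exists_kaehler_eq_smul hK hx u).choose

section ddx

variable [CharZero k] (hK : IsFunctionField k K) {x : K} (hx : Transcendental k x)

theorem ddx_spec (u : K) :
    KaehlerDifferential.D k K u = ddx hK hx u • KaehlerDifferential.D k K x :=
  (exists_kaehler_eq_smul hK hx u).choose_spec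

theorem map_ddx (φ : K →ₐ[k] k⸨X⸩) (u : K) : LocRes.D k (φ u) = φ (ddx hK hx u) * LocRes.D k (φ x) :=
  lift_smul_D φ (ddx_spec hK hx u)

variable [IsAlgClosed k]

theorem ddx_eq {u a : K} (h : KaehlerDifferential.D k K u = a • KaehlerDifferential.D k K x) :
    ddx hK hx u = a :=
  smul_left_injective K (kaehler_D_ne_zero hK hx) ((ddx_spec hK hx u).symm.trans h)

theorem ddx_zero : ddx hK hx 0 = 0 := ddx_eq hK hx (by rw [map_zero, zero_smul])

theorem ddx_one : ddx hK hx 1 = 0 := ddx_eq hK hx (by rw [Derivation.map_one_eq_zero, zero_smul])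

theorem ddx_add (a b : K) : ddx hK hx (a + b) = ddx hK hx a + ddx hK hx b :=
  ddx_eq hK hx (by rw [map_add, add_smul, ← ddx_spec, ← ddx_spec])

theorem ddx_mul (a b : K) : ddx hK hx (a * b) = a * ddx hK hx b + b * ddx hK hx a :=
  ddx_eq hK hx (by
    rw [Derivation.leibniz, ddx_spec hK hx a, ddx_spec hK hx b, smul_smul, smul_smul, ← add_smul])

theorem ddx_sum {ι : Type*} (s : Finset ι) (f : ι → K) :
    ddx hK hx (∑ i ∈ s, f i) = ∑ i ∈ s, ddx hK hx (f i) :=
  map_sum ({ toFun := ddx hK hx, map_zero' := ddx_zero hK hx, map_add' := ddx_add hK hx } : K →+ K) f s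

theorem mem_range_of_ddx_eq_zero {u : K} (h : ddx hK hx u = 0) : u ∈ Set.range (algebraMap k K) := by
  obtain ⟨P, φ, -⟩ := exists_some_expansion hK
  exact eq_const_of_D_eq_zero φ (by rw [map_ddx hK hx φ u, h, map_zero, zero_mul])

/-- A Wronskian of functions independent over the constants has no kernel. -/
theorem wronskian_kernel : ∀ {n : ℕ} (f : Fin n → K), LinearIndependent k f →
    ∀ c : Fin n → K, (∀ i : Fin n, ∑ j, c j * (ddx hK hx)^[i] (f j) = 0) → c = 0 := by
  intro n
  induction n with
  | zero => exact fun f _ c _ => funext fun i => i.elim0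
  | succ n ih =>
    intro f hf c hc
    have hlow : ∀ e : Fin n → K, (∀ i : Fin n, ∑ j : Fin n, e j * (ddx hK hx)^[i] (f j.castSucc) = 0) → e = 0 :=
      ih (f ∘ Fin.castSucc) (hf.comp _ (Fin.castSucc_injective n))
    by_cases hl : c (Fin.last n) = 0
    · have h1 := hlow (c ∘ Fin.castSucc) fun i => by
        have := hc i.castSucc
        rw [Fin.sum_univ_castSucc, hl, zero_mul, add_zero] at this
        exact this
      exact funext fun j => Fin.lastCases hl (fun i => congrFun h1 i) j
    exfalso
    set e := fun j => c j / c (Fin.last n) with he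
    have hel : e (Fin.last n) = 1 := div_self hl
    have hec : ∀ i : Fin (n + 1), ∑ j, e j * (ddx hK hx)^[i] (f j) = 0 := fun i => by
      simp only [he, div_mul_eq_mul_div]; rw [← Finset.sum_div, hc i, zero_div]
    have hconst := hlow (fun j => ddx hK hx (e j.castSucc)) fun i => by
      have h1 := congrArg (ddx hK hx) (hec i.castSucc)
      rw [ddx_zero, ddx_sum] at h1
      simp only [ddx_mul, Finset.sum_add_distrib] at h1
      have h2 := hec i.succ
      simp only [Fin.val_succ, Function.iterate_succ_apply'] at h2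
      simp only [Fin.val_castSucc] at h1
      rw [h2, zero_add, Fin.sum_univ_castSucc, hel, ddx_one, mul_zero, add_zero] at h1
      simpa [mul_comm] using h1
    have hk : ∀ j, ∃ a : k, algebraMap k K a = e j := fun j =>
      Fin.lastCases ⟨1, by rw [hel, map_one]⟩
        (fun i => mem_range_of_ddx_eq_zero hK hx (congrFun hconst i)) j
    choose a ha using hk
    have h0 := Fintype.linearIndependent_iff.1 hf a (by
      simpa [Algebra.smul_def, ha] using hec 0) (Fin.last n)
    rw [← ha, h0, map_zero] at hel
    exact zero_ne_one hel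

/-- The Wronskian. -/
noncomputable def wr {n : ℕ} (f : Fin n → K) : K :=
  (Matrix.of fun i j : Fin n => (ddx hK hx)^[i] (f j)).det

theorem wr_ne_zero {n : ℕ} {f : Fin n → K} (hf : LinearIndependent k f) : wr hK hx f ≠ 0 := by
  intro h
  obtain ⟨c, hc0, hc⟩ := Matrix.exists_mulVec_eq_zero_iff.2 h
  refine hc0 (wronskian_kernel hK hx f hf c fun i => ?_)
  have := congrFun hc i
  simpa [Matrix.mulVec, dotProduct, mul_comm] using this

/-- Almost everywhere `x - c` is a local parameter. -/
theorem finite_bad (hK : IsFunctionField k K) {x : K} (hx : Transcendental k x) : {P : Place k K | ¬ (P.1 x ≤ 1 ∧ ∃ c : k, P.1 (x - algebraMap k K c) = exp (-1 : ℤ))}.Finite := by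
  classical
  obtain ⟨P₀⟩ := exists_place hK
  set D : Divisor k K := Finsupp.single P₀ (2 * (genus k K : ℤ) + 1) with hD
  have := finiteDimensional_L hK D
  let b := Module.finBasis k ↥(L D)
  let S : Set (Place k K) := ({P₀} : Set (Place k K)) ∪ {P | ¬ P.1 x ≤ 1} ∪ ⋃ i, {P | ¬ P.1 (ddx hK hx (b i : K)) ≤ 1}
  have hS : S.Finite := ((Set.finite_singleton _).union (finite_not_integral hK x)).union
    (Set.finite_iUnion fun i => finite_not_integral hK _)
  refine hS.subset fun P hP => by_contra fun hPS => hP ?_
  simp only [S, Set.mem_union, Set.mem_singleton_iff, Set.mem_ofPred_eq, Set.mem_iUnion, not_or,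
    not_exists, not_not] at hPS
  obtain ⟨⟨hP0, hx1⟩, hb⟩ := hPS
  refine ⟨hx1, ?_⟩
  have hP1 := deg_eq_one hK P
  obtain ⟨c, hc⟩ := exists_sub_const_val_lt_one hK P hP1 hx1
  refine ⟨c, by_contra fun hne => ?_⟩
  obtain ⟨t, ht⟩ := exists_param P
  obtain ⟨φ, hφ, -, hrep⟩ := exists_expansion ht hK hP1
  -- `φ x` is constant to first order
  obtain ⟨a, ha⟩ := exists_rep ht hK hP1 hx1
  have h1 : PowerSeries.coeff 1 a = 0 := by
    by_contra h1
    apply hne
    have hy : Rep P t (x - algebraMap k K c) (a - c • (1 : PowerSeries k)) := by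
      have := rep_smul ht c (rep_one ht)
      rw [← Algebra.algebraMap_eq_smul_one] at this
      exact rep_sub ht ha this
    refine (val_of_rep ht hy (i := 1) (fun j hj => ?_) (by simp [h1])).trans (by norm_num)
    obtain rfl : j = 0 := by omega
    by_contra h0
    have := val_of_rep ht hy (i := 0) (by simp) h0
    rw [this] at hc
    simp at hc
  -- a member of `L(D)` with a simple zero at `P`
  have hd0 := deg_eq_one hK P₀
  have e1 := ell_eq_of_deg_ge hK (D := D - Finsupp.single P 1)
    (by rw [deg_sub, hD, deg_single, deg_single, hP1, hd0]; push_cast; omega)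
  have e2 := ell_eq_of_deg_ge hK (D := D - Finsupp.single P 1 - Finsupp.single P 1)
    (by rw [deg_sub, deg_sub, hD, deg_single, deg_single, hP1, hd0]; push_cast; omega)
  rw [deg_sub (D - Finsupp.single P 1), deg_single, hP1] at e2
  obtain ⟨f, hfL, hf0, hford⟩ := exists_mem_L_ord_eq hK (D := D - Finsupp.single P 1) (P := P) (by omega)
  rw [Finsupp.sub_apply, hD, Finsupp.single_eq_of_ne hP0, Finsupp.single_eq_same] at hford
  have hfD : f ∈ L D := L_mono (sub_le_self _ (Finsupp.single_nonneg.2 zero_le_one)) hfL
  have hfv : P.1 f = exp (-1 : ℤ) := by rw [val_eq_exp P hf0, hford]; norm_num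
  have hsum : f = ∑ i, b.repr ⟨f, hfD⟩ i • (b i : K) := by
    have := congrArg Subtype.val (b.sum_repr ⟨f, hfD⟩)
    simp only [AddSubmonoidClass.coe_finsetSum, Submodule.coe_smul] at this
    exact this.symm
  -- every element of the basis is constant to first order
  have hb1 : ∀ i, (LocRes.D k (φ (b i : K))).coeff 0 = 0 := fun i => by
    obtain ⟨e, he⟩ := exists_rep ht hK hP1 (hb i)
    rw [map_ddx hK hx φ, hrep _ _ he, hrep _ _ ha, LocRes.D_coe, ← PowerSeries.coe_mul]
    rw [show ((0 : ℤ)) = ((0 : ℕ) : ℤ) from rfl, LaurentSeries.coeff_coe_powerSeries,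
      PowerSeries.coeff_zero_eq_constantCoeff_apply, map_mul,
      ← PowerSeries.coeff_zero_eq_constantCoeff_apply (PowerSeries.derivative k a),
      PowerSeries.coeff_derivative, h1, zero_mul, mul_zero]
  obtain ⟨e, he⟩ := exists_rep ht hK hP1 (x := f) (by rw [hfv, ← exp_zero, exp_le_exp]; norm_num)
  have he1 : (LocRes.D k (φ f)).coeff 0 = 0 := by
    rw [hsum, map_sum, map_sum, HahnSeries.coeff_sum]
    refine Finset.sum_eq_zero fun i _ => ?_
    rw [Algebra.smul_def, map_mul, LocRes.map_algebraMap, HahnSeries.C_mul_eq_smul]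
    have hb1' := hb1 i
    simp only [LocRes.D_coeff, HahnSeries.coeff_smul, smul_eq_mul] at hb1' ⊢
    rw [← mul_smul_comm, hb1', mul_zero]
  rw [hrep _ _ he, LocRes.D_coe, show ((0 : ℤ)) = ((0 : ℕ) : ℤ) from rfl,
    LaurentSeries.coeff_coe_powerSeries, PowerSeries.coeff_derivative] at he1
  simp at he1
  -- so `f` has a double zero
  have hlow : ∀ j < 2, PowerSeries.coeff j e = 0 := fun j hj => by
    interval_cases j
    · by_contra h0
      have := val_of_rep ht he (i := 0) (by simp) h0
      rw [hfv, exp_inj] at this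
      norm_num at this
    · exact he1
  have h2 := he 2
  rw [show PowerSeries.trunc 2 e = 0 from Polynomial.ext fun j => by
    rw [PowerSeries.coeff_trunc, Polynomial.coeff_zero]; split_ifs with hj; exacts [hlow j hj, rfl],
    map_zero, sub_zero, hfv, exp_le_exp] at h2
  norm_num at h2

/-- **Finiteness of ramification points** of a linear series in characteristic zero. -/
theorem finite_ramification (hK : IsFunctionField k K) {V : Submodule k K} {D : Divisor k K} (hV : V ≤ L D) :
    {Q : Place k K | ∃ h ∈ V, h ≠ 0 ∧ (Module.finrank k V : ℤ) ≤ Q.ord h + D Q}.Finite := by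
  classical
  obtain ⟨x, hx, -⟩ := hK.1
  have := finiteDimensional_L hK D
  have hfV : FiniteDimensional k V := Submodule.finiteDimensional_of_le hV
  let b := Module.finBasis k ↥V
  let f := fun i => (b i : K)
  have hfind : LinearIndependent k f := b.linearIndependent.map' V.subtype (Submodule.ker_subtype V)
  have hW := wr_ne_zero hK hx hfind
  refine (((finite_bad hK hx).union D.support.finite_toSet).union
    (finite_support_ord hK (wr hK hx f))).subset fun Q hQ => by_contra fun hQS => ?_
  obtain ⟨h, hh, hh0, hord⟩ := hQ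
  simp only [Set.mem_union, Set.mem_ofPred_eq, Finset.mem_coe, Finsupp.mem_support_iff,
    Function.mem_support, not_or, not_not] at hQS
  obtain ⟨⟨⟨-, c, ht⟩, hDQ⟩, hW0⟩ := hQS
  rw [hDQ, add_zero] at hord
  have hQ1 := deg_eq_one hK Q
  obtain ⟨φ, hφ, hφt, hrep⟩ := exists_expansion ht hK hQ1
  have hDx : LocRes.D k (φ x) = 1 := by
    have hxe : φ x = φ (x - algebraMap k K c) + HahnSeries.C c := by
      rw [map_sub, LocRes.map_algebraMap]; simp
    rw [hxe, map_add, hφt, LocRes.D_coe, PowerSeries.derivative_X, PowerSeries.coe_one,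
      LocRes.D_apply, LocRes.derivative_C, add_zero]
  have hfi : ∀ i, Q.1 (f i) ≤ 1 := fun i => by
    have h1 := hV (b i).2 Q
    rw [hDQ, exp_zero] at h1
    exact h1
  choose a ha using fun i => exists_rep ht hK hQ1 (hfi i)
  have hiter : ∀ (m : ℕ) i, φ ((ddx hK hx)^[m] (f i)) =
      (((PowerSeries.derivative k)^[m] (a i) : PowerSeries k) : k⸨X⸩) := by
    intro m
    induction m with
    | zero => exact fun i => hrep _ _ (ha i)
    | succ m ih =>
      intro i
      rw [Function.iterate_succ_apply', Function.iterate_succ_apply', ← LocRes.D_coe, ← ih i,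
        map_ddx hK hx φ, hDx, mul_one]
  let M : Matrix (Fin (Module.finrank k V)) (Fin (Module.finrank k V)) (PowerSeries k) :=
    Matrix.of fun i j => (PowerSeries.derivative k)^[i] (a j)
  have hWM : φ (wr hK hx f) = ((M.det : PowerSeries k) : k⸨X⸩) := by
    rw [wr, AlgHom.map_det φ]
    show _ = HahnSeries.ofPowerSeries ℤ k M.det
    rw [RingHom.map_det]
    congr 1
    ext i j
    simp only [AlgHom.mapMatrix_apply, RingHom.mapMatrix_apply, Matrix.map_apply, Matrix.of_apply, M]
    rw [hiter]
  -- the constant term of the determinant vanishes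
  set hv : V := ⟨h, hh⟩
  have hc0 : PowerSeries.constantCoeff M.det = 0 := by
    rw [RingHom.map_det]
    refine Matrix.exists_mulVec_eq_zero_iff.1 ⟨fun j => b.repr hv j, fun h0 => hh0 ?_, funext fun i => ?_⟩
    · have : hv = 0 := b.repr.map_eq_zero_iff.1 (Finsupp.ext fun j => congrFun h0 j)
      exact congrArg Subtype.val this
    · have hrh : Rep Q (x - algebraMap k K c) h (∑ j, b.repr hv j • a j) := by
        have hsum : h = ∑ j, b.repr hv j • f j := by
          have := congrArg Subtype.val (b.sum_repr hv)
          simp only [AddSubmonoidClass.coe_finsetSum, Submodule.coe_smul] at this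
          exact this.symm
        rw [hsum]
        intro m
        rw [map_sum, map_sum, ← Finset.sum_sub_distrib]
        exact Q.1.map_sum_le fun j _ => rep_smul ht (b.repr hv j) (ha j) m
      have hi : PowerSeries.coeff (i : ℕ) (∑ j, b.repr hv j • a j) = 0 := by
        by_contra hne
        have hex : ∃ m, PowerSeries.coeff m (∑ j, b.repr hv j • a j) ≠ 0 := ⟨i, hne⟩
        have h1 := val_of_rep ht hrh (i := Nat.find hex)
          (fun m hm => not_not.1 (Nat.find_min hex hm)) (Nat.find_spec hex)
        rw [val_eq_exp Q hh0, exp_inj] at h1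
        have := Nat.find_le (h := hex) hne
        have := i.2
        omega
      simp only [Matrix.mulVec, dotProduct, RingHom.mapMatrix_apply, Matrix.map_apply, Matrix.of_apply,
        M, ← PowerSeries.coeff_zero_eq_constantCoeff_apply, PowerSeries.coeff_iterate_derivative,
        Pi.zero_apply, zero_add]
      simp only [mul_assoc, ← Finset.mul_sum]
      rw [map_sum] at hi
      simp only [PowerSeries.coeff_smul, smul_eq_mul] at hi
      simp only [mul_comm (PowerSeries.coeff _ _), hi, mul_zero]
  -- so the Wronskian vanishes at `Q`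
  have hlt : Valued.v (φ (wr hK hx f)) < 1 := by
    rw [hWM]
    refine lt_of_le_of_lt ((LaurentSeries.valuation_le_iff_coeff_lt_eq_zero k (D := 1)).2 fun n hn => ?_)
      (by rw [← exp_zero, exp_lt_exp]; norm_num)
    rw [PowerSeries.coeff_coe]
    split_ifs with h
    · rfl
    · rw [show n.natAbs = 0 by omega, PowerSeries.coeff_zero_eq_constantCoeff_apply, hc0]
  rw [hφ.1, val_eq_exp Q hW, hW0, neg_zero, exp_zero] at hlt
  exact lt_irrefl _ hlt

end ddx

end Groth.Agent.FunFldLib
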