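import Groth.Agent.FunFld.Separating
import Groth.Agent.FunFld.Wronsk
import Groth.Prelude.Def_W4bk4goldsch45p2

/-!
Hasse derivatives read through Laurent expansions; change of the separating variable.
-/

namespace Groth.Agent.FunFldLib

open FunFld WithZero LaurentSeries

section Taylor

variable {k K F : Type*} [Field k] [Field K] [Algebra k K] [Field F] [Algebra k F]

theorem map_tay_eq {t : K} (hsep : IsSepVar k t) {H : K →ₐ[k] PowerSeries K} (hH : LocRes.IsHasseFamily t H)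
    (φ : K →ₐ[k] F⸨X⸩) (ht : φ t = HahnSeries.single 1 1) (x : K) :
    PowerSeries.map φ.toRingHom (H x) = tay F (φ x) := by
  refine RingHom.congr_fun (hasse_hom_ext hsep ((PowerSeries.map φ.toRingHom).comp H.toRingHom)
    ((tay F).comp φ.toRingHom) (fun y => ?_) (fun c => ?_) ?_) x
  · simp only [RingHom.comp_apply, AlgHom.toRingHom_eq_coe, RingHom.coe_coe, constantCoeff_tay]
    rw [← PowerSeries.coeff_zero_eq_constantCoeff_apply, PowerSeries.coeff_map,
      PowerSeries.coeff_zero_eq_constantCoeff_apply, hH.2]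
    rfl
  · simp only [RingHom.comp_apply, AlgHom.toRingHom_eq_coe, RingHom.coe_coe, H.commutes,
      LocRes.map_algebraMap φ c, tay_C]
    rw [PowerSeries.algebraMap_apply, PowerSeries.map_C]
    exact congrArg _ (LocRes.map_algebraMap φ c)
  · simp only [RingHom.comp_apply, AlgHom.toRingHom_eq_coe, RingHom.coe_coe, hH.1, map_add,
      PowerSeries.map_C, PowerSeries.map_X, ht, tay_X]

theorem map_hasseD {t : K} (hsep : IsSepVar k t) {H : K →ₐ[k] PowerSeries K} (hH : LocRes.IsHasseFamily t H)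
    (φ : K →ₐ[k] F⸨X⸩) (ht : φ t = HahnSeries.single 1 1) (j : ℕ) (x : K) :
    φ (LocRes.hasseD H j x) = PowerSeries.coeff j (tay F (φ x)) := by
  rw [← map_tay_eq hsep hH φ ht, PowerSeries.coeff_map]; rfl

theorem expansion_coe {w : Valuation K (WithZero (Multiplicative ℤ))} {φ : K →ₐ[k] F⸨X⸩}
    (hφ : LocRes.IsExpansionAt w φ) {x : K} (hx : w x ≤ 1) : ∃ a : PowerSeries F, (a : F⸨X⸩) = φ x :=
  (LaurentSeries.val_le_one_iff_eq_coe F (φ x)).1 ((hφ.1 x).trans_le hx)

/-- `D(φ x) = φ(D¹ x) D(φ s)`. -/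
theorem D_expansion {k K : Type*} [Field k] [Field K] [Algebra k K] {s : K} (hsep : IsSepVar k s)
    {H : K →ₐ[k] PowerSeries K} (hH : LocRes.IsHasseFamily s H) (φ : K →ₐ[k] k⸨X⸩) (x : K) :
    LocRes.D k (φ x) = φ (LocRes.hasseD H 1 x) * LocRes.D k (φ s) :=
  lift_smul_D φ (kaehler_eq_hasseD_smul hH hsep x)

end Taylor

section Change

variable {k K : Type*} [Field k] [Field K] [Algebra k K]

/-- Change of separating variable: `D_t^j = c^j D_s^j + (lower terms)`, `c = ds/dt`. -/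
theorem hasseD_change (hK : IsFunctionField k K) (hg : IsGeometric k K) {s : K} {Hs : K →ₐ[k] PowerSeries K}
    (hHs : LocRes.IsHasseFamily s Hs) {t : K} {Ht : K →ₐ[k] PowerSeries K} (hHt : LocRes.IsHasseFamily t Ht) :
    ∃ b : ℕ → ℕ → K, ∀ (j : ℕ) (x : K), LocRes.hasseD Ht j x =
      LocRes.hasseD Ht 1 s ^ j * LocRes.hasseD Hs j x + ∑ i ∈ Finset.range j, b j i * LocRes.hasseD Hs i x := by
  classical
  set u : PowerSeries K := Ht s - PowerSeries.C s
  have hu0 : PowerSeries.constantCoeff u = 0 := by simp [u, hHt.2]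
  have hu : PowerSeries.HasSubst u := PowerSeries.HasSubst.of_constantCoeff_zero' hu0
  have hG : ((PowerSeries.substAlgHom hu : PowerSeries K →ₐ[K] PowerSeries K).toRingHom.comp Hs.toRingHom) =
      Ht.toRingHom := by
    refine hasse_hom_ext (isSepVar_of_hasse hK hg hHs) _ _ (fun y => ?_) (fun c => ?_) ?_
    · simp only [RingHom.comp_apply, AlgHom.toRingHom_eq_coe, RingHom.coe_coe, hHt.2]
      rw [PowerSeries.coe_substAlgHom, ← PowerSeries.coeff_zero_eq_constantCoeff_apply, PowerSeries.coeff_subst' hu,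
        finsum_eq_single _ 0 fun d hd => ?_]
      · simp [hHs.2]
      · rw [PowerSeries.coeff_zero_eq_constantCoeff_apply, map_pow, hu0, zero_pow hd, smul_zero]
    · simp only [RingHom.comp_apply, AlgHom.toRingHom_eq_coe, RingHom.coe_coe, Hs.commutes, Ht.commutes]
      rw [PowerSeries.algebraMap_apply]
      exact (PowerSeries.substAlgHom hu : PowerSeries K →ₐ[K] PowerSeries K).commutes _
    · simp only [RingHom.comp_apply, AlgHom.toRingHom_eq_coe, RingHom.coe_coe, hHs.1, map_add]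
      rw [show (PowerSeries.substAlgHom hu : PowerSeries K →ₐ[K] PowerSeries K) (PowerSeries.C s) = PowerSeries.C s
        from (PowerSeries.substAlgHom hu : PowerSeries K →ₐ[K] PowerSeries K).commutes s,
        PowerSeries.substAlgHom_X]
      exact add_sub_cancel _ _
  refine ⟨fun j i => PowerSeries.coeff j (u ^ i), fun j x => ?_⟩
  have hx := RingHom.congr_fun hG x
  simp only [RingHom.comp_apply, AlgHom.toRingHom_eq_coe, RingHom.coe_coe, PowerSeries.coe_substAlgHom] at hx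
  have hhigh : ∀ i, j < i → PowerSeries.coeff j (u ^ i) = 0 := fun i hi => by
    refine PowerSeries.X_pow_dvd_iff.1 ?_ j hi
    exact pow_dvd_pow_of_dvd (PowerSeries.X_dvd_iff.2 hu0) i
  have htop : PowerSeries.coeff j (u ^ j) = LocRes.hasseD Ht 1 s ^ j := by
    obtain ⟨w, hw⟩ := PowerSeries.X_dvd_iff.2 hu0
    have h1 : PowerSeries.coeff 1 u = LocRes.hasseD Ht 1 s := by simp [u, LocRes.hasseD, PowerSeries.coeff_C]
    rw [← h1, hw, mul_pow, PowerSeries.coeff_X_pow_mul', if_pos le_rfl, Nat.sub_self,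
      PowerSeries.coeff_zero_eq_constantCoeff_apply, map_pow]
    congr 1
    rw [show (1 : ℕ) = 0 + 1 from rfl, PowerSeries.coeff_succ_X_mul, PowerSeries.coeff_zero_eq_constantCoeff_apply]
  show PowerSeries.coeff j (Ht x) = _
  rw [← hx, PowerSeries.coeff_subst' hu,
    finsum_eq_sum_of_support_subset _ (s := Finset.range (j + 1)) (fun i hi => by
      simp only [Finset.coe_range, Set.mem_Iio]
      by_contra h
      exact hi (by dsimp only; rw [hhigh i (by omega), smul_zero])),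
    Finset.sum_range_succ, htop, add_comm]
  simp only [smul_eq_mul, LocRes.hasseD, mul_comm]

theorem hasseD_one_ne_zero (hK : IsFunctionField k K) (hg : IsGeometric k K) {s : K} {Hs : K →ₐ[k] PowerSeries K}
    (hHs : LocRes.IsHasseFamily s Hs) {t : K} {Ht : K →ₐ[k] PowerSeries K} (hHt : LocRes.IsHasseFamily t Ht) :
    LocRes.hasseD Ht 1 s ≠ 0 := fun h0 => by
  have hsep := isSepVar_of_hasse hK hg hHt
  exact kaehler_D_sepVar_ne_zero hK (transcendental_of_hasse hK hHs) (isSepVar_of_hasse hK hg hHs)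
    (by rw [kaehler_eq_hasseD_smul hHt hsep s, h0, zero_smul])

end Change

section Place

variable {k K : Type*} [Field k] [IsAlgClosed k] [Field K] [Algebra k K]

theorem sepVar_param (hK : IsFunctionField k K) {P : Place k K} {t : K} (ht : P.1 t = exp (-1)) :
    IsSepVar k t :=
  isSepVar_of_uniformizer hK isGeometric_of_isAlgClosed ht

theorem exists_hasse_param (hK : IsFunctionField k K) {P : Place k K} {t : K} (ht : P.1 t = exp (-1)) :
    ∃ H : K →ₐ[k] PowerSeries K, LocRes.IsHasseFamily t H := by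
  have htt : Transcendental k t :=
    transcendental_of_val_lt_one (P := P) (ne_zero_of_val P ht) (by rw [ht, Ne, exp_eq_one]; omega) hK.2
  have := finiteDimensional_adjoin hK htt
  exact exists_hasseFamily htt (sepVar_param hK ht)

/-- An expansion at `P` in the parameter `t`, with the compatibility data used below. -/
structure ParamExp (P : Place k K) (t : K) where
  φ : K →ₐ[k] k⸨X⸩
  isExp : LocRes.IsExpansionAt P.1 φ
  map_t : φ t = HahnSeries.single 1 1

theorem exists_paramExp (hK : IsFunctionField k K) {P : Place k K} {t : K} (ht : P.1 t = exp (-1)) :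
    Nonempty (ParamExp P t) := by
  obtain ⟨φ, hφ, hφt, -⟩ := exists_expansion ht hK (deg_eq_one hK P)
  exact ⟨⟨φ, hφ, by rw [hφt, HahnSeries.ofPowerSeries_X]⟩⟩

variable {P : Place k K} {t : K} (e : ParamExp P t)

/-- The `i`-th coefficient. -/
noncomputable def ParamExp.cf (i : ℕ) (x : K) : k := (e.φ x).coeff (i : ℤ)

theorem ParamExp.cf_add (i : ℕ) (x y : K) : e.cf i (x + y) = e.cf i x + e.cf i y := by simp [cf]

theorem ParamExp.cf_smul (i : ℕ) (c : k) (x : K) : e.cf i (c • x) = c * e.cf i x := by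
  rw [cf, cf, Algebra.smul_def, map_mul, AlgHom.commutes, LocRes.algebraMap_eq_C, HahnSeries.C_mul_eq_smul]
  simp

theorem ParamExp.cf_sum {ι : Type*} (i : ℕ) (s : Finset ι) (f : ι → K) :
    e.cf i (∑ a ∈ s, f a) = ∑ a ∈ s, e.cf i (f a) := by simp [cf]

theorem ParamExp.cf_zero_mul {x y : K} (hx : P.1 x ≤ 1) (hy : P.1 y ≤ 1) :
    e.cf 0 (x * y) = e.cf 0 x * e.cf 0 y := by
  obtain ⟨a, ha⟩ := expansion_coe e.isExp hx
  obtain ⟨b, hb⟩ := expansion_coe e.isExp hy
  rw [cf, cf, cf, map_mul, ← ha, ← hb, ← PowerSeries.coe_mul]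
  rw [PowerSeries.coeff_coe, PowerSeries.coeff_coe, PowerSeries.coeff_coe]
  simp

theorem ParamExp.le_exp_iff {x : K} (m : ℕ) :
    P.1 x ≤ exp (-(m : ℤ)) ↔ P.1 x ≤ 1 ∧ ∀ i < m, e.cf i x = 0 := by
  rw [← e.isExp.1 x, LaurentSeries.valuation_le_iff_coeff_lt_eq_zero]
  constructor
  · intro h
    refine ⟨?_, fun i hi => h _ (by exact_mod_cast hi)⟩
    rw [← exp_zero, ← neg_zero, LaurentSeries.valuation_le_iff_coeff_lt_eq_zero]
    exact fun n hn => h n (by omega)
  · rintro ⟨h1, h2⟩ n hn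
    rcases lt_or_ge n 0 with hneg | hnn
    · rw [← exp_zero, ← neg_zero, LaurentSeries.valuation_le_iff_coeff_lt_eq_zero] at h1
      exact h1 n hneg
    · lift n to ℕ using hnn
      exact h2 n (by exact_mod_cast hn)

theorem ParamExp.lt_one_iff {x : K} (hx : P.1 x ≤ 1) : P.1 x < 1 ↔ e.cf 0 x = 0 := by
  have h1 : P.1 x < 1 ↔ P.1 x ≤ exp (-((1 : ℕ) : ℤ)) := by
    rcases eq_or_ne x 0 with rfl | h
    · simp
    rw [val_lt_one_iff P h, val_le_exp_iff P h]; omega
  rw [h1, e.le_exp_iff]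
  exact ⟨fun h => h.2 0 one_pos, fun h => ⟨hx, fun i hi => by rwa [Nat.lt_one_iff.1 hi]⟩⟩

theorem ParamExp.eq_exp_iff {x : K} (m : ℕ) :
    P.1 x = exp (-(m : ℤ)) ↔ P.1 x ≤ 1 ∧ (∀ i < m, e.cf i x = 0) ∧ e.cf m x ≠ 0 := by
  have h1 : P.1 x = exp (-(m : ℤ)) ↔ P.1 x ≤ exp (-(m : ℤ)) ∧ ¬ P.1 x ≤ exp (-((m + 1 : ℕ) : ℤ)) := by
    rcases eq_or_ne x 0 with rfl | h
    · simp [exp_ne_zero.symm]
    rw [val_le_exp_iff P h, val_le_exp_iff P h, val_eq_exp P h, exp_inj]
    omega
  rw [h1, e.le_exp_iff, e.le_exp_iff]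
  constructor
  · rintro ⟨⟨ha, hb⟩, hc⟩
    refine ⟨ha, hb, fun h0 => hc ⟨ha, fun i hi => ?_⟩⟩
    rcases Nat.lt_succ_iff_lt_or_eq.1 hi with h | rfl
    exacts [hb i h, h0]
  · rintro ⟨ha, hb, hc⟩
    exact ⟨⟨ha, hb⟩, fun h => hc (h.2 m (Nat.lt_succ_self m))⟩

theorem ParamExp.evalP_eq {x : K} (hx : P.1 x ≤ 1) :
    evalP P x = algebraMap k (IsLocalRing.ResidueField P.O) (e.cf 0 x) := by
  rw [evalP, dif_pos hx]
  show _ = IsLocalRing.residue P.O (algebraMap k P.O (e.cf 0 x))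
  rw [← sub_eq_zero, ← map_sub, IsLocalRing.residue_eq_zero_iff, IsLocalRing.mem_maximalIdeal, mem_nonunits_iff]
  have hmem : P.1 (x - algebraMap k K (e.cf 0 x)) ≤ 1 := P.1.map_sub _ _ |>.trans (max_le hx (P.2.1 _))
  have hlt : P.1 (x - algebraMap k K (e.cf 0 x)) < 1 := by
    rw [e.lt_one_iff hmem]
    simp only [cf, map_sub, AlgHom.commutes, HahnSeries.coeff_sub, LocRes.algebraMap_eq_C]
    simp
  exact fun hu => ((ValuationSubring.valuation_eq_one_iff P.O _).1 hu).not_lt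
    ((Valuation.isEquiv_valuation_valuationSubring P.1).lt_one_iff_lt_one.1 hlt)

variable (hK : IsFunctionField k K) (ht : P.1 t = exp (-1)) {Ht : K →ₐ[k] PowerSeries K}
  (hHt : LocRes.IsHasseFamily t Ht)
include e hK ht hHt

theorem ParamExp.map_hasseD {x : K} (hx : P.1 x ≤ 1) (j : ℕ) :
    e.φ (LocRes.hasseD Ht j x) = LaurentSeries.hasseDeriv k j (e.φ x) := by
  obtain ⟨a, ha⟩ := expansion_coe e.isExp hx
  rw [FunFldLib.map_hasseD (sepVar_param hK ht) hHt e.φ e.map_t, ← ha, coeff_tay_coe]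

theorem ParamExp.hasseD_le_one {x : K} (hx : P.1 x ≤ 1) (j : ℕ) : P.1 (LocRes.hasseD Ht j x) ≤ 1 := by
  obtain ⟨a, ha⟩ := expansion_coe e.isExp hx
  rw [← e.isExp.1, FunFldLib.map_hasseD (sepVar_param hK ht) hHt e.φ e.map_t, ← ha, tay_coe]
  refine (LaurentSeries.val_le_one_iff_eq_coe k _).2
    ⟨PowerSeries.mk fun n => ((n + j).choose j : k) * PowerSeries.coeff (n + j) a, ?_⟩
  show _ = PowerSeries.coeff j (tayFun k a)
  rw [tayFun, PowerSeries.coeff_mk]

theorem ParamExp.cf_hasseD {x : K} (hx : P.1 x ≤ 1) (i j : ℕ) :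
    e.cf i (LocRes.hasseD Ht j x) = ((i + j).choose j : k) * e.cf (i + j) x := by
  simp only [cf]
  rw [e.map_hasseD hK ht hHt hx, LaurentSeries.hasseDeriv_coeff, ← Nat.cast_add, Ring.choose_natCast]
  simp

theorem ParamExp.evalP_hasseD {x : K} (hx : P.1 x ≤ 1) (j : ℕ) :
    evalP P (LocRes.hasseD Ht j x) = algebraMap k (IsLocalRing.ResidueField P.O) (e.cf j x) := by
  rw [e.evalP_eq (e.hasseD_le_one hK ht hHt hx j), e.cf_hasseD hK ht hHt hx]
  simp

end Place

end Groth.Agent.FunFldLib
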