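import Groth.Agent.FunFld.WrOrders
import Mathlib.LinearAlgebra.Matrix.Determinant.Basic
import Mathlib.Algebra.Polynomial.Taylor

/-!
Orders at a place, adapted bases, the local estimate for generalized Wronskians.
-/

namespace Groth.Agent.FunFldLib

open FunFld WithZero

variable {k K : Type*} [Field k] [IsAlgClosed k] [Field K] [Algebra k K]
  {P : Place k K} {t : K} (e : ParamExp P t)

theorem ParamExp.cf_one : e.cf 0 (1 : K) = 1 := by simp [ParamExp.cf]

theorem ParamExp.cf_algebraMap (c : k) (i : ℕ) : e.cf i (algebraMap k K c) = if i = 0 then c else 0 := by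
  rw [ParamExp.cf, AlgHom.commutes, LocRes.algebraMap_eq_C, HahnSeries.C_apply, HahnSeries.coeff_single]
  simp

/-- The value at `P`, as a ring homomorphism on the valuation ring. -/
noncomputable def ParamExp.val₀ : P.O →+* k where
  toFun x := e.cf 0 (x : K)
  map_one' := e.cf_one
  map_mul' x y := e.cf_zero_mul x.2 y.2
  map_zero' := by simp [ParamExp.cf]
  map_add' x y := e.cf_add 0 (x : K) (y : K)

theorem ParamExp.eq_zero_of_cf {f : K} (hf : P.1 f ≤ 1) (h : ∀ i, e.cf i f = 0) : f = 0 := by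
  by_contra hf0
  have := (e.le_exp_iff ((P.ord f).toNat + 1)).2 ⟨hf, fun i _ => h i⟩
  rw [val_le_exp_iff P hf0] at this
  omega

include e in
theorem ParamExp.residue_surjective (r : IsLocalRing.ResidueField P.O) :
    ∃ c : k, algebraMap k (IsLocalRing.ResidueField P.O) c = r := by
  obtain ⟨z, rfl⟩ := IsLocalRing.residue_surjective r
  have hz : P.1 (z : K) ≤ 1 := z.2
  exact ⟨_, (e.evalP_eq hz).symm.trans (by rw [evalP, dif_pos hz])⟩

theorem val_comb_le_one {n : ℕ} {φ : Fin (n + 1) → K} (hint : ∀ i, P.1 (φ i) ≤ 1) (b : Fin (n + 1) → k) :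
    P.1 (∑ i, b i • φ i) ≤ 1 :=
  P.1.map_sum_le fun i _ => by rw [Algebra.smul_def, map_mul]; exact mul_le_one' (P.2.1 _) (hint i)

section Orders

variable (hK : IsFunctionField k K) (ht : P.1 t = exp (-1)) {Ht : K →ₐ[k] PowerSeries K}
  (hHt : LocRes.IsHasseFamily t Ht) {n : ℕ} {φ : Fin (n + 1) → K} (hint : ∀ i, P.1 (φ i) ≤ 1)
include e hK ht hHt hint

theorem evalP_comb (a : Fin (n + 1) → k) (j : ℕ) :
    ∑ i, algebraMap k (IsLocalRing.ResidueField P.O) (a i) * evalP P (LocRes.hasseD Ht j (φ i)) =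
      algebraMap k (IsLocalRing.ResidueField P.O) (e.cf j (∑ i, a i • φ i)) := by
  rw [e.cf_sum, map_sum]
  exact Finset.sum_congr rfl fun i _ => by rw [e.cf_smul, map_mul, e.evalP_hasseD hK ht hHt (hint i)]

theorem isJump_at_iff (j : ℕ) : IsJump (IsLocalRing.ResidueField P.O) (hcolAt P Ht φ) (j + 1) ↔
    j ≠ 0 ∧ ∃ f ∈ Submodule.span k (Set.range φ), P.1 f = exp (-(j : ℤ)) := by
  classical
  have key : ∀ (g : Module.Dual (IsLocalRing.ResidueField P.O) (Fin (n + 1) → IsLocalRing.ResidueField P.O))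
      (a : Fin (n + 1) → k), (∀ i, algebraMap k _ (a i) = g (Pi.single i 1)) → ∀ j,
      g (hcolAt P Ht φ (j + 1)) = algebraMap k _ (e.cf j (∑ i, a i • φ i)) ∧
      g (hcolAt P Ht φ 0) = algebraMap k _ (e.cf 0 (∑ i, a i • φ i)) := fun g a ha j => by
    have hg : ∀ v, g v = ∑ i, algebraMap k _ (a i) * v i := fun v => by
      conv_lhs => rw [pi_eq_sum_univ' v, map_sum]
      exact Finset.sum_congr rfl fun i _ => by rw [map_smul, smul_eq_mul, ha, mul_comm]
    refine ⟨by rw [hg, ← evalP_comb e hK ht hHt hint]; rfl, ?_⟩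
    rw [hg, ← evalP_comb e hK ht hHt hint]
    refine Finset.sum_congr rfl fun i _ => ?_
    rw [hasseD_zero_apply hHt]; rfl
  rw [isJump_iff_exists_dual]
  constructor
  · rintro ⟨g, hg, hne⟩
    choose a ha using fun i => e.residue_surjective (g (Pi.single i 1))
    have h0 := (key g a ha j).1
    rw [h0, map_ne_zero] at hne
    have hj : j ≠ 0 := fun hj => by
      subst hj
      refine hne ?_
      have := hg 0 zero_lt_one
      rwa [(key g a ha 0).2, map_eq_zero] at this
    refine ⟨hj, ∑ i, a i • φ i, Submodule.sum_mem _ fun i _ => Submodule.smul_mem _ _ (Submodule.subset_span ⟨i, rfl⟩), ?_⟩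
    refine (e.eq_exp_iff j).2 ⟨val_comb_le_one hint a, fun m hm => ?_, hne⟩
    have := hg (m + 1) (by omega)
    rwa [(key g a ha m).1, map_eq_zero] at this
  · rintro ⟨hj, f, hf, hval⟩
    obtain ⟨a, rfl⟩ := (Submodule.mem_span_range_iff_exists_fun k).1 hf
    obtain ⟨-, hlo, hhi⟩ := (e.eq_exp_iff j).1 hval
    let g : Module.Dual (IsLocalRing.ResidueField P.O) (Fin (n + 1) → IsLocalRing.ResidueField P.O) :=
      ∑ i, algebraMap k (IsLocalRing.ResidueField P.O) (a i) • LinearMap.proj i
    have ha : ∀ i, algebraMap k _ (a i) = g (Pi.single i 1) := fun i => by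
      simp [g, Pi.single_apply, Finset.sum_ite_eq']
    refine ⟨g, fun i hi => ?_, ?_⟩
    · rcases i with _ | m
      · rw [(key g a ha 0).2, hlo 0 (Nat.pos_of_ne_zero hj), map_zero]
      · rw [(key g a ha m).1, hlo m (by omega), map_zero]
    · rw [(key g a ha j).1, map_ne_zero]; exact hhi

theorem orders_at_pos {J : Fin n → ℕ} (hJ : IsOrders (IsLocalRing.ResidueField P.O) (hcolAt P Ht φ) J)
    (l : Fin n) : 0 < J l :=
  Nat.pos_of_ne_zero ((isJump_at_iff e hK ht hHt hint (J l)).1 ((hJ.2 _).1 ⟨l, rfl⟩)).1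

theorem mem_orders_at_iff {J : Fin n → ℕ} (hJ : IsOrders (IsLocalRing.ResidueField P.O) (hcolAt P Ht φ) J)
    (heff : (1 : K) ∈ Submodule.span k (Set.range φ)) (j : ℕ) :
    (j = 0 ∨ j ∈ Set.range J) ↔ ∃ f ∈ Submodule.span k (Set.range φ), P.1 f = exp (-(j : ℤ)) := by
  constructor
  · rintro (rfl | hj)
    · exact ⟨1, heff, by simp⟩
    · exact ((isJump_at_iff e hK ht hHt hint j).1 ((hJ.2 j).1 hj)).2
  · intro h
    rcases eq_or_ne j 0 with hj | hj
    exacts [Or.inl hj, Or.inr ((hJ.2 j).2 ((isJump_at_iff e hK ht hHt hint j).2 ⟨hj, h⟩))]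

/-- An adapted basis of the span: `1` and functions with the orders as exact orders and leading
coefficient `1`. -/
theorem exists_adapted_matrix (hφ : LinearIndependent k φ) (heff : (1 : K) ∈ Submodule.span k (Set.range φ))
    {J : Fin n → ℕ} (hJ : IsOrders (IsLocalRing.ResidueField P.O) (hcolAt P Ht φ) J) :
    ∃ (A : Matrix (Fin (n + 1)) (Fin (n + 1)) k) (ψ : Fin (n + 1) → K), A.det ≠ 0 ∧
      (∀ i, ψ i = ∑ j, A i j • φ j) ∧ ψ 0 = 1 ∧
      (∀ l : Fin n, P.1 (ψ l.succ) = exp (-(J l : ℤ)) ∧ e.cf (J l) (ψ l.succ) = 1) ∧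
      Submodule.span k (Set.range ψ) = Submodule.span k (Set.range φ) := by
  classical
  have hex : ∀ l : Fin n, ∃ f ∈ Submodule.span k (Set.range φ), P.1 f = exp (-(J l : ℤ)) ∧ e.cf (J l) f = 1 :=
    fun l => by
      obtain ⟨f, hf, hv⟩ := (mem_orders_at_iff e hK ht hHt hint hJ heff _).1 (Or.inr ⟨l, rfl⟩)
      obtain ⟨-, -, hne⟩ := (e.eq_exp_iff _).1 hv
      refine ⟨(e.cf (J l) f)⁻¹ • f, Submodule.smul_mem _ _ hf, ?_, by rw [e.cf_smul, inv_mul_cancel₀ hne]⟩
      rw [Algebra.smul_def, map_mul, val_algebraMap P (inv_ne_zero hne), one_mul, hv]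
  choose f hf hfv hfc using hex
  let ψ : Fin (n + 1) → K := Fin.cons 1 f
  have hmem : ∀ i, ψ i ∈ Submodule.span k (Set.range φ) := Fin.cases (by simpa [ψ] using heff) fun l => by
    simpa [ψ] using hf l
  choose A hA using fun i => (Submodule.mem_span_range_iff_exists_fun k).1 (hmem i)
  have hψint : ∀ i, P.1 (ψ i) ≤ 1 := Fin.cases (by simp [ψ]) fun l => by
    simp only [ψ, Fin.cons_succ, hfv]; rw [← exp_zero, exp_le_exp]; omega
  have hli : LinearIndependent k ψ := by
    rw [Fintype.linearIndependent_iff]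
    intro b hb
    -- the least order with a nonzero coefficient
    let w : Fin (n + 1) → ℕ := Fin.cons 0 J
    have hw : StrictMono w := by
      intro x y hxy
      induction y using Fin.cases with
      | zero => exact absurd hxy (Fin.not_lt_zero x)
      | succ y =>
        induction x using Fin.cases with
        | zero => simpa [w] using orders_at_pos e hK ht hHt hint hJ y
        | succ x => simpa [w] using hJ.1 (Fin.succ_lt_succ_iff.1 hxy)
    have hdiag : ∀ i, e.cf (w i) (ψ i) = 1 := Fin.cases (by simpa [w, ψ] using e.cf_one) fun l => by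
      simpa [w, ψ] using hfc l
    have hlow : ∀ i m, m < w i → e.cf m (ψ i) = 0 := fun i => by
      induction i using Fin.cases with
      | zero => intro m hm; simp [w] at hm
      | succ l =>
        intro m hm
        simp only [w, Fin.cons_succ] at hm
        simpa [ψ] using ((e.eq_exp_iff _).1 (hfv l)).2.1 m hm
    intro i
    induction i using WellFoundedLT.induction with
    | ind i ih =>
      have h := congrArg (e.cf (w i)) hb
      rw [e.cf_sum, show e.cf (w i) (0 : K) = 0 by simp [ParamExp.cf],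
        Finset.sum_eq_single i (fun q _ hq => ?_) (by simp), e.cf_smul, hdiag, mul_one] at h
      · exact h
      · rcases lt_or_gt_of_ne hq with h' | h'
        · rw [e.cf_smul, ih q h', zero_mul]
        · rw [e.cf_smul, hlow q _ (hw h'), mul_zero]
  refine ⟨Matrix.of A, ψ, fun hdet => ?_, fun i => (hA i).symm, rfl,
    fun l => by simpa [ψ] using ⟨hfv l, hfc l⟩, ?_⟩
  · obtain ⟨v, hv, hv0⟩ := Matrix.exists_vecMul_eq_zero_iff.2 hdet
    refine hv (funext (Fintype.linearIndependent_iff.1 hli v ?_))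
    simp only [← hA, Finset.smul_sum, smul_smul]
    rw [Finset.sum_comm]
    refine Finset.sum_eq_zero fun j _ => ?_
    rw [← Finset.sum_smul, show ∑ i, v i * A i j = 0 from congrFun hv0 j, zero_smul]
  · have : FiniteDimensional k (Submodule.span k (Set.range φ)) :=
      FiniteDimensional.span_of_finite k (Set.finite_range φ)
    refine Submodule.eq_of_le_of_finrank_eq (Submodule.span_le.2 (by rintro _ ⟨i, rfl⟩; exact hmem i)) ?_
    rw [finrank_span_eq_card hφ, finrank_span_eq_card hli]

end Orders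

section Estimate

variable (hK : IsFunctionField k K) (ht : P.1 t = exp (-1)) {Ht : K →ₐ[k] PowerSeries K}
  (hHt : LocRes.IsHasseFamily t Ht) (τ : K →ₐ[k] K)

include e in
theorem val_map_le {z : K} (hP : IsFixedPt τ P) (hz : P.1 z ≤ 1) : P.1 (τ z) ≤ 1 := by
  have hlt : P.1 (z - algebraMap k K (e.cf 0 z)) < 1 := by
    have h1 : P.1 (z - algebraMap k K (e.cf 0 z)) ≤ 1 := P.1.map_sub _ _ |>.trans (max_le hz (P.2.1 _))
    rw [e.lt_one_iff h1, sub_eq_add_neg, e.cf_add, ← map_neg, e.cf_algebraMap, if_pos rfl, add_neg_cancel]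
  have := hP _ hlt
  rw [map_sub, AlgHom.commutes] at this
  have h2 := P.1.map_add_le this.le (P.2.1 (e.cf 0 z))
  rwa [sub_add_cancel] at h2

include e ht in
theorem val_map_exact {z : K} (hP : IsFixedPt τ P) {m : ℕ} (hz : P.1 z ≤ exp (-(m : ℤ))) :
    P.1 (τ z) ≤ P.1 (τ t) ^ m := by
  have ht0 := ne_zero_of_val P ht
  have hu : P.1 (z / t ^ m) ≤ 1 := by
    rw [map_div₀, map_pow, ht, ← exp_nsmul, div_le_one₀ exp_pos]
    simpa using hz
  calc P.1 (τ z) = P.1 (τ (z / t ^ m)) * P.1 (τ t) ^ m := by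
        rw [← map_pow, ← map_mul, ← map_pow τ, ← map_mul τ, div_mul_cancel₀ _ (pow_ne_zero _ ht0)]
    _ ≤ _ := mul_le_of_le_one_left' (val_map_le e τ hP hu)

include ht hHt in
theorem det_estimate (hP : IsFixedPt τ P) {n : ℕ} {ψ : Fin (n + 1) → K} (hψ0 : ψ 0 = 1)
    {J : Fin n → ℕ} (hJpos : ∀ l, 0 < J l)
    (hψ : ∀ l : Fin n, P.1 (ψ l.succ) = exp (-(J l : ℤ)) ∧ e.cf (J l) (ψ l.succ) = 1) (I : Fin n → ℕ)
    (hK : IsFunctionField k K) :
    P.1 (wrMat τ Ht ψ I).det ≤ exp (-(∑ l, ((J l : ℤ) - I l))) ∧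
    (((∀ l, 0 < I l) ∨ IsStrongFixedPt τ P) →
      (P.1 (wrMat τ Ht ψ I).det = exp (-(∑ l, ((J l : ℤ) - I l))) ↔ (binomMat k J I).det ≠ 0)) := by
  classical
  have ht0 := ne_zero_of_val P ht
  let wr : Fin (n + 1) → ℤ := Fin.cons 0 fun l => (J l : ℤ)
  let wc : Fin (n + 1) → ℤ := Fin.cons 0 fun l => (I l : ℤ)
  let M := wrMat τ Ht ψ I
  let N : Matrix (Fin (n + 1)) (Fin (n + 1)) K := Matrix.of fun i c => t ^ (-wr i) * M i c * t ^ wc c
  have hvt : ∀ z : ℤ, P.1 (t ^ z) = exp (-z) := fun z => by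
    rw [map_zpow₀, ht, ← exp_zsmul, smul_eq_mul, mul_neg, mul_one]
  have ht1 : P.1 t ≤ 1 := by rw [ht, ← exp_zero, exp_le_exp]; omega
  have hτt : P.1 (τ t) ≤ exp (-1) := by
    have := hP t (by rw [ht, ← exp_zero, exp_lt_exp]; omega)
    rcases eq_or_ne (τ t) 0 with h | h
    · simp [h]
    rw [val_lt_one_iff P h] at this
    rw [val_le_exp_iff P h]; omega
  have hψint : ∀ l : Fin n, P.1 (ψ l.succ) ≤ 1 := fun l => by rw [(hψ l).1, ← exp_zero, exp_le_exp]; omega
  have hlow : ∀ (l : Fin n) m, m < J l → e.cf m (ψ l.succ) = 0 := fun l => ((e.eq_exp_iff _).1 (hψ l).1).2.1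
  have hD1 : ∀ m : ℕ, LocRes.hasseD Ht m (1 : K) = if m = 0 then 1 else 0 := fun m => by
    simp [LocRes.hasseD, PowerSeries.coeff_one]
  -- the four kinds of entries: bound and value at `P`
  have h00 : N 0 0 = 1 := by simp [N, M, wr, wc, wrMat, hψ0]
  have h0s : ∀ s : Fin n, N 0 s.succ = if I s = 0 then 1 else 0 := fun s => by
    simp only [N, M, wr, wc, wrMat, Matrix.of_apply, Fin.cons_zero, Fin.cons_succ, Fin.cases_succ, hψ0, hD1]
    split_ifs with h <;> simp [h]
  have hl0 : ∀ l : Fin n, P.1 (N l.succ 0) ≤ 1 ∧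
      (IsStrongFixedPt τ P → P.1 (N l.succ 0) < 1) := fun l => by
    have h1 := val_map_exact e ht τ hP (m := J l) (hψ l).1.le
    have hval : P.1 (N l.succ 0) = exp (J l : ℤ) * P.1 (τ (ψ l.succ)) := by
      simp only [N, M, wr, wc, wrMat, Matrix.of_apply, Fin.cons_zero, Fin.cons_succ, Fin.cases_zero, zpow_zero,
        mul_one, map_mul, hvt, neg_neg]
    refine ⟨?_, fun hst => ?_⟩
    · rw [hval]
      refine (mul_le_mul' le_rfl (h1.trans (pow_le_pow_left' hτt _))).trans ?_
      rw [← exp_nsmul, ← exp_add, ← exp_zero, exp_le_exp]; simp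
    · rw [hval]
      have h2 := hst t (by rw [ht, ← exp_zero, exp_lt_exp]; omega)
      refine lt_of_le_of_lt (mul_le_mul' le_rfl (h1.trans (pow_le_pow_left' h2 _))) ?_
      rw [← exp_nsmul, ← exp_add, ← exp_zero, exp_lt_exp]
      have := hJpos l
      simp
      omega
  have hls : ∀ l s : Fin n, P.1 (N l.succ s.succ) ≤ 1 ∧
      e.cf 0 (N l.succ s.succ) = (((J l).choose (I s) : ℕ) : k) := fun l s => by
    have hN : N l.succ s.succ = LocRes.hasseD Ht (I s) (ψ l.succ) * t ^ ((I s : ℤ) - J l) := by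
      simp only [N, M, wr, wc, wrMat, Matrix.of_apply, Fin.cons_succ, Fin.cases_succ]
      rw [show (I s : ℤ) - J l = -(J l : ℤ) + I s by ring, zpow_add₀ ht0]
      ring
    rw [hN]
    have hDint := e.hasseD_le_one hK ht hHt (hψint l) (I s)
    rcases le_or_gt (I s) (J l) with hle | hgt
    · have hb : P.1 (LocRes.hasseD Ht (I s) (ψ l.succ)) ≤ exp (-((J l - I s : ℕ) : ℤ)) :=
        (e.le_exp_iff _).2 ⟨hDint, fun i hi => by rw [e.cf_hasseD hK ht hHt (hψint l), hlow l _ (by omega), mul_zero]⟩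
      refine ⟨?_, ?_⟩
      · rw [map_mul, hvt]
        refine (mul_le_mul' hb le_rfl).trans ?_
        rw [← exp_add, ← exp_zero, exp_le_exp]; omega
      · rw [ParamExp.cf, map_mul, map_zpow₀, e.map_t, ← RatFunc.single_zpow, mul_comm,
          show ((0 : ℕ) : ℤ) = ((J l - I s : ℕ) : ℤ) + ((I s : ℤ) - J l) by omega,
          HahnSeries.coeff_single_mul_add, one_mul]
        show e.cf (J l - I s) (LocRes.hasseD Ht (I s) (ψ l.succ)) = _
        rw [e.cf_hasseD hK ht hHt (hψint l), Nat.sub_add_cancel hle, (hψ l).2, mul_one]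
    · have hlt : P.1 (LocRes.hasseD Ht (I s) (ψ l.succ) * t ^ ((I s : ℤ) - J l)) < 1 := by
        rw [map_mul, hvt]
        refine lt_of_le_of_lt (mul_le_of_le_one_left' hDint) ?_
        rw [← exp_zero, exp_lt_exp]; omega
      refine ⟨hlt.le, ?_⟩
      rw [Nat.choose_eq_zero_of_lt hgt, Nat.cast_zero, ← e.lt_one_iff hlt.le]
      exact hlt
  have hNint : ∀ i c, P.1 (N i c) ≤ 1 := fun i c => by
    induction i using Fin.cases with
    | zero =>
      induction c using Fin.cases with
      | zero => simp [h00]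
      | succ s => rw [h0s]; split_ifs <;> simp
    | succ l =>
      induction c using Fin.cases with
      | zero => exact (hl0 l).1
      | succ s => exact (hls l s).1
  let N' : Matrix (Fin (n + 1)) (Fin (n + 1)) P.O := Matrix.of fun i c => ⟨N i c, hNint i c⟩
  have hNdet : N.det = P.O.subtype N'.det := by rw [RingHom.map_det]; rfl
  have hdetval : e.cf 0 N.det = (Matrix.of fun i c => e.cf 0 (N i c)).det := by
    rw [hNdet]
    show e.val₀ N'.det = _
    rw [RingHom.map_det]; rfl
  -- relation with the Wronskian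
  have hrel : (wrMat τ Ht ψ I).det = t ^ (∑ l, ((J l : ℤ) - I l)) * N.det := by
    have hM : M = Matrix.diagonal (fun i => t ^ wr i) * N * Matrix.diagonal (fun c => t ^ (-wc c)) := by
      ext i c
      rw [Matrix.mul_diagonal, Matrix.diagonal_mul]
      show _ = t ^ wr i * (t ^ (-wr i) * M i c * t ^ wc c) * t ^ (-wc c)
      rw [zpow_neg, zpow_neg]
      field_simp
    show M.det = _
    have hprod : ∀ (w : Fin (n + 1) → ℤ) (v : Fin n → ℤ), w = Fin.cons 0 v → ∏ i, t ^ w i = t ^ (∑ l, v l) :=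
      fun w v hw => by
        subst hw
        rw [Fin.prod_univ_succ, Fin.cons_zero, zpow_zero, one_mul]
        simp only [Fin.cons_succ]
        induction (Finset.univ : Finset (Fin n)) using Finset.induction_on with
        | empty => simp
        | insert a s ha ih => rw [Finset.prod_insert ha, Finset.sum_insert ha, zpow_add₀ ht0, ih]
    rw [hM, Matrix.det_mul, Matrix.det_mul, Matrix.det_diagonal, Matrix.det_diagonal, Finset.sum_sub_distrib,
      zpow_sub₀ ht0, hprod wr _ rfl, show ∏ c, t ^ (-wc c) = (∏ c, t ^ wc c)⁻¹ by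
        rw [← Finset.prod_inv_distrib]; simp [zpow_neg], hprod wc _ rfl]
    ring
  have hdint : P.1 N.det ≤ 1 := by rw [hNdet]; exact N'.det.2
  refine ⟨?_, fun hor => ?_⟩
  · rw [hrel, map_mul, hvt]; exact mul_le_of_le_one_right' hdint
  · rw [hrel, map_mul, hvt, mul_eq_left₀ exp_ne_zero]
    have h1 : P.1 N.det = 1 ↔ e.cf 0 N.det ≠ 0 := by
      rw [Ne, ← e.lt_one_iff hdint, not_lt]
      exact ⟨fun h => h.ge, fun h => le_antisymm hdint h⟩
    rw [h1, hdetval]
    suffices h : (Matrix.of fun i c => e.cf 0 (N i c)).det = (binomMat k J I).det by rw [h]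
    rcases hor with hpos | hst
    · rw [Matrix.det_succ_row_zero, Finset.sum_eq_single 0 (fun c _ hc => ?_) (by simp)]
      · simp only [Matrix.of_apply, h00, e.cf_one, Fin.val_zero, pow_zero, one_mul, Fin.succAbove_zero]
        congr 1
        ext r s
        exact (hls r s).2
      · obtain ⟨s, rfl⟩ := Fin.exists_succ_eq.2 hc
        simp [h0s, (hpos s).ne', ParamExp.cf]
    · rw [Matrix.det_succ_column_zero, Finset.sum_eq_single 0 (fun r _ hr => ?_) (by simp)]
      · simp only [Matrix.of_apply, h00, e.cf_one, Fin.val_zero, pow_zero, one_mul, Fin.succAbove_zero]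
        congr 1
        ext r s
        exact (hls r s).2
      · obtain ⟨l, rfl⟩ := Fin.exists_succ_eq.2 hr
        simp [(e.lt_one_iff (hl0 l).1).1 ((hl0 l).2 hst)]

include e ht hHt in
/-- The local estimate, for a tuple normalised at `P`. -/
theorem det_estimate' (hK : IsFunctionField k K) (hP : IsFixedPt τ P) {n : ℕ} {φ : Fin (n + 1) → K}
    (hφ : LinearIndependent k φ) (heff : (1 : K) ∈ Submodule.span k (Set.range φ))
    (hint : ∀ i, P.1 (φ i) ≤ 1) {J : Fin n → ℕ}
    (hJ : IsOrders (IsLocalRing.ResidueField P.O) (hcolAt P Ht φ) J) (I : Fin n → ℕ) :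
    P.1 (wrMat τ Ht φ I).det ≤ exp (-(∑ l, ((J l : ℤ) - I l))) ∧
    (((∀ l, 0 < I l) ∨ IsStrongFixedPt τ P) →
      (P.1 (wrMat τ Ht φ I).det = exp (-(∑ l, ((J l : ℤ) - I l))) ↔ (binomMat k J I).det ≠ 0)) := by
  obtain ⟨A, ψ, hA, hψ, hψ0, hψv, -⟩ := exists_adapted_matrix e hK ht hHt hint hφ heff hJ
  have h := det_estimate e ht hHt τ hP hψ0 (orders_at_pos e hK ht hHt hint hJ) hψv I hK
  rw [det_linear τ Ht φ ψ A hψ I, map_mul, val_algebraMap P hA, one_mul] at h
  exact h

end Estimate

section Binom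

omit [IsAlgClosed k] in
/-- A nondegenerate choice of columns below the shifted orders. -/
theorem exists_binom_indices {n : ℕ} {J : Fin n → ℕ} (hJ : StrictMono J) (hn : 0 < n) :
    ∃ I : Fin n → ℕ, StrictMono I ∧ (∀ l, I l + J ⟨0, hn⟩ ≤ J l) ∧ (binomMat k J I).det ≠ 0 := by
  classical
  let c : ℕ → Fin (n + 1) → k := fun m =>
    if m = 0 then Pi.single 0 1 else Fin.cons 0 fun r => (((J r).choose (m - 1) : ℕ) : k)
  have hc0 : c 0 ≠ 0 := fun h => by simpa [c] using congrFun h 0
  have hfun : ∀ (a : Fin n → k) (s : Finset (Fin n)) (j : ℕ),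
      (∑ r ∈ s, Polynomial.C (a r) * (Polynomial.X + 1) ^ J r).coeff j = ∑ r ∈ s, a r * ((J r).choose j : k) := by
    intro a s j
    rw [Polynomial.finsetSum_coeff]
    exact Finset.sum_congr rfl fun r _ => by rw [Polynomial.coeff_C_mul, Polynomial.coeff_X_add_one_pow]
  -- a functional vanishing on the first columns vanishes on the first rows
  have key : ∀ (s : Fin n) (a : Fin n → k), (∀ r, s < r → a r = 0) →
      (∀ j ≤ J s - J ⟨0, hn⟩, ∑ r, a r * ((J r).choose j : k) = 0) → a = 0 := by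
    intro s a hsupp hz
    set m := J s - J ⟨0, hn⟩
    let Q : Polynomial k :=
      ∑ r ∈ Finset.Iic s, Polynomial.C (a r) * (Polynomial.X + 1) ^ (J r - J ⟨0, hn⟩)
    have hle : ∀ r : Fin n, J ⟨0, hn⟩ ≤ J r := fun r => hJ.monotone (Fin.mk_le_mk.2 (Nat.zero_le _))
    have hprod : ∑ r ∈ Finset.Iic s, Polynomial.C (a r) * (Polynomial.X + 1) ^ J r =
        (Polynomial.X + 1) ^ J ⟨0, hn⟩ * Q := by
      rw [Finset.mul_sum]
      exact Finset.sum_congr rfl fun r _ => by rw [mul_left_comm, ← pow_add, Nat.add_sub_cancel' (hle r)]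
    have hdvd : (Polynomial.X : Polynomial k) ^ (m + 1) ∣ (Polynomial.X + 1) ^ J ⟨0, hn⟩ * Q := by
      rw [← hprod, Polynomial.X_pow_dvd_iff]
      intro j hj
      rw [hfun, ← hz j (by omega)]
      refine Finset.sum_subset (Finset.subset_univ _) fun r _ hr => ?_
      rw [hsupp r (not_le.1 fun h => hr (Finset.mem_Iic.2 h)), zero_mul]
    have hcop : IsCoprime ((Polynomial.X : Polynomial k) ^ (m + 1)) ((Polynomial.X + 1) ^ J ⟨0, hn⟩) :=
      (IsCoprime.pow ⟨-1, 1, by ring⟩)
    have hQdvd := hcop.dvd_of_dvd_mul_left hdvd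
    have hQ : Q = 0 := by
      by_contra hQ0
      have h1 := Polynomial.natDegree_le_of_dvd hQdvd hQ0
      rw [Polynomial.natDegree_X_pow] at h1
      have h2 : Q.natDegree ≤ m := Polynomial.natDegree_sum_le_of_forall_le _ _ fun r hr => by
        refine (Polynomial.natDegree_C_mul_le _ _).trans (Polynomial.natDegree_pow_le.trans ?_)
        have : J r ≤ J s := hJ.monotone (Finset.mem_Iic.1 hr)
        have := Polynomial.natDegree_X_add_C (1 : k)
        rw [show (Polynomial.C (1 : k)) = 1 from map_one _] at this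
        rw [this]; omega
      omega
    have hshift : ∑ r ∈ Finset.Iic s, Polynomial.C (a r) * Polynomial.X ^ (J r - J ⟨0, hn⟩) = 0 := by
      have h3 := congrArg (fun p : Polynomial k => p.comp (Polynomial.X - 1)) hQ
      simp only [Q, Polynomial.sum_comp, Polynomial.zero_comp, Polynomial.mul_comp, Polynomial.C_comp,
        Polynomial.pow_comp, Polynomial.add_comp, Polynomial.X_comp, Polynomial.one_comp, sub_add_cancel] at h3
      exact h3
    funext r
    rcases lt_or_ge s r with hr | hr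
    · exact hsupp r hr
    have h4 := congrArg (fun p : Polynomial k => p.coeff (J r - J ⟨0, hn⟩)) hshift
    simp only [Polynomial.finsetSum_coeff, Polynomial.coeff_C_mul_X_pow, Polynomial.coeff_zero] at h4
    rwa [Finset.sum_eq_single r (fun q _ hq => if_neg fun h => hq ?_) (fun h => absurd (Finset.mem_Iic.2 hr) h),
      if_pos rfl] at h4
    exact (hJ.injective (by have := hle r; have := hle q; omega)).symm
  have hspan : Submodule.span k (Set.range c) = ⊤ := by
    by_contra hne
    obtain ⟨f, hf, hker⟩ := Submodule.exists_le_ker_of_lt_top _ (lt_top_iff_ne_top.2 hne)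
    have hg : ∀ v : Fin (n + 1) → k, f v = ∑ i, v i * f (Pi.single i 1) := fun v => by
      conv_lhs => rw [pi_eq_sum_univ' v, map_sum]
      exact Finset.sum_congr rfl fun i _ => by rw [map_smul, smul_eq_mul]
    have h0 : f (Pi.single 0 1) = 0 := by
      have := hker (Submodule.subset_span ⟨0, rfl⟩)
      simpa [c] using this
    have h1 : (fun r : Fin n => f (Pi.single r.succ 1)) = 0 := key ⟨n - 1, by omega⟩ _
      (fun r hr => by rw [Fin.lt_def] at hr; simp only at hr; omega) fun j _ => by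
        have h2 : f (c (j + 1)) = 0 := hker (Submodule.subset_span ⟨j + 1, rfl⟩)
        rw [hg, Fin.sum_univ_succ] at h2
        simpa [c, h0, mul_comm] using h2
    refine hf (LinearMap.ext fun v => ?_)
    rw [hg, Fin.sum_univ_succ, h0, mul_zero, zero_add, LinearMap.zero_apply]
    exact Finset.sum_eq_zero fun r _ => by rw [congrFun h1 r, Pi.zero_apply, mul_zero]
  obtain ⟨I, hI⟩ := exists_isOrders hc0 hspan (Module.finrank_fin_fun k)
  refine ⟨I, hI.1, fun s => ?_, ?_⟩
  · -- the rows up to `s` are independent on the first columns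
    by_contra hgt
    push Not at hgt
    have hle : J ⟨0, hn⟩ ≤ J s := hJ.monotone (Fin.mk_le_mk.2 (Nat.zero_le _))
    set m := J s - J ⟨0, hn⟩
    let pr : (Fin (n + 1) → k) →ₗ[k] ({i : Fin (n + 1) // i ≤ s.succ} → k) := LinearMap.funLeft k k Subtype.val
    have htop : (colSpan k c (m + 2)).map pr = ⊤ := by
      by_contra hne
      obtain ⟨f, hf, hker⟩ := Submodule.exists_le_ker_of_lt_top _ (lt_top_iff_ne_top.2 hne)
      have hg : ∀ v : {i : Fin (n + 1) // i ≤ s.succ} → k, f v = ∑ i, v i * f (Pi.single i 1) := fun v => by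
        conv_lhs => rw [pi_eq_sum_univ' v, map_sum]
        exact Finset.sum_congr rfl fun i _ => by rw [map_smul, smul_eq_mul]
      let b : Fin (n + 1) → k := fun i => if h : i ≤ s.succ then f (Pi.single ⟨i, h⟩ 1) else 0
      have hv : ∀ v : Fin (n + 1) → k, f (pr v) = ∑ i, v i * b i := fun v => by
        rw [hg, ← Finset.sum_subset (Finset.subset_univ (Finset.univ.filter fun i => i ≤ s.succ)) (fun i _ hi => by
          rw [show b i = 0 from dif_neg (by simpa using hi), mul_zero]),
          Finset.sum_subtype (p := fun i => i ≤ s.succ) (Finset.univ.filter fun i => i ≤ s.succ) (fun i => by simp)]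
        exact Finset.sum_congr rfl fun i _ => by simp [b, pr, LinearMap.funLeft_apply, i.2]
      have h0 : b 0 = 0 := by
        have := hker (Submodule.mem_map_of_mem (f := pr) (mem_colSpan (show 0 < m + 2 by omega)))
        rw [LinearMap.mem_ker, hv] at this
        simpa [c, Pi.single_apply] using this
      have h1 : (fun r : Fin n => b r.succ) = 0 := key s _
        (fun r hr => dif_neg (by simpa using hr)) fun j hj => by
          have h2 := hker (Submodule.mem_map_of_mem (f := pr) (mem_colSpan (show j + 1 < m + 2 by omega)))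
          rw [LinearMap.mem_ker, hv, Fin.sum_univ_succ] at h2
          simpa [c, h0, mul_comm] using h2
      refine hf (LinearMap.ext fun v => ?_)
      rw [hg, LinearMap.zero_apply]
      refine Finset.sum_eq_zero fun i _ => ?_
      have hbi : b i.1 = f (Pi.single i 1) := dif_pos i.2
      have hb0 : b i.1 = 0 := Fin.cases (motive := fun i => b i = 0) h0 (congrFun h1) i.1
      rw [← hbi, hb0, mul_zero]
    have h5 := Submodule.finrank_map_le pr (colSpan k c (m + 2))
    rw [htop, finrank_top, Module.finrank_fintype_fun_eq_card, Fintype.card_subtype, finrank_colSpan] at h5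
    have h6 : ((Finset.range (m + 2)).filter fun i => IsJump k c i) ⊆
        insert 0 ((Finset.Iio s).image fun q => I q + 1) := fun i hi => by
      obtain ⟨hi1, hi2⟩ := Finset.mem_filter.1 hi
      rcases Nat.eq_zero_or_pos i with rfl | hpos
      · exact Finset.mem_insert_self _ _
      refine Finset.mem_insert_of_mem (Finset.mem_image.2 ?_)
      obtain ⟨q, hq⟩ := (hI.2 (i - 1)).2 (by rwa [Nat.sub_add_cancel hpos])
      refine ⟨q, Finset.mem_Iio.2 (hI.1.lt_iff_lt.1 ?_), by omega⟩
      rw [Finset.mem_range] at hi1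
      omega
    have h7 := (Finset.card_le_card h6).trans (Finset.card_insert_le _ _)
    have h8 := Finset.card_image_le (s := Finset.Iio s) (f := fun q => I q + 1)
    rw [Fin.card_Iio] at h8
    rw [show (Finset.univ.filter fun i : Fin (n + 1) => i ≤ s.succ) = Finset.Iic s.succ by ext; simp,
      Fin.card_Iic, Fin.val_succ] at h5
    omega
  · have h := det_ne_zero_of_linearIndependent (linearIndependent_orders hI hc0)
    rw [Matrix.det_succ_column_zero, Finset.sum_eq_single 0 (fun r _ hr => ?_) (by simp)] at h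
    · convert h using 1
      simp only [Matrix.of_apply, Fin.succAbove_zero, withLead, Fin.cons_zero, Fin.val_zero, pow_zero, one_mul, c,
        if_true, Pi.single_eq_same]
      rfl
    · obtain ⟨l, rfl⟩ := Fin.exists_succ_eq.2 hr
      simp [withLead, c]

end Binom

end Groth.Agent.FunFldLib
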