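import Groth.Agent.FunFld.Local
import Groth.Agent.FunFld.DivDiff
import Groth.Agent.FunFld.LocalWr
import Mathlib.RingTheory.Discriminant

/-!
Local bases above a place, a local power basis, and the derivative of the place below.
-/

namespace Groth.Agent.FunFldLib

open FunFld WithZero
open scoped Matrix

variable {k K K' : Type*} [Field k] [Field K] [Field K'] [Algebra k K] [Algebra K K'] [Algebra k K']
  [IsScalarTower k K K'] [FiniteDimensional K K']

theorem val_aeval_le_one' {k K : Type*} [Field k] [Field K] [Algebra k K] (P : Place k K) {x : K}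
    (hx : P.1 x ≤ 1) (p : Polynomial k) : P.1 (Polynomial.aeval x p) ≤ 1 := by
  rw [Polynomial.aeval_eq_sum_range]
  exact P.1.map_sum_le fun i _ => by
    rw [Algebra.smul_def, map_mul, map_pow]; exact mul_le_one' (P.2.1 _) (pow_le_one₀ zero_le hx)

/-- A basis spanning the functions integral above `P` over the valuation ring of `P`. -/
def IsLocalBasis (P : Place k K) {ι : Type*} [Fintype ι] (w : ι → K') : Prop :=
  (∀ i, IntAbove P (w i)) ∧ ∀ a : ι → K, IntAbove P (∑ i, a i • w i) → ∀ i, P.1 (a i) ≤ 1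

omit [FiniteDimensional K K'] in
theorem val_algebraMap_le_exp {P : Place k K} {Q : Place k K'} (hQ : IsOver Q P) {a : K} (ha : P.1 a < 1) :
    Q.1 (algebraMap K K' a) ≤ exp (-(ramIdx Q P : ℤ)) := by
  have he := isOverWith_ramIdx hQ
  rcases eq_or_ne a 0 with rfl | h
  · simp
  rw [he a, val_eq_exp P h, ← exp_nsmul, exp_le_exp, nsmul_eq_mul]
  rw [val_lt_one_iff P h] at ha
  have : (0 : ℤ) ≤ ramIdx Q P := Int.natCast_nonneg _
  nlinarith

/-- Residual independence gives a local basis; two local bases differ by a unimodular matrix. -/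
theorem localBasis_criterion (hK : IsFunctionField k K) [IsAlgClosed k] (P : Place k K)
    (w : Fin (Module.finrank K K') → K') (hint : ∀ i, IntAbove P (w i))
    (hres : ∀ c : Fin (Module.finrank K K') → k,
      (∀ Q : Place k K', IsOver Q P → Q.1 (∑ i, algebraMap k K (c i) • w i) ≤ exp (-(ramIdx Q P : ℤ))) → c = 0) :
    LinearIndependent K w ∧ IsLocalBasis P w ∧
      ∀ z : Module.Basis (Fin (Module.finrank K K')) K K', IsLocalBasis P z →
        P.ord (Algebra.discr K w) = P.ord (Algebra.discr K z) := by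
  classical
  obtain ⟨t, ht⟩ := exists_val_eq P (-1)
  obtain ⟨e⟩ := exists_paramExp hK ht
  have main : ∀ z : Module.Basis (Fin (Module.finrank K K')) K K', IsLocalBasis P z →
      (∀ x : K', (∀ Q : Place k K', IsOver Q P → Q.1 x ≤ exp (-(ramIdx Q P : ℤ))) → ∀ i, P.1 (z.repr x i) ≤ 1) →
      ∃ M : Matrix (Fin (Module.finrank K K')) (Fin (Module.finrank K K')) K,
        (∀ i j, P.1 (M i j) ≤ 1) ∧ P.1 M.det = 1 ∧ (z : _ → K') ᵥ* M.map (algebraMap K K') = w := by
    intro z hz _
    let M : Matrix (Fin (Module.finrank K K')) (Fin (Module.finrank K K')) K := Matrix.of fun i j => z.repr (w j) i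
    have hM : ∀ i j, P.1 (M i j) ≤ 1 := fun i j => hz.2 (fun i => z.repr (w j) i) (by
      rw [z.sum_repr]; exact hint j) i
    refine ⟨M, hM, ?_, ?_⟩
    · let M' : Matrix (Fin (Module.finrank K K')) (Fin (Module.finrank K K')) P.O :=
        Matrix.of fun i j => ⟨M i j, hM i j⟩
      have hdet : M.det = P.O.subtype M'.det := by rw [RingHom.map_det]; rfl
      refine le_antisymm (by rw [hdet]; exact M'.det.2) (not_lt.1 fun hlt => ?_)
      have hint' : P.1 M.det ≤ 1 := hlt.le
      have h0 : (M'.map e.val₀).det = 0 := by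
        rw [← RingHom.mapMatrix_apply, ← RingHom.map_det]
        show e.cf 0 _ = 0
        rw [show ((M'.det : P.O) : K) = M.det from hdet.symm]
        exact (e.lt_one_iff hint').1 hlt
      obtain ⟨c, hc, hc0⟩ := Matrix.exists_mulVec_eq_zero_iff.2 h0
      refine hc (hres c fun Q hQ => ?_)
      have hcomb : ∑ j, algebraMap k K (c j) • w j = ∑ i, (∑ j, M i j * algebraMap k K (c j)) • z i := by
        simp only [Finset.sum_smul]
        rw [Finset.sum_comm]
        refine Finset.sum_congr rfl fun j _ => ?_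
        conv_lhs => rw [← z.sum_repr (w j), Finset.smul_sum]
        exact Finset.sum_congr rfl fun i _ => by rw [smul_smul, mul_comm]; rfl
      rw [hcomb]
      refine Q.1.map_sum_le fun i _ => ?_
      rw [Algebra.smul_def, map_mul]
      refine (mul_le_of_le_one_right' (hz.1 i Q hQ)).trans (val_algebraMap_le_exp hQ ?_)
      have h1 : P.1 (∑ j, M i j * algebraMap k K (c j)) ≤ 1 := P.1.map_sum_le fun j _ => by
        rw [map_mul]; exact mul_le_one' (hM i j) (P.2.1 _)
      rw [e.lt_one_iff h1, e.cf_sum]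
      refine Eq.trans (Finset.sum_congr rfl fun j _ => ?_) (congrFun hc0 i)
      rw [e.cf_zero_mul (hM i j) (P.2.1 _), e.cf_algebraMap, if_pos rfl]
      rfl
    · funext j
      simp only [Matrix.vecMul, dotProduct, Matrix.map_apply, M, Matrix.of_apply]
      conv_rhs => rw [← z.sum_repr (w j)]
      exact Finset.sum_congr rfl fun i _ => by rw [Algebra.smul_def, mul_comm]
  obtain ⟨z₀, hz₀, hrep₀, hlt₀, -⟩ := exists_local_basis (K' := K') hK P
  have hz₀' : IsLocalBasis P z₀ := ⟨hz₀, fun a ha i => by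
    have := hrep₀ _ ha i
    rwa [z₀.repr_sum_self] at this⟩
  obtain ⟨M, hM, hdet, hw⟩ := main z₀ hz₀' fun x hx i => (hlt₀ x hx i).le
  have hdet0 : M.det ≠ 0 := fun h => by rw [h, map_zero] at hdet; exact zero_ne_one hdet
  have hu : IsUnit M := (Matrix.isUnit_iff_isUnit_det M).2 (isUnit_iff_ne_zero.2 hdet0)
  have hwM : ∀ a : Fin (Module.finrank K K') → K, ∑ j, a j • w j = ∑ i, (M.mulVec a) i • z₀ i := fun a => by
    simp only [← hw, Matrix.vecMul, dotProduct, Matrix.map_apply, Finset.smul_sum, Matrix.mulVec, Finset.sum_smul]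
    rw [Finset.sum_comm]
    exact Finset.sum_congr rfl fun i _ => Finset.sum_congr rfl fun j _ => by
      simp only [Algebra.smul_def, map_mul]; ring
  refine ⟨Fintype.linearIndependent_iff.2 fun a ha i => ?_, ⟨hint, fun a ha i => ?_⟩, fun z hz => ?_⟩
  · rw [hwM] at ha
    have h0 : M.mulVec a = 0 := funext (Fintype.linearIndependent_iff.1 z₀.linearIndependent _ ha)
    exact congrFun (Matrix.mulVec_injective_of_isUnit hu (h0.trans (Matrix.mulVec_zero M).symm)) i
  · rw [hwM] at ha
    have h1 := fun q => hrep₀ _ ha q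
    simp only [z₀.repr_sum_self] at h1
    have h2 : M.det * a i = ∑ q, M.adjugate i q * M.mulVec a q := by
      have := congrFun (congrArg (fun A : Matrix _ _ K => A.mulVec a) M.adjugate_mul) i
      simp only [← Matrix.mulVec_mulVec, Matrix.smul_mulVec, Matrix.one_mulVec, Pi.smul_apply, smul_eq_mul] at this
      exact this.symm
    have h3 := congrArg P.1 h2
    rw [map_mul, hdet, one_mul] at h3
    rw [h3]
    refine P.1.map_sum_le fun q _ => ?_
    rw [map_mul]
    refine mul_le_one' ?_ (h1 q)
    rw [Matrix.adjugate_apply]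
    refine val_det_le_one P _ fun u v => ?_
    rw [Matrix.updateRow_apply]
    split_ifs
    · rcases eq_or_ne v i with rfl | hne
      · simp
      · simp [hne]
    · exact hM u v
  · obtain ⟨N, -, hNdet, hN⟩ := main z hz fun x hx i => hz.2 (fun i => z.repr x i) (by
      rw [z.sum_repr]; exact fun Q hQ => (hx Q hQ).trans (by rw [← exp_zero, exp_le_exp]; omega)) i
    have hN0 : N.det ≠ 0 := fun h => by rw [h, map_zero] at hNdet; exact zero_ne_one hNdet
    rw [← hN, Algebra.discr_of_matrix_vecMul]
    rcases eq_or_ne (Algebra.discr K z) 0 with h0 | h0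
    · rw [h0, mul_zero]
    rw [ord_mul P (pow_ne_zero _ hN0) h0, ord_pow,
      ord_eq_of_val P (n := 0) (by rw [hNdet, exp_zero])]
    simp

/-- A generator of the semilocal ring: its different is read by the derivative of a parameter below. -/
theorem exists_local_generator (hK : IsFunctionField k K) [IsAlgClosed k] [Algebra.IsSeparable K K'] (P : Place k K)
    {t : K} (ht : P.1 t = exp (-1)) (hK' : IsFunctionField k K')
    (π : Place k K' → K') (hπ : ∀ Q : Place k K', Q.1 (π Q) = exp (-1)) (H : Place k K' → (K' →ₐ[k] PowerSeries K'))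
    (hH : ∀ Q, LocRes.IsHasseFamily (π Q) (H Q))
    (Qs : Finset (Place k K')) (hQs : ∀ Q, Q ∈ Qs ↔ IsOver Q P) :
    ∃ θ : K', IntAbove P θ ∧ LinearIndependent K (fun i : Fin (Module.finrank K K') => θ ^ (i : ℕ)) ∧
      IsLocalBasis P (fun i : Fin (Module.finrank K K') => θ ^ (i : ℕ)) ∧
      (∀ z : Module.Basis (Fin (Module.finrank K K')) K K', IsLocalBasis P z →
        P.ord (Algebra.discr K fun i : Fin (Module.finrank K K') => θ ^ (i : ℕ)) = P.ord (Algebra.discr K z)) ∧
      (minpoly K θ).natDegree = Module.finrank K K' ∧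
      ∀ Q ∈ Qs, Q.ord (Polynomial.aeval θ (Polynomial.derivative (minpoly K θ))) =
        Q.ord (LocRes.hasseD (H Q) 1 (algebraMap K K' t)) := by
  classical
  have ht0 := ne_zero_of_val P ht
  obtain ⟨eP⟩ := exists_paramExp hK ht
  let n := Module.finrank K K'
  -- distinct values at the places above
  have hinj : ∃ c : Place k K' → k, Set.InjOn c Qs := by
    have : Infinite k := IsAlgClosed.instInfinite
    obtain ⟨f, hf⟩ : ∃ f : Fin Qs.card → k, Function.Injective f :=
      ⟨fun i => Infinite.natEmbedding k i, fun a b h => Fin.ext ((Infinite.natEmbedding k).injective h)⟩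
    refine ⟨fun Q => if h : Q ∈ Qs then f (Qs.equivFin ⟨Q, h⟩) else 0, fun a ha b hb hab => ?_⟩
    rw [Finset.mem_coe] at ha hb
    simp only [dif_pos ha, dif_pos hb] at hab
    exact congrArg Subtype.val (Qs.equivFin.injective (hf hab))
  obtain ⟨c, hc⟩ := hinj
  obtain ⟨θ, hθ⟩ := exists_approx (k := k) (K := K') Qs (fun Q => algebraMap k K' (c Q) + π Q) (fun _ => -2)
  have hθ1 : ∀ Q ∈ Qs, Q.1 (θ - algebraMap k K' (c Q)) = exp (-1) := fun Q hQ => by
    rw [show θ - algebraMap k K' (c Q) = (θ - (algebraMap k K' (c Q) + π Q)) + π Q by ring,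
      Q.1.map_add_eq_of_lt_right ((hθ Q hQ).trans_lt (by rw [hπ, exp_lt_exp]; omega)), hπ]
  have hθne : ∀ Q ∈ Qs, ∀ R ∈ Qs, R ≠ Q → Q.1 (θ - algebraMap k K' (c R)) = 1 := fun Q hQ R hR hne => by
    rw [show θ - algebraMap k K' (c R) = algebraMap k K' (c Q - c R) + (θ - algebraMap k K' (c Q)) by
      rw [map_sub]; ring]
    have h1 : Q.1 (algebraMap k K' (c Q - c R)) = 1 :=
      val_algebraMap Q (sub_ne_zero.2 fun h => hne (hc hR hQ h.symm))
    rw [Q.1.map_add_eq_of_lt_left (by rw [h1, hθ1 Q hQ, ← exp_zero, exp_lt_exp]; omega), h1]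
  have hθint : IntAbove P θ := fun Q hQ => by
    have h := Q.1.map_add_le ((hθ1 Q ((hQs Q).2 hQ)).le.trans (by rw [← exp_zero, exp_le_exp]; omega))
      (Q.2.1 (c Q))
    rwa [sub_add_cancel] at h
  set F : Polynomial k := ∏ Q ∈ Qs, (Polynomial.X - Polynomial.C (c Q)) ^ ramIdx Q P with hF
  have hFdeg : F.natDegree = n := by
    rw [hF, Polynomial.natDegree_prod _ _ fun Q _ => pow_ne_zero _ (Polynomial.X_sub_C_ne_zero _)]
    simp only [Polynomial.natDegree_pow, Polynomial.natDegree_X_sub_C, mul_one]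
    have h := (finite_isOver_and_sum (K' := K') hK P).2 Qs hQs
    simp only [deg_eq_one hK' , deg_eq_one hK P, mul_one] at h
    exact h
  have hFmon : F.Monic := Polynomial.monic_prod_of_monic _ _ fun Q _ => (Polynomial.monic_X_sub_C _).pow _
  have hFv : ∀ Q ∈ Qs, Q.1 (Polynomial.aeval θ F) = exp (-(ramIdx Q P : ℤ)) := fun Q hQ => by
    rw [hF, map_prod, map_prod, Finset.prod_eq_single_of_mem Q hQ fun R hR hne => by
      rw [map_pow, map_pow, map_sub, Polynomial.aeval_X, Polynomial.aeval_C, hθne Q hQ R hR hne, one_pow]]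
    rw [map_pow, map_pow, map_sub, Polynomial.aeval_X, Polynomial.aeval_C, hθ1 Q hQ, ← exp_nsmul]
    simp
  -- residual independence of the powers
  have hres : ∀ p : Polynomial k, p.natDegree < n ∨ p = 0 →
      (∀ Q : Place k K', IsOver Q P → Q.1 (Polynomial.aeval θ p) ≤ exp (-(ramIdx Q P : ℤ))) → p = 0 := by
    intro p hdeg hp
    by_contra hp0
    have hdvd : F ∣ p := by
      refine Finset.prod_dvd_of_coprime (fun Q hQ R hR hne => (Polynomial.isCoprime_X_sub_C_of_isUnit_sub
        (isUnit_iff_ne_zero.2 (sub_ne_zero.2 fun h => hne (hc hQ hR h)))).pow) fun Q hQ => ?_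
      refine (Polynomial.le_rootMultiplicity_iff hp0).1 ?_
      obtain ⟨q, hq, hndvd⟩ := Polynomial.exists_eq_pow_rootMultiplicity_mul_and_not_dvd p hp0 (c Q)
      set m := p.rootMultiplicity (c Q)
      have hqv : Q.1 (Polynomial.aeval θ q) = 1 := by
        have hq0 : q.eval (c Q) ≠ 0 := fun h => hndvd (Polynomial.dvd_iff_isRoot.2 h)
        obtain ⟨r, hr⟩ : Polynomial.X - Polynomial.C (c Q) ∣ q - Polynomial.C (q.eval (c Q)) :=
          Polynomial.dvd_iff_isRoot.2 (by simp)
        rw [show q = Polynomial.C (q.eval (c Q)) + (Polynomial.X - Polynomial.C (c Q)) * r by rw [← hr]; ring,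
          map_add, map_mul, map_sub, Polynomial.aeval_C, Polynomial.aeval_X, Polynomial.aeval_C]
        refine (Q.1.map_add_eq_of_lt_left ?_).trans (val_algebraMap Q hq0)
        rw [val_algebraMap Q hq0, map_mul, hθ1 Q hQ]
        have hr1 : Q.1 (Polynomial.aeval θ r) ≤ 1 := val_aeval_le_one' Q (hθint Q ((hQs Q).1 hQ)) r
        exact (mul_le_of_le_one_right' hr1).trans_lt (by rw [← exp_zero, exp_lt_exp]; omega)
      have h := hp Q ((hQs Q).1 hQ)
      rw [hq, map_mul, map_mul, hqv, mul_one, map_pow, map_pow, map_sub, Polynomial.aeval_X, Polynomial.aeval_C,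
        hθ1 Q hQ, ← exp_nsmul, exp_le_exp] at h
      simp at h
      omega
    have hle := Polynomial.natDegree_le_of_dvd hdvd hp0
    rcases hdeg with hd | hd
    · omega
    · exact hp0 hd
  let w : Fin n → K' := fun i => θ ^ (i : ℕ)
  have hwint : ∀ i, IntAbove P (w i) := fun i Q hQ => by
    show Q.1 (θ ^ (i : ℕ)) ≤ 1
    rw [map_pow]; exact pow_le_one₀ zero_le (hθint Q hQ)
  obtain ⟨hli, hloc, hdisc⟩ := localBasis_criterion hK P w hwint fun a ha => by
    set p : Polynomial k := ∑ i : Fin n, Polynomial.C (a i) * Polynomial.X ^ (i : ℕ)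
    have hp : p = 0 := by
      refine hres p ?_ fun Q hQ => ?_
      · rcases eq_or_ne p 0 with h | h
        · exact Or.inr h
        · refine Or.inl ((Polynomial.natDegree_lt_iff_degree_lt h).2 (Polynomial.degree_sum_fin_lt _))
      · have h := ha Q hQ
        simpa [p, w, map_sum, Algebra.smul_def, ← IsScalarTower.algebraMap_apply] using h
    funext i
    have := congrArg (fun q : Polynomial k => q.coeff (i : ℕ)) hp
    simpa [p, Polynomial.finsetSum_coeff, Polynomial.coeff_C_mul_X_pow, Fin.val_inj, Finset.sum_ite_eq] using this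
  -- the power basis
  have hnpos : 0 < n := Module.finrank_pos
  have hint : IsIntegral K θ := .of_finite K θ
  have hdegmin : (minpoly K θ).natDegree = n := by
    refine le_antisymm (minpoly.natDegree_le θ) ?_
    by_contra hlt
    push Not at hlt
    have h0 := minpoly.aeval K θ
    rw [Polynomial.aeval_eq_sum_range' hlt, ← Fin.sum_univ_eq_sum_range (fun i => (minpoly K θ).coeff i • θ ^ i)] at h0
    have := Fintype.linearIndependent_iff.1 hli _ h0 ⟨(minpoly K θ).natDegree, hlt⟩
    rw [show (minpoly K θ).coeff ((⟨_, hlt⟩ : Fin n) : ℕ) = 1 from (minpoly.monic hint)] at this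
    exact one_ne_zero this
  let g := minpoly K θ
  have hgmon : g.Monic := minpoly.monic hint
  have hgdeg : g.natDegree = n := hdegmin
  let FK : Polynomial K := F.map (algebraMap k K)
  have hGdeg : (g - FK).degree < n := by
    have h1 : g.degree = n := by rw [Polynomial.degree_eq_natDegree hgmon.ne_zero, hdegmin]
    have h2 : FK.degree = n := by
      rw [Polynomial.degree_eq_natDegree (hFmon.map _).ne_zero, Polynomial.natDegree_map, hFdeg]
    exact (Polynomial.degree_sub_lt (h1.trans h2.symm) hgmon.ne_zero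
      (by rw [hgmon.leadingCoeff, (hFmon.map _).leadingCoeff])).trans_eq h1
  have hGsum : ∑ i : Fin n, (g - FK).coeff i • w i = -Polynomial.aeval θ F := by
    have h1 : Polynomial.aeval θ (g - FK) = -Polynomial.aeval θ F := by
      rw [map_sub, minpoly.aeval, zero_sub, Polynomial.aeval_map_algebraMap]
    rcases eq_or_ne (g - FK) 0 with h0 | h0
    · rw [← h1, h0]; simp
    · rw [← h1, Polynomial.aeval_eq_sum_range' ((Polynomial.natDegree_lt_iff_degree_lt h0).2 hGdeg),
        ← Fin.sum_univ_eq_sum_range (fun i => (g - FK).coeff i • θ ^ i)]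
  have hGint : ∀ i : Fin n, P.1 ((g - FK).coeff i) ≤ 1 := hloc.2 (fun i => (g - FK).coeff i) fun Q hQ => by
    rw [hGsum, Valuation.map_neg, hFv Q ((hQs Q).2 hQ), ← exp_zero, exp_le_exp]; omega
  have hGlt : ∀ i : ℕ, P.1 ((g - FK).coeff i) < 1 := by
    have hz : (fun i : Fin n => eP.cf 0 ((g - FK).coeff i)) = 0 := by
      let cc : Fin n → k := fun i => eP.cf 0 ((g - FK).coeff i)
      have hp : (∑ i : Fin n, Polynomial.C (cc i) * Polynomial.X ^ (i : ℕ)) = 0 := by
        set p := ∑ i : Fin n, Polynomial.C (cc i) * Polynomial.X ^ (i : ℕ)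
        refine hres p ?_ fun Q hQ => ?_
        · rcases eq_or_ne p 0 with h | h
          · exact Or.inr h
          · exact Or.inl ((Polynomial.natDegree_lt_iff_degree_lt h).2 (Polynomial.degree_sum_fin_lt _))
        · have hsplit : Polynomial.aeval θ p = (∑ i : Fin n, (g - FK).coeff i • w i) -
              ∑ i : Fin n, ((g - FK).coeff i - algebraMap k K (cc i)) • w i := by
            simp [p, w, sub_smul, Algebra.smul_def, ← IsScalarTower.algebraMap_apply]
            rw [← Finset.sum_sub_distrib]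
            exact Finset.sum_congr rfl fun i _ => by ring
          rw [hsplit]
          refine Q.1.map_sub_le (by rw [hGsum, Valuation.map_neg, hFv Q ((hQs Q).2 hQ)]) (Q.1.map_sum_le fun i _ => ?_)
          rw [Algebra.smul_def, map_mul]
          refine (mul_le_of_le_one_right' (hwint i Q hQ)).trans (val_algebraMap_le_exp hQ ?_)
          rw [eP.lt_one_iff (P.1.map_sub_le (hGint i) (P.2.1 _)), sub_eq_add_neg, ← map_neg, eP.cf_add,
            eP.cf_algebraMap, if_pos rfl, add_neg_cancel]
      funext i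
      have := congrArg (fun q : Polynomial k => q.coeff (i : ℕ)) hp
      simpa [cc, Polynomial.finsetSum_coeff, Polynomial.coeff_C_mul_X_pow, Fin.val_inj, Finset.sum_ite_eq] using this
    intro i
    rcases lt_or_ge i n with hi | hi
    · exact (eP.lt_one_iff (hGint ⟨i, hi⟩)).2 (congrFun hz ⟨i, hi⟩)
    · rw [Polynomial.coeff_eq_zero_of_degree_lt (hGdeg.trans_le (by exact_mod_cast hi)), map_zero]; exact zero_lt_one
  -- `g = F + t h`
  let h : ℕ → K := fun i => (g - FK).coeff i / t
  have hh : ∀ i, P.1 (h i) ≤ 1 := fun i => by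
    rcases eq_or_ne ((g - FK).coeff i) 0 with h0 | h0
    · simp only [h, h0, zero_div, map_zero, zero_le]
    simp only [h, map_div₀, ht]
    rw [div_le_one₀ exp_pos, val_le_exp_iff P h0]
    have := (val_lt_one_iff P h0).1 (hGlt i)
    omega
  have hgcoef : ∀ i, g.coeff i = algebraMap k K (F.coeff i) + t * h i := fun i => by
    simp only [h, mul_div_cancel₀ _ ht0, Polynomial.coeff_sub, FK, Polynomial.coeff_map]; ring
  obtain ⟨Ht, hHt⟩ := exists_hasse_param hK ht
  have hsepQ : ∀ Q ∈ Qs, Q.ord (Polynomial.aeval θ (Polynomial.derivative g)) =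
      Q.ord (LocRes.hasseD (H Q) 1 (algebraMap K K' t)) := by
    intro Q hQ
    have hQP := (hQs Q).1 hQ
    obtain ⟨e⟩ := exists_paramExp hK' (hπ Q)
    -- `h(θ)` is a unit at `Q`
    set hθv := ∑ i ∈ Finset.range (n + 1), algebraMap K K' (h i) * θ ^ i with hθv_def
    have hsum0 : Polynomial.aeval θ F + algebraMap K K' t * hθv = 0 := by
      rw [hθv_def, Finset.mul_sum, Polynomial.aeval_eq_sum_range' (n := n + 1) (by omega), ← Finset.sum_add_distrib]
      refine Eq.trans (Finset.sum_congr rfl fun i _ => ?_)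
        ((Polynomial.aeval_eq_sum_range' (p := g) (n := n + 1) (by omega) θ).symm.trans (minpoly.aeval K θ))
      rw [hgcoef, Algebra.smul_def, Algebra.smul_def, map_add, map_mul, ← IsScalarTower.algebraMap_apply]
      ring
    have hu : Q.1 hθv = 1 := by
      have := hFv Q hQ
      rw [eq_neg_of_add_eq_zero_left hsum0, Valuation.map_neg, map_mul, isOverWith_ramIdx hQP t, ht,
        ← exp_nsmul] at this
      have h2 : exp (ramIdx Q P • (-1 : ℤ)) * Q.1 hθv = exp (ramIdx Q P • (-1 : ℤ)) * 1 := by
        rw [this, mul_one]; congr 1; simp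
      exact mul_left_cancel₀ exp_ne_zero h2
    -- differentiate the equation of `θ`
    let ψ : K →ₐ[k] LaurentSeries k := e.φ.comp (IsScalarTower.toAlgHom k K K')
    have hD : ∀ a : K, LocRes.D k (ψ a) = ψ (LocRes.hasseD Ht 1 a) * LocRes.D k (ψ t) :=
      D_expansion (sepVar_param hK ht) hHt ψ
    set Dh := ∑ i ∈ Finset.range (n + 1), algebraMap K K' (LocRes.hasseD Ht 1 (h i)) * θ ^ i with hDh_def
    have hDhv : Q.1 Dh ≤ 1 := Q.1.map_sum_le fun i _ => by
      rw [map_mul, isOverWith_ramIdx hQP, map_pow]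
      exact mul_le_one' (pow_le_one₀ zero_le (eP.hasseD_le_one hK ht hHt (hh i) 1))
        (pow_le_one₀ zero_le (hθint Q hQP))
    have hdiff : e.φ (Polynomial.aeval θ (Polynomial.derivative g)) * LocRes.D k (e.φ θ) +
        e.φ (hθv + algebraMap K K' t * Dh) * LocRes.D k (ψ t) = 0 := by
      have h0 : LocRes.D k (e.φ (Polynomial.aeval θ g)) = 0 := by
        rw [show g = minpoly K θ from rfl, minpoly.aeval, map_zero, map_zero]
      have hψ : ∀ a, e.φ (algebraMap K K' a) = ψ a := fun a => rfl
      rw [← h0, Polynomial.aeval_eq_sum_range' (p := g) (n := n + 1) (by omega), map_sum, map_sum,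
        Polynomial.aeval_eq_sum_range' (p := Polynomial.derivative g) (n := n + 1)
          (by have := Polynomial.natDegree_derivative_le g; omega),
        Finset.mul_sum, ← Finset.sum_add_distrib, map_sum, map_sum, Finset.sum_mul, Finset.sum_mul]
      have hsh : ∑ i ∈ Finset.range (n + 1), (e.φ ((Polynomial.derivative g).coeff i • θ ^ i) * LocRes.D k (e.φ θ)) =
          ∑ i ∈ Finset.range (n + 1), ψ (g.coeff i) * ((i : ℕ) * e.φ θ ^ (i - 1)) * LocRes.D k (e.φ θ) := by
        rw [Finset.sum_range_succ (fun i => e.φ ((Polynomial.derivative g).coeff i • θ ^ i) * LocRes.D k (e.φ θ)),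
          Polynomial.coeff_derivative, Polynomial.coeff_eq_zero_of_natDegree_lt (p := g) (by omega),
          zero_mul, zero_smul, map_zero, zero_mul, add_zero, Finset.sum_range_succ']
        simp only [Polynomial.coeff_derivative, Algebra.smul_def, map_mul, hψ, map_add, map_natCast, map_one,
          map_pow, Nat.cast_zero, zero_mul, mul_zero, add_zero, Nat.cast_add, Nat.cast_one, Nat.add_sub_cancel]
        exact Finset.sum_congr rfl fun i _ => by ring
      rw [hsh, ← Finset.sum_add_distrib]
      refine Finset.sum_congr rfl fun i _ => ?_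
      rw [Algebra.smul_def, map_mul, map_pow, hψ, Derivation.leibniz, Derivation.leibniz_pow, smul_eq_mul,
        smul_eq_mul, smul_eq_mul, hgcoef, map_add, map_add, map_mul ψ, AlgHom.commutes, LocRes.algebraMap_eq_C,
        map_add (LocRes.D k), LocRes.D_apply k (HahnSeries.C _), LocRes.derivative_C, Derivation.leibniz,
        smul_eq_mul, smul_eq_mul, hD (h i)]
      simp only [map_add, map_mul, map_pow, hψ, nsmul_eq_mul, LocRes.algebraMap_eq_C]
      ring
    have hv := congrArg Valued.v (eq_neg_of_add_eq_zero_left hdiff)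
    have hunit : Q.1 (hθv + algebraMap K K' t * Dh) = 1 := by
      rw [Q.1.map_add_eq_of_lt_left, hu]
      rw [hu, map_mul, isOverWith_ramIdx hQP t, ht]
      exact (mul_le_of_le_one_right' hDhv).trans_lt
        (pow_lt_one₀ zero_le (by rw [← exp_zero, exp_lt_exp]; omega) (isOverWith_pos (isOverWith_ramIdx hQP)).ne')
    have hDθ : Valued.v (LocRes.D k (e.φ θ)) = 1 := by
      have : LocRes.D k (e.φ θ) = LocRes.D k (e.φ (θ - algebraMap k K' (c Q))) := by
        rw [map_sub, AlgHom.commutes, map_sub, LocRes.algebraMap_eq_C, LocRes.D_apply k (HahnSeries.C _),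
          LocRes.derivative_C, sub_zero]
      rw [this]
      exact val_D_of_val_eq ((e.isExp.1 _).trans (hθ1 Q hQ))
    rw [map_mul, Valuation.map_neg, map_mul, hDθ, e.isExp.1, e.isExp.1, hunit, mul_one, one_mul] at hv
    have h1 := vDiff_eq hK' (hπ Q) (hH Q) e.isExp 1 (algebraMap K K' t)
    rw [LocRes.vDiff, map_one, one_mul, one_mul] at h1
    rw [Place.ord, Place.ord, hv]
    exact congrArg (fun v => -log v) h1
  exact ⟨θ, hθint, hli, hloc, hdisc, hdegmin, hsepQ⟩

/-- A local power basis, whose discriminant reads the derivative of a parameter below. -/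
theorem ord_discr_local (hK : IsFunctionField k K) [IsAlgClosed k] [Algebra.IsSeparable K K'] (P : Place k K)
    {t : K} (ht : P.1 t = exp (-1)) (hK' : IsFunctionField k K')
    (z : Module.Basis (Fin (Module.finrank K K')) K K') (hz : IsLocalBasis P z)
    (π : Place k K' → K') (hπ : ∀ Q : Place k K', Q.1 (π Q) = exp (-1)) (H : Place k K' → (K' →ₐ[k] PowerSeries K'))
    (hH : ∀ Q, LocRes.IsHasseFamily (π Q) (H Q))
    (Qs : Finset (Place k K')) (hQs : ∀ Q, Q ∈ Qs ↔ IsOver Q P) :
    P.ord (Algebra.discr K z) = ∑ Q ∈ Qs, Q.ord (LocRes.hasseD (H Q) 1 (algebraMap K K' t)) := by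
  classical
  let n := Module.finrank K K'
  obtain ⟨θ, -, hli, hloc, hdisc, hdegmin, hsepQ⟩ := exists_local_generator hK P ht hK' π hπ H hH Qs hQs
  rw [← hdisc z hz]
  set w : Fin n → K' := fun i => θ ^ (i : ℕ)
  have hint : IsIntegral K θ := .of_finite K θ
  let g := minpoly K θ
  let B := (basisOfLinearIndependentOfCardEqFinrank' w hli (Fintype.card_fin _))
  let pb : PowerBasis K K' := ⟨θ, n, B, fun i => by simp [B, w]⟩
  have hpb : w = pb.basis := by funext i; simp [pb, B]
  rw [hpb, Algebra.discr_powerBasis_eq_norm K pb]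
  have hg'0 : Polynomial.aeval θ (Polynomial.derivative g) ≠ 0 :=
    (Algebra.IsSeparable.isSeparable K θ).aeval_derivative_ne_zero (minpoly.aeval K θ)
  have hN0 : Algebra.norm K (Polynomial.aeval θ (Polynomial.derivative g)) ≠ 0 := Algebra.norm_ne_zero_iff.2 hg'0
  show P.ord ((-1) ^ _ * Algebra.norm K (Polynomial.aeval θ (Polynomial.derivative g))) = _
  rw [ord_mul P (pow_ne_zero _ (neg_ne_zero.2 one_ne_zero)) hN0, ord_pow,
    ord_eq_of_val P (n := 0) (by rw [Valuation.map_neg, map_one, exp_zero])]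
  have hnorm := ord_norm hK P (Polynomial.aeval θ (Polynomial.derivative g)) Qs hQs
  rw [deg_eq_one hK P, Nat.cast_one, one_mul] at hnorm
  rw [hnorm]
  simp only [neg_zero, mul_zero, zero_add]
  exact Finset.sum_congr rfl fun Q hQ => by rw [deg_eq_one hK' Q, Nat.cast_one, one_mul, hsepQ Q hQ]
end Groth.Agent.FunFldLib
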