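import Groth.Prelude.Def_LocRes

/-!
Elementary identities for residues of Laurent series.
-/

namespace Groth.Agent.FunFldLib

open scoped LaurentSeries
open WithZero

section Field

variable {F : Type*} [Field F]

theorem valuation_coe_of_constantCoeff_ne_zero (U : PowerSeries F) (hU : PowerSeries.constantCoeff U ≠ 0) :
    Valued.v (U : F⸨X⸩) = (1 : WithZero (Multiplicative ℤ)) := by
  obtain ⟨b, hb⟩ := PowerSeries.isUnit_iff_constantCoeff.2 (isUnit_iff_ne_zero.2 hU)
  have h1 : ∀ c : PowerSeries F, Valued.v (c : F⸨X⸩) ≤ 1 := fun c =>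
    (LaurentSeries.val_le_one_iff_eq_coe F _).2 ⟨c, rfl⟩
  refine le_antisymm (h1 U) ?_
  have h2 : Valued.v ((U : PowerSeries F) : F⸨X⸩) * Valued.v ((↑b⁻¹ : PowerSeries F) : F⸨X⸩) = 1 := by
    rw [← map_mul, ← PowerSeries.coe_mul, ← hb, Units.mul_inv, PowerSeries.coe_one, map_one]
  calc (1 : WithZero (Multiplicative ℤ)) = _ := h2.symm
    _ ≤ Valued.v ((U : PowerSeries F) : F⸨X⸩) * 1 := mul_le_mul' le_rfl (h1 _)
    _ = _ := mul_one _

theorem exists_normal_form {g : F⸨X⸩} (hg : g ≠ 0) :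
    ∃ (m : ℤ) (U : PowerSeries F), PowerSeries.constantCoeff U ≠ 0 ∧
      g = HahnSeries.single m 1 * (U : F⸨X⸩) ∧ Valued.v g = exp (-m) := by
  refine ⟨g.order, LaurentSeries.powerSeriesPart g, ?_, (LaurentSeries.single_order_mul_powerSeriesPart g).symm, ?_⟩
  · rw [← PowerSeries.coeff_zero_eq_constantCoeff_apply, LaurentSeries.powerSeriesPart_coeff, Nat.cast_zero, add_zero]
    exact fun h => hg (HahnSeries.coeff_order_eq_zero.1 h)
  · conv_lhs => rw [← LaurentSeries.single_order_mul_powerSeriesPart g]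
    rw [map_mul, valuation_coe_of_constantCoeff_ne_zero, mul_one, LaurentSeries.valuation_single_zpow]
    rw [← PowerSeries.coeff_zero_eq_constantCoeff_apply, LaurentSeries.powerSeriesPart_coeff, Nat.cast_zero, add_zero]
    exact fun h => hg (HahnSeries.coeff_order_eq_zero.1 h)

theorem res_coe (U : PowerSeries F) : LocRes.res F (U : F⸨X⸩) = 0 := by
  rw [LocRes.res_apply, PowerSeries.coeff_coe, if_pos (by norm_num)]

theorem res_D (g : F⸨X⸩) : LocRes.res F (LocRes.D F g) = 0 := by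
  rw [LocRes.res_apply, LocRes.D_coeff]; simp

/-- The logarithmic derivative has the order as residue. -/
theorem res_inv_mul_D {g : F⸨X⸩} (hg : g ≠ 0) :
    ∃ m : ℤ, Valued.v g = exp (-m) ∧ LocRes.res F (g⁻¹ * LocRes.D F g) = (m : F) := by
  obtain ⟨m, U, hU, e, hv⟩ := exists_normal_form hg
  refine ⟨m, hv, ?_⟩
  obtain ⟨b, hb⟩ := PowerSeries.isUnit_iff_constantCoeff.2 (isUnit_iff_ne_zero.2 hU)
  have hUi : ((U : PowerSeries F) : F⸨X⸩)⁻¹ = ((↑b⁻¹ : PowerSeries F) : F⸨X⸩) := by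
    refine inv_eq_of_mul_eq_one_right ?_
    rw [← PowerSeries.coe_mul, ← hb, Units.mul_inv, PowerSeries.coe_one]
  have hs : (HahnSeries.single m (1 : F) : F⸨X⸩)⁻¹ = HahnSeries.single (-m) 1 :=
    inv_eq_of_mul_eq_one_right (by rw [HahnSeries.single_mul_single, add_neg_cancel, one_mul]; rfl)
  have hU0 : ((U : PowerSeries F) : F⸨X⸩) * ((U : PowerSeries F) : F⸨X⸩)⁻¹ = 1 :=
    mul_inv_cancel₀ fun h => hU (by rw [HahnSeries.ofPowerSeries_injective (h.trans (map_zero _).symm), map_zero])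
  have key : g⁻¹ * LocRes.D F g = HahnSeries.single (-1) (m : F) +
      ((↑b⁻¹ * PowerSeries.derivative F U : PowerSeries F) : F⸨X⸩) := by
    rw [LocRes.D_apply, e, LocRes.derivative_single_mul, LocRes.derivative_coe, mul_inv, hs,
      PowerSeries.coe_mul, ← hUi, mul_add]
    rw [show HahnSeries.single (-m) (1 : F) * ((U : PowerSeries F) : F⸨X⸩)⁻¹ *
        (HahnSeries.single (m - 1) (m • (1 : F)) * ((U : PowerSeries F) : F⸨X⸩)) =
        (HahnSeries.single (-m) (1 : F) * HahnSeries.single (m - 1) (m • (1 : F))) *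
          (((U : PowerSeries F) : F⸨X⸩) * ((U : PowerSeries F) : F⸨X⸩)⁻¹) by ring, hU0, mul_one,
      HahnSeries.single_mul_single,
      show HahnSeries.single (-m) (1 : F) * ((U : PowerSeries F) : F⸨X⸩)⁻¹ *
        (HahnSeries.single m (1 : F) * ((PowerSeries.derivative F U : PowerSeries F) : F⸨X⸩)) =
        (HahnSeries.single (-m) (1 : F) * HahnSeries.single m (1 : F)) *
          (((U : PowerSeries F) : F⸨X⸩)⁻¹ * ((PowerSeries.derivative F U : PowerSeries F) : F⸨X⸩)) by ring,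
      HahnSeries.single_mul_single, add_comm, neg_add_cancel,
      show (HahnSeries.single (0 : ℤ) ((1 : F) * 1) : F⸨X⸩) = 1 by rw [one_mul]; rfl, one_mul,
      show -m + (m - 1) = -1 by ring, zsmul_eq_mul, mul_one, one_mul]
  rw [key, map_add, res_coe, add_zero, LocRes.res_apply, HahnSeries.coeff_single_same]

/-- The universal identity behind `res (g ^ (n - 1) dg) = 0`. -/
theorem coeff_pow_mul_derivative {R : Type*} [CommRing R] (U : PowerSeries R) (n μ : ℕ) (hn : 1 ≤ n) (hμ : 1 ≤ μ) :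
    PowerSeries.coeff (n * μ - 1) (U ^ (n - 1) * PowerSeries.derivative R U) =
      (μ : R) * PowerSeries.coeff (n * μ) (U ^ n) := by
  let S := MvPolynomial R ℤ
  let π : S →+* R := MvPolynomial.eval₂Hom (Int.castRingHom R) id
  have hcz : CharZero S := charZero_of_injective_ringHom (MvPolynomial.C_injective R ℤ)
  let V : PowerSeries S := PowerSeries.mk fun i => MvPolynomial.X (PowerSeries.coeff i U)
  have hV : PowerSeries.map π V = U := PowerSeries.ext fun i => by
    simp only [PowerSeries.coeff_map, V, PowerSeries.coeff_mk, π]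
    exact MvPolynomial.eval₂_X _ _ _
  have hd : PowerSeries.map π (PowerSeries.derivative S V) = PowerSeries.derivative R U := by
    ext i
    rw [PowerSeries.coeff_map, PowerSeries.coeff_derivative, PowerSeries.coeff_derivative, map_mul,
      ← PowerSeries.coeff_map, hV]
    simp
  have h : PowerSeries.coeff (n * μ - 1) (V ^ (n - 1) * PowerSeries.derivative S V) =
      (μ : S) * PowerSeries.coeff (n * μ) (V ^ n) := by
    have h1 := congrArg (PowerSeries.coeff (n * μ - 1)) ((PowerSeries.derivative S).leibniz_pow V n)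
    rw [PowerSeries.coeff_derivative, smul_eq_mul, map_nsmul, nsmul_eq_mul,
      Nat.sub_add_cancel (Nat.one_le_iff_ne_zero.2 (Nat.mul_ne_zero (by omega) (by omega)))] at h1
    refine mul_left_cancel₀ (Nat.cast_ne_zero.2 (by omega : n ≠ 0) : (n : S) ≠ 0) ?_
    have hc : ((n * μ - 1 : ℕ) : S) + 1 = ((n * μ : ℕ) : S) := by
      exact_mod_cast congrArg (Nat.cast (R := S))
        (Nat.sub_add_cancel (Nat.one_le_iff_ne_zero.2 (Nat.mul_ne_zero (show n ≠ 0 by omega) (show μ ≠ 0 by omega))))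
    rw [← h1, hc]
    push_cast
    ring
  have := congrArg π h
  rwa [map_mul π (μ : S), map_natCast π, ← PowerSeries.coeff_map, ← PowerSeries.coeff_map, map_mul (PowerSeries.map π),
    map_pow (PowerSeries.map π), map_pow (PowerSeries.map π), hV, hd] at this

theorem res_pow_mul_D (g : F⸨X⸩) (n : ℕ) (hn : 1 ≤ n) :
    LocRes.res F (g ^ (n - 1) * LocRes.D F g) = 0 := by
  by_cases hg : g = 0
  · subst hg; simp
  obtain ⟨m, U, hU, e, -⟩ := exists_normal_form hg
  by_cases hm : 0 ≤ m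
  · obtain ⟨μ, rfl⟩ := Int.eq_ofNat_of_zero_le hm
    rw [e, show (HahnSeries.single (μ : ℤ) (1 : F) : F⸨X⸩) = ((PowerSeries.X ^ μ : PowerSeries F) : F⸨X⸩) from
      (HahnSeries.ofPowerSeries_X_pow μ).symm, ← PowerSeries.coe_mul, ← map_pow, LocRes.D_coe,
      ← PowerSeries.coe_mul]
    exact res_coe _
  · obtain ⟨μ, hμ⟩ := Int.eq_ofNat_of_zero_le (show 0 ≤ -m by omega)
    obtain rfl : m = -(μ : ℤ) := by omega
    have hμ1 : 1 ≤ μ := by omega
    rw [LocRes.D_apply, e, LocRes.derivative_single_mul, LocRes.derivative_coe, mul_pow,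
      HahnSeries.single_pow, one_pow, ← map_pow, mul_add]
    simp only [mul_mul_mul_comm, HahnSeries.single_mul_single, ← PowerSeries.coe_mul, one_mul, mul_one]
    rw [LocRes.res_apply, HahnSeries.coeff_add, HahnSeries.coeff_single_mul, HahnSeries.coeff_single_mul,
      PowerSeries.coeff_coe, PowerSeries.coeff_coe]
    obtain ⟨l, rfl⟩ : ∃ l, n = l + 1 := ⟨n - 1, by omega⟩
    have h1 : 0 ≤ (l : ℤ) * μ := by positivity
    simp only [Nat.add_sub_cancel, nsmul_eq_mul]
    rw [if_neg (by nlinarith), if_neg (by nlinarith)]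
    have a1 : ((-1 : ℤ) - ((l : ℤ) * -(μ : ℤ) + -(μ : ℤ))).natAbs = (l + 1) * μ - 1 := by
      have : ((l + 1) * μ : ℕ) = ((l : ℤ) * μ + μ) := by push_cast; ring
      have := Nat.mul_pos (show 0 < l + 1 by omega) hμ1
      rw [mul_neg]; omega
    have a2 : ((-1 : ℤ) - ((l : ℤ) * -(μ : ℤ) + (-(μ : ℤ) - 1))).natAbs = (l + 1) * μ := by
      have : ((l + 1) * μ : ℕ) = ((l : ℤ) * μ + μ) := by push_cast; ring
      rw [mul_neg]; omega
    rw [a1, a2, ← pow_succ]
    have := coeff_pow_mul_derivative U (l + 1) μ (by omega) hμ1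
    rw [Nat.add_sub_cancel] at this
    rw [this]
    simp

theorem res_zpow_mul_D (g : F⸨X⸩) {n : ℤ} (hn : n ≠ 0) :
    LocRes.res F (g ^ (n - 1) * LocRes.D F g) = 0 := by
  by_cases hg : g = 0
  · subst hg; simp
  rcases lt_trichotomy n 0 with h | h | h
  · obtain ⟨l, rfl⟩ : ∃ l : ℕ, n = -((l : ℤ) + 1) := ⟨(-n - 1).toNat, by omega⟩
    have h1 := res_pow_mul_D g⁻¹ (l + 1) (by omega)
    rw [Derivation.leibniz_inv, smul_eq_mul, Nat.add_sub_cancel] at h1
    have e : g ^ (-((l : ℤ) + 1) - 1) * LocRes.D F g = -(g⁻¹ ^ l * (-g⁻¹ ^ 2 * LocRes.D F g)) := by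
      rw [show -((l : ℤ) + 1) - 1 = -((l + 2 : ℕ) : ℤ) by push_cast; ring, zpow_neg, zpow_natCast, ← inv_pow, pow_add]
      ring
    rw [e, map_neg, h1, neg_zero]
  · exact absurd h hn
  · obtain ⟨l, rfl⟩ : ∃ l : ℕ, n = (l : ℤ) + 1 := ⟨(n - 1).toNat, by omega⟩
    have h1 := res_pow_mul_D g (l + 1) (by omega)
    rwa [Nat.add_sub_cancel, ← zpow_natCast, ← show ((l : ℤ) + 1) - 1 = (l : ℤ) by ring] at h1

theorem D_eq_zero_iff [CharZero F] (f : F⸨X⸩) : LocRes.D F f = 0 ↔ f = HahnSeries.C (f.coeff 0) := by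
  constructor
  · intro h
    ext n
    rcases eq_or_ne n 0 with rfl | hn
    · simp
    · have h1 := congrArg (fun x : F⸨X⸩ => x.coeff (n - 1)) h
      simp only [LocRes.D_coeff, sub_add_cancel, HahnSeries.coeff_zero, zsmul_eq_mul, mul_eq_zero,
        Int.cast_eq_zero] at h1
      rw [HahnSeries.C_apply, HahnSeries.coeff_single_of_ne hn, h1.resolve_left hn]
  · intro h
    rw [h, LocRes.D_apply, LocRes.derivative_C]

theorem exists_D_eq_iff [CharZero F] (g : F⸨X⸩) : (∃ f, LocRes.D F f = g) ↔ LocRes.res F g = 0 := by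
  constructor
  · rintro ⟨f, rfl⟩; exact res_D f
  · intro h
    have hbdd : BddBelow (Function.support fun n : ℤ => g.coeff (n - 1) / (n : F)) := by
      refine ⟨g.order, fun n hn => ?_⟩
      simp only [Function.mem_support, ne_eq, div_eq_zero_iff, not_or] at hn
      have := HahnSeries.order_le_of_coeff_ne_zero hn.1
      omega
    refine ⟨HahnSeries.ofSuppBddBelow _ hbdd, ?_⟩
    ext n
    rw [LocRes.D_coeff]
    show (n + 1) • (g.coeff (n + 1 - 1) / ((n + 1 : ℤ) : F)) = _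
    rw [add_sub_cancel_right, zsmul_eq_mul]
    rcases eq_or_ne (n + 1) 0 with h0 | h0
    · have : g.coeff n = 0 := by rwa [show n = -1 by omega]
      simp [h0, this]
    · rw [mul_div_cancel₀ _ (Int.cast_ne_zero.2 h0)]

variable {k K : Type*} [CommRing k] [CommRing K] [Algebra k K] [Algebra k F]

theorem resExp_eq_zero_of_coe (φ : K →ₐ[k] F⸨X⸩) {y x : K}
    (hy : Valued.v (φ y) ≤ (1 : WithZero (Multiplicative ℤ))) (hx : Valued.v (φ x) ≤ (1 : WithZero (Multiplicative ℤ))) :
    LocRes.resExp φ y x = 0 := by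
  obtain ⟨Y, hY⟩ := (LaurentSeries.val_le_one_iff_eq_coe F _).1 hy
  obtain ⟨X', hX⟩ := (LaurentSeries.val_le_one_iff_eq_coe F _).1 hx
  rw [LocRes.resExp, ← hY, ← hX, LocRes.D_coe, ← PowerSeries.coe_mul]
  exact res_coe _

end Field

end Groth.Agent.FunFldLib
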