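import Groth.Agent.FunFld.ResidueThm
import Mathlib.RingTheory.Valuation.Extension

/-!
The local trace formula for residues: a finite separable extension of a Laurent series field.
-/

namespace Groth.Agent.FunFldLib

open FunFld WithZero Tate
open scoped LaurentSeries

set_option linter.unusedSectionVars false

variable {K L : Type*} {F E : Type*} [Field K] [Field L] [Field F] [Field E] [Algebra K F] [Algebra F E]
  [Algebra K E] [IsScalarTower K F E] [Algebra K L] [Algebra L E] [IsScalarTower K L E] [FiniteDimensional K L]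
  {v : Valuation F (WithZero (Multiplicative ℤ))} {w : Valuation E (WithZero (Multiplicative ℤ))}
  {φ : F →ₐ[K] K⸨X⸩} {ψ : E →ₐ[L] L⸨X⸩}

/-- The valuation of an expansion is a place. -/
def placeOfExp {k M R : Type*} [Field k] [Field M] [Algebra k M] [Field R] [Algebra k R]
    {u : Valuation M (WithZero (Multiplicative ℤ))} {θ : M →ₐ[k] R⸨X⸩} (hθ : LocRes.IsExpansionAt u θ) :
    Place k M :=
  ⟨u, fun c => by
    rw [← hθ.1, LocRes.map_algebraMap, ← PowerSeries.coe_C]
    exact (LaurentSeries.val_le_one_iff_eq_coe R _).2 ⟨_, rfl⟩, fun g => by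
    obtain ⟨t, ht⟩ := hθ.2.2
    rcases eq_or_ne g 0 with rfl | hg
    · exact ⟨0, map_zero u⟩
    · exact ⟨t ^ (-log g), by rw [map_zpow₀, ht, ← exp_zsmul]; simp [exp_log hg]⟩⟩

/-- `e` powers of a uniformizer times a basis of the coefficient field span the valuation ring over the base one. -/
theorem exists_local_lattice_basis [v.HasExtension w] (hφ : LocRes.IsExpansionAt v φ)
    (hφs : Function.Surjective φ) (hψ : LocRes.IsExpansionAt w ψ) :
    ∃ (n : ℕ) (B : Module.Basis (Fin n) F E),
      (∀ i, w (B i) ≤ 1) ∧ ∀ z : E, w z ≤ 1 → ∀ i, v (B.repr z i) ≤ 1 := by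
  classical
  obtain ⟨t, ht⟩ := hφs (HahnSeries.single 1 1)
  have hvt : v t = exp (-1) := by
    rw [← hφ.1, ht, LaurentSeries.valuation_single_zpow]
  have hwle : ∀ a : F, v a ≤ 1 → w (algebraMap F E a) ≤ 1 := fun a ha =>
    (Valuation.HasExtension.val_map_le_one_iff v w a).2 ha
  have ht0 : algebraMap F E t ≠ 0 := fun h => by
    rw [map_eq_zero] at h; rw [h, map_zero] at hvt; exact exp_ne_zero hvt.symm
  have hwt1 : w (algebraMap F E t) < 1 := by
    refine (Valuation.HasExtension.val_map_lt_one_iff v w t).2 ?_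
    rw [hvt, ← exp_zero, exp_lt_exp]; norm_num
  set PE := placeOfExp hψ
  obtain ⟨e, hwt, he⟩ : ∃ e : ℕ, w (algebraMap F E t) = exp (-(e : ℤ)) ∧ 0 < e := by
    have h := val_eq_exp PE ht0
    have h1 := (val_lt_one_iff PE ht0).1 hwt1
    refine ⟨(PE.ord (algebraMap F E t)).toNat, ?_, by omega⟩
    rw [Int.toNat_of_nonneg (by omega)]; exact h
  obtain ⟨s, hs⟩ := hψ.2.2
  have hs0 : s ≠ 0 := fun h => by rw [h, map_zero] at hs; exact exp_ne_zero hs.symm
  set c := Module.finBasis K L
  set f := Module.finrank K L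
  let b : Fin e × Fin f → E := fun p => algebraMap L E (c p.2) * s ^ (p.1 : ℕ)
  have hC : ∀ l : L, w (algebraMap L E l) ≤ 1 := PE.2.1
  have hb : ∀ p, w (b p) ≤ 1 := fun p => by
    rw [map_mul, map_pow, hs]
    exact mul_le_one' (hC _) (pow_le_one₀ zero_le (by rw [← exp_zero, exp_le_exp]; norm_num))
  have hcomb : ∀ d : Fin e × Fin f → K, ∑ p, algebraMap K E (d p) * b p =
      ∑ i : Fin e, algebraMap L E (∑ j, algebraMap K L (d (i, j)) * c j) * s ^ (i : ℕ) := fun d => by
    rw [Fintype.sum_prod_type]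
    refine Finset.sum_congr rfl fun i _ => ?_
    rw [map_sum, Finset.sum_mul]
    refine Finset.sum_congr rfl fun j _ => ?_
    rw [map_mul, ← IsScalarTower.algebraMap_apply, mul_assoc]
  have hcj : ∀ l : L, ∑ j, algebraMap K L (c.repr l j) * c j = l := fun l => by
    conv_rhs => rw [← c.sum_repr l]
    simp [Algebra.smul_def]
  -- one step of the expansion
  have hstep : ∀ z : E, w z ≤ 1 → ∃ l : Fin e → L,
      w (z - ∑ i : Fin e, algebraMap L E (l i) * s ^ (i : ℕ)) ≤ exp (-(e : ℤ)) := by
    suffices h : ∀ m : ℕ, ∀ z : E, w z ≤ 1 → ∃ l : Fin m → L,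
        w (z - ∑ i : Fin m, algebraMap L E (l i) * s ^ (i : ℕ)) ≤ exp (-(m : ℤ)) from h e
    intro m
    induction m with
    | zero => exact fun z hz => ⟨fun i => i.elim0, by simpa using hz⟩
    | succ m ih =>
      intro z hz
      obtain ⟨l, hl⟩ := ih z hz
      set r := z - ∑ i : Fin m, algebraMap L E (l i) * s ^ (i : ℕ)
      have hrm : w (r / s ^ m) ≤ 1 := by
        rw [map_div₀, map_pow, hs, div_le_one₀ (pow_pos exp_pos m), ← exp_nsmul]
        simpa using hl
      set a := (ψ (r / s ^ m)).coeff 0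
      refine ⟨Fin.snoc l a, ?_⟩
      have h2 : Valued.v (ψ (r / s ^ m - algebraMap L E a)) ≤ exp (-1) := by
        rw [map_sub, LocRes.map_algebraMap, Algebra.algebraMap_self, RingHom.id_apply]
        refine (LaurentSeries.valuation_le_iff_coeff_lt_eq_zero L).2 fun n hn => ?_
        rcases lt_or_eq_of_le (Int.lt_add_one_iff.1 (show n < 0 + 1 by omega)) with h | h
        · have h0 : Valued.v (ψ (r / s ^ m)) ≤ exp (-(0 : ℤ)) := by rw [neg_zero, exp_zero, hψ.1]; exact hrm
          rw [HahnSeries.coeff_sub, (LaurentSeries.valuation_le_iff_coeff_lt_eq_zero L).1 h0 n h,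
            HahnSeries.C_apply, HahnSeries.coeff_single_of_ne h.ne, sub_zero]
        · subst h
          simp [HahnSeries.C_apply, a]
      rw [hψ.1] at h2
      rw [Fin.sum_univ_castSucc]
      simp only [Fin.snoc_castSucc, Fin.snoc_last, Fin.val_castSucc, Fin.val_last]
      have h3 : z - (∑ i : Fin m, algebraMap L E (l i) * s ^ (i : ℕ) + algebraMap L E a * s ^ m) =
          (r / s ^ m - algebraMap L E a) * s ^ m := by
        rw [sub_mul, div_mul_cancel₀ _ (pow_ne_zero m hs0)]; ring
      rw [h3, map_mul, map_pow, hs, ← exp_nsmul]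
      refine (mul_le_mul' h2 le_rfl).trans_eq ?_
      rw [← exp_add]; congr 1; simp
  -- lead terms
  have hlead : ∀ l : Fin e → L, w (∑ i : Fin e, algebraMap L E (l i) * s ^ (i : ℕ)) ≤ exp (-(e : ℤ)) → l = 0 := by
    intro l hl
    by_contra hne
    obtain ⟨i₀, hi₀, hmin⟩ := Finset.exists_min_image (Finset.univ.filter fun i => l i ≠ 0) (fun i => (i : ℕ))
      (by
        obtain ⟨i, hi⟩ := Function.ne_iff.1 hne
        exact ⟨i, Finset.mem_filter.2 ⟨Finset.mem_univ _, hi⟩⟩)
    rw [Finset.mem_filter] at hi₀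
    have hunit : ∀ i, l i ≠ 0 → w (algebraMap L E (l i) * s ^ (i : ℕ)) = exp (-(i : ℤ)) := fun i hi => by
      rw [map_mul, map_pow, hs, ← exp_nsmul]
      have h1 : w (algebraMap L E (l i)) = 1 := val_algebraMap PE hi
      rw [h1, one_mul]; simp
    rw [Valuation.map_sum_eq_of_lt w (j := i₀) (Finset.mem_univ _) fun i hi => ?_, hunit i₀ hi₀.2, exp_le_exp] at hl
    · have := i₀.isLt; omega
    rw [hunit i₀ hi₀.2]
    by_cases hli : l i = 0
    · rw [hli, map_zero, zero_mul, map_zero]; exact exp_pos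
    rw [hunit i hli, exp_lt_exp]
    have hne' : i ≠ i₀ := fun h => (Finset.mem_sdiff.1 hi).2 (Finset.mem_singleton.2 h)
    have h1 := hmin i (Finset.mem_filter.2 ⟨Finset.mem_univ _, hli⟩)
    have : (i : ℕ) ≠ i₀ := fun h => hne' (Fin.ext h)
    omega
  -- series with prescribed digits
  have hser : ∀ d : ℕ → K, ∃ a : F, φ a = (PowerSeries.mk d : K⸨X⸩) ∧ v a ≤ 1 := fun d => by
    obtain ⟨a, ha⟩ := hφs (PowerSeries.mk d : K⸨X⸩)
    exact ⟨a, ha, by rw [← hφ.1, ha]; exact (LaurentSeries.val_le_one_iff_eq_coe K _).2 ⟨_, rfl⟩⟩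
  have hspan : ∀ z : E, w z ≤ 1 → ∃ a : Fin e × Fin f → F, (∀ p, v (a p) ≤ 1) ∧ z = ∑ p, a p • b p := by
    intro z hz
    choose! l hl using hstep
    let next : E → E := fun u =>
      (u - ∑ i : Fin e, algebraMap L E (l u i) * s ^ (i : ℕ)) / algebraMap F E t
    have hnext : ∀ u, w u ≤ 1 → w (next u) ≤ 1 := fun u hu => by
      rw [map_div₀, hwt, div_le_one₀ exp_pos]; exact hl u hu
    let zn : ℕ → E := fun n => next^[n] z
    have hzn : ∀ n, w (zn n) ≤ 1 := fun n => by
      induction n with
      | zero => exact hz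
      | succ n ih => show w (next^[n + 1] z) ≤ 1; rw [Function.iterate_succ_apply']; exact hnext _ ih
    let d : ℕ → Fin e × Fin f → K := fun n p => c.repr (l (zn n) p.1) p.2
    have hrec : ∀ n, zn n = ∑ p, algebraMap K E (d n p) * b p + algebraMap F E t * zn (n + 1) := fun n => by
      rw [hcomb, show zn (n + 1) = next (zn n) from Function.iterate_succ_apply' next n z]
      simp only [d, hcj, next]
      rw [mul_div_cancel₀ _ ht0]; ring
    choose a ha ha1 using fun n p => hser fun m => d (n + m) p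
    have harec : ∀ n p, a n p = algebraMap K F (d n p) + t * a (n + 1) p := fun n p => φ.toRingHom.injective <| by
      show φ _ = φ _
      rw [map_add, map_mul, LocRes.map_algebraMap, ha, ha, ht, Algebra.algebraMap_self, RingHom.id_apply]
      have h := PowerSeries.eq_X_mul_shift_add_const (PowerSeries.mk fun m => d (n + m) p)
      conv_lhs => rw [h]
      simp only [PowerSeries.coe_add, PowerSeries.coe_mul, PowerSeries.coe_X, PowerSeries.coe_C,
        PowerSeries.coeff_mk, Nat.add_zero, ← PowerSeries.coeff_zero_eq_constantCoeff_apply]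
      rw [add_comm]
      congr 4
      ext m; rw [show n + (m + 1) = n + 1 + m by omega]
    set r := fun n => zn n - ∑ p, a n p • b p with hr
    have hr1 : ∀ n, r n = algebraMap F E t * r (n + 1) := fun n => by
      simp only [hr]
      rw [hrec n, mul_sub, Finset.mul_sum]
      conv_lhs => arg 2; arg 2; ext p; rw [harec, add_smul, Algebra.smul_def, ← IsScalarTower.algebraMap_apply,
        mul_smul, Algebra.smul_def t]
      rw [Finset.sum_add_distrib]; ring
    have hr2 : ∀ n, w (r n) ≤ 1 := fun n => (w.map_sub _ _).trans (max_le (hzn n)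
      (w.map_sum_le fun p _ => by rw [Algebra.smul_def, map_mul]; exact mul_le_one' (hwle _ (ha1 n p)) (hb p)))
    have hr3 : ∀ n, w (r 0) ≤ exp (-(e : ℤ)) ^ n * w (r n) := fun n => by
      induction n with
      | zero => simp
      | succ n ih => rw [hr1 n, map_mul, hwt] at ih; rwa [pow_succ, mul_assoc]
    refine ⟨a 0, ha1 0, sub_eq_zero.1 (show r 0 = 0 from ?_)⟩
    by_contra h0
    have h := (hr3 ((PE.ord (r 0)).toNat + 1)).trans (mul_le_mul' le_rfl (hr2 _))
    have h' : w (r 0) = _ := val_eq_exp PE h0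
    rw [mul_one, ← exp_nsmul, h', exp_le_exp, nsmul_eq_mul] at h
    have he' : (1 : ℤ) ≤ e := by omega
    push_cast at h
    nlinarith [Int.self_le_toNat (PE.ord (r 0))]
  have hli : LinearIndependent F b := by
    rw [Fintype.linearIndependent_iff]
    intro a ha
    by_contra hne
    push Not at hne
    obtain ⟨p₁, hp₁⟩ := hne
    obtain ⟨p₀, -, hmax⟩ := Finset.exists_max_image Finset.univ (fun p => v (a p)) ⟨p₁, Finset.mem_univ _⟩
    have hp₀ : a p₀ ≠ 0 := fun h => hp₁ ((Valuation.zero_iff v).1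
      (le_antisymm ((hmax p₁ (Finset.mem_univ _)).trans_eq (by rw [h, map_zero])) zero_le))
    let a' := fun p => a p / a p₀
    have ha' : ∀ p, v (a' p) ≤ 1 := fun p => by
      rw [map_div₀, div_le_one₀ (zero_lt_iff.2 ((Valuation.ne_zero_iff v).2 hp₀))]; exact hmax p (Finset.mem_univ _)
    let d : Fin e × Fin f → K := fun p => (φ (a' p)).coeff 0
    have hd : ∀ p, w (algebraMap F E (a' p - algebraMap K F (d p))) ≤ exp (-(e : ℤ)) := fun p => by
      set g := a' p - algebraMap K F (d p)
      have hg : v (g / t) ≤ 1 := by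
        rw [map_div₀, hvt, div_le_one₀ exp_pos, ← hφ.1, map_sub, LocRes.map_algebraMap, Algebra.algebraMap_self,
          RingHom.id_apply]
        refine (LaurentSeries.valuation_le_iff_coeff_lt_eq_zero K).2 fun n hn => ?_
        rcases lt_or_eq_of_le (Int.lt_add_one_iff.1 (show n < 0 + 1 by omega)) with h | h
        · have h0 : Valued.v (φ (a' p)) ≤ exp (-(0 : ℤ)) := by rw [neg_zero, exp_zero, hφ.1]; exact ha' p
          rw [HahnSeries.coeff_sub, (LaurentSeries.valuation_le_iff_coeff_lt_eq_zero K).1 h0 n h,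
            HahnSeries.C_apply, HahnSeries.coeff_single_of_ne h.ne, sub_zero]
        · subst h
          simp [HahnSeries.C_apply, d]
      have := hwle _ hg
      rw [map_div₀, map_div₀, hwt, div_le_one₀ exp_pos] at this
      exact this
    have hz : ∑ p, a' p • b p = 0 := by
      simp only [a', div_eq_inv_mul, mul_smul, ← Finset.smul_sum, ha, smul_zero]
    have h1 : w (∑ p, algebraMap K E (d p) * b p) ≤ exp (-(e : ℤ)) := by
      rw [show ∑ p, algebraMap K E (d p) * b p = - ∑ p, algebraMap F E (a' p - algebraMap K F (d p)) * b p from ?_,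
        Valuation.map_neg]
      · exact w.map_sum_le fun p _ => by
          rw [map_mul]; exact (mul_le_mul' (hd p) (hb p)).trans_eq (mul_one _)
      · simp only [map_sub, sub_mul, Finset.sum_sub_distrib, ← Algebra.smul_def, hz, zero_sub, neg_neg]
        simp only [Algebra.smul_def, ← IsScalarTower.algebraMap_apply]
    rw [hcomb] at h1
    have h2 := congrFun (hlead _ h1) p₀.1
    have h3 : d p₀ = 0 := by
      have := congrArg (fun u => c.repr u p₀.2) (show ∑ j, d (p₀.1, j) • c j = 0 by simpa [Algebra.smul_def] using h2)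
      rw [map_zero, Finsupp.zero_apply, c.repr_sum_self] at this
      exact this
    simp only [d, a', div_self hp₀, map_one] at h3
    simp at h3
  have htop : ⊤ ≤ Submodule.span F (Set.range b) := fun z _ => by
    rcases eq_or_ne z 0 with rfl | hz0
    · exact zero_mem _
    set M := (-PE.ord z).toNat
    have hz : w (algebraMap F E t ^ M * z) ≤ 1 := by
      rw [map_mul, map_pow, hwt, show w z = exp (-PE.ord z) from val_eq_exp PE hz0, ← exp_nsmul, ← exp_add,
        ← exp_zero, exp_le_exp, nsmul_eq_mul]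
      have h1 := Int.self_le_toNat (-PE.ord z)
      have he' : (1 : ℤ) ≤ e := by omega
      have h2 : (0 : ℤ) ≤ (M : ℤ) := Int.natCast_nonneg _
      nlinarith
    obtain ⟨a, -, ha⟩ := hspan _ hz
    have : z = (t ^ M)⁻¹ • (∑ p, a p • b p) := by
      rw [← ha, Algebra.smul_def, map_inv₀, map_pow, inv_mul_cancel_left₀ (pow_ne_zero _ ht0)]
    rw [this]
    exact Submodule.smul_mem _ _ (Submodule.sum_mem _ fun p _ => Submodule.smul_mem _ _ (Submodule.subset_span ⟨p, rfl⟩))
  let B := (Module.Basis.mk hli htop).reindex finProdFinEquiv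
  refine ⟨_, B, fun i => by simp only [B, Module.Basis.reindex_apply, Module.Basis.mk_apply]; exact hb _, fun z hz i => ?_⟩
  obtain ⟨a, ha, rfl⟩ := hspan z hz
  have : ∀ p, a p • b p = a p • B (finProdFinEquiv p) := fun p => by simp [B]
  simp only [this, map_sum, map_smul, Module.Basis.repr_self, Finsupp.finsetSum_apply, Finsupp.smul_apply,
    Finsupp.single_apply, smul_eq_mul, mul_ite, mul_one, mul_zero]
  rw [Finset.sum_eq_single (finProdFinEquiv.symm i)]
  · rw [if_pos (Equiv.apply_symm_apply _ _)]; exact ha _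
  · intro p _ hp
    rw [if_neg fun h => hp (by rw [← h, Equiv.symm_apply_apply])]
  · simp

/-- The residue upstairs is the residue of the trace. -/
theorem local_trace_res [v.HasExtension w] (hφ : LocRes.IsExpansionAt v φ) (hφs : Function.Surjective φ)
    (hψ : LocRes.IsExpansionAt w ψ) (x : F) (y : E) :
    Algebra.trace K L (LocRes.resExp ψ y (algebraMap F E x)) = LocRes.resExp φ (Algebra.trace F E y) x := by
  classical
  obtain ⟨n, B, hB, hBint⟩ := exists_local_lattice_basis hφ hφs hψ
  set PE := placeOfExp hψ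
  set PF := placeOfExp hφ
  let A : Submodule K E :=
    { carrier := {z | w z ≤ 1}
      add_mem' := fun {a b} ha hb => (w.map_add a b).trans (max_le ha hb)
      zero_mem' := by simp
      smul_mem' := fun c a ha => by
        show w (c • a) ≤ 1
        rw [Algebra.smul_def, IsScalarTower.algebraMap_apply K L E, map_mul]
        exact mul_le_one' (PE.2.1 _) ha }
  set x' := algebraMap F E x
  -- above
  let jψ : E →ₗ[K] L⸨X⸩ :=
    { toFun := ψ
      map_add' := map_add ψ
      map_smul' := fun c a => by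
        rw [RingHom.id_apply, Algebra.smul_def, IsScalarTower.algebraMap_apply K L E, map_mul, LocRes.map_algebraMap,
          smul_eq_C_mul, Algebra.algebraMap_self, RingHom.id_apply] }
  have h1 : TateTr A (LinearMap.mulLeft K y) (LinearMap.mulLeft K x')
      (Algebra.trace K L (LocRes.resExp ψ y x')) := by
    obtain ⟨M₁, hM₁⟩ := exists_ordGE (k := K) (ψ y)
    obtain ⟨M₂, hM₂⟩ := exists_ordGE (k := K) (ψ x')
    set M := max M₁ M₂
    have hb := top_bot_le (k := K) (ordGE_mono (show -(M : ℤ) ≤ -(M₁ : ℤ) by omega) hM₁)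
      (ordGE_mono (show -(M : ℤ) ≤ -(M₂ : ℤ) by omega) hM₂)
    have hd : ∀ (u : L⸨X⸩) (N : ℤ), ∃ z, u - jψ z ∈ ordGE K L N := fun u N => by
      obtain ⟨z, hz⟩ := exists_approx_series (k := L) (P := PE) hψ u N
      exact ⟨z, hz⟩
    convert (laurent_tateTr (k := K) (ψ y) (ψ x')).transport (fun u => mul_left_comm _ _ _) jψ ψ.toRingHom.injective
      (f := LinearMap.mulLeft K y) (g := LinearMap.mulLeft K x') (fun z => map_mul ψ y z) (fun z => map_mul ψ x' z)
      (fun u => hd u 0) (fun u => (hd u ((2 * M : ℕ) : ℤ)).imp fun z hz => hb.2 hz) using 1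
    swap; · rfl
    refine Submodule.ext fun z => ?_
    show w z ≤ 1 ↔ ψ z ∈ ordGE K L 0
    rw [mem_ordGE_iff, neg_zero, exp_zero, hψ.1]
  -- below
  let m : Fin n → Fin n → F := fun i l => B.repr (y * B l) i
  let M : ∀ i l : Fin n, K⸨X⸩ →ₗ[K] K⸨X⸩ := fun i l => mulOp K (φ (m i l))
  choose Nm hNm using fun p : Fin n × Fin n => exists_ordGE (k := K) (φ (m p.1 p.2))
  obtain ⟨Nx, hNx⟩ := exists_ordGE (k := K) (φ x)
  set N₀ := max (Finset.univ.sup Nm) Nx
  have hNle : ∀ i l, Nm (i, l) ≤ N₀ := fun i l => (Finset.le_sup (f := Nm) (Finset.mem_univ (i, l))).trans (le_max_left _ _)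
  have hbnd : ∀ i l : Fin n, top' (ordGE K K 0) (mulOp K (φ x)) ≤ ordGE K K (-((2 * N₀ : ℕ) : ℤ)) ∧
      ordGE K K ((2 * N₀ : ℕ) : ℤ) ≤ bot' (ordGE K K 0) (M i l) (mulOp K (φ x)) := fun i l =>
    top_bot_le (ordGE_mono (by have := hNle i l; omega) (hNm (i, l)))
      (ordGE_mono (by have := le_max_right (Finset.univ.sup Nm) Nx; omega) hNx)
  have : ∀ _i : Fin n, FiniteDimensional K (Band (ordGE K K (-((2 * N₀ : ℕ) : ℤ))) (ordGE K K ((2 * N₀ : ℕ) : ℤ))) :=
    fun _ => finite_band _
  have htot : TateTr (Submodule.pi Set.univ fun _ : Fin n => ordGE K K 0) (blockMap M)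
      (LinearMap.pi fun i => mulOp K (φ x) ∘ₗ LinearMap.proj (R := K) (φ := fun _ : Fin n => K⸨X⸩) i)
      (∑ i, Algebra.trace K K (LocRes.res K (φ (m i i) * LocRes.D K (φ x)))) :=
    tateTr_pi (fun _ => ordGE K K 0) (fun _ => ordGE K K (-((2 * N₀ : ℕ) : ℤ))) (fun _ => ordGE K K ((2 * N₀ : ℕ) : ℤ))
      M (fun _ => mulOp K (φ x)) (fun i l u => mul_left_comm _ _ _)
      (fun i => le_sup_left.trans (hbnd i i).1) (fun i => le_sup_right.trans (hbnd i i).1)
      (fun i l u hu => ⟨((hbnd i l).2 hu).1, ((hbnd i l).2 hu).2⟩) fun i => laurent_tateTr _ _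
  have hτ : (∑ i, Algebra.trace K K (LocRes.res K (φ (m i i) * LocRes.D K (φ x)))) =
      LocRes.resExp φ (Algebra.trace F E y) x := by
    simp only [Algebra.trace_self_apply]
    rw [LocRes.resExp, Algebra.trace_eq_matrix_trace B, Matrix.trace, map_sum φ,
      Finset.sum_mul, map_sum (LocRes.res K)]
    simp only [Matrix.diag_apply, Algebra.leftMulMatrix_eq_repr_mul, m]
  rw [hτ] at htot
  let j : E →ₗ[K] (Fin n → K⸨X⸩) := LinearMap.pi fun i => expLin φ ∘ₗ (B.coord i).restrictScalars K
  have hjv : ∀ z i, j z i = φ (B.repr z i) := fun z i => rfl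
  have hj : Function.Injective j := fun a b h =>
    B.repr.injective (Finsupp.ext fun i => φ.toRingHom.injective (congrFun h i))
  have hdense : ∀ u : Fin n → K⸨X⸩, ∃ z, ∀ i, u i = j z i := by
    intro u
    choose a ha using fun i => hφs (u i)
    exact ⟨∑ i, a i • B i, fun i => by rw [hjv, B.repr_sum_self, ha]⟩
  refine h1.unique ?_
  convert htot.transport (fun u => funext fun i => by
      rw [blockMap_apply]
      show _ = φ x * blockMap M u i
      rw [blockMap_apply, Finset.mul_sum]
      exact Finset.sum_congr rfl fun l _ => mul_left_comm _ _ _)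
    j hj (f := LinearMap.mulLeft K y) (g := LinearMap.mulLeft K x')
    (fun z => funext fun i => by
      rw [hjv, blockMap_apply]
      show φ (B.repr (y * z) i) = ∑ l, φ (m i l) * φ (B.repr z l)
      conv_lhs => rw [← B.sum_repr z, Finset.mul_sum, map_sum, Finsupp.finsetSum_apply, map_sum]
      refine Finset.sum_congr rfl fun l _ => ?_
      rw [mul_smul_comm, map_smul, Finsupp.smul_apply, smul_eq_mul, map_mul, mul_comm])
    (fun z => funext fun i => by
      show φ (B.repr (algebraMap F E x * z) i) = φ x * φ (B.repr z i)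
      rw [← Algebra.smul_def, map_smul, Finsupp.smul_apply, smul_eq_mul, map_mul])
    (fun u => by
      obtain ⟨z, hz⟩ := hdense u
      exact ⟨z, by rw [show u - j z = 0 from funext fun i => sub_eq_zero.2 (hz i)]; exact zero_mem _⟩)
    (fun u => by
      obtain ⟨z, hz⟩ := hdense u
      exact ⟨z, by rw [show u - j z = 0 from funext fun i => sub_eq_zero.2 (hz i)]; exact zero_mem _⟩) using 1
  refine Submodule.ext fun z => ⟨fun h i _ => ?_, fun h => ?_⟩
  · exact mem_ordGE_iff.2 (by rw [neg_zero, exp_zero, hjv, hφ.1]; exact hBint z h i)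
  · show w z ≤ 1
    rw [← B.sum_repr z]
    refine w.map_sum_le fun i _ => ?_
    rw [Algebra.smul_def, map_mul]
    refine mul_le_one' ((Valuation.HasExtension.val_map_le_one_iff v w _).2 ?_) (hB i)
    have h2 : φ (B.repr z i) ∈ ordGE K K 0 := h i trivial
    rw [mem_ordGE_iff, neg_zero, exp_zero, hφ.1] at h2
    exact h2

end Groth.Agent.FunFldLib
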