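import Groth.Agent.FunFld.Jumps
import Groth.Agent.FunFld.LocalHasse
import Mathlib.LinearAlgebra.Matrix.Block
import Mathlib.LinearAlgebra.Matrix.NonsingularInverse

/-!
Order sequences and generalized Wronskians of tuples: existence, invariance, transformation rules.
-/

namespace Groth.Agent.FunFldLib

open FunFld WithZero

variable {k K : Type*} [Field k] [Field K] [Algebra k K]

theorem hasseD_mul (H : K →ₐ[k] PowerSeries K) (j : ℕ) (a b : K) :
    LocRes.hasseD H j (a * b) =
      ∑ p ∈ Finset.HasAntidiagonal.antidiagonal j, LocRes.hasseD H p.1 a * LocRes.hasseD H p.2 b := by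
  simp only [LocRes.hasseD, map_mul, PowerSeries.coeff_mul]

theorem hasseD_sum (H : K →ₐ[k] PowerSeries K) (j : ℕ) {ι : Type*} (s : Finset ι) (f : ι → K) :
    LocRes.hasseD H j (∑ i ∈ s, f i) = ∑ i ∈ s, LocRes.hasseD H j (f i) := by
  simp only [LocRes.hasseD, map_sum]

theorem hasseD_smul (H : K →ₐ[k] PowerSeries K) (j : ℕ) (c : k) (x : K) :
    LocRes.hasseD H j (c • x) = c • LocRes.hasseD H j x := by
  simp [LocRes.hasseD, Algebra.smul_def, PowerSeries.algebraMap_apply]

theorem hasseD_zero_apply {s : K} {H : K →ₐ[k] PowerSeries K} (hH : LocRes.IsHasseFamily s H) (x : K) :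
    LocRes.hasseD H 0 x = x := by
  rw [LocRes.hasseD, PowerSeries.coeff_zero_eq_constantCoeff_apply, hH.2]

variable {n : ℕ} (τ : K →ₐ[k] K)

theorem wrMat_eq (H : K →ₐ[k] PowerSeries K) (φ : Fin (n + 1) → K) (J : Fin n → ℕ) :
    wrMat τ H φ J = Matrix.of fun i l => hcol τ H φ (withLead J l) i := by
  ext i l
  induction l using Fin.cases with
  | zero => rfl
  | succ l => rfl

theorem hcol_zero_ne {φ : Fin (n + 1) → K} (hφ : LinearIndependent k φ) (H : K →ₐ[k] PowerSeries K) :
    hcol τ H φ 0 ≠ 0 := fun h =>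
  hφ.ne_zero 0 (τ.injective (by rw [map_zero]; exact congrFun h 0))

section Scale

variable (H : K →ₐ[k] PowerSeries K) (φ : Fin (n + 1) → K) (y : K)

theorem hcol_smul_succ (j : ℕ) : hcol τ H (y • φ) (j + 1) =
    ∑ p ∈ Finset.HasAntidiagonal.antidiagonal j, LocRes.hasseD H p.1 y • hcol τ H φ (p.2 + 1) := by
  ext i
  rw [Finset.sum_apply]
  show LocRes.hasseD H j (y * φ i) = _
  rw [hasseD_mul]
  rfl

theorem hcol_smul_zero : hcol τ H (y • φ) 0 = τ y • hcol τ H φ 0 := by
  ext i; show τ (y * φ i) = τ y * τ (φ i); rw [map_mul]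

theorem colSpan_smul_le (m : ℕ) : colSpan K (hcol τ H (y • φ)) m ≤ colSpan K (hcol τ H φ) m := by
  rw [colSpan, Submodule.span_le]
  rintro _ ⟨i, hi, rfl⟩
  rcases i with _ | j
  · rw [hcol_smul_zero]; exact Submodule.smul_mem _ _ (mem_colSpan hi)
  · rw [hcol_smul_succ]
    refine Submodule.sum_mem _ fun p hp => Submodule.smul_mem _ _ (mem_colSpan ?_)
    rw [Finset.HasAntidiagonal.mem_antidiagonal] at hp
    simp only [Set.mem_Iio] at hi
    omega

theorem colSpan_smul (hy : y ≠ 0) (m : ℕ) : colSpan K (hcol τ H (y • φ)) m = colSpan K (hcol τ H φ) m := by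
  refine le_antisymm (colSpan_smul_le τ H φ y m) ?_
  have h := colSpan_smul_le τ H (y • φ) y⁻¹ m
  rwa [smul_smul, inv_mul_cancel₀ hy, one_smul] at h

theorem hcol_smul_sub {s : K} (hH : LocRes.IsHasseFamily s H) (j : ℕ) :
    hcol τ H (y • φ) (j + 1) - y • hcol τ H φ (j + 1) ∈ colSpan K (hcol τ H φ) (j + 1) := by
  rw [hcol_smul_succ, ← Finset.sum_erase_add _ _
    (show (0, j) ∈ Finset.HasAntidiagonal.antidiagonal j by simp), hasseD_zero_apply hH, add_sub_cancel_right]
  refine Submodule.sum_mem _ fun p hp => Submodule.smul_mem _ _ (mem_colSpan ?_)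
  obtain ⟨hne, hp⟩ := Finset.mem_erase.1 hp
  rw [Finset.HasAntidiagonal.mem_antidiagonal] at hp
  by_contra hge
  exact hne (Prod.ext (by omega) (by omega))

end Scale

/-- A triangular change of the columns at the orders. -/
theorem det_triangular {c c' : ℕ → Fin (n + 1) → K} {J : Fin n → ℕ} (hJ : IsOrders K c J) (hc0 : c 0 ≠ 0)
    (d : ℕ → K) (h : ∀ m, c' m - d m • c m ∈ colSpan K c m) :
    (Matrix.of fun i l => c' (withLead J l) i).det =
      (∏ l, d (withLead J l)) * (Matrix.of fun i l => c (withLead J l) i).det := by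
  classical
  have hmem : ∀ l, c' (withLead J l) - d (withLead J l) • c (withLead J l) ∈
      Submodule.span K ((fun i => c (withLead J i)) '' Set.Iio l) := fun l => by
    have h1 := h (withLead J l)
    rw [colSpan_eq_span_jumps] at h1
    refine Submodule.span_mono ?_ h1
    rintro _ ⟨m, ⟨hm, hjm⟩, rfl⟩
    rcases m with _ | m
    · refine ⟨0, ?_, rfl⟩
      by_contra hle
      simp only [Set.mem_Iio, not_lt] at hle
      rw [Fin.le_zero_iff.1 hle] at hm
      simp [withLead] at hm
    · obtain ⟨q, hq⟩ := (hJ.2 m).2 hjm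
      refine ⟨q.succ, (withLead_strictMono hJ.1).lt_iff_lt.1 ?_, by simp [withLead, hq]⟩
      simpa [withLead, hq] using hm
  choose a ha hsum using fun l => (Finsupp.mem_span_image_iff_linearCombination K).1 (hmem l)
  let U : Matrix (Fin (n + 1)) (Fin (n + 1)) K :=
    Matrix.of fun i l => (if i = l then d (withLead J l) else 0) + a l i
  have hU : (Matrix.of fun i l => c' (withLead J l) i) = (Matrix.of fun i l => c (withLead J l) i) * U := by
    ext i l
    have hl := congrFun (hsum l) i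
    rw [Finsupp.linearCombination_apply, Finsupp.sum_fintype _ _ (by simp)] at hl
    simp only [Finset.sum_apply, Pi.smul_apply, smul_eq_mul, Pi.sub_apply] at hl
    rw [Matrix.mul_apply]
    simp only [U, Matrix.of_apply, mul_add, mul_ite, mul_zero, Finset.sum_add_distrib, Finset.sum_ite_eq',
      Finset.mem_univ, if_true]
    rw [Finset.sum_congr rfl fun x _ => mul_comm (c (withLead J x) i) (a l x), hl]
    ring
  have htri : U.BlockTriangular id := fun i l (hil : l < i) => by
    simp only [U, Matrix.of_apply, if_neg (ne_of_gt hil), zero_add]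
    by_contra hne
    exact absurd ((Finsupp.mem_supported' K _).1 (ha l) i (by simpa using le_of_lt hil)) hne
  rw [hU, Matrix.det_mul, Matrix.det_of_upperTriangular htri, mul_comm]
  congr 1
  refine Finset.prod_congr rfl fun l _ => ?_
  simp only [U, Matrix.of_apply, if_pos]
  rw [(Finsupp.mem_supported' K _).1 (ha l) l (by simp), add_zero]

theorem det_ne_zero_of_linearIndependent {c : ℕ → Fin (n + 1) → K} {J : Fin n → ℕ}
    (h : LinearIndependent K fun i => c (withLead J i)) :
    (Matrix.of fun i l => c (withLead J l) i).det ≠ 0 := by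
  rw [← isUnit_iff_ne_zero, ← Matrix.isUnit_iff_isUnit_det, ← Matrix.linearIndependent_cols_iff_isUnit]
  exact h

theorem linearIndependent_of_det_ne_zero {c : ℕ → Fin (n + 1) → K} {J : Fin n → ℕ}
    (h : (Matrix.of fun i l => c (withLead J l) i).det ≠ 0) :
    LinearIndependent K fun i => c (withLead J i) := by
  rw [← isUnit_iff_ne_zero, ← Matrix.isUnit_iff_isUnit_det, ← Matrix.linearIndependent_cols_iff_isUnit] at h
  exact h

theorem colSpan_change_le (hK : IsFunctionField k K) (hg : IsGeometric k K) {s : K} {Hs : K →ₐ[k] PowerSeries K}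
    (hHs : LocRes.IsHasseFamily s Hs) {t : K} {Ht : K →ₐ[k] PowerSeries K} (hHt : LocRes.IsHasseFamily t Ht)
    (φ : Fin (n + 1) → K) (m : ℕ) : colSpan K (hcol τ Ht φ) m ≤ colSpan K (hcol τ Hs φ) m := by
  obtain ⟨b, hb⟩ := hasseD_change hK hg hHs hHt
  rw [colSpan, Submodule.span_le]
  rintro _ ⟨i, hi, rfl⟩
  simp only [Set.mem_Iio] at hi
  rcases i with _ | j
  · exact mem_colSpan (c := hcol τ Hs φ) (i := 0) hi
  · have : hcol τ Ht φ (j + 1) = LocRes.hasseD Ht 1 s ^ j • hcol τ Hs φ (j + 1) +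
        ∑ l ∈ Finset.range j, b j l • hcol τ Hs φ (l + 1) := by
      ext q
      simp only [Pi.add_apply, Pi.smul_apply, smul_eq_mul, Finset.sum_apply]
      exact hb j (φ q)
    rw [this]
    refine add_mem (Submodule.smul_mem _ _ (mem_colSpan hi)) (Submodule.sum_mem _ fun l hl =>
      Submodule.smul_mem _ _ (mem_colSpan ?_))
    rw [Finset.mem_range] at hl
    omega

theorem colSpan_change (hK : IsFunctionField k K) (hg : IsGeometric k K) {s : K} {Hs : K →ₐ[k] PowerSeries K}
    (hHs : LocRes.IsHasseFamily s Hs) {t : K} {Ht : K →ₐ[k] PowerSeries K} (hHt : LocRes.IsHasseFamily t Ht)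
    (φ : Fin (n + 1) → K) (m : ℕ) : colSpan K (hcol τ Ht φ) m = colSpan K (hcol τ Hs φ) m :=
  le_antisymm (colSpan_change_le τ hK hg hHs hHt φ m) (colSpan_change_le τ hK hg hHt hHs φ m)

theorem det_smul {s : K} {H : K →ₐ[k] PowerSeries K} (hH : LocRes.IsHasseFamily s H) {φ : Fin (n + 1) → K}
    (hφ : LinearIndependent k φ) (y : K) {J : Fin n → ℕ} (hJ : IsOrders K (hcol τ H φ) J) :
    (wrMat τ H (y • φ) J).det = τ y * y ^ n * (wrMat τ H φ J).det := by
  rw [wrMat_eq, wrMat_eq, det_triangular hJ (hcol_zero_ne τ hφ H) (fun m => if m = 0 then τ y else y) fun m => ?_]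
  · congr 1
    rw [Fin.prod_univ_succ]
    simp [withLead]
  · rcases m with _ | j
    · simp [hcol_smul_zero]
    · simpa using hcol_smul_sub τ H φ y hH j

theorem det_change (hK : IsFunctionField k K) (hg : IsGeometric k K) {s : K} {Hs : K →ₐ[k] PowerSeries K}
    (hHs : LocRes.IsHasseFamily s Hs) {t : K} {Ht : K →ₐ[k] PowerSeries K} (hHt : LocRes.IsHasseFamily t Ht)
    {φ : Fin (n + 1) → K} (hφ : LinearIndependent k φ) {J : Fin n → ℕ} (hJ : IsOrders K (hcol τ Hs φ) J) :
    (wrMat τ Ht φ J).det = LocRes.hasseD Ht 1 s ^ (∑ l, J l) * (wrMat τ Hs φ J).det := by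
  obtain ⟨b, hb⟩ := hasseD_change hK hg hHs hHt
  rw [wrMat_eq, wrMat_eq, det_triangular hJ (hcol_zero_ne τ hφ Hs)
    (fun m => LocRes.hasseD Ht 1 s ^ (m - 1)) fun m => ?_]
  · congr 1
    rw [Fin.prod_univ_succ, ← Finset.prod_pow_eq_pow_sum]
    simp [withLead]
  · rcases m with _ | j
    · simp only [Nat.zero_sub, pow_zero, one_smul]
      show hcol τ Hs φ 0 - hcol τ Hs φ 0 ∈ _
      rw [sub_self]; exact zero_mem _
    · have : hcol τ Ht φ (j + 1) - LocRes.hasseD Ht 1 s ^ (j + 1 - 1) • hcol τ Hs φ (j + 1) =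
          ∑ l ∈ Finset.range j, b j l • hcol τ Hs φ (l + 1) := by
        ext q
        simp only [Pi.sub_apply, Pi.smul_apply, smul_eq_mul, Finset.sum_apply, Nat.add_sub_cancel]
        exact sub_eq_of_eq_add' (hb j (φ q))
      rw [this]
      refine Submodule.sum_mem _ fun l hl => Submodule.smul_mem _ _ (mem_colSpan ?_)
      rw [Finset.mem_range] at hl
      omega

section Linear

variable (H : K →ₐ[k] PowerSeries K) (φ φ' : Fin (n + 1) → K) (A : Matrix (Fin (n + 1)) (Fin (n + 1)) k)

theorem hcol_linear (hφ' : ∀ i, φ' i = ∑ j, A i j • φ j) (m : ℕ) :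
    hcol τ H φ' m = (A.map (algebraMap k K)).mulVec (hcol τ H φ m) := by
  ext i
  simp only [Matrix.mulVec, dotProduct, Matrix.map_apply]
  rcases m with _ | j
  · show τ (φ' i) = _
    rw [hφ', map_sum]
    exact Finset.sum_congr rfl fun q _ => by rw [map_smul, Algebra.smul_def]; rfl
  · show LocRes.hasseD H j (φ' i) = _
    rw [hφ', hasseD_sum]
    exact Finset.sum_congr rfl fun q _ => by rw [hasseD_smul, Algebra.smul_def]; rfl

theorem det_linear (hφ' : ∀ i, φ' i = ∑ j, A i j • φ j) (I : Fin n → ℕ) :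
    (wrMat τ H φ' I).det = algebraMap k K A.det * (wrMat τ H φ I).det := by
  rw [RingHom.map_det, wrMat_eq, wrMat_eq, ← Matrix.det_mul]
  congr 1
  ext i l
  rw [Matrix.mul_apply]
  exact congrFun (hcol_linear τ H φ φ' A hφ' (withLead I l)) i

theorem isJump_linear (hA : A.det ≠ 0) (hφ' : ∀ i, φ' i = ∑ j, A i j • φ j) (m : ℕ) :
    IsJump K (hcol τ H φ') m ↔ IsJump K (hcol τ H φ) m := by
  have hu : IsUnit (A.map (algebraMap k K)) := by
    rw [Matrix.isUnit_iff_isUnit_det, ← RingHom.mapMatrix_apply, ← RingHom.map_det]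
    exact (isUnit_iff_ne_zero.2 hA).map _
  rw [show hcol τ H φ' = fun i => (Matrix.mulVecLin (A.map (algebraMap k K))) (hcol τ H φ i) from
    funext fun i => hcol_linear τ H φ φ' A hφ' i]
  exact isJump_map _ (Matrix.mulVec_injective_of_isUnit hu) m

end Linear

variable [IsAlgClosed k]

/-- Nonzero `k`-combinations have independent derivative columns: the rows are independent over `K`. -/
theorem rows_independent (hK : IsFunctionField k K) {s : K} {H : K →ₐ[k] PowerSeries K}
    (hH : LocRes.IsHasseFamily s H) {φ : Fin (n + 1) → K} (hφ : LinearIndependent k φ) (a : Fin (n + 1) → K)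
    (ha : ∀ j, ∑ i, a i * LocRes.hasseD H j (φ i) = 0) : a = 0 := by
  classical
  by_contra hne
  obtain ⟨P⟩ := exists_place hK
  obtain ⟨t, ht⟩ := exists_val_eq P (-1)
  obtain ⟨Ht, hHt⟩ := exists_hasse_param hK ht
  obtain ⟨e⟩ := exists_paramExp hK ht
  obtain ⟨b, hb⟩ := hasseD_change hK isGeometric_of_isAlgClosed hH hHt
  -- make everything integral at `P`
  obtain ⟨m, -, hm⟩ := Finset.exists_max_image Finset.univ (fun i => P.1 (φ i)) Finset.univ_nonempty
  set y := (φ m)⁻¹
  have hy : y ≠ 0 := inv_ne_zero (hφ.ne_zero m)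
  have hint : ∀ i, P.1 (y * φ i) ≤ 1 := fun i => by
    rw [map_mul, map_inv₀, inv_mul_le_iff₀ (zero_lt_iff.2 (val_ne_zero P (hφ.ne_zero m))), mul_one]
    exact hm i (Finset.mem_univ i)
  have ha' : ∀ j, ∑ i, a i * LocRes.hasseD Ht j (y * φ i) = 0 := fun j => by
    simp only [hasseD_mul, Finset.mul_sum]
    rw [Finset.sum_comm]
    refine Finset.sum_eq_zero fun p _ => ?_
    have h1 : ∑ i, a i * LocRes.hasseD Ht p.2 (φ i) = 0 := by
      rw [Finset.sum_congr rfl fun i _ => congrArg (a i * ·) (hb p.2 (φ i))]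
      simp only [mul_add, Finset.mul_sum, Finset.sum_add_distrib]
      rw [Finset.sum_comm]
      have h2 : ∀ (c : K) (l : ℕ), ∑ i, a i * (c * LocRes.hasseD H l (φ i)) = 0 := fun c l => by
        rw [Finset.sum_congr rfl fun i _ => mul_left_comm (a i) c _, ← Finset.mul_sum, ha, mul_zero]
      rw [h2, Finset.sum_eq_zero fun l _ => h2 _ l, add_zero]
    rw [Finset.sum_congr rfl fun i _ => mul_left_comm (a i) _ _, ← Finset.mul_sum, h1, mul_zero]
  -- normalise the coefficients
  obtain ⟨q, -, hq⟩ := Finset.exists_max_image Finset.univ (fun i => P.1 (a i)) Finset.univ_nonempty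
  have hq0 : a q ≠ 0 := fun h0 => hne (funext fun i => by
    have := hq i (Finset.mem_univ i)
    rw [h0, map_zero, le_zero_iff, map_eq_zero] at this
    exact this)
  have haint : ∀ i, P.1 (a i / a q) ≤ 1 := fun i => by
    rw [map_div₀]; exact (div_le_one₀ (zero_lt_iff.2 (val_ne_zero P hq0))).2 (hq i (Finset.mem_univ i))
  set f := ∑ i, e.cf 0 (a i / a q) • (y * φ i)
  have hf : f = 0 := by
    by_contra hf0
    have hfint : P.1 f ≤ 1 := P.1.map_sum_le fun i _ => by
      rw [Algebra.smul_def, map_mul]; exact mul_le_one' (P.2.1 _) (hint i)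
    have hall : ∀ j, e.cf j f = 0 := fun j => by
      have h1 : ∑ i, a i / a q * LocRes.hasseD Ht j (y * φ i) = 0 := by
        simp only [div_mul_eq_mul_div]
        rw [← Finset.sum_div, ha', zero_div]
      have h2 := congrArg (e.cf 0) h1
      rw [e.cf_sum, show e.cf 0 (0 : K) = 0 by simp [ParamExp.cf]] at h2
      rw [e.cf_sum, ← h2]
      refine Finset.sum_congr rfl fun i _ => ?_
      rw [e.cf_smul, e.cf_zero_mul (haint i) (e.hasseD_le_one hK ht hHt (hint i) j),
        e.cf_hasseD hK ht hHt (hint i)]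
      simp
    have h3 := (e.le_exp_iff ((P.ord f).toNat + 1)).2 ⟨hfint, fun i _ => hall i⟩
    rw [val_le_exp_iff P hf0] at h3
    omega
  have hli := hφ.map' (LinearMap.mulLeft k y) (LinearMap.ker_eq_bot.2 (mul_right_injective₀ hy))
  have := Fintype.linearIndependent_iff.1 hli _ hf q
  rw [div_self hq0] at this
  simp [ParamExp.cf] at this

theorem span_hcol_eq_top (hK : IsFunctionField k K) {s : K} {H : K →ₐ[k] PowerSeries K}
    (hH : LocRes.IsHasseFamily s H) {φ : Fin (n + 1) → K} (hφ : LinearIndependent k φ) :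
    Submodule.span K (Set.range (hcol τ H φ)) = ⊤ := by
  classical
  by_contra hne
  obtain ⟨f, hf, hker⟩ := Submodule.exists_le_ker_of_lt_top _ (lt_top_iff_ne_top.2 hne)
  refine hf (LinearMap.pi_ext fun i x => ?_)
  have ha : (fun i => f (Pi.single i 1)) = 0 := rows_independent hK hH hφ _ fun j => by
    have h0 : f (hcol τ H φ (j + 1)) = 0 := hker (Submodule.subset_span ⟨j + 1, rfl⟩)
    rw [← h0]
    conv_rhs => rw [pi_eq_sum_univ' (hcol τ H φ (j + 1)), map_sum]
    refine Finset.sum_congr rfl fun i _ => ?_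
    rw [map_smul, smul_eq_mul, mul_comm]
    rfl
  have hx : (Pi.single i x : Fin (n + 1) → K) = x • Pi.single i 1 := by rw [← Pi.single_smul', smul_eq_mul, mul_one]
  rw [hx, map_smul, congrFun ha i]; simp

theorem exists_orders (hK : IsFunctionField k K) {s : K} {H : K →ₐ[k] PowerSeries K}
    (hH : LocRes.IsHasseFamily s H) {φ : Fin (n + 1) → K} (hφ : LinearIndependent k φ) :
    ∃ J : Fin n → ℕ, IsOrders K (hcol τ H φ) J :=
  exists_isOrders (hcol_zero_ne τ hφ H) (span_hcol_eq_top τ hK hH hφ) (Module.finrank_fin_fun K)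

omit [IsAlgClosed k] in
theorem det_orders_ne_zero {H : K →ₐ[k] PowerSeries K} {φ : Fin (n + 1) → K} (hφ : LinearIndependent k φ)
    {J : Fin n → ℕ} (hJ : IsOrders K (hcol τ H φ) J) : (wrMat τ H φ J).det ≠ 0 := by
  rw [wrMat_eq]; exact det_ne_zero_of_linearIndependent (linearIndependent_orders hJ (hcol_zero_ne τ hφ H))

end Groth.Agent.FunFldLib
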