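import Groth.Agent.FunFld.CurveBasic
import Groth.Agent.FunFld.WrOrders

/-!
Birational maps: the conductor at an image point, and the hyperplane criterion.
-/

namespace Groth.Agent.FunFldLib

open FunFld WithZero

variable {k K : Type*} [Field k] [Field K] [Algebra k K] {ι : Type*} {φ : ι → K}

/-- A birational map has a conductor for its coordinate ring at `j`. -/
theorem exists_conductor_birational [Infinite k] (hK : IsFunctionField k K) {D : Divisor k K} (hD : IsMapDiv φ D)
    (j : ι) (hj : φ j ≠ 0) (hnc : ∃ i, φ i / φ j ∉ Set.range (algebraMap k K))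
    (hbir : IntermediateField.adjoin k (Set.range fun i => φ i / φ j) = ⊤) :
    ∃ w : K, w ≠ 0 ∧ ∀ m : ℕ, ∀ a ∈ L ((m : ℤ) • (D + div k (φ j))),
      w * a ∈ Algebra.adjoin k (Set.range fun i => φ i / φ j) := by
  classical
  obtain ⟨h1, hYE, hbpf⟩ := normalise hK hD hj
  set E := D + div k (φ j)
  set R := Algebra.adjoin k (Set.range fun i => φ i / φ j) with hR
  have hE0 : 0 ≤ E := fun Q => by
    have := hYE h1 Q
    rw [map_one, ← exp_zero, exp_le_exp] at this
    exact this
  obtain ⟨i, hi⟩ := hnc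
  have hE : 0 < E.deg := deg_pos_of_not_const hK hE0 (hYE (Submodule.subset_span ⟨i, rfl⟩)) hi
  obtain ⟨N, hN⟩ := exists_span_multiples hK hYE h1 hbpf hE
  rw [Algebra.adjoin_span] at hN
  have hfr : ∀ a : K, ∃ s ∈ R, s ≠ 0 ∧ s * a ∈ R := by
    intro a
    open IntermediateField.algebraAdjoinAdjoin in
    obtain ⟨⟨r, s⟩, hrs⟩ := IsLocalization.surj (M := nonZeroDivisors R)
      (⟨a, hbir ▸ IntermediateField.mem_top⟩ : IntermediateField.adjoin k (Set.range fun i => φ i / φ j))
    refine ⟨(s : R), s.1.2, fun h => nonZeroDivisors.coe_ne_zero s (Subtype.ext h), ?_⟩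
    have h2 : a * ((s : R) : K) = (r : K) := congrArg Subtype.val hrs
    rw [mul_comm, h2]; exact r.2
  choose s hsR hs0 hsa using hfr
  have := finiteDimensional_L hK ((N : ℤ) • E)
  obtain ⟨S, hS⟩ := (Module.Finite.iff_fg.1 this : (L ((N : ℤ) • E)).FG)
  let w := ∏ a ∈ S, s a
  have hw0 : w ≠ 0 := Finset.prod_ne_zero_iff.2 fun a _ => hs0 a
  have hwR : ∀ m : ℕ, ∀ a ∈ L ((m : ℤ) • E), w * a ∈ R := by
    intro m a ha
    have h2 : ∀ b ∈ L ((N : ℤ) • E), w * b ∈ R := by
      intro b hb
      rw [← hS] at hb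
      induction hb using Submodule.span_induction with
      | mem x hx =>
        rw [show w * x = (∏ b ∈ S.erase x, s b) * (s x * x) by
          rw [← mul_assoc, Finset.prod_erase_mul _ _ hx]]
        exact mul_mem (prod_mem fun b _ => hsR b) (hsa x)
      | zero => rw [mul_zero]; exact zero_mem _
      | add x y _ _ hx hy => rw [mul_add]; exact add_mem hx hy
      | smul c x _ hx => rw [Algebra.mul_smul_comm]; exact R.smul_mem hx c
    have h3 := hN m ha
    clear ha
    induction h3 using Submodule.span_induction with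
    | mem x hx => exact h2 x hx
    | zero => rw [mul_zero]; exact zero_mem _
    | add x y _ _ hx hy => rw [mul_add]; exact add_mem hx hy
    | smul c x _ hx =>
      show w * ((c : K) * x) ∈ R
      rw [mul_left_comm]
      exact mul_mem c.2 hx
  exact ⟨w, hw0, hwR⟩

theorem exp_finset_sum {α : Type*} (s : Finset α) (g : α → ℤ) :
    (exp (∑ a ∈ s, g a) : WithZero (Multiplicative ℤ)) = ∏ a ∈ s, exp (g a) := by
  classical
  induction s using Finset.induction_on with
  | empty => simp
  | insert a s ha ih => rw [Finset.sum_insert ha, Finset.prod_insert ha, exp_add, ih]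

section Fin

variable [IsAlgClosed k] (hK : IsFunctionField k K) {n : ℕ} (hn : 1 ≤ n) {φ : Fin (n + 1) → K}
  (hφ : LinearIndependent k φ)

include hn hφ in
omit [IsAlgClosed k] in
theorem exists_ratio_not_const (j : Fin (n + 1)) : ∃ i, φ i / φ j ∉ Set.range (algebraMap k K) := by
  classical
  obtain ⟨i, hi⟩ : ∃ i, i ≠ j := by
    have : Nontrivial (Fin (n + 1)) := Fin.nontrivial_iff_two_le.2 (by omega)
    exact exists_ne j
  refine ⟨i, ?_⟩
  rintro ⟨c, hc⟩
  have h : φ i = c • φ j := by rw [Algebra.smul_def, hc, div_mul_cancel₀ _ (hφ.ne_zero j)]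
  have hl := linearIndependent_iff'.1 hφ {i, j} (fun l => if l = i then 1 else -c) (by
    rw [Finset.sum_pair hi, if_pos rfl, if_neg (Ne.symm hi), one_smul, neg_smul, h, add_neg_cancel]) i (by simp)
  simp at hl

omit [IsAlgClosed k] in
include hφ in
theorem adjoin_ratios_eq_top_affine (j : Fin (n + 1))
    (hbir : IntermediateField.adjoin k (Set.range fun i => φ i / φ 0) = ⊤) :
    IntermediateField.adjoin k (Set.range fun i => φ i / φ j) = ⊤ := by
  rw [eq_top_iff, ← hbir, IntermediateField.adjoin_le_iff]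
  rintro _ ⟨i, rfl⟩
  have h1 := IntermediateField.subset_adjoin k (Set.range fun i => φ i / φ j) ⟨i, rfl⟩
  have h2 := IntermediateField.subset_adjoin k (Set.range fun i => φ i / φ j) ⟨0, rfl⟩
  have := div_mem h1 h2
  rwa [div_div_div_cancel_right₀ (hφ.ne_zero j)] at this

include hK hn hφ in
/-- High zeros on the fibre put a function into the local ring of the image point. -/
theorem exists_bound_inLocRing (hbir : IntermediateField.adjoin k (Set.range fun i => φ i / φ 0) = ⊤)
    (P : Place k K) :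
    ∃ N : ℕ, ∀ z : K, (∀ Q : Place k K, SameImage φ P Q → Q.1 z ≤ exp (-(N : ℤ))) → InLocRing φ P z := by
  classical
  have : Infinite k := IsAlgClosed.instInfinite
  obtain ⟨j, hj, hext⟩ := exists_extremal hφ P
  have hD := isMapDiv_mapDiv hK (fun i => hφ.ne_zero i) (φ := φ)
  set E := mapDiv k φ + div k (φ j) with hE
  obtain ⟨h1, hYE, -⟩ := normalise hK hD hj
  have hLE : ∀ i, φ i / φ j ∈ L E := fun i => hYE (Submodule.subset_span ⟨i, rfl⟩)
  have hE0 : ∀ Q, 0 ≤ E Q := fun Q => by
    have := hYE h1 Q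
    rwa [map_one, ← exp_zero, exp_le_exp] at this
  have hEP : E P = 0 := (extremal_iff hK hD hj P).1 hext
  set R := Algebra.adjoin k (Set.range fun i => φ i / φ j)
  obtain ⟨w, hw0, hwR⟩ := exists_conductor_birational hK hD j hj (exists_ratio_not_const hn hφ j)
    (adjoin_ratios_eq_top_affine hφ j hbir)
  set G := (finite_fibre hK hn hφ P).toFinset
  refine ⟨∑ Q ∈ G, (Q.ord w).natAbs, fun z hz => ?_⟩
  have hG : ∀ Q, SameImage φ P Q → Q.1 (z / w) ≤ 1 := fun Q hQ => by
    have hle : (Q.ord w).natAbs ≤ ∑ Q ∈ G, (Q.ord w).natAbs :=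
      Finset.single_le_sum (f := fun Q : Place k K => (Q.ord w).natAbs) (fun _ _ => Nat.zero_le _)
        ((finite_fibre hK hn hφ P).mem_toFinset.2 hQ)
    rw [map_div₀, val_eq_exp Q hw0, div_le_one₀ exp_pos]
    exact (hz Q hQ).trans (exp_le_exp.2 (by omega))
  have hl : ∀ Q : Place k K, ∃ l ∈ R, P.1 l = 1 ∧ l ∈ L E ∧ (¬ SameImage φ P Q → Q.1 l ≤ exp (E Q - 1)) := by
    intro Q
    rcases eq_or_ne (E Q) 0 with hEQ | hEQ
    · by_cases hQ : SameImage φ P Q
      · exact ⟨1, one_mem R, map_one _, hYE h1, fun h => absurd hQ h⟩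
      have hQj : ∀ i, Q.1 (φ i) ≤ Q.1 (φ j) := (extremal_iff hK hD hj Q).2 hEQ
      obtain ⟨i, hi⟩ : ∃ i, ¬∃ c : k, P.1 (φ i / φ j - algebraMap k K c) < 1 ∧
          Q.1 (φ i / φ j - algebraMap k K c) < 1 := by
        by_contra hno
        push Not at hno
        exact hQ ⟨j, hj, hext, hQj, hno⟩
      have hle : ∀ S : Place k K, (∀ i, S.1 (φ i) ≤ S.1 (φ j)) → S.1 (φ i / φ j) ≤ 1 := fun S hS => by
        rw [map_div₀]; exact div_le_one_of_le₀ (hS i) zero_le
      obtain ⟨c, hc⟩ := exists_sub_const_val_lt_one hK P (deg_eq_one hK P) (hle P hext)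
      obtain ⟨d, hd⟩ := exists_sub_const_val_lt_one hK Q (deg_eq_one hK Q) (hle Q hQj)
      have hcd : c - d ≠ 0 := sub_ne_zero.2 fun h => hi ⟨d, h ▸ hc, hd⟩
      refine ⟨(c - d)⁻¹ • (φ i / φ j - algebraMap k K d),
        R.smul_mem (sub_mem (Algebra.subset_adjoin ⟨i, rfl⟩) (R.algebraMap_mem d)) _, ?_, ?_, fun _ => ?_⟩
      · rw [Algebra.smul_def, map_mul, val_algebraMap P (inv_ne_zero hcd), one_mul,
          show φ i / φ j - algebraMap k K d = algebraMap k K (c - d) + (φ i / φ j - algebraMap k K c) by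
            rw [map_sub]; ring,
          P.1.map_add_eq_of_lt_left (by rw [val_algebraMap P hcd]; exact hc), val_algebraMap P hcd]
      · refine Submodule.smul_mem _ _ (sub_mem (hLE i) ?_)
        rw [Algebra.algebraMap_eq_smul_one]
        exact Submodule.smul_mem _ _ (hYE h1)
      · rw [Algebra.smul_def, map_mul, val_algebraMap Q (inv_ne_zero hcd), one_mul, hEQ, zero_sub]
        rcases eq_or_ne (φ i / φ j - algebraMap k K d) 0 with h | h
        · simp [h]
        · have := (val_lt_one_iff Q h).1 hd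
          rw [val_eq_exp Q h, exp_le_exp]; omega
    · exact ⟨1, one_mem R, map_one _, hYE h1, fun _ => by
        rw [map_one, ← exp_zero, exp_le_exp]; have := hE0 Q; omega⟩
  choose l hlR hlP hlE hlQ using hl
  set B := polesDiv k (z / w)
  have hB : ∀ S, 0 ≤ B S := fun S => polesDiv_nonneg _ S
  set u := ∏ Q ∈ B.support, l Q ^ (B Q).toNat
  set m := ∑ Q ∈ B.support, (B Q).toNat
  have ha : z / w * u ∈ L ((m : ℤ) • E) := fun S => by
    rw [Finsupp.smul_apply, smul_eq_mul, map_mul, map_prod]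
    have hfac : ∀ Q, S.1 (l Q ^ (B Q).toNat) ≤ exp (((B Q).toNat : ℤ) * E S) := fun Q => by
      rw [map_pow]
      refine (pow_le_pow_left₀ zero_le (hlE Q S) _).trans_eq ?_
      rw [← exp_nsmul]; simp
    by_cases hS : S ∈ B.support
    · rw [← Finset.mul_prod_erase _ _ hS]
      have hnot : ¬SameImage φ P S := fun h => by
        have h1 := hG S h
        rw [Finsupp.mem_support_iff, polesDiv_apply hK] at hS
        rcases eq_or_ne (z / w) 0 with h0 | h0
        · rw [h0] at hS; simp at hS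
        · have := (val_le_one_iff S h0).1 h1; omega
      have hv : S.1 (z / w) ≤ exp (B S) := by
        rcases eq_or_ne (z / w) 0 with h0 | h0
        · simp [h0]
        · rw [val_eq_exp S h0, exp_le_exp, polesDiv_apply hK]; omega
      have hsS : S.1 (l S ^ (B S).toNat) ≤ exp (((B S).toNat : ℤ) * (E S - 1)) := by
        rw [map_pow]
        refine (pow_le_pow_left₀ zero_le (hlQ S hnot) _).trans_eq ?_
        rw [← exp_nsmul]; simp
      have hrest : ∏ Q ∈ B.support.erase S, S.1 (l Q ^ (B Q).toNat) ≤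
          exp (∑ Q ∈ B.support.erase S, ((B Q).toNat : ℤ) * E S) := by
        rw [exp_finset_sum]
        exact Finset.prod_le_prod' fun Q _ => hfac Q
      refine (mul_le_mul' hv (mul_le_mul' hsS hrest)).trans_eq ?_
      rw [← exp_add, ← exp_add]
      congr 1
      rw [Nat.cast_sum, Finset.sum_mul, ← Finset.add_sum_erase _ _ hS]
      have := hB S
      rw [mul_sub, Int.toNat_of_nonneg (hB S)]
      ring
    · have hv : S.1 (z / w) ≤ 1 := by
        rw [Finsupp.mem_support_iff, not_not, polesDiv_apply hK] at hS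
        rcases eq_or_ne (z / w) 0 with h0 | h0
        · simp [h0]
        · rw [val_le_one_iff S h0]; omega
      refine (mul_le_of_le_one_left' hv).trans ?_
      rw [Nat.cast_sum, Finset.sum_mul, exp_finset_sum]
      exact Finset.prod_le_prod' fun Q _ => hfac Q
  refine ⟨j, hj, hext, z * u, ?_, u, prod_mem fun Q _ => pow_mem (hlR Q) _, ?_, rfl⟩
  · have := hwR m _ ha
    rwa [← mul_assoc, mul_div_cancel₀ z hw0] at this
  · rw [map_prod]
    exact Finset.prod_eq_one fun Q _ => by rw [map_pow, hlP, one_pow]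

include hK hn hφ in
/-- Nonsingular points are those with a hyperplane of multiplicity one. -/
theorem nonsingular_iff_hyperplane (P : Place k K) :
    IsNonsingularAt φ P ↔ ∃ c : Fin (n + 1) → k, ∑ i, c i • φ i ≠ 0 ∧
      ∑ᶠ Q ∈ {Q : Place k K | SameImage φ P Q}, (mapDiv k φ Q + Q.ord (∑ i, c i • φ i)) = 1 := by
  classical
  obtain ⟨j, hj, hext⟩ := exists_extremal hφ P
  have hD := isMapDiv_mapDiv hK (fun i => hφ.ne_zero i) (φ := φ)
  have hPP : SameImage φ P P := ⟨j, hj, hext, hext, fun i => by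
    obtain ⟨c, hc⟩ := exists_sub_const_val_lt_one hK P (deg_eq_one hK P) (x := φ i / φ j) (by
      rw [map_div₀]; exact div_le_one_of_le₀ (hext i) zero_le)
    exact ⟨c, hc, hc⟩⟩
  have hmd : ∀ Q : Place k K, (∀ i, Q.1 (φ i) ≤ Q.1 (φ j)) → mapDiv k φ Q = -Q.ord (φ j) := fun Q hQ => by
    have := (extremal_iff hK hD hj Q).1 hQ
    rw [Finsupp.add_apply, div_apply hK] at this
    omega
  have hfib : ∀ Q, SameImage φ P Q → ∀ i, Q.1 (φ i) ≤ Q.1 (φ j) := fun Q hQ i => by
    have h := ((sameImage_iff hK hφ P Q).1 hQ (φ i / φ j) ⟨j, hj, hext, φ i / φ j,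
      Algebra.subset_adjoin ⟨i, rfl⟩, 1, one_mem _, map_one _, mul_one _⟩).1
    rwa [map_div₀, div_le_one₀ (zero_lt_iff.2 (val_ne_zero Q hj))] at h
  constructor
  · intro hns
    have hsing : {Q : Place k K | SameImage φ P Q} = {P} := by
      refine Set.eq_singleton_iff_unique_mem.2 ⟨hPP, fun Q hQ => ?_⟩
      exact (place_ext fun x hx => ((sameImage_iff hK hφ P Q).1 hQ x (hns x hx)).1).symm
    obtain ⟨t, ht⟩ := exists_val_eq P (-1)
    obtain ⟨i, c, hic⟩ : ∃ i, ∃ c : k, P.1 (φ i / φ j - algebraMap k K c) = exp (-1) := by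
      by_contra hno
      push Not at hno
      refine no_uniformizer hj hext (fun i => ?_) (hns t (by rw [ht, ← exp_zero, exp_le_exp]; omega)) ht
      obtain ⟨c, hc⟩ := exists_sub_const_val_lt_one hK P (deg_eq_one hK P) (x := φ i / φ j) (by
        rw [map_div₀]; exact div_le_one_of_le₀ (hext i) zero_le)
      refine ⟨c, ?_⟩
      rcases eq_or_ne (φ i / φ j - algebraMap k K c) 0 with h | h
      · simp [h]
      have h2 := hno i c
      rw [val_eq_exp P h, Ne, exp_inj] at h2
      have := (val_lt_one_iff P h).1 hc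
      rw [val_eq_exp P h, exp_le_exp]; omega
    refine ⟨Pi.single i 1 - Pi.single j c, ?_⟩
    have hl : ∑ l, (Pi.single i 1 - Pi.single j c : Fin (n + 1) → k) l • φ l = (φ i / φ j - algebraMap k K c) * φ j := by
      simp only [Pi.sub_apply, sub_smul, Finset.sum_sub_distrib, Pi.single_apply, ite_smul, one_smul, zero_smul,
        Finset.sum_ite_eq', Finset.mem_univ, if_true, sub_mul, div_mul_cancel₀ _ hj, Algebra.smul_def c]
    rw [hl, hsing, finsum_mem_singleton, hmd P hext, ord_mul P (ne_zero_of_val P hic) hj, ord_eq_of_val P hic]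
    exact ⟨mul_ne_zero (ne_zero_of_val P hic) hj, by ring⟩
  · rintro ⟨c, hl0, hsum⟩
    set l := ∑ i, c i • φ i
    have hlY : l ∈ Submodule.span k (Set.range φ) :=
      Submodule.sum_mem _ fun i _ => Submodule.smul_mem _ _ (Submodule.subset_span ⟨i, rfl⟩)
    have hlD : l ∈ L (mapDiv k φ) := Submodule.sum_mem _ fun i _ => Submodule.smul_mem _ _ (hD.1 i)
    have hlR : InLocRing φ P (l / φ j) := by
      refine ⟨j, hj, hext, l / φ j, ?_, 1, one_mem _, map_one _, mul_one _⟩
      rw [Finset.sum_div]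
      refine sum_mem fun i _ => ?_
      rw [smul_div_assoc]
      exact Subalgebra.smul_mem _ (Algebra.subset_adjoin (R := k) (s := Set.range fun i => φ i / φ j) ⟨i, rfl⟩) _
    have hz0 : l / φ j ≠ 0 := div_ne_zero hl0 hj
    have hterm : ∀ Q, SameImage φ P Q → mapDiv k φ Q + Q.ord l = Q.ord (l / φ j) ∧ 0 ≤ Q.ord (l / φ j) ∧
        (0 < Q.ord (l / φ j) ↔ 0 < P.ord (l / φ j)) := fun Q hQ => by
      obtain ⟨h1, h2⟩ := (sameImage_iff hK hφ P Q).1 hQ _ hlR
      refine ⟨by rw [hmd Q (hfib Q hQ), ord_div Q hl0 hj]; ring, (val_le_one_iff Q hz0).1 h1, ?_⟩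
      rwa [val_lt_one_iff Q hz0, val_lt_one_iff P hz0] at h2
    set S := (finite_fibre hK hn hφ P).toFinset with hS
    have hmem : ∀ Q, Q ∈ S ↔ SameImage φ P Q := fun Q => (finite_fibre hK hn hφ P).mem_toFinset
    rw [finsum_mem_eq_finite_toFinset_sum _ (finite_fibre hK hn hφ P),
      Finset.sum_congr rfl fun Q hQ => (hterm Q ((hmem Q).1 hQ)).1] at hsum
    have hPpos : 0 < P.ord (l / φ j) := by
      by_contra hno
      have : ∑ Q ∈ S, Q.ord (l / φ j) = 0 := Finset.sum_eq_zero fun Q hQ => by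
        obtain ⟨-, h2, h3⟩ := hterm Q ((hmem Q).1 hQ)
        have : ¬0 < Q.ord (l / φ j) := fun h => hno (h3.1 h)
        omega
      omega
    have honly : ∀ Q, SameImage φ P Q → Q = P := fun Q hQ => by
      by_contra hne
      have hsub : ({Q, P} : Finset (Place k K)) ⊆ S := by
        intro R hR
        simp only [Finset.mem_insert, Finset.mem_singleton] at hR
        rcases hR with rfl | rfl
        · exact (hmem _).2 hQ
        · exact (hmem _).2 hPP
      have := Finset.sum_le_sum_of_subset_of_nonneg hsub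
        (f := fun R : Place k K => R.ord (l / φ j)) fun R hR _ => (hterm R ((hmem R).1 hR)).2.1
      rw [Finset.sum_pair hne, hsum] at this
      have := (hterm Q hQ).2.2.2 hPpos
      omega
    have hord : P.ord (l / φ j) = 1 := by
      rw [show S = {P} from Finset.ext fun Q => by
        rw [hmem, Finset.mem_singleton]; exact ⟨honly Q, fun h => h ▸ hPP⟩, Finset.sum_singleton] at hsum
      exact hsum
    have hlP : mapDiv k φ P + P.ord l = 1 := by rw [(hterm P hPP).1, hord]
    have hlmem : l ∈ L (mapDiv k φ - Finsupp.single P 1) := fun R => by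
      rcases eq_or_ne R P with rfl | hR
      · rw [val_eq_exp R hl0, exp_le_exp, Finsupp.sub_apply, Finsupp.single_eq_same]; omega
      · rw [Finsupp.sub_apply, Finsupp.single_eq_of_ne hR, sub_zero]; exact hlD R
    refine isNonsingularAt_of_sep hK hD P fun Q => ?_
    rcases eq_or_ne Q P with rfl | hQP
    · refine ⟨l, ⟨hlY, hlmem⟩, ?_⟩
      rw [val_eq_exp Q hl0, exp_inj, Finsupp.sub_apply, Finsupp.single_eq_same]; omega
    by_contra hno
    have hval := same_values_of_not_sep hK hD (deg_eq_one hK P) hj hext hQP hno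
    refine hQP (honly Q ⟨j, hj, hext, fun i => ?_, hval⟩)
    obtain ⟨d, -, hd⟩ := hval i
    have h2 := Q.1.map_add_le hd.le (Q.2.1 d)
    rwa [sub_add_cancel, map_div₀, div_le_one₀ (zero_lt_iff.2 (val_ne_zero Q hj))] at h2

end Fin

end Groth.Agent.FunFldLib
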