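import Groth.Agent.FunFld.Chain

/-!
Members of a linear series vanishing only at two given places.
-/

namespace Groth.Agent.FunFldLib

open FunFld

variable {k K : Type*} [Field k] [Field K] [Algebra k K]

theorem L_sub_single_eq_bot [IsAlgClosed k] (hK : IsFunctionField k K) {D : Divisor k K}
    {P : Place k K} {n : ℤ} (h : D.deg < n) : L (D - Finsupp.single P n) = ⊥ :=
  L_eq_bot_of_deg_neg hK (by rw [deg_sub, deg_single, deg_eq_one hK P]; push_cast; omega)

theorem mem_inf_iff_ord {D : Divisor k K} {V : Submodule k K} (hV : V ≤ L D) {P : Place k K} {v : K}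
    (hv0 : v ≠ 0) (n : ℤ) :
    v ∈ V ⊓ L (D - Finsupp.single P n) ↔ v ∈ V ∧ n ≤ P.ord v + D P := by
  refine ⟨fun h => ⟨h.1, (mem_L_sub_single hv0 n (hV h.1)).1 h.2⟩, fun h => ⟨h.1, ?_⟩⟩
  exact (mem_L_sub_single hv0 n (hV h.1)).2 h.2

/-- Enough vanishing at two places gives a member with divisor supported there. -/
theorem exists_supported [IsAlgClosed k] (hK : IsFunctionField k K) {V : Submodule k K}
    {D : Divisor k K} (hV : V ≤ L D) {d : ℕ} (hd : D.deg = d) {P Q : Place k K} (hPQ : P ≠ Q)
    {a b : ℕ} (hab : a + b = d)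
    (h : Module.finrank k V < Module.finrank k ↥(V ⊓ L (D - Finsupp.single P (a : ℤ))) +
      Module.finrank k ↥(V ⊓ L (D - Finsupp.single Q (b : ℤ)))) :
    ∃ f ∈ V, f ≠ 0 ∧ ∀ R, (div k f + D) R = (Finsupp.single P (a : ℤ) + Finsupp.single Q (b : ℤ) :
      Divisor k K) R := by
  classical
  have := finiteDimensional_L hK D
  have hfV : FiniteDimensional k V := Submodule.finiteDimensional_of_le hV
  set X := V ⊓ L (D - Finsupp.single P (a : ℤ)) with hX
  set Y := V ⊓ L (D - Finsupp.single Q (b : ℤ)) with hY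
  have : FiniteDimensional k X := Submodule.finiteDimensional_of_le inf_le_left
  have : FiniteDimensional k Y := Submodule.finiteDimensional_of_le inf_le_left
  have h1 := Submodule.finrank_sup_add_finrank_inf_eq X Y
  have h2 : Module.finrank k ↥(X ⊔ Y) ≤ Module.finrank k V :=
    Submodule.finrank_mono (sup_le inf_le_left inf_le_left)
  have h3 : X ⊓ Y ≠ ⊥ := fun h' => by rw [h', finrank_bot] at h1; omega
  obtain ⟨f, hf, hf0⟩ := (Submodule.ne_bot_iff _).1 h3
  refine ⟨f, hf.1.1, hf0, fun R => ?_⟩
  have hP := ((mem_inf_iff_ord hV hf0 _).1 hf.1).2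
  have hQ := ((mem_inf_iff_ord hV hf0 _).1 hf.2).2
  have hle : (Finsupp.single P (a : ℤ) + Finsupp.single Q (b : ℤ) : Divisor k K) ≤ div k f + D := by
    intro S
    rw [Finsupp.add_apply, Finsupp.add_apply, div_apply hK]
    rcases eq_or_ne S P with rfl | hSP
    · rw [Finsupp.single_eq_same, Finsupp.single_eq_of_ne hPQ, add_zero]; exact hP
    · rcases eq_or_ne S Q with rfl | hSQ
      · rw [Finsupp.single_eq_same, Finsupp.single_eq_of_ne hSP, zero_add]; exact hQ
      · rw [Finsupp.single_eq_of_ne hSP, Finsupp.single_eq_of_ne hSQ, add_zero]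
        have := (mem_L_iff hf0).1 (hV hf.1.1) S
        omega
  rw [eq_of_le_of_deg_le hK hle]
  rw [deg_add, deg_add, deg_div hK, deg_single, deg_single, deg_eq_one hK P, deg_eq_one hK Q, hd]
  push_cast; omega

/-- A cusp excludes a non-constant function with divisor supported at two other places. -/
theorem eq_smul_of_cusp [IsAlgClosed k] [CharZero k] (hK : IsFunctionField k K) (hg : genus k K = 0)
    {V : Submodule k K} {D : Divisor k K} (hV : V ≤ L D) {d r : ℕ} (hd : D.deg = d)
    (hr : Module.finrank k V = r + 1) {Q : Place k K}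
    (hc : r ≤ Module.finrank k ↥(V ⊓ L (D - Finsupp.single Q (2 : ℤ))))
    {P P' : Place k K} (hP : P ≠ Q) (hP' : P' ≠ Q) {f g : K} (hf : f ∈ V) (hg' : g ∈ V) (hf0 : f ≠ 0)
    (hg0 : g ≠ 0) (hfs : ∀ R : Place k K, R ≠ P → R ≠ P' → (div k f + D) R = 0)
    (hgs : ∀ R : Place k K, R ≠ P → R ≠ P' → (div k g + D) R = 0) : ∃ c : k, g = c • f := by
  classical
  by_contra hne
  push Not at hne
  have hgf : g / f ≠ 0 := div_ne_zero hg0 hf0
  have hordh : ∀ R, R ≠ P → R ≠ P' → R.ord (g / f) = 0 := fun R h h' => by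
    have h1 := hfs R h h'; have h2 := hgs R h h'
    rw [Finsupp.add_apply, div_apply hK] at h1 h2
    rw [ord_div R hg0 hf0]; omega
  have hnc : g / f ∉ Set.range (algebraMap k K) := by
    rintro ⟨c, hc'⟩
    exact hne c (by rw [Algebra.smul_def, hc', div_mul_cancel₀ _ hf0])
  -- a combination with a double zero at `Q`
  have hlt : Submodule.span k (Set.range ![f, g]) ⊓ (V ⊓ L (D - Finsupp.single Q (2 : ℤ))) ≠ ⊥ := by
    intro h0
    have := finiteDimensional_L hK D
    have hfV : FiniteDimensional k V := Submodule.finiteDimensional_of_le hV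
    have hS : Submodule.span k (Set.range ![f, g]) ≤ V := by
      rw [Submodule.span_le]; rintro _ ⟨i, rfl⟩; fin_cases i <;> simpa
    have hli : LinearIndependent k ![f, g] := by
      rw [linearIndependent_fin2]
      refine ⟨hg0, fun a ha => ?_⟩
      simp only [Matrix.cons_val_one, Matrix.cons_val_zero] at ha
      rcases eq_or_ne a 0 with rfl | ha0
      · rw [zero_smul] at ha; exact hf0 ha.symm
      · exact hne a⁻¹ (by rw [← ha, inv_smul_smul₀ ha0])
    have : FiniteDimensional k ↥(Submodule.span k (Set.range ![f, g])) :=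
      Submodule.finiteDimensional_of_le hS
    have : FiniteDimensional k ↥(V ⊓ L (D - Finsupp.single Q (2 : ℤ))) :=
      Submodule.finiteDimensional_of_le inf_le_left
    have h1 := Submodule.finrank_sup_add_finrank_inf_eq (Submodule.span k (Set.range ![f, g]))
      (V ⊓ L (D - Finsupp.single Q (2 : ℤ)))
    have h2 : Module.finrank k ↥(Submodule.span k (Set.range ![f, g]) ⊔
        (V ⊓ L (D - Finsupp.single Q (2 : ℤ)))) ≤ Module.finrank k V :=
      Submodule.finrank_mono (sup_le hS inf_le_left)
    rw [h0, finrank_bot, finrank_span_eq_card hli, Fintype.card_fin] at h1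
    omega
  obtain ⟨u, hu, hu0⟩ := (Submodule.ne_bot_iff _).1 hlt
  obtain ⟨c, hc'⟩ := (Submodule.mem_span_range_iff_exists_fun k).1 hu.1
  simp only [Fin.sum_univ_two, Matrix.cons_val_zero, Matrix.cons_val_one] at hc'
  set W : Submodule k K := Submodule.span k (Set.range ![(1 : K), g / f]) with hW
  -- its degree
  set E : Divisor k K := polesDiv k (g / f) with hE
  have hE0 : 0 ≤ E := polesDiv_nonneg _
  have hhE : g / f ∈ L E := (mem_L_iff hgf).2 fun R => by
    rw [hE, polesDiv_apply hK]; omega
  have hWE : W ≤ L E := by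
    rw [hW, Submodule.span_le]; rintro _ ⟨i, rfl⟩
    fin_cases i
    · have : (1 : K) ∈ L (0 : Divisor k K) := by rw [L_zero hK]; exact Submodule.one_le.1 le_rfl
      simpa using L_mono hE0 this
    · simpa using hhE
  have hliW : LinearIndependent k ![(1 : K), g / f] := by
    rw [linearIndependent_fin2]
    refine ⟨hgf, fun a ha => ?_⟩
    simp only [Matrix.cons_val_one, Matrix.cons_val_zero] at ha
    rcases eq_or_ne a 0 with rfl | ha0
    · simp at ha
    · exact hnc ⟨a⁻¹, by rw [Algebra.algebraMap_eq_smul_one, ← ha, inv_smul_smul₀ ha0]⟩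
  have hWr : Module.finrank k W = 1 + 1 := by
    rw [hW, finrank_span_eq_card hliW, Fintype.card_fin]
  obtain ⟨n, hn⟩ : ∃ n : ℕ, E.deg = n := ⟨E.deg.toNat, (Int.toNat_of_nonneg (deg_nonneg hE0)).symm⟩
  -- total weight: `n - 1` at each of `P`, `P'`, and `1` at `Q`
  have hbig : ∀ R : Place k K, (∀ S, S ≠ R → S.ord (g / f) ≤ 0) ∨
      (∀ S, S ≠ R → 0 ≤ S.ord (g / f)) → n ≤ wsum W E R n := by
    intro R hR
    obtain ⟨v, hv, hv0, hvR⟩ : ∃ v ∈ W, v ≠ 0 ∧ (n : ℤ) ≤ R.ord v + E R := by
      rcases hR with hR | hR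
      · refine ⟨g / f, Submodule.subset_span ⟨1, rfl⟩, hgf, ?_⟩
        have h0 := nonneg_of_mem_L hK hgf hhE
        have h1 : E + div k (g / f) = Finsupp.single R ((E + div k (g / f)) R) := by
          ext S
          rcases eq_or_ne S R with rfl | hS
          · simp
          · rw [Finsupp.single_eq_of_ne hS, Finsupp.add_apply, div_apply hK, hE, polesDiv_apply hK]
            have := hR S hS; omega
        have h2 := congrArg Divisor.deg h1
        rw [deg_add, deg_div hK, deg_single, deg_eq_one hK R, Finsupp.add_apply, div_apply hK, hn] at h2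
        push_cast at h2; omega
      · refine ⟨1, Submodule.subset_span ⟨0, rfl⟩, one_ne_zero, ?_⟩
        have h1 : E = Finsupp.single R (E R) := by
          ext S
          rcases eq_or_ne S R with rfl | hS
          · simp
          · rw [Finsupp.single_eq_of_ne hS, hE, polesDiv_apply hK]
            have := hR S hS; omega
        have h2 := congrArg Divisor.deg h1
        rw [deg_single, deg_eq_one hK R, hn] at h2
        have h3 : R.ord (1 : K) = 0 := by
          rw [ord_eq_of_val R (n := 0) (by simp)]; rfl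
        push_cast at h2; omega
    have hone : ∀ i ∈ Finset.range n,
        1 ≤ Module.finrank k ↥(W ⊓ L (E - Finsupp.single R ((i : ℤ) + 1))) := fun i hi => by
      rw [Finset.mem_range] at hi
      have := finiteDimensional_L hK E
      have : FiniteDimensional k ↥(W ⊓ L (E - Finsupp.single R ((i : ℤ) + 1))) :=
        Submodule.finiteDimensional_of_le (inf_le_left.trans hWE)
      refine Submodule.one_le_finrank_iff.2 ((Submodule.ne_bot_iff _).2 ⟨v, ?_, hv0⟩)
      exact (mem_inf_iff_ord hWE hv0 _).2 ⟨hv, by omega⟩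
    simpa [wsum] using Finset.sum_le_sum hone
  have hPP' : P ≠ P' := fun h => hnc (mem_range_of_ord_nonneg hK fun R => by
    rcases eq_or_ne R P with rfl | hR
    · have := deg_div hK (g / f)
      have h1 : div k (g / f) = Finsupp.single R (R.ord (g / f)) := by
        ext S
        rcases eq_or_ne S R with rfl | hS
        · simp [div_apply hK]
        · rw [Finsupp.single_eq_of_ne hS, div_apply hK, hordh S hS (h ▸ hS)]
      rw [h1, deg_single, deg_eq_one hK R] at this
      push_cast at this; omega
    · rw [hordh R hR (h ▸ hR)])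
  have hsign : (∀ S, S ≠ P → S.ord (g / f) ≤ 0) ∧ (∀ S, S ≠ P' → 0 ≤ S.ord (g / f)) ∨
      (∀ S, S ≠ P' → S.ord (g / f) ≤ 0) ∧ (∀ S, S ≠ P → 0 ≤ S.ord (g / f)) := by
    have h1 : div k (g / f) = Finsupp.single P (P.ord (g / f)) + Finsupp.single P' (P'.ord (g / f)) := by
      ext S
      rcases eq_or_ne S P with rfl | hS
      · simp [div_apply hK, Finsupp.single_eq_of_ne hPP']
      rcases eq_or_ne S P' with rfl | hS'
      · simp [div_apply hK, Finsupp.single_eq_of_ne hS]
      · simp [div_apply hK, Finsupp.single_eq_of_ne hS, Finsupp.single_eq_of_ne hS', hordh S hS hS']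
    have h2 := deg_div hK (g / f)
    rw [h1, deg_add, deg_single, deg_single, deg_eq_one hK P, deg_eq_one hK P'] at h2
    push_cast at h2
    rcases le_or_gt 0 (P.ord (g / f)) with h | h
    · refine .inl ⟨fun S hS => ?_, fun S hS => ?_⟩
      · rcases eq_or_ne S P' with rfl | hS'
        · omega
        · rw [hordh S hS hS']
      · rcases eq_or_ne S P with rfl | hS'
        · omega
        · rw [hordh S hS' hS]
    · refine .inr ⟨fun S hS => ?_, fun S hS => ?_⟩
      · rcases eq_or_ne S P with rfl | hS'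
        · omega
        · rw [hordh S hS' hS]
      · rcases eq_or_ne S P' with rfl | hS'
        · omega
        · rw [hordh S hS hS']
  have hwPP : n ≤ wsum W E P n ∧ n ≤ wsum W E P' n := by
    rcases hsign with ⟨h, h'⟩ | ⟨h, h'⟩
    · exact ⟨hbig P (.inl h), hbig P' (.inr h')⟩
    · exact ⟨hbig P (.inr h'), hbig P' (.inl h)⟩
  have hwQ : 1 * (1 + 1) / 2 + 1 ≤ wsum W E Q n := by
    refine wsum_ge_of_cusp hK (deg_eq_one hK Q) hWE hn hWr ?_
    have := finiteDimensional_L hK E
    have : FiniteDimensional k ↥(W ⊓ L (E - Finsupp.single Q (2 : ℤ))) :=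
      Submodule.finiteDimensional_of_le (inf_le_left.trans hWE)
    refine Submodule.one_le_finrank_iff.2 ((Submodule.ne_bot_iff _).2 ⟨u / f, ?_, div_ne_zero hu0 hf0⟩)
    refine (mem_inf_iff_ord hWE (div_ne_zero hu0 hf0) _).2 ⟨?_, ?_⟩
    · refine (Submodule.mem_span_range_iff_exists_fun k).2 ⟨c, ?_⟩
      simp only [Fin.sum_univ_two, Matrix.cons_val_zero, Matrix.cons_val_one, ← hc', add_div,
        Algebra.smul_def, mul_one, mul_div_assoc, div_self hf0]
    · have h1 := ((mem_inf_iff_ord hV hu0 _).1 hu.2).2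
      have h2 := hfs Q hP.symm hP'.symm
      rw [Finsupp.add_apply, div_apply hK] at h2
      rw [ord_div Q hu0 hf0, hE, polesDiv_apply hK, hordh Q hP.symm hP'.symm]
      omega
  have h := plucker hK hg hWE hn hWr {P, P', Q}
  rw [Finset.sum_insert (by simp [hPP', hP]), Finset.sum_insert (by simp [hP']), Finset.sum_singleton,
    Finset.card_insert_of_notMem (by simp [hPP', hP]), Finset.card_insert_of_notMem (by simp [hP']),
    Finset.card_singleton] at h
  omega

/-- Large weights at two places give two members supported there. -/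
theorem exists_principal_of_weights [IsAlgClosed k] (hK : IsFunctionField k K) {V : Submodule k K}
    {D : Divisor k K} (hV : V ≤ L D) {d r : ℕ} (hd : D.deg = d) (hr : Module.finrank k V = r + 1)
    {P Q : Place k K} (hPQ : P ≠ Q) (hw : (r + 1) * d + 1 ≤ wsum V D P d + wsum V D Q d + r) :
    ∃ m : ℕ, 1 ≤ m ∧ m ≤ d ∧ ∃ h : K, h ≠ 0 ∧
      div k h = Finsupp.single Q (m : ℤ) - Finsupp.single P (m : ℤ) := by
  classical
  obtain ⟨m, v, hinj, hmd, -, -, -, -, -, -, hdim⟩ := exists_adapted hK (deg_eq_one hK P) hV hd hr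
  set a := fun n : ℕ => Module.finrank k ↥(V ⊓ L (D - Finsupp.single P ((n : ℤ) + 1))) +
    Module.finrank k ↥(V ⊓ L (D - Finsupp.single Q (((d - 1 - n : ℕ) : ℤ) + 1))) with ha
  have hsum : ∑ n ∈ Finset.range d, a n = wsum V D P d + wsum V D Q d := by
    rw [wsum, wsum, ← Finset.sum_range_reflect
      (fun n => Module.finrank k ↥(V ⊓ L (D - Finsupp.single Q ((n : ℤ) + 1)))), ← Finset.sum_add_distrib]
  have hle : ∀ n ∈ Finset.range d, a n ≤ r + 1 := fun n hn => by
    rw [Finset.mem_range] at hn
    have := finrank_add_finrank_le hK (deg_eq_one hK P) (deg_eq_one hK Q) hPQ hV hd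
      (n := n + 1) (m := d - 1 - n + 1) (by omega)
    rw [hr] at this
    push_cast at this
    exact this
  set bad := (Finset.range d).filter fun n => a n < r + 1 with hbad
  have hbadcard : bad.card + 1 ≤ r := by
    have h1 : ∑ n ∈ Finset.range d, a n + bad.card ≤ ∑ _n ∈ Finset.range d, (r + 1) := by
      rw [hbad, Finset.card_filter, ← Finset.sum_add_distrib]
      exact Finset.sum_le_sum fun n hn => by have := hle n hn; split_ifs <;> omega
    rw [hsum, Finset.sum_const, Finset.card_range, smul_eq_mul, mul_comm] at h1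
    omega
  have hgood : ∀ i, m i ∉ bad → ∃ f ∈ V, f ≠ 0 ∧ ∀ R, (div k f + D) R =
      (Finsupp.single P (m i : ℤ) + Finsupp.single Q ((d - m i : ℕ) : ℤ) : Divisor k K) R := by
    intro i hi
    refine exists_supported hK hV hd hPQ (by have := hmd i; omega) ?_
    have h1 : Module.finrank k ↥(V ⊓ L (D - Finsupp.single P (m i : ℤ))) =
        Module.finrank k ↥(V ⊓ L (D - Finsupp.single P ((m i + 1 : ℕ) : ℤ))) + 1 := by
      rw [hdim, hdim, ← Finset.card_insert_of_notMem (a := i) (by simp)]
      congr 1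
      ext j; simp only [Finset.mem_filter, Finset.mem_univ, true_and, Finset.mem_insert]
      constructor
      · intro h
        rcases eq_or_lt_of_le h with h | h
        · exact .inl (hinj h.symm)
        · exact .inr h
      · rintro (rfl | h) <;> omega
    rw [hr, h1]
    rcases eq_or_lt_of_le (hmd i) with h | h
    · rw [h, Nat.sub_self, Nat.cast_zero, Finsupp.single_zero, sub_zero, inf_eq_left.2 hV, hr]
      omega
    · have h2 : a (m i) = r + 1 := le_antisymm (hle _ (Finset.mem_range.2 h))
        (not_lt.1 fun h' => hi (Finset.mem_filter.2 ⟨Finset.mem_range.2 h, h'⟩))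
      simp only [ha] at h2
      rw [show ((d - 1 - m i : ℕ) : ℤ) + 1 = ((d - m i : ℕ) : ℤ) by omega] at h2
      push_cast
      omega
  have hcard : 1 < (Finset.univ.filter fun i => m i ∉ bad).card := by
    have h1 : (Finset.univ.filter fun i => m i ∈ bad).card ≤ bad.card :=
      Finset.card_le_card_of_injOn m (fun i hi => by simp at hi; exact hi) hinj.injOn
    have h2 := Finset.card_filter_add_card_filter_not (s := Finset.univ) fun i => m i ∈ bad
    rw [Finset.card_univ, Fintype.card_fin] at h2
    omega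
  obtain ⟨i, hi, j, hj, hij⟩ := Finset.one_lt_card.1 hcard
  simp only [Finset.mem_filter, Finset.mem_univ, true_and] at hi hj
  wlog hlt : m i < m j generalizing i j
  · apply this j i <;> first | assumption | exact hij.symm | exact (lt_of_le_of_ne (not_lt.1 hlt) fun h => hij (hinj h.symm))
  obtain ⟨f, -, hf0, hf⟩ := hgood i hi
  obtain ⟨g, -, hg0, hg⟩ := hgood j hj
  refine ⟨m j - m i, by omega, by have := hmd j; omega, f / g, div_ne_zero hf0 hg0, ?_⟩
  ext R
  have h1 := hf R; have h2 := hg R
  have := hmd i; have := hmd j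
  simp only [Finsupp.add_apply, div_apply hK] at h1 h2
  rw [Finsupp.sub_apply, div_apply hK, ord_div R hf0 hg0]
  rcases eq_or_ne R P with rfl | hRP
  · simp only [Finsupp.single_eq_same, Finsupp.single_eq_of_ne hPQ] at h1 h2 ⊢; omega
  rcases eq_or_ne R Q with rfl | hRQ
  · simp only [Finsupp.single_eq_same, Finsupp.single_eq_of_ne hRP] at h1 h2 ⊢; omega
  · simp only [Finsupp.single_eq_of_ne hRQ, Finsupp.single_eq_of_ne hRP] at h1 h2 ⊢; omega

end Groth.Agent.FunFldLib
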