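import Groth.Agent.FunFld.ConstNormal
import Groth.Agent.FunFld.Hyperelliptic
import Mathlib.RingTheory.Polynomial.ScaleRoots
import Mathlib.LinearAlgebra.BilinearForm.Properties
import Mathlib.RingTheory.Trace.Basic
import Mathlib.FieldTheory.IsAlgClosed.AlgebraicClosure

/-!
All but finitely many places stay normal in every constant extension.
-/

namespace Groth.Agent.FunFldLib

open FunFld WithZero TensorProduct

attribute [local instance 2000] Algebra.toModule

universe u v

/-- The structure map `O_P → K ⊗ k'`. -/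
noncomputable def toTen {k : Type*} {K : Type*} [Field k] [Field K] [Algebra k K] (k' : Type*) [Field k']
    [Algebra k k'] (P : Place k K) : P.O →+* K ⊗[k] k' :=
  (algebraMap K (K ⊗[k] k')).comp P.O.subtype

section Rat

variable {k : Type*} [Field k] (k' : Type*) [Field k'] [Algebra k k']

theorem mapRat_injective : Function.Injective
    (IsScalarTower.toAlgHom k (Polynomial k') (RatFunc k') |>.comp (Polynomial.mapAlgHom (Algebra.ofId k k'))) := by
  intro p q h
  exact Polynomial.map_injective _ (algebraMap k k').injective (RatFunc.algebraMap_injective k' h)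

/-- `k(X) → k'(X)`. -/
noncomputable def mapRat : RatFunc k →ₐ[k] RatFunc k' := IsFractionRing.liftAlgHom (mapRat_injective (k := k) k')

theorem mapRat_pol (p : Polynomial k) :
    mapRat (k := k) k' (polR p) = polR (p.map (algebraMap k k')) :=
  IsFractionRing.lift_algebraMap (mapRat_injective (k := k) k') p

/-- `k(X) ⊗ k' → k'(X)`. -/
noncomputable def ratTen : RatFunc k ⊗[k] k' →ₐ[k] RatFunc k' :=
  Algebra.TensorProduct.lift (mapRat k') (IsScalarTower.toAlgHom k k' (RatFunc k')) fun _ _ => .all _ _

variable [FiniteDimensional k k']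

theorem ratTen_injective : Function.Injective (ratTen (k := k) k') := by
  classical
  rw [injective_iff_map_eq_zero]
  intro t ht
  let b := Module.finBasis k k'
  let B := Algebra.TensorProduct.basis (RatFunc k) b
  set z := fun i => B.repr t i
  have hdec : t = ∑ i, z i ⊗ₜ[k] b i := by
    conv_lhs => rw [← B.sum_repr t]
    exact Finset.sum_congr rfl fun i _ => by
      rw [Algebra.TensorProduct.basis_apply, TensorProduct.smul_tmul', smul_eq_mul, mul_one]
  set D := ∏ i, (z i).denom
  have hD : D ≠ 0 := Finset.prod_ne_zero_iff.2 fun i _ => (z i).denom_ne_zero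
  have hq : ∀ i, ∃ p : Polynomial k, polR D * z i = polR p := fun i => by
    obtain ⟨r, hr⟩ := Finset.dvd_prod_of_mem (fun i => (z i).denom) (Finset.mem_univ i)
    refine ⟨(z i).num * r, ?_⟩
    have h1 : z i * algebraMap _ _ (z i).denom = algebraMap _ _ (z i).num := by
      conv_lhs => rw [← RatFunc.num_div_denom (z i)]
      rw [RatFunc.num_div_denom]
      nth_rw 1 [← RatFunc.num_div_denom (z i)]
      rw [div_mul_cancel₀ _ (by simpa using (z i).denom_ne_zero)]
    rw [show D = (z i).denom * r from hr, polR, polR, map_mul, map_mul]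
    linear_combination algebraMap (Polynomial k) (RatFunc k) r * h1
  choose p hp using hq
  have h0 : ∑ i, Polynomial.C (b i) * (p i).map (algebraMap k k') = 0 := by
    apply RatFunc.algebraMap_injective k'
    rw [map_sum, map_zero]
    have h1 := congrArg (fun s => mapRat (k := k) k' (polR D) * s) ht
    simp only [mul_zero, hdec, map_sum, Finset.mul_sum] at h1
    refine (Finset.sum_congr rfl fun i _ => ?_).trans h1
    rw [ratTen, Algebra.TensorProduct.lift_tmul, ← mul_assoc, ← map_mul (mapRat (k := k) k'), hp, mapRat_pol,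
      map_mul, mul_comm]
    rfl
  have hp0 : ∀ i, p i = 0 := fun i => Polynomial.ext fun n => by
    rw [Polynomial.coeff_zero]
    refine linearIndependent_iff'.1 b.linearIndependent Finset.univ (fun j => (p j).coeff n) ?_ i (Finset.mem_univ i)
    have hn := congrArg (fun q : Polynomial k' => q.coeff n) h0
    simp only [Polynomial.finsetSum_coeff, Polynomial.coeff_C_mul, Polynomial.coeff_map, Polynomial.coeff_zero] at hn
    rw [← hn]
    exact Finset.sum_congr rfl fun j _ => by rw [Algebra.smul_def, mul_comm]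
  rw [hdec]
  refine Finset.sum_eq_zero fun i _ => ?_
  have := hp i
  rw [hp0 i, polR, polR, map_zero, mul_eq_zero, map_eq_zero_iff _ (RatFunc.algebraMap_injective k)] at this
  rw [this.resolve_left hD, TensorProduct.zero_tmul]

/-- Finite places of `k(X)` stay normal in constant extensions. -/
theorem rat_regular (P : Place k (RatFunc k)) (hX : P.1 RatFunc.X ≤ 1) {u : RatFunc k ⊗[k] k'}
    (hu : (toTen k' P).IsIntegralElem u) : u ∈ (inclS k' P).range := by
  classical
  obtain ⟨p, hmon, hp⟩ := hu
  have hden : ∀ a : P.O, P.1 (polR (a : RatFunc k).denom) = 1 := fun a => by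
    refine le_antisymm (rat_val_pol_le_one P hX _) (not_lt.1 fun hlt => ?_)
    set z : RatFunc k := (a : RatFunc k)
    obtain ⟨q, hq, hqd, hqv⟩ := rat_exists_prime P z.denom_ne_zero hlt
    have hnd : ¬ q ∣ z.num := fun h => hq.not_isUnit ((RatFunc.isCoprime_num_denom z).isUnit_of_dvd' h hqd)
    have h3 := congrArg P.1 (RatFunc.num_div_denom z)
    rw [map_div₀, show P.1 (algebraMap (Polynomial k) (RatFunc k) z.num) = 1 from rat_val_eq_one P hq hqv hnd] at h3
    have ha : P.1 z ≤ 1 := a.2
    rw [← h3, one_div, inv_le_one₀ (zero_lt_iff.2 (val_ne_zero P (by simpa using z.denom_ne_zero)))] at ha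
    exact absurd hlt (not_lt.2 ha)
  set r := ∏ i ∈ Finset.range p.natDegree, ((p.coeff i : P.O) : RatFunc k).denom
  have hr : P.1 (polR r) = 1 := by
    rw [polR, map_prod, map_prod]
    exact Finset.prod_eq_one fun i _ => hden _
  have hr0 : polR r ≠ 0 := fun h => by rw [h, map_zero] at hr; exact zero_ne_one hr
  set w : RatFunc k ⊗[k] k' := algebraMap (RatFunc k) _ (polR r) * u
  -- coefficients after scaling
  have hco : ∀ i, ∃ q : Polynomial k, ((p.coeff i : P.O) : RatFunc k) * polR r ^ (p.natDegree - i) = polR q := fun i => by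
    rcases lt_trichotomy i p.natDegree with hi | rfl | hi
    · obtain ⟨s, hs⟩ := Finset.dvd_prod_of_mem (fun i => ((p.coeff i : P.O) : RatFunc k).denom) (Finset.mem_range.2 hi)
      obtain ⟨l, hl⟩ : ∃ l, p.natDegree - i = l + 1 := ⟨p.natDegree - i - 1, by omega⟩
      set z : RatFunc k := ((p.coeff i : P.O) : RatFunc k)
      refine ⟨z.num * s * r ^ l, ?_⟩
      have h1 : z * algebraMap _ _ z.denom = algebraMap _ _ z.num := by
        nth_rw 1 [← RatFunc.num_div_denom z]
        rw [div_mul_cancel₀ _ (by simpa using z.denom_ne_zero)]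
      have h2 : polR r = algebraMap _ _ z.denom * algebraMap _ _ s := by rw [← map_mul, ← hs]
      simp only [polR] at h2 ⊢
      rw [hl, pow_succ', map_mul, map_mul, map_pow, ← h1]
      nth_rw 1 [h2]
      ring
    · exact ⟨1, by rw [hmon.coeff_natDegree]; simp⟩
    · exact ⟨0, by rw [Polynomial.coeff_eq_zero_of_natDegree_lt hi]; simp⟩
  choose q hq using hco
  have hwroot : ∑ i ∈ Finset.range (p.natDegree + 1), algebraMap (RatFunc k) _ (polR (q i)) * w ^ i = 0 := by
    have h := hp
    rw [Polynomial.eval₂_eq_sum_range] at h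
    have h2 := congrArg (fun s => algebraMap (RatFunc k) (RatFunc k ⊗[k] k') (polR r) ^ p.natDegree * s) h
    simp only [mul_zero, Finset.mul_sum] at h2
    refine (Finset.sum_congr rfl fun i hi => ?_).trans h2
    rw [← hq, map_mul, map_pow, show toTen k' P (p.coeff i) = algebraMap (RatFunc k) _ ((p.coeff i : P.O) : RatFunc k) from rfl]
    rw [Finset.mem_range] at hi
    obtain ⟨l, hl⟩ := Nat.le.dest (Nat.lt_succ_iff.1 hi)
    rw [show w = algebraMap (RatFunc k) _ (polR r) * u from rfl, mul_pow, ← hl, Nat.add_sub_cancel_left, pow_add]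
    ring
  -- in `k'(X)`
  have hint : IsIntegral (Polynomial k') (ratTen (k := k) k' w) := by
    refine ⟨Polynomial.X ^ p.natDegree + ∑ i ∈ Finset.range p.natDegree,
      Polynomial.C ((q i).map (algebraMap k k')) * Polynomial.X ^ i, ?_, ?_⟩
    · refine Polynomial.monic_X_pow_add ((Polynomial.degree_sum_le _ _).trans_lt ?_)
      rw [Finset.sup_lt_iff (WithBot.bot_lt_coe _)]
      intro i hi
      exact (Polynomial.degree_C_mul_X_pow_le _ _).trans_lt (by exact_mod_cast Finset.mem_range.1 hi)
    · have h := congrArg (ratTen (k := k) k') hwroot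
      rw [map_zero, map_sum, Finset.sum_range_succ] at h
      have hterm : ∀ i, ratTen (k := k) k' (algebraMap (RatFunc k) _ (polR (q i))) =
          algebraMap (Polynomial k') (RatFunc k') ((q i).map (algebraMap k k')) := fun i => by
        show ratTen (k := k) k' (polR (q i) ⊗ₜ 1) = _
        rw [ratTen, Algebra.TensorProduct.lift_tmul, map_one, mul_one, mapRat_pol]
      simp only [map_mul, map_pow, hterm] at h
      have hlast : algebraMap (Polynomial k') (RatFunc k') ((q p.natDegree).map (algebraMap k k')) = 1 := by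
        have h1 := hq p.natDegree
        rw [hmon.coeff_natDegree, Nat.sub_self, pow_zero, mul_one, OneMemClass.coe_one, polR, ← map_one (algebraMap (Polynomial k) (RatFunc k))] at h1
        rw [← RatFunc.algebraMap_injective k h1, Polynomial.map_one, map_one]
      rw [hlast, one_mul, add_comm] at h
      simpa [Polynomial.eval₂_add, Polynomial.eval₂_finsetSum, Polynomial.eval₂_mul] using h
  obtain ⟨Q, hQ⟩ := IsIntegrallyClosed.isIntegral_iff.1 hint
  obtain ⟨t, ht⟩ : ∃ t : P.O ⊗[k] k', inclS k' P t = w := by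
    suffices H : ∀ Q : Polynomial k', ∃ t : P.O ⊗[k] k',
        ratTen (k := k) k' (inclS k' P t) = algebraMap (Polynomial k') (RatFunc k') Q by
      obtain ⟨t, ht⟩ := H Q
      exact ⟨t, ratTen_injective (k := k) k' (ht.trans hQ)⟩
    intro Q
    induction Q using Polynomial.induction_on' with
    | add a b ha hb =>
      obtain ⟨a', ha'⟩ := ha
      obtain ⟨b', hb'⟩ := hb
      exact ⟨a' + b', by rw [map_add, map_add, ha', hb', map_add]⟩
    | monomial n c =>
      refine ⟨(⟨polR (Polynomial.X ^ n), rat_val_pol_le_one P hX _⟩ : P.O) ⊗ₜ[k] c, ?_⟩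
      rw [inclS_tmul, ratTen, Algebra.TensorProduct.lift_tmul, mapRat_pol, Polynomial.map_pow, Polynomial.map_X,
        ← Polynomial.C_mul_X_pow_eq_monomial, map_mul, mul_comm]
      rfl
  refine ⟨((⟨(polR r)⁻¹, show P.1 _ ≤ 1 by rw [map_inv₀, hr, inv_one]⟩ : P.O) ⊗ₜ[k] (1 : k')) * t, ?_⟩
  show inclS k' P _ = u
  rw [map_mul, inclS_smul_one, ht, ← mul_assoc, ← map_mul, inv_mul_cancel₀ hr0, map_one, one_mul]

end Rat

section General

variable {k : Type*} {K : Type*} [Field k] [Field K] [Algebra k K] [Algebra (RatFunc k) K]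
  [IsScalarTower k (RatFunc k) K] [FiniteDimensional (RatFunc k) K] [Algebra.IsSeparable (RatFunc k) K]

theorem exists_finite_nonregular (hK : IsFunctionField k K) :
    ∃ bad : Set (Place k K), bad.Finite ∧ ∀ P : Place k K, P ∉ bad →
      ∀ (k' : Type u) [Field k'] [Algebra k k'] [FiniteDimensional k k'] (y : K ⊗[k] k'),
        (toTen k' P).IsIntegralElem y → y ∈ (inclS k' P).range := by
  classical
  have hF := isFunctionField_ratFunc (k := k)
  let b := Module.finBasis (RatFunc k) K
  have hnd : (Algebra.traceForm (RatFunc k) K).Nondegenerate := traceForm_nondegenerate (RatFunc k) K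
  let δ := LinearMap.BilinForm.dualBasis (Algebra.traceForm (RatFunc k) K) hnd b
  let badI : Set (Place k K) := ⋃ i, ({Q | Q.ord (b i) < 0} ∪ {Q | Q.ord (δ i) < 0})
  let bad₀ : Set (Place k (RatFunc k)) :=
    (below (K := RatFunc k)) '' badI ∪ {P | ¬ P.1 RatFunc.X ≤ 1}
  have hbadI : badI.Finite := Set.finite_iUnion fun i =>
    ((finite_support_ord hK (b i)).subset fun Q (hQ : Q.ord (b i) < 0) => hQ.ne).union
      ((finite_support_ord hK (δ i)).subset fun Q (hQ : Q.ord (δ i) < 0) => hQ.ne)
  have hbad₀ : bad₀.Finite := (hbadI.image _).union (finite_not_integral hF _)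
  refine ⟨⋃ P₀ ∈ bad₀, {Q | IsOver Q P₀}, hbad₀.biUnion fun P₀ _ => finite_isOver hF P₀, fun P hP k' _ _ _ y hy => ?_⟩
  set P₀ := below (K := RatFunc k) P
  have hover : IsOver P P₀ := isOver_below P
  have hP₀ : P₀ ∉ bad₀ := fun h => hP (Set.mem_iUnion₂.2 ⟨P₀, h, hover⟩)
  simp only [bad₀, badI, Set.mem_union, Set.mem_image, Set.mem_iUnion, Set.mem_ofPred_eq, not_or, not_exists, not_and,
    not_not] at hP₀
  obtain ⟨hgood, hX⟩ := hP₀
  have hbint : ∀ i, IntAbove P₀ (b i) ∧ IntAbove P₀ (δ i) := fun i => by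
    constructor <;> intro Q hQ
    · rw [val_le_one_iff Q (b.ne_zero i)]
      by_contra hn
      exact hgood Q ⟨i, Or.inl (not_le.1 hn)⟩ ((isOver_iff_below Q P₀).1 hQ)
    · rw [val_le_one_iff Q (δ.ne_zero i)]
      by_contra hn
      exact hgood Q ⟨i, Or.inr (not_le.1 hn)⟩ ((isOver_iff_below Q P₀).1 hQ)
  -- scale to make `y` integral over the place below
  obtain ⟨p, hmon, hp⟩ := hy
  set S := (finite_isOver (K' := K) hF P₀).toFinset
  obtain ⟨h, hh⟩ := exists_approx (k := k) (K := K) S (fun R => if R = P then 1 else 0)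
    (fun R => if R = P then -1 else -∑ i ∈ Finset.range (p.natDegree + 1), |R.ord ((p.coeff i : P.O) : K)|)
  have hhP : P.1 h = 1 := by
    have h1 := hh P ((finite_isOver hF P₀).mem_toFinset.2 hover)
    rw [if_pos rfl, if_pos rfl] at h1
    have h2 : P.1 (h - 1) < P.1 1 := by
      rw [map_one]; exact h1.trans_lt (by rw [← exp_zero, exp_lt_exp]; norm_num)
    have := P.1.map_add_eq_of_lt_left h2
    rwa [add_sub_cancel, map_one] at this
  have hscaled : ∀ i ≤ p.natDegree, IntAbove P₀ (((p.coeff i : P.O) : K) * h ^ (p.natDegree - i)) := fun i hi R hR => by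
    rcases eq_or_ne R P with rfl | hRP
    · rw [map_mul, map_pow, hhP, one_pow, mul_one]; exact (p.coeff i).2
    rcases eq_or_lt_of_le hi with rfl | hi'
    · rw [hmon.coeff_natDegree]; simp
    have h1 := hh R ((finite_isOver hF P₀).mem_toFinset.2 hR)
    rw [if_neg hRP, if_neg hRP, sub_zero] at h1
    set a : K := ((p.coeff i : P.O) : K)
    rcases eq_or_ne a 0 with h0 | h0
    · simp [h0]
    rcases eq_or_ne h 0 with hz | hz
    · rw [hz, zero_pow (by omega), mul_zero, map_zero]; exact zero_le
    set M := ∑ j ∈ Finset.range (p.natDegree + 1), |R.ord ((p.coeff j : P.O) : K)|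
    have hle : |R.ord a| ≤ M := Finset.single_le_sum (f := fun j => |R.ord ((p.coeff j : P.O) : K)|)
      (fun j _ => abs_nonneg _) (Finset.mem_range.2 (by omega))
    rw [val_eq_exp R hz, exp_le_exp] at h1
    rw [map_mul, map_pow, val_eq_exp R h0, val_eq_exp R hz, ← exp_nsmul, ← exp_add, ← exp_zero, exp_le_exp,
      nsmul_eq_mul]
    have h3 : (1 : ℤ) ≤ ((p.natDegree - i : ℕ) : ℤ) := by omega
    have := neg_abs_le (R.ord a)
    have := abs_nonneg (R.ord a)
    nlinarith
  letI algK : Algebra P₀.O K := ((algebraMap (RatFunc k) K).comp P₀.O.subtype).toAlgebra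
  have : IsScalarTower P₀.O (RatFunc k) K := IsScalarTower.of_algebraMap_eq fun _ => rfl
  let T := K ⊗[k] k'
  let C := integralClosure P₀.O K
  set w : T := algebraMap K T h * y with hw
  have hwint : IsIntegral P₀.O w := by
    refine isIntegral_trans (A := C) w ?_
    let coef : ℕ → C := fun i => if hi : i ≤ p.natDegree then
      ⟨_, (isIntegral_iff_intAbove hF P₀ _).2 (hscaled i hi)⟩ else 0
    refine ⟨Polynomial.X ^ p.natDegree + ∑ i ∈ Finset.range p.natDegree, Polynomial.C (coef i) * Polynomial.X ^ i,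
      ?_, ?_⟩
    · refine Polynomial.monic_X_pow_add ((Polynomial.degree_sum_le _ _).trans_lt ?_)
      rw [Finset.sup_lt_iff (WithBot.bot_lt_coe _)]
      intro i hi
      exact (Polynomial.degree_C_mul_X_pow_le _ _).trans_lt (by exact_mod_cast Finset.mem_range.1 hi)
    · rw [Polynomial.eval₂_eq_sum_range] at hp
      have h2 := congrArg (fun s => algebraMap K T h ^ p.natDegree * s) hp
      simp only [mul_zero] at h2
      rw [Finset.sum_range_succ, hmon.coeff_natDegree, map_one, one_mul, mul_add, Finset.mul_sum, ← mul_pow] at h2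
      simp only [Polynomial.eval₂_add, Polynomial.eval₂_X_pow, Polynomial.eval₂_finsetSum, Polynomial.eval₂_mul,
        Polynomial.eval₂_C]
      rw [add_comm, ← h2]
      congr 1
      refine Finset.sum_congr rfl fun i hi => ?_
      rw [Finset.mem_range] at hi
      rw [show algebraMap C T (coef i) = algebraMap K T (coef i : K) from rfl]
      simp only [coef, dif_pos hi.le]
      rw [map_mul, map_pow, hw, mul_pow]
      obtain ⟨l, hl⟩ := Nat.le.dest hi.le
      rw [show p.natDegree - i = l by omega, ← hl, pow_add]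
      rw [show toTen k' P (p.coeff i) = algebraMap K T ((p.coeff i : P.O) : K) from rfl]
      ring
  -- traces
  let τ : T →ₗ[k] RatFunc k ⊗[k] k' :=
    TensorProduct.map ((Algebra.trace (RatFunc k) K).restrictScalars k) LinearMap.id
  let Ω := AlgebraicClosure (RatFunc k)
  let ι : RatFunc k ⊗[k] k' →ₐ[k] Ω ⊗[k] k' :=
    Algebra.TensorProduct.map (IsScalarTower.toAlgHom k (RatFunc k) Ω) (AlgHom.id k k')
  have hι : Function.Injective ι :=
    Module.Flat.rTensor_preserves_injective_linearMap (M := k')
      (IsScalarTower.toAlgHom k (RatFunc k) Ω).toLinearMap (algebraMap (RatFunc k) Ω).injective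
  let σT : (K →ₐ[RatFunc k] Ω) → (T →ₐ[k] Ω ⊗[k] k') := fun σ =>
    Algebra.TensorProduct.map (σ.restrictScalars k) (AlgHom.id k k')
  have hτσ : ∀ x : T, ι (τ x) = ∑ σ : K →ₐ[RatFunc k] Ω, σT σ x := fun x => by
    induction x using TensorProduct.induction_on with
    | zero => simp
    | tmul a c =>
      show (algebraMap (RatFunc k) Ω (Algebra.trace (RatFunc k) K a)) ⊗ₜ[k] c = _
      rw [trace_eq_sum_embeddings Ω, TensorProduct.sum_tmul]
      rfl
    | add x z hx hz => rw [map_add, map_add, hx, hz, ← Finset.sum_add_distrib]; simp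
  have hτint : ∀ x : T, IsIntegral P₀.O x → (toTen k' P₀).IsIntegralElem (τ x) := fun x hx => by
    have h1 : (ι.toRingHom.comp (toTen k' P₀)).IsIntegralElem (ι (τ x)) := by
      rw [hτσ]
      refine Finset.sum_induction _ (ι.toRingHom.comp (toTen k' P₀)).IsIntegralElem
        (fun a c ha hc => RingHom.IsIntegralElem.add _ ha hc) (RingHom.isIntegralElem_zero _) fun σ _ => ?_
      obtain ⟨q, hqm, hq⟩ := hx
      refine ⟨q, hqm, ?_⟩
      have hcomp : (ι.toRingHom.comp (toTen k' P₀)) = (σT σ).toRingHom.comp (algebraMap P₀.O T) :=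
        RingHom.ext fun a => by
          show (algebraMap (RatFunc k) Ω (a : RatFunc k)) ⊗ₜ[k] (1 : k') =
            σT σ ((algebraMap (RatFunc k) K (a : RatFunc k)) ⊗ₜ[k] (1 : k'))
          rw [Algebra.TensorProduct.map_tmul, AlgHom.restrictScalars_apply, AlgHom.commutes]; rfl
      rw [hcomp]
      exact (Polynomial.hom_eval₂ q (algebraMap P₀.O T) (σT σ).toRingHom x).symm.trans (by rw [hq]; exact map_zero _)
    obtain ⟨q, hqm, hq⟩ := h1
    refine ⟨q, hqm, hι ?_⟩
    rw [map_zero, ← hq]
    exact Polynomial.hom_eval₂ q (toTen k' P₀) ι.toRingHom (τ x)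
  let incl : K →ₐ[P₀.O] T := { algebraMap K T with commutes' := fun _ => rfl }
  have hw' : ∀ i, τ (w * algebraMap K T (b i)) ∈ (inclS k' P₀).range := fun i =>
    rat_regular k' P₀ hX (hτint _ (hwint.mul (((isIntegral_iff_intAbove hF P₀ _).2 (hbint i).1).map incl)))
  -- expansion in the dual basis
  let j : RatFunc k ⊗[k] k' →ₐ[k] T :=
    Algebra.TensorProduct.map (IsScalarTower.toAlgHom k (RatFunc k) K) (AlgHom.id k k')
  have hexp : ∀ x : T, x = ∑ i, algebraMap K T (δ i) * j (τ (x * algebraMap K T (b i))) := fun x => by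
    induction x using TensorProduct.induction_on with
    | zero => simp
    | tmul a c =>
      have h1 : ∀ i, j (τ (a ⊗ₜ[k] c * algebraMap K T (b i))) =
          algebraMap (RatFunc k) K (δ.repr a i) ⊗ₜ[k] c := fun i => by
        rw [Algebra.TensorProduct.algebraMap_apply, Algebra.TensorProduct.tmul_mul_tmul, mul_one,
          LinearMap.BilinForm.dualBasis_repr_apply, Algebra.traceForm_apply]
        rfl
      rw [Finset.sum_congr rfl fun i _ => by
        rw [h1, Algebra.TensorProduct.algebraMap_apply, Algebra.TensorProduct.tmul_mul_tmul, one_mul],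
        ← TensorProduct.sum_tmul]
      congr 1
      conv_lhs => rw [← δ.sum_repr a]
      exact Finset.sum_congr rfl fun i _ => by rw [Algebra.smul_def, mul_comm]; rfl
    | add x z hx hz =>
      conv_lhs => rw [hx, hz]
      rw [← Finset.sum_add_distrib]
      exact Finset.sum_congr rfl fun i _ => by rw [add_mul, map_add, map_add, mul_add]
  have hjmem : ∀ t, j (inclS k' P₀ t) ∈ (inclS k' P).range := fun t => by
    induction t using TensorProduct.induction_on with
    | zero => rw [map_zero, map_zero]; exact zero_mem _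
    | tmul a c =>
      obtain ⟨e, he⟩ := hover
      exact ⟨(⟨algebraMap (RatFunc k) K (a : RatFunc k),
        show P.1 _ ≤ 1 by rw [he]; exact pow_le_one₀ zero_le a.2⟩ : P.O) ⊗ₜ[k] c, rfl⟩
    | add x z hx hz => rw [map_add, map_add]; exact add_mem hx hz
  have hwmem : w ∈ (inclS k' P).range := by
    rw [hexp w]
    refine Subalgebra.sum_mem _ fun i _ => mul_mem ⟨(⟨δ i, (hbint i).2 P hover⟩ : P.O) ⊗ₜ[k] (1 : k'), rfl⟩ ?_
    obtain ⟨t, ht⟩ := hw' i
    rw [← ht]
    exact hjmem t
  have hh0 : h ≠ 0 := fun h0 => by rw [h0, map_zero] at hhP; exact zero_ne_one hhP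
  have hyeq : y = algebraMap K T h⁻¹ * w := by
    rw [hw, ← mul_assoc, ← map_mul, inv_mul_cancel₀ hh0, map_one, one_mul]
  rw [hyeq]
  exact mul_mem ⟨(⟨h⁻¹, show P.1 _ ≤ 1 by rw [map_inv₀, hhP, inv_one]⟩ : P.O) ⊗ₜ[k] (1 : k'), rfl⟩ hwmem

end General

end Groth.Agent.FunFldLib
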