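import Groth.Agent.FunFld.ConstNormal

/-!
Coordinates in `O[k']` and the transitivity of nonsingularity.
-/

namespace Groth.Agent.FunFldLib

open FunFld WithZero TensorProduct

/-- The valuation ring as a `k`-subalgebra. -/
def placeAlg {k K : Type*} [Field k] [Field K] [Algebra k K] (P : Place k K) : Subalgebra k K :=
  { P.O.toSubring.toSubsemiring with algebraMap_mem' := P.2.1 }

/-- Membership in `O[k']` is integrality of the coordinates. -/
theorem mem_adjoin_const_iff {k k' K L : Type*} [Field k] [Field k'] [Field K] [Field L] [Algebra k k']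
    [Algebra k K] [Algebra K L] [Algebra k' L] [Algebra k L] [IsScalarTower k k' L] [IsScalarTower k K L]
    {φ : K ⊗[k] k' →ₐ[K] L} (hφ : Function.Bijective φ)
    (hφt : ∀ a c, φ (a ⊗ₜ c) = algebraMap K L a * algebraMap k' L c) {ι : Type*} [Fintype ι]
    (b : Module.Basis ι k k') (A : Subalgebra k K) (y : L) :
    y ∈ Algebra.adjoin (A.toSubring.map (algebraMap K L)) (Set.range (algebraMap k' L)) ↔
      ∀ i, ((Algebra.TensorProduct.basis K b).map (AlgEquiv.ofBijective φ hφ).toLinearEquiv).repr y i ∈ A := by
  classical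
  set B := (Algebra.TensorProduct.basis K b).map (AlgEquiv.ofBijective φ hφ).toLinearEquiv
  have hB : ∀ i, B i = algebraMap k' L (b i) := fun i => by
    show φ ((Algebra.TensorProduct.basis K b) i) = _
    rw [Algebra.TensorProduct.basis_apply, hφt, map_one, one_mul]
  constructor
  · intro hy
    have hM : y ∈ ((Algebra.TensorProduct.map A.val (AlgHom.id k k')).range.map (φ.restrictScalars k)) := by
      induction hy using Algebra.adjoin_induction with
      | mem x hx =>
        obtain ⟨c, rfl⟩ := hx
        exact ⟨_, ⟨(1 : A) ⊗ₜ c, rfl⟩, by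
          show φ (((1 : A) : K) ⊗ₜ[k] c) = _
          rw [hφt, OneMemClass.coe_one, map_one, one_mul]⟩
      | algebraMap r =>
        obtain ⟨_, a, ha, rfl⟩ := r
        exact ⟨_, ⟨(⟨a, ha⟩ : A) ⊗ₜ (1 : k'), rfl⟩, by
          show φ (a ⊗ₜ[k] (1 : k')) = algebraMap K L a
          rw [hφt, map_one, mul_one]⟩
      | add u v _ _ hu hv => exact add_mem hu hv
      | mul u v _ _ hu hv => exact mul_mem hu hv
    obtain ⟨x, ⟨t, rfl⟩, rfl⟩ := hM
    intro i
    clear hy
    induction t using TensorProduct.induction_on with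
    | zero => simp
    | tmul a c =>
      have h1 : (φ.restrictScalars k) (Algebra.TensorProduct.map A.val (AlgHom.id k k') (a ⊗ₜ[k] c)) =
          ∑ j, ((a : K) * algebraMap k K (b.repr c j)) • B j := by
        show φ ((a : K) ⊗ₜ[k] c) = _
        conv_lhs => rw [hφt, ← b.sum_repr c, map_sum, Finset.mul_sum]
        refine Finset.sum_congr rfl fun j _ => ?_
        rw [hB, Algebra.smul_def (A := L), map_mul, ← IsScalarTower.algebraMap_apply, Algebra.smul_def, map_mul,
          ← IsScalarTower.algebraMap_apply, mul_assoc]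
      show B.repr ((φ.restrictScalars k) (Algebra.TensorProduct.map A.val (AlgHom.id k k') (a ⊗ₜ[k] c))) i ∈ A
      rw [h1, B.repr_sum_self]
      exact mul_mem a.2 (A.algebraMap_mem _)
    | add u v hu hv => simp only [map_add, Finsupp.add_apply] at hu hv ⊢; exact add_mem hu hv
  · intro h
    rw [← B.sum_repr y]
    refine Subalgebra.sum_mem _ fun i _ => ?_
    rw [Algebra.smul_def, hB]
    refine mul_mem ?_ (Algebra.subset_adjoin ⟨_, rfl⟩)
    have h1 : algebraMap K L (B.repr y i) ∈ A.toSubring.map (algebraMap K L) := ⟨_, h i, rfl⟩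
    exact Subalgebra.algebraMap_mem _ (⟨_, h1⟩ : A.toSubring.map (algebraMap K L))

/-- Integrality over an image subring. -/
theorem mem_integralClosure_map_iff {R L : Type*} [CommRing R] [CommRing L] (A : Subring R) (f : R →+* L) (z : L) :
    z ∈ integralClosure (A.map f) L ↔ (f.comp A.subtype).IsIntegralElem z := by
  let g : A →+* A.map f := (f.comp A.subtype).codRestrict (A.map f) fun a => ⟨a.1, a.2, rfl⟩
  have hg : Function.Surjective g := by
    rintro ⟨_, a, ha, rfl⟩
    exact ⟨⟨a, ha⟩, rfl⟩
  have hcomp : f.comp A.subtype = (algebraMap (A.map f) L).comp g := rfl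
  constructor
  · rintro ⟨p, hpm, hp⟩
    have hlift : p ∈ Polynomial.lifts g := (Polynomial.lifts_iff_coeff_lifts _).2 fun n => hg _
    obtain ⟨q, hq, -, hqm⟩ := Polynomial.lifts_and_natDegree_eq_and_monic hlift hpm
    refine ⟨q, hqm, ?_⟩
    rw [hcomp, ← Polynomial.eval₂_map, hq]; exact hp
  · rintro ⟨q, hqm, hq⟩
    refine ⟨q.map g, hqm.map _, ?_⟩
    rw [Polynomial.eval₂_map, ← hcomp]; exact hq

/-- Constants are integral. -/
theorem adjoin_le_integralClosure {k k' K L : Type*} [Field k] [Field k'] [Field K] [Field L] [Algebra k k']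
    [FiniteDimensional k k'] [Algebra k K] [Algebra K L] [Algebra k' L] [Algebra k L] [IsScalarTower k k' L]
    [IsScalarTower k K L] (A : Subalgebra k K) :
    Algebra.adjoin (A.toSubring.map (algebraMap K L)) (Set.range (algebraMap k' L)) ≤
      integralClosure (A.toSubring.map (algebraMap K L)) L := by
  refine Algebra.adjoin_le ?_
  rintro _ ⟨c, rfl⟩
  rw [SetLike.mem_coe, mem_integralClosure_map_iff]
  obtain ⟨p, hpm, hp⟩ := (IsIntegral.of_finite k c).map (IsScalarTower.toAlgHom k k' L)
  refine ⟨p.map (algebraMap k A), hpm.map _, ?_⟩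
  rw [Polynomial.eval₂_map]
  have h1 : ((algebraMap K L).comp A.toSubring.subtype).comp (algebraMap k A) = algebraMap k L :=
    RingHom.ext fun a => (IsScalarTower.algebraMap_apply k K L a).symm
  rw [h1]; exact hp

theorem mem_ic_place_iff {k K L : Type*} [Field k] [Field K] [Field L] [Algebra k K] [Algebra K L] [Algebra k L]
    [IsScalarTower k K L] [FiniteDimensional K L] (hK : IsFunctionField k K) (P : Place k K) (z : L) :
    z ∈ integralClosure (P.O.toSubring.map (algebraMap K L)) L ↔ IntAbove P z := by
  let _alg : Algebra P.O L := ((algebraMap K L).comp P.O.subtype).toAlgebra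
  have : IsScalarTower P.O K L := IsScalarTower.of_algebraMap_eq fun _ => rfl
  rw [← isIntegral_iff_intAbove hK P z, mem_integralClosure_map_iff]
  rfl

end Groth.Agent.FunFldLib
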