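import Groth.Agent.FunFld.Node

/-!
Principal divisors of degree zero, and dropping one vanishing condition in a linear series.
-/

namespace Groth.Agent.FunFldLib

open FunFld

variable {k K : Type*} [Field k] [Field K] [Algebra k K]

theorem exists_div_eq_of_ell_pos (hK : IsFunctionField k K) {E : Divisor k K} (hd : E.deg = 0)
    (h : 0 < ell E) : ∃ z : K, z ≠ 0 ∧ E + div k z = 0 := by
  obtain ⟨z, hz0, hz⟩ := exists_ne_zero_of_ell_pos h
  exact ⟨z, hz0, (eq_of_le_of_deg_le hK (nonneg_of_mem_L hK hz0 hz)
    (by rw [deg_add, deg_div hK, hd, deg_zero, add_zero])).symm⟩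

theorem ell_add_of_ell_pos (hK : IsFunctionField k K) {E : Divisor k K} (hd : E.deg = 0)
    (h : 0 < ell E) (F : Divisor k K) : ell (F + E) = ell F := by
  obtain ⟨z, hz0, hz⟩ := exists_div_eq_of_ell_pos hK hd h
  rw [← ell_add_div hK (F + E) hz0, add_assoc, hz, add_zero]

theorem ell_lt_of_neg (hK : IsFunctionField k K) {F G : Divisor k K} (hle : F ≤ G) (hG : 0 ≤ G)
    {R : Place k K} (hR : F R < 0) : ell F < ell G := by
  have := finiteDimensional_L hK G
  refine Submodule.finrank_lt_finrank_of_lt (lt_of_le_not_ge (L_mono hle) fun h => ?_)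
  have h1 : (1 : K) ∈ L F := h (L_mono hG (by rw [L_zero hK]; exact Submodule.one_le.1 le_rfl))
  have := (mem_L_iff one_ne_zero).1 h1 R
  rw [show R.ord (1 : K) = 0 by rw [ord_eq_of_val R (n := 0) (by simp)]; rfl] at this
  omega

/-- An effective divisor of degree one is a place. -/
theorem eq_single_of_deg_one [IsAlgClosed k] (hK : IsFunctionField k K) {E : Divisor k K} (h0 : 0 ≤ E)
    (hd : E.deg = 1) {P : Place k K} (hP : E P ≠ 0) : E = Finsupp.single P 1 := by
  refine (eq_of_le_of_deg_le hK (fun R => ?_) (by rw [hd, deg_single, deg_eq_one hK P]; norm_num)).symm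
  rcases eq_or_ne R P with rfl | hR
  · have h1 := h0 R
    simp only [Finsupp.zero_apply, Finsupp.single_eq_same] at *
    omega
  · simpa [Finsupp.single_eq_of_ne hR] using h0 R

/-- One more vanishing condition lowers the dimension by at most one. -/
theorem finrank_inf_L_le (hK : IsFunctionField k K) (V : Submodule k K) (E : Divisor k K) {P : Place k K}
    (hP : P.deg = 1) :
    Module.finrank k ↥(V ⊓ L E) ≤ Module.finrank k ↥(V ⊓ L (E - Finsupp.single P 1)) + 1 := by
  have := finiteDimensional_L hK E
  have := finiteDimensional_L hK (E - Finsupp.single P 1)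
  have : FiniteDimensional k ↥(V ⊓ L E) := Submodule.finiteDimensional_of_le inf_le_right
  have hle : L (E - Finsupp.single P 1) ≤ L E :=
    L_mono (sub_le_self _ (Finsupp.single_nonneg.2 zero_le_one))
  have h1 := Submodule.finrank_sup_add_finrank_inf_eq (V ⊓ L E) (L (E - Finsupp.single P 1))
  have h2 : V ⊓ L E ⊓ L (E - Finsupp.single P 1) = V ⊓ L (E - Finsupp.single P 1) := by
    rw [inf_assoc, inf_eq_right.2 hle]
  have h3 : Module.finrank k ↥(V ⊓ L E ⊔ L (E - Finsupp.single P 1)) ≤ ell E :=
    Submodule.finrank_mono (sup_le inf_le_right hle)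
  have h4 := ell_le_add_deg hK E P
  rw [h2] at h1
  rw [hP] at h4
  simp only [ell] at h3 h4
  omega

end Groth.Agent.FunFldLib
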