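import Groth.Agent.FunFld.PlaneModel
import Groth.Agent.FunFld.Separating
import Mathlib.RingTheory.TensorProduct.MvPolynomial
import Mathlib.RingTheory.Flat.Basic
import Mathlib.FieldTheory.PrimitiveElement

/-!
Absolutely irreducible plane models and geometric function fields.
-/

namespace Groth.Agent.FunFldLib.PlaneGeom

open FunFld TensorProduct MvPolynomial

universe u v

variable {k : Type u} {K : Type v} [Field k] [Field K] [Algebra k K] {x y : K} {f : MvPolynomial (Fin 2) k}

/-- Evaluation at `(x, y)` after extending constants. -/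
noncomputable def evalExt (k' : Type*) [Field k'] [Algebra k k'] (x y : K) :
    MvPolynomial (Fin 2) k' →ₐ[k'] k' ⊗[k] K :=
  (Algebra.TensorProduct.map (AlgHom.id k' k') (aeval ![x, y] : MvPolynomial (Fin 2) k →ₐ[k] K)).comp
    (algebraTensorAlgEquiv k k').symm.toAlgHom

theorem evalExt_eq_zero_iff (hker : RingHom.ker (aeval ![x, y] : MvPolynomial (Fin 2) k →ₐ[k] K) = Ideal.span {f})
    (k' : Type*) [Field k'] [Algebra k k'] (p : MvPolynomial (Fin 2) k') :
    evalExt (k := k) k' x y p = 0 ↔ MvPolynomial.map (algebraMap k k') f ∣ p := by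
  set φ : MvPolynomial (Fin 2) k →ₐ[k] K := aeval ![x, y]
  have hex : Function.Exact (LinearMap.mulLeft k f) φ.toLinearMap := fun g => by
    show φ g = 0 ↔ _
    rw [← RingHom.mem_ker, hker, Ideal.mem_span_singleton]
    exact ⟨fun ⟨c, hc⟩ => ⟨c, hc.symm⟩, fun ⟨c, hc⟩ => ⟨c, hc.symm⟩⟩
  have hex' := Module.Flat.lTensor_exact k' hex
  set e := algebraTensorAlgEquiv (σ := Fin 2) k k'
  have h1 : ∀ z : k' ⊗[k] MvPolynomial (Fin 2) k,
      Algebra.TensorProduct.map (AlgHom.id k' k') φ z = φ.toLinearMap.lTensor k' z := fun z => by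
    induction z using TensorProduct.induction_on with
    | zero => simp
    | tmul a b => simp
    | add a b ha hb => rw [map_add, map_add, ha, hb]
  have h2 : ∀ z : k' ⊗[k] MvPolynomial (Fin 2) k,
      e ((LinearMap.mulLeft k f).lTensor k' z) = MvPolynomial.map (algebraMap k k') f * e z := fun z => by
    induction z using TensorProduct.induction_on with
    | zero => simp
    | tmul a b =>
      rw [LinearMap.lTensor_tmul, LinearMap.mulLeft_apply, algebraTensorAlgEquiv_tmul, algebraTensorAlgEquiv_tmul,
        map_mul, mul_smul_comm]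
    | add a b ha hb => rw [map_add, map_add, map_add, ha, hb, mul_add]
  show Algebra.TensorProduct.map (AlgHom.id k' k') φ (e.symm p) = 0 ↔ _
  rw [h1, hex']
  constructor
  · rintro ⟨z, hz⟩
    exact ⟨e z, by rw [← h2, hz, AlgEquiv.apply_symm_apply]⟩
  · rintro ⟨q, hq⟩
    exact ⟨e.symm q, e.injective (by rw [h2, AlgEquiv.apply_symm_apply, AlgEquiv.apply_symm_apply, hq])⟩

theorem exists_mul_mem_range (htop : IntermediateField.adjoin k ({x, y} : Set K) = ⊤) (k' : Type*) [Field k']
    [Algebra k k'] (t : k' ⊗[k] K) :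
    ∃ d : K, d ≠ 0 ∧ d ∈ (aeval ![x, y] : MvPolynomial (Fin 2) k →ₐ[k] K).range ∧
      ∃ p, evalExt (k := k) k' x y p = ((1 : k') ⊗ₜ d) * t := by
  set A := (aeval ![x, y] : MvPolynomial (Fin 2) k →ₐ[k] K).range
  have hval : ∀ (a : k') (g : MvPolynomial (Fin 2) k),
      evalExt (k := k) k' x y ((algebraTensorAlgEquiv k k') (a ⊗ₜ g)) = a ⊗ₜ aeval ![x, y] g := fun a g => by
    simp [evalExt, TensorProduct.smul_tmul']
  induction t using TensorProduct.induction_on with
  | zero => exact ⟨1, one_ne_zero, one_mem _, 0, by simp⟩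
  | tmul a z =>
    have hz : z ∈ IntermediateField.adjoin k (Set.range ![x, y]) := by
      rw [show Set.range ![x, y] = {x, y} by simp [Matrix.range_cons, Set.pair_comm]]
      rw [htop]; exact IntermediateField.mem_top
    rw [IntermediateField.mem_adjoin_range_iff] at hz
    obtain ⟨p, q, rfl⟩ := hz
    rcases eq_or_ne (aeval ![x, y] q) 0 with hq | hq
    · exact ⟨1, one_ne_zero, one_mem _, 0, by simp [hq]⟩
    refine ⟨_, hq, ⟨q, rfl⟩, (algebraTensorAlgEquiv k k') (a ⊗ₜ p), ?_⟩
    rw [hval, Algebra.TensorProduct.tmul_mul_tmul, one_mul, mul_div_cancel₀ _ hq]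
  | add t s ht hs =>
    obtain ⟨d, hd, ⟨gd, hgd⟩, p, hp⟩ := ht
    obtain ⟨d', hd', ⟨gd', hgd'⟩, p', hp'⟩ := hs
    refine ⟨d * d', mul_ne_zero hd hd', ⟨gd * gd', by rw [map_mul, ← hgd, ← hgd']⟩,
      (algebraTensorAlgEquiv k k') (1 ⊗ₜ gd') * p + (algebraTensorAlgEquiv k k') (1 ⊗ₜ gd) * p', ?_⟩
    rw [map_add, map_mul, map_mul, hval, hval, hp, hp', show aeval ![x, y] gd = d from hgd,
      show aeval ![x, y] gd' = d' from hgd', mul_add, ← mul_assoc, ← mul_assoc,
      Algebra.TensorProduct.tmul_mul_tmul, Algebra.TensorProduct.tmul_mul_tmul, one_mul, mul_comm d' d]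

theorem isField_of_irreducible (htop : IntermediateField.adjoin k ({x, y} : Set K) = ⊤)
    (hker : RingHom.ker (aeval ![x, y] : MvPolynomial (Fin 2) k →ₐ[k] K) = Ideal.span {f})
    (k' : Type*) [Field k'] [Algebra k k'] [FiniteDimensional k k']
    (hf : Irreducible (MvPolynomial.map (algebraMap k k') f)) : IsField (k' ⊗[k] K) := by
  have hprime := UniqueFactorizationMonoid.irreducible_iff_prime.1 hf
  have : Nontrivial (k' ⊗[k] K) :=
    (Algebra.TensorProduct.includeRight_injective (R := k) (A := k') (B := K) (algebraMap k k').injective).nontrivial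
  have hu : ∀ d : K, d ≠ 0 → IsUnit ((1 : k') ⊗ₜ[k] d) := fun d hd =>
    ⟨⟨(1 : k') ⊗ₜ d, 1 ⊗ₜ d⁻¹, by simp [mul_inv_cancel₀ hd, Algebra.TensorProduct.one_def],
      by simp [inv_mul_cancel₀ hd, Algebra.TensorProduct.one_def]⟩, rfl⟩
  have : NoZeroDivisors (k' ⊗[k] K) := ⟨fun {s t} hst => by
    obtain ⟨d, hd, -, p, hp⟩ := exists_mul_mem_range htop k' s
    obtain ⟨d', hd', -, p', hp'⟩ := exists_mul_mem_range htop k' t
    have h0 : evalExt (k := k) k' x y (p * p') = 0 := by
      rw [map_mul, hp, hp', mul_mul_mul_comm, hst, mul_zero]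
    rcases hprime.dvd_or_dvd ((evalExt_eq_zero_iff hker k' _).1 h0) with h | h
    · left
      rw [← evalExt_eq_zero_iff hker k', hp] at h
      exact (hu d hd).mul_right_eq_zero.1 h
    · right
      rw [← evalExt_eq_zero_iff hker k', hp'] at h
      exact (hu d' hd').mul_right_eq_zero.1 h⟩
  have : IsDomain (k' ⊗[k] K) := NoZeroDivisors.to_isDomain _
  let e := (Algebra.TensorProduct.comm k k' K).toMulEquiv
  have : IsDomain (K ⊗[k] k') := e.symm.isDomain _
  exact e.isField (isField_of_isIntegral_of_isField' (R := K) (Field.toIsField K))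

theorem finite_of_transcendental {g : MvPolynomial (Fin 2) k} (hg : g ≠ 0) (hgxy : aeval ![x, y] g = 0)
    (hx : Transcendental k x) (htop : IntermediateField.adjoin k ({x, y} : Set K) = ⊤) :
    FiniteDimensional (IntermediateField.adjoin k ({x} : Set K)) K := by
  set K₀ := IntermediateField.adjoin k ({x} : Set K)
  let θ : Polynomial k →ₐ[k] K₀ := Polynomial.aeval (IntermediateField.AdjoinSimple.gen k x)
  have hθ : ∀ q, (θ q : K) = Polynomial.aeval x q := fun q =>
    (Polynomial.aeval_algHom_apply K₀.val _ q).symm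
  have hθinj : Function.Injective θ.toRingHom := (injective_iff_map_eq_zero _).2 fun q hq =>
    transcendental_iff.1 hx q (by rw [← hθ]; exact congrArg Subtype.val hq)
  have halg : IsAlgebraic K₀ y := by
    refine ⟨(slant 0 g).map θ.toRingHom, ?_, ?_⟩
    · refine (Polynomial.map_ne_zero_iff hθinj).2 fun h => hg ?_
      rw [← unslant_slant 0 g, h, map_zero]
    · rw [Polynomial.aeval_def, Polynomial.eval₂_map]
      have h := eval₂_slant x y 0 g
      rw [map_zero, zero_mul, add_zero, hgxy] at h
      rw [← h]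
      congr 1
      exact RingHom.ext fun q => hθ q
  have := IntermediateField.adjoin.finiteDimensional halg.isIntegral
  have htop' : IntermediateField.adjoin K₀ ({y} : Set K) = ⊤ := by
    refine IntermediateField.restrictScalars_injective k ?_
    rw [IntermediateField.restrictScalars_top, IntermediateField.adjoin_adjoin_left, Set.union_singleton,
      Set.pair_comm, htop]
  rw [htop'] at this
  exact Module.Finite.equiv IntermediateField.topEquiv.toLinearEquiv

theorem isFunctionField_and_geometric (htop : IntermediateField.adjoin k ({x, y} : Set K) = ⊤)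
    (hirr : ∀ (k' : Type u) [Field k'] [Algebra k k'], FiniteDimensional k k' →
      Irreducible (MvPolynomial.map (algebraMap k k') f))
    (hker : RingHom.ker (aeval ![x, y] : MvPolynomial (Fin 2) k →ₐ[k] K) = Ideal.span {f}) :
    IsFunctionField k K ∧ IsGeometric k K := by
  classical
  have hfi : Irreducible f := by
    have h := hirr k inferInstance
    rwa [Algebra.algebraMap_self, MvPolynomial.map_id] at h
  have hfxy : aeval ![x, y] f = 0 := by
    rw [← RingHom.mem_ker, hker]; exact Ideal.mem_span_singleton_self f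
  have hgeo : IsGeometric k K := fun k' _ _ hk' => isField_of_irreducible htop hker k' (hirr k' hk')
  refine ⟨⟨?_, fun z hz => ?_⟩, hgeo⟩
  · by_cases hx : Transcendental k x
    · exact ⟨x, hx, finite_of_transcendental hfi.ne_zero hfxy hx htop⟩
    by_cases hy : Transcendental k y
    · refine ⟨y, hy, finite_of_transcendental (g := rename (Equiv.swap 0 1) f)
        ((rename_injective _ (Equiv.swap (0 : Fin 2) 1).injective).ne_iff' (map_zero _) |>.2 hfi.ne_zero) ?_ hy
        (by rw [Set.pair_comm]; exact htop)⟩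
      rw [aeval_rename, ← hfxy]
      congr 1
      exact algHom_ext fun i => by fin_cases i <;> simp
    exfalso
    obtain ⟨m, hm0, hm⟩ := not_not.1 hx
    obtain ⟨n, hn0, hn⟩ := not_not.1 hy
    have hdeg : ∀ (i : Fin 2) (q : Polynomial k), q ≠ 0 → Polynomial.aeval (![x, y] i) q = 0 →
        ∀ j ≠ i, degreeOf j f = 0 := by
      intro i q hq hqx j hj
      have h : Polynomial.aeval (X i : MvPolynomial (Fin 2) k) q ∈ Ideal.span {f} := by
        rw [← hker, RingHom.mem_ker, ← Polynomial.aeval_algHom_apply, aeval_X]; exact hqx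
      obtain ⟨c, hc⟩ := Ideal.mem_span_singleton.1 h
      have hne : Polynomial.aeval (X i : MvPolynomial (Fin 2) k) q ≠ 0 := fun h0 => hq (by
        have := congrArg (aeval fun _ : Fin 2 => (Polynomial.X : Polynomial k)) h0
        rwa [← Polynomial.aeval_algHom_apply, aeval_X, map_zero, Polynomial.aeval_X_left_apply] at this)
      have h1 : degreeOf j (Polynomial.aeval (X i : MvPolynomial (Fin 2) k) q) = 0 := by
        rw [← Nat.le_zero, Polynomial.aeval_eq_sum_range]
        refine (degreeOf_sum_le j _ _).trans (Finset.sup_le fun l _ => ?_)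
        rw [smul_eq_C_mul]
        exact (degreeOf_C_mul_le _ _ _).trans ((degreeOf_pow_le _ _ _).trans (by rw [degreeOf_X_of_ne (h := hj)]; simp))
      rw [hc, degreeOf_mul_eq hfi.ne_zero (right_ne_zero_of_mul (hc ▸ hne))] at h1
      omega
    have h0 := hdeg 1 n hn0 (by simpa using hn) 0 (by decide)
    have h1 := hdeg 0 m hm0 (by simpa using hm) 1 (by decide)
    have hC : f = C (coeff 0 f) := by
      ext d
      rw [coeff_C]
      split_ifs with hd
      · rw [hd]
      by_contra hne
      refine hd (Finsupp.ext fun i => ?_).symm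
      have := monomial_le_degreeOf i (mem_support_iff.2 hne)
      fin_cases i <;> simp_all
    exact hfi.not_isUnit (hC ▸ (isUnit_iff_ne_zero.2 fun h => hfi.ne_zero (by rw [hC, h, C_0])).map C)
  · -- constants
    have hint := hz.isIntegral
    set m := minpoly k z
    have : Fact (Irreducible m) := ⟨minpoly.irreducible hint⟩
    have : FiniteDimensional k (AdjoinRoot m) := (minpoly.monic hint).finite_adjoinRoot
    letI := (hgeo (AdjoinRoot m) this).toField
    let j : AdjoinRoot m →ₐ[k] K := AdjoinRoot.liftAlgHom m (Algebra.ofId k K) z (minpoly.aeval k z)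
    let Φ : AdjoinRoot m ⊗[k] K →ₐ[k] K := Algebra.TensorProduct.lift j (AlgHom.id k K) fun _ _ => .all _ _
    have hΦ : ∀ a b, Φ (a ⊗ₜ b) = j a * b := fun a b => Algebra.TensorProduct.lift_tmul _ _ _ _ _
    have hj : j (AdjoinRoot.root m) = z := AdjoinRoot.liftAlgHom_root ..
    have he : (AdjoinRoot.root m) ⊗ₜ[k] (1 : K) = (1 : AdjoinRoot m) ⊗ₜ[k] z :=
      Φ.toRingHom.injective (by
        show Φ _ = Φ _
        rw [hΦ, hΦ, hj, mul_one, map_one, one_mul])
    by_contra hzr
    have hg : AdjoinRoot.root m ∉ Submodule.span k ({1} : Set (AdjoinRoot m)) := fun h => hzr (by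
      obtain ⟨c, hc⟩ := Submodule.mem_span_singleton.1 h
      exact ⟨c, by rw [← hj, ← hc, map_smul, map_one, Algebra.algebraMap_eq_smul_one]⟩)
    obtain ⟨l, hl, hl1⟩ := Submodule.exists_dual_map_eq_bot_of_notMem hg inferInstance
    have h1 : l 1 = 0 := by
      have := Submodule.mem_map_of_mem (f := l) (Submodule.mem_span_singleton_self (1 : AdjoinRoot m))
      rwa [hl1, Submodule.mem_bot] at this
    have h2 := congrArg (fun t => TensorProduct.lid k K (TensorProduct.map l LinearMap.id t)) he
    simp only [TensorProduct.map_tmul, LinearMap.id_apply, TensorProduct.lid_tmul, h1, zero_smul] at h2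
    rw [smul_eq_zero] at h2
    exact h2.elim hl one_ne_zero

theorem dvd_of_relation_transcendental (hx : Transcendental k x) (hfxy : aeval ![x, y] f = 0)
    (hf : Irreducible f) {g : MvPolynomial (Fin 2) k} (hg : aeval ![x, y] g = 0) : f ∣ g := by
  let θ : RatFunc k →ₐ[k] K := IsFractionRing.liftAlgHom
    (g := (Polynomial.aeval x : Polynomial k →ₐ[k] K)) (transcendental_iff_injective.1 hx)
  letI := θ.toRingHom.toAlgebra
  have hθ : (algebraMap (RatFunc k) K).comp (algebraMap (Polynomial k) (RatFunc k)) =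
      (Polynomial.aeval x : Polynomial k →ₐ[k] K).toRingHom :=
    RingHom.ext fun q => IsFractionRing.lift_algebraMap (transcendental_iff_injective.1 hx) q
  have hev : ∀ q : MvPolynomial (Fin 2) k, Polynomial.aeval y
      ((slant 0 q).map (algebraMap (Polynomial k) (RatFunc k))) = aeval ![x, y] q := fun q => by
    have h := eval₂_slant x y 0 q
    rw [map_zero, zero_mul, add_zero] at h
    rw [Polynomial.aeval_def, Polynomial.eval₂_map, hθ, ← h]
  have hirr : Irreducible (slant 0 f) := (MulEquiv.irreducible_iff (slantEquiv 0)).2 hf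
  have hdeg : (slant 0 f).natDegree ≠ 0 := fun h0 => by
    obtain ⟨c, hc⟩ := Polynomial.natDegree_eq_zero.1 h0
    have h := eval₂_slant x y 0 f
    rw [map_zero, zero_mul, add_zero, hfxy, ← hc, Polynomial.eval₂_C] at h
    rw [transcendental_iff.1 hx c h, map_zero] at hc
    exact hirr.ne_zero hc.symm
  have hprim : (slant 0 f).IsPrimitive := hirr.isPrimitive hdeg
  have hK := (hprim.irreducible_iff_irreducible_map_fraction_map (K := RatFunc k)).1 hirr
  have hassoc : Associated (minpoly (RatFunc k) y) ((slant 0 f).map (algebraMap (Polynomial k) (RatFunc k))) := by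
    have hd := minpoly.dvd (RatFunc k) y (hev f |>.trans hfxy)
    obtain ⟨u, hu⟩ := hd
    rcases hK.isUnit_or_isUnit hu with h | h
    · exact absurd h (minpoly.not_isUnit _ _)
    · exact ⟨h.unit, hu.symm⟩
  have hdvd := hassoc.symm.dvd.trans (minpoly.dvd (RatFunc k) y ((hev g).trans hg))
  have h2 := map_dvd (unslant 0) ((hprim.dvd_iff_fraction_map_dvd_fraction_map (RatFunc k)).2 hdvd)
  rwa [unslant_slant, unslant_slant] at h2

theorem exists_model (hK : IsFunctionField k K) (hg : IsGeometric k K) :
    ∃ (x y : K) (f : MvPolynomial (Fin 2) k),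
      IntermediateField.adjoin k ({x, y} : Set K) = ⊤ ∧
      (∀ (k' : Type u) [Field k'] [Algebra k k'], FiniteDimensional k k' →
        Irreducible (MvPolynomial.map (algebraMap k k') f)) ∧
      RingHom.ker (aeval ![x, y] : MvPolynomial (Fin 2) k →ₐ[k] K) = Ideal.span {f} := by
  obtain ⟨x, hx, hsep⟩ := exists_sepVar hK hg
  have := finiteDimensional_adjoin hK hx
  have : Algebra.IsSeparable (IntermediateField.adjoin k ({x} : Set K)) K := hsep
  obtain ⟨y, hy⟩ := Field.exists_primitive_element (IntermediateField.adjoin k ({x} : Set K)) K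
  have htop : IntermediateField.adjoin k ({x, y} : Set K) = ⊤ := by
    have h := congrArg (IntermediateField.restrictScalars k) hy
    rwa [IntermediateField.restrictScalars_top, IntermediateField.adjoin_adjoin_left, Set.union_singleton,
      Set.pair_comm] at h
  obtain ⟨g, hg0, hgxy⟩ := exists_relation hK x y
  set φ : MvPolynomial (Fin 2) k →ₐ[k] K := aeval ![x, y]
  have hne : RingHom.ker φ ≠ ⊥ := fun h => hg0 (by
    have hg' : g ∈ RingHom.ker φ := hgxy
    rwa [h, Ideal.mem_bot] at hg')
  have hp : (RingHom.ker φ).IsPrime := RingHom.ker_isPrime φ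
  obtain ⟨f, hf, hfp⟩ := hp.exists_mem_prime_of_ne_bot hne
  have hker : RingHom.ker φ = Ideal.span {f} := le_antisymm
    (fun p hp => Ideal.mem_span_singleton.2 (dvd_of_relation_transcendental hx hf hfp.irreducible hp))
    ((Ideal.span_singleton_le_iff_mem _).2 hf)
  refine ⟨x, y, f, htop, fun k' _ _ hk' => ?_, hker⟩
  letI := (hg k' hk').toField
  have hne' : MvPolynomial.map (algebraMap k k') f ≠ 0 :=
    fun h => hfp.ne_zero (MvPolynomial.map_injective _ (algebraMap k k').injective (by rwa [map_zero]))
  refine Prime.irreducible ⟨hne', fun hu => ?_, fun a b hab => ?_⟩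
  · have h1 := hu.map (evalExt (k := k) k' x y)
    rw [(evalExt_eq_zero_iff hker k' _).2 dvd_rfl] at h1
    exact not_isUnit_zero h1
  · simp only [← evalExt_eq_zero_iff hker k', map_mul] at hab ⊢
    exact mul_eq_zero.1 hab

end Groth.Agent.FunFldLib.PlaneGeom
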