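import Groth.Agent.FunFld.PlaneAdjoint
import Mathlib.Algebra.CharP.Lemmas
import Mathlib.RingTheory.AlgebraicIndependent.Basic
import Mathlib.FieldTheory.IsAlgClosed.Basic

/-!
The genus of a plane model.
-/

namespace Groth.Agent.FunFldLib

open FunFld WithZero

section Equation

variable {k : Type*} [Field k] [IsAlgClosed k]

/-- An irreducible polynomial is not killed by both partial derivatives. -/
theorem exists_pderiv_ne_zero {f : MvPolynomial (Fin 2) k} (hf : Irreducible f) :
    ∃ i, MvPolynomial.pderiv i f ≠ 0 := by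
  classical
  by_contra h
  push Not at h
  have hdiv : ∀ m ∈ f.support, ∀ i : Fin 2, ((m i : ℕ) : k) = 0 := fun m hm i => by
    rcases Nat.eq_zero_or_pos (m i) with h0 | h0
    · simp [h0]
    have hle : Finsupp.single i 1 ≤ m := Finsupp.single_le_iff.2 h0
    have h1 := congrArg (MvPolynomial.coeff (m - Finsupp.single i 1)) (h i)
    rw [MvPolynomial.coeff_pderiv, tsub_add_cancel_of_le hle, MvPolynomial.coeff_zero, mul_eq_zero,
      Finsupp.tsub_apply, Finsupp.single_eq_same, Nat.cast_sub (by omega), Nat.cast_one, sub_add_cancel] at h1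
    exact h1.resolve_left (MvPolynomial.mem_support_iff.1 hm)
  obtain hp | ⟨p, hp, hpk⟩ := CharP.exists' k
  · have hC : f = MvPolynomial.C (MvPolynomial.coeff 0 f) :=
      MvPolynomial.totalDegree_eq_zero_iff_eq_C.1 (by
        refine Nat.le_zero.1 (Finset.sup_le fun m hm => le_of_eq ?_)
        rw [Finsupp.sum_fintype _ _ (fun _ => rfl)]
        exact Finset.sum_eq_zero fun i _ => by exact_mod_cast hdiv m hm i)
    rw [hC] at hf
    rcases eq_or_ne (MvPolynomial.coeff 0 f) 0 with h0 | h0
    · rw [h0, map_zero] at hf; exact hf.ne_zero rfl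
    · exact hf.not_isUnit ((isUnit_iff_ne_zero.2 h0).map MvPolynomial.C)
  · have hpk' : CharP (MvPolynomial (Fin 2) k) p := inferInstance
    have hroot : ∀ a : k, ∃ b : k, b ^ p = a := fun a => IsAlgClosed.exists_pow_nat_eq a hp.out.pos
    choose r hr using hroot
    refine not_irreducible_pow hp.out.ne_one (x := ∑ m ∈ f.support,
      MvPolynomial.monomial (m.mapRange (fun e => e / p) (Nat.zero_div p)) (r (f.coeff m))) ?_
    rw [sum_pow_char]
    convert hf
    conv_rhs => rw [f.as_sum]
    refine Finset.sum_congr rfl fun m hm => ?_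
    rw [MvPolynomial.monomial_pow, hr]
    refine congrArg (fun v => MvPolynomial.monomial v (f.coeff m)) (Finsupp.ext fun i => ?_)
    have hd : p ∣ m i := (CharP.cast_eq_zero_iff k p _).1 (hdiv m hm i)
    simp [Nat.mul_div_cancel' hd]

omit [IsAlgClosed k] in
theorem totalDegree_pderiv_lt {f : MvPolynomial (Fin 2) k} {i : Fin 2} (h : MvPolynomial.pderiv i f ≠ 0) :
    (MvPolynomial.pderiv i f).totalDegree < f.totalDegree := by
  obtain ⟨m, hm, hmd⟩ := Finset.exists_mem_eq_sup _ (MvPolynomial.support_nonempty.2 h)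
    fun m : Fin 2 →₀ ℕ => m.sum fun _ e => e
  change (MvPolynomial.pderiv i f).totalDegree = _ at hmd
  rw [hmd]
  rw [MvPolynomial.mem_support_iff, MvPolynomial.coeff_pderiv] at hm
  have := MvPolynomial.le_totalDegree (MvPolynomial.mem_support_iff.2 (left_ne_zero_of_mul hm))
  rw [Finsupp.sum_fintype _ _ (fun _ => rfl), Fin.sum_univ_two] at this ⊢
  fin_cases i <;> simp at this ⊢ <;> omega

variable {K : Type*} [Field K] [Algebra k K] (hK : IsFunctionField k K) {x y : K}

omit [IsAlgClosed k] in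
include hK in
/-- Two functions satisfy a relation. -/
theorem exists_relation (x y : K) :
    ∃ g : MvPolynomial (Fin 2) k, g ≠ 0 ∧ MvPolynomial.aeval ![x, y] g = 0 := by
  classical
  by_contra hno
  push Not at hno
  have hinj : ∀ g : MvPolynomial (Fin 2) k, MvPolynomial.aeval ![x, y] g = 0 → g = 0 := fun g hg =>
    by_contra fun h => hno g h hg
  have hxt : Transcendental k x := fun ⟨p, hp, hpx⟩ => hp (by
    have h2 : MvPolynomial.aeval ![x, y] (Polynomial.aeval (MvPolynomial.X 0 : MvPolynomial (Fin 2) k) p) = 0 := by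
      rw [← Polynomial.aeval_algHom_apply, MvPolynomial.aeval_X]; simpa using hpx
    have h3 := congrArg (MvPolynomial.aeval ![(Polynomial.X : Polynomial k), 0]) (hinj _ h2)
    rw [map_zero, ← Polynomial.aeval_algHom_apply, MvPolynomial.aeval_X] at h3
    simpa using h3)
  set K₀ := IntermediateField.adjoin k ({x} : Set K)
  have := finiteDimensional_adjoin hK hxt
  set n := Module.finrank K₀ K
  have hli : LinearIndependent (Algebra.adjoin k ({x} : Set K)) fun i : Fin (n + 1) => y ^ (i : ℕ) := by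
    rw [Fintype.linearIndependent_iff]
    intro g hg
    have hp : ∀ i, ∃ p : Polynomial k, Polynomial.aeval x p = (g i : K) := fun i => by
      obtain ⟨p, hp⟩ := (SetLike.ext_iff.1 (Algebra.adjoin_singleton_eq_range_aeval k x) _).1 (g i).2
      exact ⟨p, hp⟩
    choose p hp using hp
    set Γ : Polynomial (Polynomial k) := ∑ i : Fin (n + 1), Polynomial.C (p i) * Polynomial.X ^ (i : ℕ)
    have hev : Γ.eval₂ (Polynomial.aeval x).toRingHom y = 0 := by
      rw [Polynomial.eval₂_finsetSum]
      refine (Finset.sum_congr rfl fun i _ => ?_).trans hg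
      rw [Polynomial.eval₂_mul, Polynomial.eval₂_C, Polynomial.eval₂_X_pow, Algebra.smul_def]
      show Polynomial.aeval x (p i) * _ = _
      rw [hp]; rfl
    have hΓ : Γ = 0 := by
      have h0 : MvPolynomial.aeval ![x, y] (unslant 0 Γ) = 0 := by
        rw [← eval₂_slant x y 0, slant_unslant]
        simpa using hev
      rw [← slant_unslant 0 Γ, hinj _ h0, map_zero]
    intro i
    have hi := congrArg (fun q : Polynomial (Polynomial k) => q.coeff (i : ℕ)) hΓ
    simp only [Γ, Polynomial.finsetSum_coeff, Polynomial.coeff_C_mul_X_pow, Fin.val_inj, Finset.sum_ite_eq,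
      Finset.mem_univ, if_true, Polynomial.coeff_zero] at hi
    exact Subtype.ext (by rw [← hp i, hi, map_zero]; rfl)
  have hli' : LinearIndependent K₀ fun i : Fin (n + 1) => y ^ (i : ℕ) := by
    open IntermediateField.algebraAdjoinAdjoin in
    exact (LinearIndependent.iff_fractionRing (Algebra.adjoin k ({x} : Set K)) K₀).1 hli
  have := hli'.fintype_card_le_finrank
  simp [n] at this

omit [IsAlgClosed k] in
include hK in
theorem hasseD_chain [IsAlgClosed k] {s : K} {Hs : K →ₐ[k] PowerSeries K} (hHs : LocRes.IsHasseFamily s Hs)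
    {t : K} {Ht : K →ₐ[k] PowerSeries K} (hHt : LocRes.IsHasseFamily t Ht) (z : K) :
    LocRes.hasseD Ht 1 z = LocRes.hasseD Hs 1 z * LocRes.hasseD Ht 1 s := by
  have hg := isGeometric_of_isAlgClosed (k := k) (K := K)
  have ht := isSepVar_of_hasse hK hg hHt
  have hs := isSepVar_of_hasse hK hg hHs
  have h1 := kaehler_eq_hasseD_smul hHs hs z
  rw [kaehler_eq_hasseD_smul hHt ht s, kaehler_eq_hasseD_smul hHt ht z, smul_smul] at h1
  exact smul_left_injective K (kaehler_D_sepVar_ne_zero hK (transcendental_of_hasse hK hHt) ht) h1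

include hK in
theorem genus_iff_of_pderiv_ne_zero (htop : IntermediateField.adjoin k ({x, y} : Set K) = ⊤)
    {f : MvPolynomial (Fin 2) k} (hfxy : MvPolynomial.aeval ![x, y] f = 0) (hf : Irreducible f)
    (hfy : MvPolynomial.aeval ![x, y] (MvPolynomial.pderiv 1 f) ≠ 0) :
    2 * (genus k K : ℤ) = ((f.totalDegree : ℤ) - 1) * ((f.totalDegree : ℤ) - 2) ↔
      ∀ P : Place k K, IsNonsingularAt ![(1 : K), x, y] P := by
  have hg := isGeometric_of_isAlgClosed (k := k) (K := K)
  obtain ⟨s, hs, hsep⟩ := exists_sepVar hK hg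
  have := finiteDimensional_adjoin hK hs
  obtain ⟨Hs, hHs⟩ := exists_hasseFamily hs hsep
  choose π hπ using fun Q : Place k K => exists_val_eq Q (-1)
  choose Hf hHf using fun Q : Place k K => exists_hasse_param hK (hπ Q)
  let e := fun Q : Place k K => (exists_paramExp hK (hπ Q)).some
  obtain ⟨P₀⟩ := exists_place hK
  have hloc := fun Q : Place k K => plane_local hK htop hfxy hf hfy Q (hπ Q) (hHf Q)
  set fy := MvPolynomial.aeval ![x, y] (MvPolynomial.pderiv 1 f)
  set u := LocRes.hasseD Hs 1 x / fy with hu_def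
  have hsx : LocRes.hasseD Hs 1 x ≠ 0 := fun h => (hloc P₀).1 (by rw [hasseD_chain hK hHs (hHf P₀), h, zero_mul])
  have hu : u ≠ 0 := div_ne_zero hsx hfy
  set Φ : Place k K → (K →ₐ[k] LaurentSeries k) := fun Q => (e Q).φ
  have hΦ : ∀ Q, LocRes.IsExpansionAt Q.1 (Φ Q) := fun Q => (e Q).isExp
  set Δ : Divisor k K := ((f.totalDegree : ℤ) - 3) • mapDiv k ![(1 : K), x, y] - divDiff Φ u s with hΔ
  have hΔQ : ∀ Q, Δ Q = adjOrd Q (Hf Q) x y f := fun Q => by
    rw [hΔ, Finsupp.sub_apply, Finsupp.smul_apply, smul_eq_mul, divDiff_apply hK hHs hu hΦ,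
      ordDiff_eq hK (hπ Q) (hHf Q) (hΦ Q), adjOrd, hu_def, div_mul_eq_mul_div, ← hasseD_chain hK hHs (hHf Q),
      ord_div Q (hloc Q).1 hfy]
  have hΔ0 : 0 ≤ Δ := fun Q => by
    show (0 : ℤ) ≤ Δ Q
    rw [hΔQ]; exact (hloc Q).2.1
  have hdeg : Δ.deg = ((f.totalDegree : ℤ) - 1) * ((f.totalDegree : ℤ) - 2) - 2 * genus k K := by
    rw [hΔ, deg_sub, deg_zsmul, deg_divDiff hK hHs hu hΦ, deg_mapDiv_model hK htop hfxy hf]; ring
  have hzero : Δ.deg = 0 ↔ Δ = 0 :=
    ⟨fun h => (eq_of_le_of_deg_le hK hΔ0 (by rw [h, deg_zero])).symm, fun h => by rw [h, deg_zero]⟩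
  constructor
  · intro h P
    refine (hloc P).2.2.1 ?_
    rw [← hΔQ, hzero.1 (by rw [hdeg]; linarith)]
    rfl
  · intro h
    have : Δ = 0 := Finsupp.ext fun Q => by rw [hΔQ, (hloc Q).2.2.2 (h Q)]; rfl
    have h2 := hzero.2 this
    rw [hdeg] at h2
    linarith

omit [IsAlgClosed k] in
theorem isNonsingularAt_swap (x y : K) (P : Place k K) :
    IsNonsingularAt ![(1 : K), y, x] P ↔ IsNonsingularAt ![(1 : K), x, y] P := by
  have key : ∀ a b : K, IsNonsingularAt ![(1 : K), a, b] P → IsNonsingularAt ![(1 : K), b, a] P := by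
    intro a b h z hz
    obtain ⟨j, hj, hext, hrest⟩ := h z hz
    have hσ : ∀ i, ![(1 : K), b, a] (Equiv.swap (1 : Fin 3) 2 i) = ![(1 : K), a, b] i := fun i => by
      fin_cases i <;> simp [Equiv.swap_apply_def]
    refine ⟨Equiv.swap 1 2 j, by rwa [hσ], fun i => ?_, ?_⟩
    · have := hext (Equiv.swap 1 2 i)
      rwa [← hσ (Equiv.swap 1 2 i), Equiv.swap_apply_self, ← hσ j] at this
    · have hr : (Set.range fun i => ![(1 : K), b, a] i / ![(1 : K), b, a] (Equiv.swap 1 2 j)) =
          Set.range fun i => ![(1 : K), a, b] i / ![(1 : K), a, b] j := by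
        rw [← (Equiv.swap (1 : Fin 3) 2).surjective.range_comp]
        simp only [Function.comp_def, hσ]
      rw [hr]; exact hrest
  exact ⟨key y x, key x y⟩

include hK in
/-- The genus formula characterises nonsingular plane models. -/
theorem genus_iff_nonsingular (htop : IntermediateField.adjoin k ({x, y} : Set K) = ⊤) :
    2 * (genus k K : ℤ) = ((mapDiv k ![(1 : K), x, y]).deg - 1) * ((mapDiv k ![(1 : K), x, y]).deg - 2) ↔
      ∀ P : Place k K, IsNonsingularAt ![(1 : K), x, y] P := by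
  obtain ⟨g, hg0, hg⟩ := exists_relation hK x y
  obtain ⟨f, hf, -, hfxy⟩ := exists_irreducible_factor hK hg0 hg
  by_cases hfy : MvPolynomial.aeval ![x, y] (MvPolynomial.pderiv 1 f) ≠ 0
  · rw [deg_mapDiv_model hK htop hfxy hf]
    exact genus_iff_of_pderiv_ne_zero hK htop hfxy hf hfy
  push Not at hfy
  -- exchange the coordinates
  have hpd : ∀ i, MvPolynomial.aeval ![x, y] (MvPolynomial.pderiv i f) = 0 → MvPolynomial.pderiv i f = 0 := by
    intro i h
    by_contra hne
    obtain ⟨h', hh⟩ := dvd_of_relation hK htop hfxy hf h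
    have hh0 : h' ≠ 0 := fun h0 => hne (by rw [hh, h0, mul_zero])
    have := totalDegree_pderiv_lt hne
    rw [hh, MvPolynomial.totalDegree_mul_of_isDomain hf.ne_zero hh0] at this
    omega
  obtain ⟨i, hi⟩ := exists_pderiv_ne_zero hf
  have hi0 : i = 0 := by
    fin_cases i
    · rfl
    · exact absurd (hpd 1 hfy) hi
  subst hi0
  have hfx : MvPolynomial.aeval ![x, y] (MvPolynomial.pderiv 0 f) ≠ 0 := fun h => hi (hpd 0 h)
  set f' := MvPolynomial.rename (Equiv.swap (0 : Fin 2) 1) f
  have hcomp : ![y, x] ∘ (Equiv.swap (0 : Fin 2) 1) = ![x, y] := by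
    funext i; fin_cases i <;> simp
  have hfxy' : MvPolynomial.aeval ![y, x] f' = 0 := by rw [MvPolynomial.aeval_rename, hcomp, hfxy]
  have hfy' : MvPolynomial.aeval ![y, x] (MvPolynomial.pderiv 1 f') ≠ 0 := by
    rw [show (1 : Fin 2) = Equiv.swap (0 : Fin 2) 1 0 by simp,
      MvPolynomial.pderiv_rename (Equiv.swap (0 : Fin 2) 1).injective, MvPolynomial.aeval_rename]
    simpa [hcomp] using hfx
  have htop' : IntermediateField.adjoin k ({y, x} : Set K) = ⊤ := by rwa [Set.pair_comm]
  have hf' : Irreducible f' :=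
    (MulEquiv.irreducible_iff (MvPolynomial.renameEquiv k (Equiv.swap (0 : Fin 2) 1))).2 hf
  rw [← mapDiv_swap hK x y, deg_mapDiv_model hK htop' hfxy' hf', genus_iff_of_pderiv_ne_zero hK htop' hfxy' hf' hfy']
  exact forall_congr' fun P => isNonsingularAt_swap x y P

end Equation

end Groth.Agent.FunFldLib
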