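import Groth.Agent.FunFld.CanDeg
import Mathlib.RingTheory.AdjoinRoot
import Mathlib.Algebra.MvPolynomial.PDeriv
import Mathlib.RingTheory.Ideal.GoingUp
import Groth.Prelude.Def_W4bk4goldsch45p2

/-!
The equation of a plane model: a generic projection makes it monic, so it generates the relations and
computes the degree of the map.
-/

namespace Groth.Agent.FunFldLib

open FunFld WithZero

section Subst

variable {k : Type*} [Field k]

/-- The substitution `(X, Y) ↦ (X - c Y, Y)` into `k[X][Y]`. -/
noncomputable def slant (c : k) : MvPolynomial (Fin 2) k →ₐ[k] Polynomial (Polynomial k) :=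
  MvPolynomial.aeval ![Polynomial.C Polynomial.X - Polynomial.C (Polynomial.C c) * Polynomial.X, Polynomial.X]

/-- Its inverse. -/
noncomputable def unslant (c : k) : Polynomial (Polynomial k) →+* MvPolynomial (Fin 2) k :=
  Polynomial.eval₂RingHom
    (Polynomial.aeval (R := k) (MvPolynomial.X 0 + MvPolynomial.C c * MvPolynomial.X 1 : MvPolynomial (Fin 2) k)).toRingHom
    (MvPolynomial.X 1)

theorem unslant_slant (c : k) (g : MvPolynomial (Fin 2) k) : unslant c (slant c g) = g := by
  have h : (unslant c).comp (slant c).toRingHom = RingHom.id _ := by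
    refine MvPolynomial.ringHom_ext (fun a => ?_) fun i => ?_
    · simp [unslant, slant, Polynomial.algebraMap_apply, MvPolynomial.algebraMap_eq]
    · fin_cases i <;> simp [unslant, slant, MvPolynomial.algebraMap_eq]
  exact DFunLike.congr_fun h g

theorem slant_unslant (c : k) (p : Polynomial (Polynomial k)) : slant c (unslant c p) = p := by
  have h : (slant c).toRingHom.comp (unslant c) = RingHom.id _ := by
    refine Polynomial.ringHom_ext' (Polynomial.ringHom_ext (fun a => ?_) ?_) ?_
    · simp [unslant, slant, Polynomial.algebraMap_apply, MvPolynomial.algebraMap_eq]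
    · simp [unslant, slant, Polynomial.algebraMap_apply, MvPolynomial.algebraMap_eq]
    · simp [unslant, slant]
  exact DFunLike.congr_fun h p

/-- The substitution is an isomorphism. -/
noncomputable def slantEquiv (c : k) : MvPolynomial (Fin 2) k ≃+* Polynomial (Polynomial k) :=
  RingEquiv.ofRingHom (slant c).toRingHom (unslant c) (RingHom.ext (slant_unslant c)) (RingHom.ext (unslant_slant c))

/-- Total degree at most `D`, for polynomials in `k[X][Y]`. -/
def BiDegLE (D : ℕ) (p : Polynomial (Polynomial k)) : Prop :=
  ∀ n, p.coeff n ≠ 0 → (p.coeff n).natDegree + n ≤ D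

theorem BiDegLE.natDegree_le {D : ℕ} {p : Polynomial (Polynomial k)} (h : BiDegLE D p) : p.natDegree ≤ D := by
  rcases eq_or_ne p 0 with rfl | hp
  · simp
  · have := h p.natDegree (by simpa using hp)
    omega

theorem biDegLE_mul {D E : ℕ} {p q : Polynomial (Polynomial k)} (hp : BiDegLE D p) (hq : BiDegLE E q) :
    BiDegLE (D + E) (p * q) := by
  classical
  intro n hn
  rw [Polynomial.coeff_mul] at hn ⊢
  obtain ⟨ij, hij, hne⟩ := Finset.exists_ne_zero_of_sum_ne_zero hn
  rw [Finset.HasAntidiagonal.mem_antidiagonal] at hij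
  have h0 := hp _ (left_ne_zero_of_mul hne)
  have h1 := hq _ (right_ne_zero_of_mul hne)
  have hsum : (∑ x ∈ Finset.HasAntidiagonal.antidiagonal n, p.coeff x.1 * q.coeff x.2).natDegree ≤ D + E - n :=
    Polynomial.natDegree_sum_le_of_forall_le _ _ fun x hx => by
      rw [Finset.HasAntidiagonal.mem_antidiagonal] at hx
      rcases eq_or_ne (p.coeff x.1 * q.coeff x.2) 0 with h | h
      · simp [h]
      · have h2 := hp _ (left_ne_zero_of_mul h)
        have h3 := hq _ (right_ne_zero_of_mul h)
        have := Polynomial.natDegree_mul_le (p := p.coeff x.1) (q := q.coeff x.2)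
        omega
  omega

theorem biDegLE_pow {D : ℕ} {p : Polynomial (Polynomial k)} (hp : BiDegLE D p) (n : ℕ) :
    BiDegLE (n * D) (p ^ n) ∧ (p ^ n).coeff (n * D) = p.coeff D ^ n := by
  induction n with
  | zero =>
    refine ⟨fun m hm => ?_, by simp⟩
    rcases m with _ | m
    · simp
    · simp [Polynomial.coeff_one] at hm
  | succ n ih =>
    rw [pow_succ, Nat.succ_mul]
    refine ⟨biDegLE_mul ih.1 hp, ?_⟩
    rw [Polynomial.coeff_mul_add_eq_of_natDegree_le ih.1.natDegree_le hp.natDegree_le, ih.2, pow_succ]

theorem biDegLE_monomial (c a : k) (m : Fin 2 →₀ ℕ) :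
    BiDegLE (m 0 + m 1) (slant c (MvPolynomial.monomial m a)) ∧
      (slant c (MvPolynomial.monomial m a)).coeff (m 0 + m 1) = Polynomial.C (a * (-c) ^ m 0) := by
  have heq : slant c (MvPolynomial.monomial m a) = Polynomial.C (Polynomial.C a) *
      ((Polynomial.C Polynomial.X - Polynomial.C (Polynomial.C c) * Polynomial.X) ^ m 0 * Polynomial.X ^ m 1) := by
    rw [slant, MvPolynomial.aeval_monomial, Finsupp.prod_fintype _ _ fun i => pow_zero _, Fin.prod_univ_two,
      Polynomial.algebraMap_apply]
    rfl
  have hA : BiDegLE 1 (Polynomial.C Polynomial.X - Polynomial.C (Polynomial.C c) * Polynomial.X :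
      Polynomial (Polynomial k)) := fun n hn => by
    rcases n with _ | _ | n
    · simp
    · simp
    · simp [Polynomial.coeff_X, Polynomial.coeff_C] at hn
  have hA1 : (Polynomial.C Polynomial.X - Polynomial.C (Polynomial.C c) * Polynomial.X :
      Polynomial (Polynomial k)).coeff 1 = Polynomial.C (-c) := by simp
  have hX : BiDegLE 1 (Polynomial.X : Polynomial (Polynomial k)) := fun n hn => by
    rcases n with _ | _ | n
    · simp at hn
    · simp
    · simp [Polynomial.coeff_X] at hn
  have hC : BiDegLE 0 (Polynomial.C (Polynomial.C a) : Polynomial (Polynomial k)) := fun n hn => by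
    rcases n with _ | n
    · simp
    · simp [Polynomial.coeff_C] at hn
  obtain ⟨h1, h1'⟩ := biDegLE_pow hA (m 0)
  obtain ⟨h2, h2'⟩ := biDegLE_pow hX (m 1)
  rw [mul_one] at h1 h1' h2 h2'
  rw [heq]
  refine ⟨by simpa using biDegLE_mul hC (biDegLE_mul h1 h2), ?_⟩
  rw [Polynomial.coeff_C_mul, Polynomial.coeff_mul_add_eq_of_natDegree_le h1.natDegree_le h2.natDegree_le, h1',
    h2', hA1, Polynomial.coeff_X_one, one_pow, mul_one, ← Polynomial.C_pow, ← Polynomial.C_mul]

theorem biDegLE_slant (c : k) (f : MvPolynomial (Fin 2) k) : BiDegLE f.totalDegree (slant c f) := by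
  intro n hn
  rw [f.as_sum, map_sum, Polynomial.finsetSum_coeff] at hn ⊢
  have hle : ∀ m ∈ f.support, (slant c (MvPolynomial.monomial m (f.coeff m))).coeff n ≠ 0 →
      ((slant c (MvPolynomial.monomial m (f.coeff m))).coeff n).natDegree + n ≤ f.totalDegree := fun m hm h => by
    refine ((biDegLE_monomial c _ m).1 n h).trans ?_
    have := MvPolynomial.le_totalDegree hm
    rw [Finsupp.sum_fintype _ _ (fun _ => rfl), Fin.sum_univ_two] at this
    exact this
  obtain ⟨m, hm, hne⟩ := Finset.exists_ne_zero_of_sum_ne_zero hn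
  have hn' := hle m hm hne
  rw [← f.as_sum]
  have := Polynomial.natDegree_sum_le_of_forall_le (n := f.totalDegree - n) f.support
    (fun m => (slant c (MvPolynomial.monomial m (f.coeff m))).coeff n) fun m' hm' => by
      rcases eq_or_ne ((slant c (MvPolynomial.monomial m' (f.coeff m'))).coeff n) 0 with h | h
      · simp [h]
      · have := hle m' hm' h; omega
  omega

/-- All but finitely many projections make `f` monic in `Y` up to a constant. -/
theorem finite_bad_slant {f : MvPolynomial (Fin 2) k} (hf : f ≠ 0) :
    {c : k | ¬ ∃ a : k, a ≠ 0 ∧ (slant c f).coeff f.totalDegree = Polynomial.C a}.Finite := by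
  classical
  set S := f.support.filter fun m => m 0 + m 1 = f.totalDegree
  set T : Polynomial k := ∑ m ∈ S, Polynomial.monomial (m 0) (f.coeff m * (-1) ^ m 0)
  have hcoeff : ∀ c : k, (slant c f).coeff f.totalDegree = Polynomial.C (T.eval c) := fun c => by
    conv_lhs => rw [f.as_sum, map_sum, Polynomial.finsetSum_coeff]
    rw [← MvPolynomial.as_sum, Polynomial.eval_finsetSum, map_sum,
      ← Finset.sum_filter_add_sum_filter_not f.support (fun m => m 0 + m 1 = f.totalDegree),
      Finset.sum_eq_zero (s := f.support.filter fun m => ¬m 0 + m 1 = f.totalDegree) fun m hm => by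
        obtain ⟨hm1, hm2⟩ := Finset.mem_filter.1 hm
        refine Polynomial.coeff_eq_zero_of_natDegree_lt (lt_of_le_of_lt (biDegLE_monomial c _ m).1.natDegree_le ?_)
        have := MvPolynomial.le_totalDegree hm1
        rw [Finsupp.sum_fintype _ _ (fun _ => rfl), Fin.sum_univ_two] at this
        omega, add_zero]
    refine Finset.sum_congr rfl fun m hm => ?_
    rw [← (Finset.mem_filter.1 hm).2, (biDegLE_monomial c _ m).2, Polynomial.eval_monomial, mul_assoc,
      ← mul_pow, neg_one_mul]
  have hT : T ≠ 0 := by
    obtain ⟨m, hm, hdeg⟩ := Finset.exists_mem_eq_sup _ (MvPolynomial.support_nonempty.2 hf) fun m : Fin 2 →₀ ℕ =>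
      m.sum fun _ e => e
    change f.totalDegree = _ at hdeg
    rw [Finsupp.sum_fintype _ _ (fun _ => rfl), Fin.sum_univ_two] at hdeg
    have hmS : m ∈ S := Finset.mem_filter.2 ⟨hm, hdeg.symm⟩
    intro h
    have h1 := congrArg (fun p : Polynomial k => p.coeff (m 0)) h
    simp only [T, Polynomial.finsetSum_coeff, Polynomial.coeff_monomial, Polynomial.coeff_zero] at h1
    rw [Finset.sum_eq_single_of_mem m hmS fun m' hm' hne => if_neg fun h0 => hne (Finsupp.ext fun i => by
      have h1 := (Finset.mem_filter.1 hm').2
      fin_cases i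
      · exact h0
      · show m' 1 = m 1; omega), if_pos rfl] at h1
    exact mul_ne_zero (MvPolynomial.mem_support_iff.1 hm) (pow_ne_zero _ (neg_ne_zero.2 one_ne_zero)) h1
  refine (Polynomial.finite_setOf_isRoot hT).subset fun c hc => ?_
  by_contra hr
  exact hc ⟨_, hr, hcoeff c⟩

variable {K : Type*} [Field K] [Algebra k K]

theorem eval₂_slant (x y : K) (c : k) (g : MvPolynomial (Fin 2) k) :
    (slant c g).eval₂ (Polynomial.aeval (x + algebraMap k K c * y)).toRingHom y =
      MvPolynomial.aeval ![x, y] g := by
  have h : (Polynomial.eval₂RingHom (Polynomial.aeval (x + algebraMap k K c * y)).toRingHom y).comp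
      (slant c).toRingHom = (MvPolynomial.aeval ![x, y]).toRingHom := by
    refine MvPolynomial.ringHom_ext (fun a => ?_) fun i => ?_
    · simp [slant, Polynomial.algebraMap_apply]
    · fin_cases i <;> simp [slant]
  exact DFunLike.congr_fun h g

theorem eval₂_derivative_slant (x y : K) (c : k) (g : MvPolynomial (Fin 2) k) :
    (slant c g).derivative.eval₂ (Polynomial.aeval (x + algebraMap k K c * y)).toRingHom y =
      MvPolynomial.aeval ![x, y] (MvPolynomial.pderiv 1 g) -
        algebraMap k K c * MvPolynomial.aeval ![x, y] (MvPolynomial.pderiv 0 g) := by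
  induction g using MvPolynomial.induction_on with
  | C a => simp [slant, Polynomial.algebraMap_apply]
  | add p q hp hq =>
    simp only [map_add, Polynomial.eval₂_add, hp, hq]
    ring
  | mul_X p i hp =>
    simp only [map_mul, Polynomial.derivative_mul, Polynomial.eval₂_add, Polynomial.eval₂_mul, hp,
      eval₂_slant x y c p, Derivation.leibniz, smul_eq_mul, MvPolynomial.pderiv_X]
    fin_cases i <;> simp [slant, Pi.single_apply] <;> ring

/-- The chain rule for the first Hasse derivative. -/
theorem hasseD_aeval {s : K} {H : K →ₐ[k] PowerSeries K} (hH : LocRes.IsHasseFamily s H) (x y : K)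
    (g : MvPolynomial (Fin 2) k) :
    LocRes.hasseD H 1 (MvPolynomial.aeval ![x, y] g) =
      MvPolynomial.aeval ![x, y] (MvPolynomial.pderiv 0 g) * LocRes.hasseD H 1 x +
        MvPolynomial.aeval ![x, y] (MvPolynomial.pderiv 1 g) * LocRes.hasseD H 1 y := by
  induction g using MvPolynomial.induction_on with
  | C a => simp [LocRes.hasseD, PowerSeries.algebraMap_apply, PowerSeries.coeff_C]
  | add p q hp hq =>
    simp only [map_add, LocRes.hasseD] at hp hq ⊢
    rw [hp, hq]; ring
  | mul_X p i hp =>
    simp only [map_mul, hasseD_one_mul H hH.2, hp, MvPolynomial.aeval_X, Derivation.leibniz, smul_eq_mul,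
      MvPolynomial.pderiv_X]
    fin_cases i <;> simp [Pi.single_apply] <;> ring

theorem hasseD_slant {s : K} {H : K →ₐ[k] PowerSeries K} (hH : LocRes.IsHasseFamily s H) (x y : K) (c : k) :
    LocRes.hasseD H 1 (x + algebraMap k K c * y) =
      LocRes.hasseD H 1 x + algebraMap k K c * LocRes.hasseD H 1 y := by
  have h := hasseD_aeval hH x y (MvPolynomial.X 0 + MvPolynomial.C c * MvPolynomial.X 1)
  simpa [Pi.single_apply] using h

end Subst

section Model

variable {k K : Type*} [Field k] [IsAlgClosed k] [Field K] [Algebra k K]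
variable (hK : IsFunctionField k K) {x y : K} (htop : IntermediateField.adjoin k ({x, y} : Set K) = ⊤)

omit [IsAlgClosed k] in
include htop in
theorem adjoin_slant (c : k) :
    IntermediateField.adjoin k ({x + algebraMap k K c * y, y} : Set K) = ⊤ := by
  rw [eq_top_iff, ← htop, IntermediateField.adjoin_le_iff]
  rintro u (rfl | rfl)
  · have h := sub_mem (IntermediateField.subset_adjoin k ({u + algebraMap k K c * y, y} : Set K) (Set.mem_insert _ _))
      (mul_mem (IntermediateField.algebraMap_mem _ c)
        (IntermediateField.subset_adjoin k ({u + algebraMap k K c * y, y} : Set K)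
          (Set.mem_insert_of_mem _ rfl)))
    simpa using h
  · exact IntermediateField.subset_adjoin k _ (Set.mem_insert_of_mem _ rfl)

variable {f : MvPolynomial (Fin 2) k} (hfxy : MvPolynomial.aeval ![x, y] f = 0)

/-- The monic projection of `f`. -/
noncomputable def projPoly (f : MvPolynomial (Fin 2) k) (c a : k) : Polynomial (Polynomial k) :=
  Polynomial.C (Polynomial.C a⁻¹) * slant c f

variable {c a : k} (ha : a ≠ 0) (hca : (slant c f).coeff f.totalDegree = Polynomial.C a)

omit [IsAlgClosed k] in
include ha hca in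
theorem projPoly_spec : (projPoly f c a).Monic ∧ (projPoly f c a).natDegree = f.totalDegree ∧
    BiDegLE f.totalDegree (projPoly f c a) := by
  have hc : (projPoly f c a).coeff f.totalDegree = 1 := by
    rw [projPoly, Polynomial.coeff_C_mul, hca, ← Polynomial.C_mul, inv_mul_cancel₀ ha, Polynomial.C_1]
  have hb : BiDegLE f.totalDegree (projPoly f c a) := fun n hn => by
    rw [projPoly, Polynomial.coeff_C_mul] at hn ⊢
    rw [Polynomial.natDegree_C_mul (inv_ne_zero ha)]
    exact biDegLE_slant c f n (right_ne_zero_of_mul hn)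
  have hd : (projPoly f c a).natDegree = f.totalDegree :=
    le_antisymm hb.natDegree_le (Polynomial.le_natDegree_of_ne_zero (by rw [hc]; exact one_ne_zero))
  exact ⟨by rw [Polynomial.Monic, Polynomial.leadingCoeff, hd, hc], hd, hb⟩

omit [IsAlgClosed k] in
include hfxy in
theorem projPoly_eval :
    (projPoly f c a).eval₂ (Polynomial.aeval (x + algebraMap k K c * y)).toRingHom y = 0 := by
  rw [projPoly, Polynomial.eval₂_mul, eval₂_slant, hfxy, mul_zero]

omit [IsAlgClosed k] in
include hK htop hfxy ha hca in
theorem transcendental_slant : Transcendental k (x + algebraMap k K c * y) := fun halg => by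
  obtain ⟨hmon, -, -⟩ := projPoly_spec ha hca
  obtain ⟨x₀, hx₀⟩ := hK.2 _ halg
  have hy : IsAlgebraic k y := by
    refine ⟨(projPoly f c a).map (Polynomial.aeval (R := k) x₀).toRingHom, (hmon.map _).ne_zero, ?_⟩
    rw [Polynomial.aeval_def, Polynomial.eval₂_map]
    have h := projPoly_eval (c := c) (a := a) hfxy
    have hcomp : (algebraMap k K).comp (Polynomial.aeval (R := k) x₀).toRingHom =
        (Polynomial.aeval (x + algebraMap k K c * y)).toRingHom := by
      refine Polynomial.ringHom_ext (fun b => by simp) ?_
      simp [hx₀]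
    rwa [hcomp]
  have hall : ∀ z : K, IsAlgebraic k z := fun z => by
    have hle : IntermediateField.adjoin k ({x + algebraMap k K c * y, y} : Set K) ≤ algebraicClosure k K :=
      IntermediateField.adjoin_le_iff.2 (by
        rintro u (rfl | rfl)
        · exact mem_algebraicClosure_iff.2 halg
        · exact mem_algebraicClosure_iff.2 hy)
    exact mem_algebraicClosure_iff.1 (hle (by rw [adjoin_slant htop c]; trivial))
  obtain ⟨t, ht, -⟩ := hK.1
  exact ht (hall t)

omit [IsAlgClosed k] in
include hK htop hfxy ha hca in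
/-- The relations of the projected curve are the multiples of its equation. -/
theorem projPoly_kernel (hf : Irreducible f) {p : Polynomial (Polynomial k)}
    (hp : p.eval₂ (Polynomial.aeval (x + algebraMap k K c * y)).toRingHom y = 0) : projPoly f c a ∣ p := by
  obtain ⟨hmon, hdeg, -⟩ := projPoly_spec ha hca
  have hirr : Irreducible (projPoly f c a) := by
    have hu : IsUnit (Polynomial.C (Polynomial.C a⁻¹) : Polynomial (Polynomial k)) :=
      Polynomial.isUnit_C.2 (Polynomial.isUnit_C.2 (isUnit_iff_ne_zero.2 (inv_ne_zero ha)))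
    rw [projPoly, irreducible_isUnit_mul hu]
    exact (MulEquiv.irreducible_iff (slantEquiv c)).2 hf
  have hprime : Prime (projPoly f c a) := UniqueFactorizationMonoid.irreducible_iff_prime.1 hirr
  have := AdjoinRoot.isDomain_of_prime hprime
  set x₁ := x + algebraMap k K c * y
  let φ : AdjoinRoot (projPoly f c a) →+* K :=
    AdjoinRoot.lift (Polynomial.aeval x₁).toRingHom y (projPoly_eval hfxy)
  have hint : Algebra.IsIntegral (Polynomial k) (AdjoinRoot (projPoly f c a)) := by
    have := hmon.finite_adjoinRoot
    exact Algebra.IsIntegral.of_finite _ _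
  have hker : RingHom.ker φ = ⊥ := by
    refine Ideal.eq_bot_of_comap_eq_bot (R := Polynomial k) ((Submodule.eq_bot_iff _).2 fun b hb => ?_)
    rw [Ideal.mem_comap, RingHom.mem_ker, AdjoinRoot.algebraMap_eq, AdjoinRoot.lift_of] at hb
    exact transcendental_iff.1 (transcendental_slant hK htop hfxy ha hca) b hb
  rw [← AdjoinRoot.mk_eq_zero, ← Ideal.mem_bot, ← hker, RingHom.mem_ker, AdjoinRoot.lift_mk]
  exact hp

include hK htop hfxy in
/-- An irreducible equation generates all relations. -/
theorem dvd_of_relation (hf : Irreducible f) {g : MvPolynomial (Fin 2) k}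
    (hg : MvPolynomial.aeval ![x, y] g = 0) : f ∣ g := by
  obtain ⟨c, hc⟩ := (finite_bad_slant hf.ne_zero).exists_notMem
  rw [Set.mem_ofPred_eq, not_not] at hc
  obtain ⟨a, ha, hca⟩ := hc
  have h := projPoly_kernel hK htop hfxy ha hca hf (p := slant c g) (by rw [eval₂_slant, hg])
  have h2 : slant c f ∣ slant c g := (dvd_mul_left _ _).trans h
  have h3 := map_dvd (unslant c) h2
  rwa [unslant_slant, unslant_slant] at h3

omit [IsAlgClosed k] in
include hfxy ha hca in
/-- `y` is bounded by the projection everywhere. -/
theorem val_le_of_proj (P : Place k K) :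
    P.1 y ≤ max 1 (P.1 (x + algebraMap k K c * y)) := by
  obtain ⟨hmon, hdeg, hb⟩ := projPoly_spec ha hca
  set x₁ := x + algebraMap k K c * y
  by_contra hlt
  push Not at hlt
  obtain ⟨h1, hx1⟩ := max_lt_iff.1 hlt
  set d := f.totalDegree
  have heval := projPoly_eval (c := c) (a := a) hfxy
  rw [Polynomial.eval₂_eq_sum_range, hdeg] at heval
  have hlead : (Polynomial.aeval x₁).toRingHom ((projPoly f c a).coeff d) * y ^ d = y ^ d := by
    rw [← hdeg, show (projPoly f c a).coeff (projPoly f c a).natDegree = 1 from hmon, map_one, one_mul]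
  have h := P.1.map_sum_eq_of_lt (f := fun i => (Polynomial.aeval x₁).toRingHom ((projPoly f c a).coeff i) * y ^ i)
    (s := Finset.range (d + 1)) (j := d) (by simp) fun i hi => by
      simp only [Finset.mem_sdiff, Finset.mem_range, Finset.mem_singleton] at hi
      simp only [hlead]
      have hi' : i < d := by omega
      rcases eq_or_ne ((projPoly f c a).coeff i) 0 with h0 | h0
      · simp [h0, pow_pos (zero_lt_one.trans h1)]
      have hdeg' := hb i h0
      have hy0 : 0 < P.1 y := zero_lt_one.trans h1
      rw [map_mul, map_pow, map_pow]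
      have hbound : P.1 ((Polynomial.aeval x₁).toRingHom ((projPoly f c a).coeff i)) <
          P.1 y ^ (d - i) := by
        show P.1 (Polynomial.aeval x₁ ((projPoly f c a).coeff i)) < _
        rw [Polynomial.aeval_eq_sum_range' (n := d - i + 1) (by omega)]
        refine P.1.map_sum_lt (pow_ne_zero _ hy0.ne') fun j hj => ?_
        rw [Finset.mem_range] at hj
        rw [Algebra.smul_def, map_mul, map_pow]
        refine (mul_le_of_le_one_left' (P.2.1 _)).trans_lt ?_
        rcases Nat.eq_zero_or_pos j with rfl | hjpos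
        · rw [pow_zero]; exact one_lt_pow₀ h1 (by omega)
        · exact (pow_lt_pow_left₀ hx1 zero_le hjpos.ne').trans_le (pow_le_pow_right₀ h1.le (by omega))
      calc P.1 ((Polynomial.aeval x₁).toRingHom ((projPoly f c a).coeff i)) * P.1 y ^ i
          < P.1 y ^ (d - i) * P.1 y ^ i := mul_lt_mul_of_pos_right hbound (pow_pos hy0 i)
        _ = P.1 y ^ d := by rw [← pow_add, show d - i + i = d by omega]
  rw [heval, map_zero, hlead, map_pow] at h
  exact (pow_ne_zero d (zero_lt_one.trans h1).ne') h.symm

omit [IsAlgClosed k] in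
include hK hfxy ha hca in
/-- The divisor of the model is the pole divisor of the projection. -/
theorem mapDiv_eq_polesDiv :
    mapDiv k ![(1 : K), x, y] = polesDiv k (x + algebraMap k K c * y) := by
  classical
  ext P
  rw [mapDiv_apply hK.1, polesDiv_apply hK]
  set x₁ := x + algebraMap k K c * y with hx₁
  set m := Finset.univ.inf' Finset.univ_nonempty fun i => P.ord (![(1 : K), x, y] i)
  have hle : ∀ u : K, P.1 u ≤ max 1 (P.1 x₁) → -max (-P.ord x₁) 0 ≤ P.ord u := fun u hu => by
    rcases eq_or_ne u 0 with rfl | hu0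
    · rw [ord_zero]; omega
    rcases le_max_iff.1 hu with h | h
    · have := (val_le_one_iff P hu0).1 h; omega
    · rcases eq_or_ne x₁ 0 with h0 | h0
      · rw [h0, map_zero] at h
        exact absurd (le_antisymm h zero_le) (val_ne_zero P hu0)
      · rw [val_eq_exp P hu0, val_eq_exp P h0, exp_le_exp] at h
        omega
  have hy := val_le_of_proj hfxy ha hca P
  have hx : P.1 x ≤ max 1 (P.1 x₁) := by
    rw [show x = x₁ - algebraMap k K c * y by rw [hx₁]; ring]
    refine P.1.map_sub_le (le_max_right _ _) ?_
    rw [map_mul]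
    exact (mul_le_of_le_one_left' (P.2.1 c)).trans hy
  have h1 : -max (-P.ord x₁) 0 ≤ m := Finset.le_inf' _ _ fun i _ => by
    fin_cases i
    · simp
    · exact hle _ hx
    · exact hle _ hy
  have h2 : m ≤ -max (-P.ord x₁) 0 := by
    have h0 : m ≤ 0 := Finset.inf'_le_of_le _ (Finset.mem_univ 0) (by simp)
    rcases le_or_gt (-P.ord x₁) 0 with h | h
    · omega
    have hx0 : x₁ ≠ 0 := fun h0 => by rw [h0, ord_zero] at h; omega
    by_contra hlt
    push Not at hlt
    have hb : ∀ i, P.1 (![(1 : K), x, y] i) < P.1 x₁ := fun i => by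
      rcases eq_or_ne (![(1 : K), x, y] i) 0 with h' | h'
      · rw [h', map_zero]; exact zero_lt_iff.2 (val_ne_zero P hx0)
      have := Finset.inf'_le (fun i => P.ord (![(1 : K), x, y] i)) (Finset.mem_univ i)
      rw [val_eq_exp P h', val_eq_exp P hx0, exp_lt_exp]
      simp only [m] at hlt this ⊢
      omega
    have hcy : P.1 (algebraMap k K c * y) < P.1 x₁ := by
      rw [map_mul]; exact (mul_le_of_le_one_left' (P.2.1 c)).trans_lt (hb 2)
    have := P.1.map_add_lt (hb 1) hcy
    exact lt_irrefl _ this
  omega

omit [IsAlgClosed k] in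
include hK htop hfxy ha hca in
theorem finrank_projection (hf : Irreducible f) :
    Module.finrank (IntermediateField.adjoin k ({x + algebraMap k K c * y} : Set K)) K = f.totalDegree := by
  classical
  obtain ⟨hmon, hdeg, -⟩ := projPoly_spec ha hca
  set x₁ := x + algebraMap k K c * y
  set K₀ := IntermediateField.adjoin k ({x₁} : Set K)
  have hx₁ := transcendental_slant hK htop hfxy ha hca
  have := finiteDimensional_adjoin hK hx₁
  set d := f.totalDegree
  have hmap : (algebraMap K₀ K).comp (Polynomial.aeval (R := k) (⟨x₁, IntermediateField.mem_adjoin_simple_self k x₁⟩ : K₀)).toRingHom =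
      (Polynomial.aeval x₁).toRingHom :=
    Polynomial.ringHom_ext (fun b => by simp [← IsScalarTower.algebraMap_apply]) (by simp)
  have htop' : IntermediateField.adjoin K₀ ({y} : Set K) = ⊤ := by
    refine eq_top_iff.2 fun z _ => ?_
    have hle : IntermediateField.adjoin k ({x₁, y} : Set K) ≤
        (IntermediateField.adjoin K₀ ({y} : Set K)).restrictScalars k :=
      IntermediateField.adjoin_le_iff.2 (by
        rintro u (rfl | rfl)
        · exact (IntermediateField.adjoin K₀ ({y} : Set K)).algebraMap_mem
            (⟨_, IntermediateField.mem_adjoin_simple_self k _⟩ : K₀)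
        · exact IntermediateField.mem_adjoin_simple_self K₀ _)
    exact hle (by rw [adjoin_slant htop c]; trivial)
  have hupper : Module.finrank K₀ K ≤ d := by
    have hint : IsIntegral K₀ y := .of_finite K₀ y
    rw [← IntermediateField.finrank_top', ← htop', IntermediateField.adjoin.finrank hint]
    let q := (projPoly f c a).map (Polynomial.aeval (R := k) (⟨x₁, IntermediateField.mem_adjoin_simple_self k x₁⟩ : K₀)).toRingHom
    have hq : q.Monic := hmon.map _
    refine (Polynomial.natDegree_le_of_dvd (p := minpoly K₀ y) (q := q) (minpoly.dvd K₀ y ?_) hq.ne_zero).trans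
      (Polynomial.natDegree_map_le.trans hdeg.le)
    rw [Polynomial.aeval_def, Polynomial.eval₂_map, hmap]
    exact projPoly_eval hfxy
  refine le_antisymm hupper ?_
  have hli : LinearIndependent (Algebra.adjoin k ({x₁} : Set K)) fun i : Fin d => y ^ (i : ℕ) := by
    rw [Fintype.linearIndependent_iff]
    intro g hg
    have hp : ∀ i, ∃ p : Polynomial k, Polynomial.aeval x₁ p = (g i : K) := fun i => by
      obtain ⟨p, hp⟩ := (SetLike.ext_iff.1 (Algebra.adjoin_singleton_eq_range_aeval k x₁) _).1 (g i).2
      exact ⟨p, hp⟩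
    choose p hp using hp
    set Γ : Polynomial (Polynomial k) := ∑ i : Fin d, Polynomial.C (p i) * Polynomial.X ^ (i : ℕ)
    have hΓ : projPoly f c a ∣ Γ := projPoly_kernel hK htop hfxy ha hca hf (by
      rw [Polynomial.eval₂_finsetSum]
      refine (Finset.sum_congr rfl fun i _ => ?_).trans hg
      rw [Polynomial.eval₂_mul, Polynomial.eval₂_C, Polynomial.eval₂_X_pow, Algebra.smul_def]
      show Polynomial.aeval x₁ (p i) * _ = _
      rw [hp]; rfl)
    have hΓ0 : Γ = 0 := Polynomial.eq_zero_of_dvd_of_degree_lt hΓ ((Polynomial.degree_sum_fin_lt _).trans_le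
      (by rw [Polynomial.degree_eq_natDegree hmon.ne_zero, hdeg]))
    intro i
    have hi := congrArg (fun q : Polynomial (Polynomial k) => q.coeff (i : ℕ)) hΓ0
    simp only [Γ, Polynomial.finsetSum_coeff, Polynomial.coeff_C_mul_X_pow, Fin.val_inj, Finset.sum_ite_eq,
      Finset.mem_univ, if_true, Polynomial.coeff_zero] at hi
    exact Subtype.ext (by rw [← hp i, hi, map_zero]; rfl)
  have hli' : LinearIndependent K₀ fun i : Fin d => y ^ (i : ℕ) := by
    open IntermediateField.algebraAdjoinAdjoin in
    exact (LinearIndependent.iff_fractionRing (Algebra.adjoin k ({x₁} : Set K)) K₀).1 hli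
  simpa using hli'.fintype_card_le_finrank

include hK htop hfxy in
/-- The degree of a plane model is the degree of its equation. -/
theorem deg_mapDiv_model (hf : Irreducible f) :
    (mapDiv k ![(1 : K), x, y]).deg = f.totalDegree := by
  obtain ⟨c, hc⟩ := (finite_bad_slant hf.ne_zero).exists_notMem
  rw [Set.mem_ofPred_eq, not_not] at hc
  obtain ⟨a, ha, hca⟩ := hc
  rw [mapDiv_eq_polesDiv hK hfxy ha hca, deg_poles hK (transcendental_slant hK htop hfxy ha hca),
    finrank_projection hK htop hfxy ha hca hf]

omit [IsAlgClosed k] in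
include hK in
/-- Some irreducible factor of a relation is a relation. -/
theorem exists_irreducible_factor {g : MvPolynomial (Fin 2) k} (hg0 : g ≠ 0)
    (hg : MvPolynomial.aeval ![x, y] g = 0) :
    ∃ p : MvPolynomial (Fin 2) k, Irreducible p ∧ p ∣ g ∧ MvPolynomial.aeval ![x, y] p = 0 := by
  induction g using WfDvdMonoid.induction_on_irreducible with
  | zero => exact absurd rfl hg0
  | unit u hu => exact absurd hg (hu.map (MvPolynomial.aeval ![x, y])).ne_zero
  | mul b i hb hi ih =>
    rw [map_mul, mul_eq_zero] at hg
    rcases hg with h | h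
    · exact ⟨i, hi, dvd_mul_right _ _, h⟩
    · obtain ⟨p, hp, hdvd, hp0⟩ := ih hb h
      exact ⟨p, hp, hdvd.mul_left _, hp0⟩

end Model

end Groth.Agent.FunFldLib
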