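import Groth.Agent.FunFld.PlaneModel
import Groth.Agent.FunFld.CurveBasic
import Mathlib.RingTheory.MvPolynomial.EulerIdentity

/-!
Homogeneous equations of plane curves: the ideal of the curve and the Jacobian criterion.
-/

namespace Groth.Agent.FunFldLib

open FunFld WithZero

section Hom

variable {k : Type*} [Field k]

/-- Set `X₀ = 1`. -/
noncomputable def dehom : MvPolynomial (Fin 3) k →ₐ[k] MvPolynomial (Fin 2) k :=
  MvPolynomial.aeval ![1, MvPolynomial.X 0, MvPolynomial.X 1]

/-- Homogenise with `X₀` in degree `n`. -/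
noncomputable def homog (n : ℕ) (g : MvPolynomial (Fin 2) k) : MvPolynomial (Fin 3) k :=
  ∑ m ∈ g.support, MvPolynomial.monomial
    (Finsupp.single 0 (n - (m 0 + m 1)) + Finsupp.single 1 (m 0) + Finsupp.single 2 (m 1)) (g.coeff m)

theorem dehom_monomial (m : Fin 3 →₀ ℕ) (c : k) :
    dehom (MvPolynomial.monomial m c) =
      MvPolynomial.monomial (Finsupp.single 0 (m 1) + Finsupp.single 1 (m 2)) c := by
  rw [dehom, MvPolynomial.aeval_monomial, Finsupp.prod_fintype _ _ fun i => pow_zero _, Fin.prod_univ_three,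
    MvPolynomial.monomial_eq, Finsupp.prod_fintype _ _ fun i => pow_zero _, Fin.prod_univ_two]
  simp [MvPolynomial.algebraMap_eq]

theorem degree_fin_three (m : Fin 3 →₀ ℕ) : m.degree = m 0 + m 1 + m 2 := by
  show ∑ i ∈ m.support, m i = _
  rw [← Fin.sum_univ_three (fun i => m i)]
  exact Finset.sum_subset (Finset.subset_univ _) fun i _ hi => Finsupp.notMem_support_iff.1 hi

theorem homog_isHomogeneous {n : ℕ} {g : MvPolynomial (Fin 2) k} (hn : g.totalDegree ≤ n) :
    (homog n g).IsHomogeneous n :=
  MvPolynomial.IsHomogeneous.sum _ _ _ fun m hm => MvPolynomial.isHomogeneous_monomial _ (by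
    rw [degree_fin_three]
    have := (deg_le_totalDegree hm).trans hn
    simp; omega)

theorem dehom_homog (n : ℕ) (g : MvPolynomial (Fin 2) k) : dehom (homog n g) = g := by
  conv_rhs => rw [g.as_sum]
  rw [homog, map_sum]
  refine Finset.sum_congr rfl fun m _ => ?_
  rw [dehom_monomial]
  refine congrArg (fun v => MvPolynomial.monomial v (g.coeff m)) (Finsupp.ext fun i => ?_)
  fin_cases i <;> simp

theorem dehom_injective {n : ℕ} {F G : MvPolynomial (Fin 3) k} (hF : F.IsHomogeneous n) (hG : G.IsHomogeneous n)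
    (h : dehom F = dehom G) : F = G := by
  classical
  rw [← sub_eq_zero]
  set H := F - G
  have hH : H.IsHomogeneous n := hF.sub hG
  have h0 : dehom H = 0 := by rw [map_sub, h, sub_self]
  by_contra hne
  obtain ⟨m, hm⟩ := MvPolynomial.support_nonempty.2 hne
  have hdeg : ∀ m ∈ H.support, m 0 + m 1 + m 2 = n := fun m hm => by
    rw [← degree_fin_three]
    have := hH (MvPolynomial.mem_support_iff.1 hm)
    simpa [Finsupp.weight_apply, Finsupp.degree, Finsupp.sum] using this
  have h1 := congrArg (MvPolynomial.coeff (Finsupp.single 0 (m 1) + Finsupp.single 1 (m 2))) h0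
  rw [H.as_sum, map_sum, MvPolynomial.coeff_sum, MvPolynomial.coeff_zero,
    Finset.sum_eq_single_of_mem m hm fun m' hm' hne' => ?_] at h1
  · rw [dehom_monomial, MvPolynomial.coeff_monomial, if_pos rfl] at h1
    exact MvPolynomial.mem_support_iff.1 hm h1
  · rw [dehom_monomial, MvPolynomial.coeff_monomial, if_neg]
    intro heq
    have e1 := DFunLike.congr_fun heq 0
    have e2 := DFunLike.congr_fun heq 1
    simp at e1 e2
    have := hdeg m hm
    have := hdeg m' hm'
    refine hne' (Finsupp.ext fun i => ?_)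
    fin_cases i <;> simp <;> omega

theorem totalDegree_dehom_le (F : MvPolynomial (Fin 3) k) : (dehom F).totalDegree ≤ F.totalDegree := by
  rw [F.as_sum, map_sum, ← F.as_sum]
  refine MvPolynomial.totalDegree_finsetSum_le fun m hm => ?_
  rw [dehom_monomial]
  refine (MvPolynomial.totalDegree_monomial_le _ _).trans ?_
  have := MvPolynomial.le_totalDegree hm
  rw [Finsupp.sum_fintype _ _ (fun _ => rfl), Fin.sum_univ_three] at this
  rw [Finsupp.sum_fintype _ _ (fun _ => rfl), Fin.sum_univ_two]
  simp; omega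

variable {K : Type*} [Field K] [Algebra k K]

theorem aeval_dehom (x y : K) (F : MvPolynomial (Fin 3) k) :
    MvPolynomial.aeval ![x, y] (dehom F) = MvPolynomial.aeval ![(1 : K), x, y] F := by
  have h : (MvPolynomial.aeval ![x, y]).comp dehom = (MvPolynomial.aeval ![(1 : K), x, y] : _ →ₐ[k] K) :=
    MvPolynomial.algHom_ext fun i => by fin_cases i <;> simp [dehom]
  exact DFunLike.congr_fun h F

theorem pderiv_dehom (l : Fin 2) (F : MvPolynomial (Fin 3) k) :
    MvPolynomial.pderiv l (dehom F) = dehom (MvPolynomial.pderiv l.succ F) := by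
  induction F using MvPolynomial.induction_on with
  | C a => simp [dehom, MvPolynomial.algebraMap_eq]
  | add p q hp hq => simp only [map_add, hp, hq]
  | mul_X p i hp =>
    simp only [map_mul, Derivation.leibniz, smul_eq_mul, hp, map_add]
    fin_cases i <;> fin_cases l <;> simp [dehom]

theorem homogeneous_dehom_irreducible {x y : K} {F : MvPolynomial (Fin 3) k} (hF : Irreducible F)
    (hhom : F.IsHomogeneous F.totalDegree) (hFxy : MvPolynomial.aeval ![(1 : K), x, y] F = 0)
    (hK : IsFunctionField k K) : Irreducible (dehom F) := by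
  have hg0 : dehom F ≠ 0 := fun h => hF.ne_zero (dehom_injective hhom (MvPolynomial.isHomogeneous_zero _ _ _) (by
    rw [h, map_zero]))
  obtain ⟨p, hp, ⟨h, hdvd⟩, -⟩ := exists_irreducible_factor hK hg0 (by rw [aeval_dehom, hFxy])
  have hh0 : h ≠ 0 := fun h0 => hg0 (by rw [hdvd, h0, mul_zero])
  set N := F.totalDegree
  set a := p.totalDegree
  set b := h.totalDegree
  have hab : a + b ≤ N := by
    rw [← MvPolynomial.totalDegree_mul_of_isDomain hp.ne_zero hh0, ← hdvd]
    exact totalDegree_dehom_le F
  have heq : F = homog a p * homog (N - a) h := dehom_injective hhom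
    (by simpa [Nat.add_sub_cancel' (show a ≤ N by omega)] using
      (homog_isHomogeneous (n := a) le_rfl).mul (homog_isHomogeneous (g := h) (n := N - a) (show b ≤ N - a by omega)))
    (by rw [map_mul, dehom_homog, dehom_homog, hdvd])
  have hp0 : ¬IsUnit (homog a p) := fun hu => hp.not_isUnit (by
    simpa [dehom_homog] using hu.map (dehom : MvPolynomial (Fin 3) k →ₐ[k] _))
  have hu := (hF.isUnit_or_isUnit heq).resolve_left hp0
  rw [hdvd, irreducible_mul_isUnit]
  · exact hp
  · simpa [dehom_homog] using hu.map (dehom : MvPolynomial (Fin 3) k →ₐ[k] _)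

theorem aeval_mul_X_of_homogeneous {σ : Type*} {G : MvPolynomial σ k} {n : ℕ} (hG : G.IsHomogeneous n)
    (z : σ → K) :
    MvPolynomial.aeval (fun i => Polynomial.C (z i) * Polynomial.X) G =
      Polynomial.C (MvPolynomial.aeval z G) * Polynomial.X ^ n := by
  conv_lhs => rw [G.as_sum]
  conv_rhs => rw [G.as_sum]
  rw [map_sum, map_sum, map_sum, Finset.sum_mul]
  refine Finset.sum_congr rfl fun m hm => ?_
  rw [MvPolynomial.aeval_monomial, MvPolynomial.aeval_monomial, Finsupp.prod, Finsupp.prod, map_mul, map_prod,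
    hG.degree_eq_sum_deg_support hm, ← Finset.prod_pow_eq_pow_sum, mul_assoc, ← Finset.prod_mul_distrib]
  simp [mul_pow]

theorem coeff_aeval_mul_X {σ : Type*} (G : MvPolynomial σ k) (z : σ → K) (n : ℕ) :
    (MvPolynomial.aeval (fun i => Polynomial.C (z i) * Polynomial.X) G).coeff n =
      MvPolynomial.aeval z (MvPolynomial.homogeneousComponent n G) := by
  classical
  conv_lhs => rw [← MvPolynomial.sum_homogeneousComponent G]
  rw [map_sum, Polynomial.finsetSum_coeff]
  simp only [aeval_mul_X_of_homogeneous (MvPolynomial.homogeneousComponent_isHomogeneous _ G),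
    Polynomial.coeff_C_mul_X_pow]
  rw [Finset.sum_ite_eq]
  split_ifs with h
  · rfl
  · rw [MvPolynomial.homogeneousComponent_eq_zero n G (by rw [Finset.mem_range] at h; omega), map_zero]

theorem ker_plane_relations [IsAlgClosed k] (hK : IsFunctionField k K) (x y : K)
    (htop : IntermediateField.adjoin k ({x, y} : Set K) = ⊤) :
    ∃ F : MvPolynomial (Fin 3) k, Irreducible F ∧ F.IsHomogeneous F.totalDegree ∧
      RingHom.ker (MvPolynomial.aeval fun i => Polynomial.C (![(1 : K), x, y] i) * Polynomial.X) =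
        Ideal.span {F} := by
  obtain ⟨g, hg0, hg⟩ := exists_relation hK x y
  obtain ⟨f, hf, -, hfxy⟩ := exists_irreducible_factor hK hg0 hg
  set d := f.totalDegree
  set F := homog d f
  have hFh : F.IsHomogeneous d := homog_isHomogeneous le_rfl
  have hF0 : F ≠ 0 := fun h => hf.ne_zero (by rw [← dehom_homog d f]; show dehom F = 0; rw [h, map_zero])
  set φ := (MvPolynomial.aeval fun i => Polynomial.C (![(1 : K), x, y] i) * Polynomial.X :
    MvPolynomial (Fin 3) k →ₐ[k] Polynomial K)
  have hker : RingHom.ker φ = Ideal.span {F} := by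
    refine le_antisymm (fun G hG => ?_) ?_
    · rw [RingHom.mem_ker] at hG
      rw [← MvPolynomial.sum_homogeneousComponent G]
      refine Ideal.sum_mem _ fun n _ => Ideal.mem_span_singleton.2 ?_
      set Gn := MvPolynomial.homogeneousComponent n G
      have hn : MvPolynomial.aeval ![(1 : K), x, y] Gn = 0 := by
        rw [← coeff_aeval_mul_X G ![(1 : K), x, y] n]
        show (φ G).coeff n = 0
        rw [hG, Polynomial.coeff_zero]
      have hGn : Gn.IsHomogeneous n := MvPolynomial.homogeneousComponent_isHomogeneous n G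
      obtain ⟨h, hh⟩ := dvd_of_relation hK htop hfxy hf (show MvPolynomial.aeval ![x, y] (dehom Gn) = 0 by
        rw [aeval_dehom, hn])
      rcases eq_or_ne h 0 with rfl | hh0
      · rw [mul_zero] at hh
        rw [dehom_injective hGn (MvPolynomial.isHomogeneous_zero _ _ _) (by rw [hh, map_zero])]
        exact dvd_zero _
      have hdeg : d + h.totalDegree ≤ n := by
        rw [← MvPolynomial.totalDegree_mul_of_isDomain hf.ne_zero hh0, ← hh]
        exact (totalDegree_dehom_le _).trans hGn.totalDegree_le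
      refine ⟨homog (n - d) h, dehom_injective hGn ?_ (by rw [map_mul, dehom_homog, dehom_homog, hh])⟩
      have := hFh.mul (homog_isHomogeneous (g := h) (n := n - d) (by omega))
      rwa [Nat.add_sub_cancel' (by omega)] at this
    · rw [Ideal.span_singleton_le_iff_mem, RingHom.mem_ker]
      show MvPolynomial.aeval _ F = 0
      rw [aeval_mul_X_of_homogeneous hFh, ← aeval_dehom, dehom_homog, hfxy, map_zero, zero_mul]
  have hirr : Irreducible F := by
    have hprime : (Ideal.span {F}).IsPrime := hker ▸ RingHom.ker_isPrime φ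
    exact ((Ideal.span_singleton_prime hF0).1 hprime).irreducible
  exact ⟨F, hirr, by rwa [hFh.totalDegree hF0], hker⟩

end Hom

section Jacobian

variable {k K : Type*} [Field k] [IsAlgClosed k] [Field K] [Algebra k K]
variable (hK : IsFunctionField k K) {x y : K} (htop : IntermediateField.adjoin k ({x, y} : Set K) = ⊤)
variable {g : MvPolynomial (Fin 2) k} (hg : Irreducible g) (hgxy : MvPolynomial.aeval ![x, y] g = 0)

include hK htop hg hgxy in
/-- The Jacobian criterion at an affine place. -/
theorem jacobian_affine (Q : Place k K) (hx : Q.1 x ≤ 1) (hy : Q.1 y ≤ 1) :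
    IsNonsingularAt ![(1 : K), x, y] Q ↔ Q.1 (MvPolynomial.aeval ![x, y] (MvPolynomial.pderiv 0 g)) = 1 ∨
      Q.1 (MvPolynomial.aeval ![x, y] (MvPolynomial.pderiv 1 g)) = 1 := by
  obtain ⟨t, ht⟩ := exists_val_eq Q (-1)
  obtain ⟨Ht, hHt⟩ := exists_hasse_param hK ht
  obtain ⟨e⟩ := exists_paramExp hK ht
  constructor
  · intro hns
    obtain ⟨a, ha⟩ := exists_sub_const_val_lt_one hK Q (deg_eq_one hK Q) hx
    obtain ⟨b, hb⟩ := exists_sub_const_val_lt_one hK Q (deg_eq_one hK Q) hy
    by_contra hno
    push Not at hno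
    have h2 : ∀ z : K, Q.1 z < 1 → Q.1 z ≠ exp (-1) → Q.1 z ≤ exp (-2) := fun z hz hz' => by
      rcases eq_or_ne z 0 with rfl | hz0
      · simp
      rw [val_eq_exp Q hz0, Ne, exp_inj] at hz'
      have := (val_lt_one_iff Q hz0).1 hz
      rw [val_eq_exp Q hz0, exp_le_exp]; omega
    refine no_uniformizer (φ := ![(1 : K), x, y]) (j := 0) (by simp)
      (fun i => by fin_cases i <;> simp [hx, hy]) (fun i => ?_)
      (hns t (by rw [ht, ← exp_zero, exp_le_exp]; omega)) ht
    fin_cases i
    · exact ⟨1, by simp⟩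
    · have := h2 _ ha fun h => hno.2 (val_pderiv_eq_one hK htop hgxy hg hx hy hns (i := 0) (j := 1) (by decide)
        (a := a) (b := b) (by simpa using h) (by simpa using hb))
      exact ⟨a, by simpa using this⟩
    · have := h2 _ hb fun h => hno.1 (val_pderiv_eq_one hK htop hgxy hg hx hy hns (i := 1) (j := 0) (by decide)
        (a := b) (b := a) (by simpa using h) (by simpa using ha))
      exact ⟨b, by simpa using this⟩
  · have key : ∀ (u v : K) (_ : IntermediateField.adjoin k ({u, v} : Set K) = ⊤) (q : MvPolynomial (Fin 2) k),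
        MvPolynomial.aeval ![u, v] q = 0 → Q.1 u ≤ 1 → Q.1 v ≤ 1 →
        Q.1 (MvPolynomial.aeval ![u, v] (MvPolynomial.pderiv 1 q)) = 1 → IsNonsingularAt ![(1 : K), u, v] Q := by
      intro u v htop' q hq hu hv h1
      have hne : MvPolynomial.aeval ![u, v] (MvPolynomial.pderiv 1 q) ≠ 0 := fun h => by
        rw [h, map_zero] at h1; exact zero_ne_one h1
      obtain ⟨-, hle, heq⟩ := affine_core hK htop' hq hne Q hu hv ht hHt
      rw [h1] at hle heq
      exact (isNonsingularAt_affine hu hv).2 (heq (le_antisymm hle (e.hasseD_le_one hK ht hHt hu 1)))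
    rintro (h | h)
    · have hcomp : ![y, x] ∘ (Equiv.swap (0 : Fin 2) 1) = ![x, y] := by
        funext i; fin_cases i <;> simp
      refine (isNonsingularAt_swap x y Q).1 (key y x (by rwa [Set.pair_comm])
        (MvPolynomial.rename (Equiv.swap (0 : Fin 2) 1) g) (by rw [MvPolynomial.aeval_rename, hcomp, hgxy]) hy hx ?_)
      have hp := MvPolynomial.pderiv_rename (Equiv.swap (0 : Fin 2) 1).injective 0 g
      rw [Equiv.swap_apply_left] at hp
      rw [hp, MvPolynomial.aeval_rename]
      simpa [hcomp] using h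
    · exact key x y htop g hgxy hx hy h

omit [IsAlgClosed k] in
theorem residue_aeval (P : Place k K) {σ : Type*} (a : σ → P.O) (q : MvPolynomial σ k) :
    MvPolynomial.aeval (fun i => IsLocalRing.residue P.O (a i)) q =
        IsLocalRing.residue P.O (MvPolynomial.aeval a q) ∧
      ((MvPolynomial.aeval a q : P.O) : K) = MvPolynomial.aeval (fun i => ((a i : P.O) : K)) q := by
  constructor
  · induction q using MvPolynomial.induction_on with
    | C c => simp; rfl
    | add p q hp hq => simp only [map_add, hp, hq]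
    | mul_X p i hp => simp only [map_mul, hp, MvPolynomial.aeval_X]
  · induction q using MvPolynomial.induction_on with
    | C c => simp; rfl
    | add p q hp hq => simp only [map_add, ← hp, ← hq]; rfl
    | mul_X p i hp => simp only [map_mul, ← hp, MvPolynomial.aeval_X]; rfl

omit [IsAlgClosed k] in
theorem residue_aeval_eq_zero_iff (P : Place k K) {σ : Type*} (a : σ → P.O) (q : MvPolynomial σ k) :
    MvPolynomial.aeval (fun i => IsLocalRing.residue P.O (a i)) q = 0 ↔
      P.1 (MvPolynomial.aeval (fun i => ((a i : P.O) : K)) q) < 1 := by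
  rw [(residue_aeval P a q).1, ← val_lt_one_iff_residue, (residue_aeval P a q).2]

variable {φ : Fin 3 → K} (hφ : LinearIndependent k φ)
variable (hbir : IntermediateField.adjoin k (Set.range fun i => φ i / φ 0) = ⊤)
variable {F : MvPolynomial (Fin 3) k} (hF : Irreducible F) (hhom : F.IsHomogeneous F.totalDegree)
variable (hFφ : MvPolynomial.aeval φ F = 0)

omit [IsAlgClosed k] in
include hφ hhom hFφ in
theorem euler_ratio (j : Fin 3) :
    ∑ l, φ l / φ j * MvPolynomial.aeval (fun i => φ i / φ j) (MvPolynomial.pderiv l F) = 0 := by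
  have h := congrArg (MvPolynomial.aeval fun i => φ i / φ j) hhom.sum_X_mul_pderiv
  have h0 := aeval_homogeneous_div hhom φ (hφ.ne_zero j)
  rw [hFφ, mul_eq_zero] at h0
  have h0' := h0.resolve_right (pow_ne_zero _ (hφ.ne_zero j))
  rw [map_nsmul, h0', smul_zero, map_sum] at h
  simpa [map_mul] using h

include hK hφ hbir hF hhom hFφ in
/-- The Jacobian criterion. -/
theorem singular_iff_gradient (P : Place k K) (j : Fin 3) (hj : ∀ i, P.1 (φ i) ≤ P.1 (φ j)) :
    ¬IsNonsingularAt φ P ↔
      ∀ l, P.1 (MvPolynomial.aeval (fun i => φ i / φ j) (MvPolynomial.pderiv l F)) < 1 := by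
  classical
  have hj0 := hφ.ne_zero j
  set z : Fin 3 → K := fun i => φ i / φ j with hz
  set σ := Equiv.swap (0 : Fin 3) j
  set x := z (σ 1)
  set y := z (σ 2)
  have hσ : ![(1 : K), x, y] = z ∘ σ := by
    funext i
    fin_cases i
    · simp [z, σ, hj0]
    · rfl
    · rfl
  have hz1 : ∀ i, P.1 (z i) ≤ 1 := fun i => by
    rw [map_div₀]; exact div_le_one_of_le₀ (hj i) zero_le
  have htop : IntermediateField.adjoin k ({x, y} : Set K) = ⊤ := by
    have hmem : ∀ i, z i ∈ IntermediateField.adjoin k ({x, y} : Set K) := fun i => by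
      rw [← σ.apply_symm_apply i, ← Function.comp_apply (f := z) (g := σ), ← hσ]
      generalize σ.symm i = l
      fin_cases l
      · exact one_mem _
      · exact IntermediateField.subset_adjoin k _ (Set.mem_insert _ _)
      · exact IntermediateField.subset_adjoin k _ (Set.mem_insert_of_mem _ rfl)
    rw [eq_top_iff, ← hbir, IntermediateField.adjoin_le_iff]
    rintro _ ⟨i, rfl⟩
    have := div_mem (hmem i) (hmem 0)
    rwa [hz, div_div_div_cancel_right₀ hj0] at this
  set F' := MvPolynomial.rename σ F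
  have hσσ : ![(1 : K), x, y] ∘ σ = z := by
    rw [hσ]; funext i; simp [σ, Equiv.swap_apply_self]
  have hF'ev : ∀ q : MvPolynomial (Fin 3) k,
      MvPolynomial.aeval ![x, y] (dehom (MvPolynomial.rename σ q)) = MvPolynomial.aeval z q := fun q => by
    rw [aeval_dehom, MvPolynomial.aeval_rename, hσσ]
  have hzF : MvPolynomial.aeval z F = 0 := by
    have h0 := aeval_homogeneous_div hhom φ hj0
    rw [hFφ, mul_eq_zero] at h0
    exact h0.resolve_right (pow_ne_zero _ hj0)
  have hF'i : Irreducible F' := (MulEquiv.irreducible_iff (MvPolynomial.renameEquiv k σ)).2 hF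
  have hF'0 : F' ≠ 0 := hF'i.ne_zero
  have hF'h : F'.IsHomogeneous F.totalDegree := hhom.rename_isHomogeneous
  have hg : Irreducible (dehom F') := homogeneous_dehom_irreducible hF'i (by rwa [hF'h.totalDegree hF'0])
    (x := x) (y := y) (by rw [← aeval_dehom, hF'ev, hzF]) hK
  have hpd : ∀ l : Fin 2, MvPolynomial.aeval ![x, y] (MvPolynomial.pderiv l (dehom F')) =
      MvPolynomial.aeval z (MvPolynomial.pderiv (σ l.succ) F) := fun l => by
    rw [pderiv_dehom, show l.succ = σ (σ l.succ) by simp [σ, Equiv.swap_apply_self],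
      MvPolynomial.pderiv_rename σ.injective, hF'ev]
    simp [σ, Equiv.swap_apply_self]
  have hns : IsNonsingularAt φ P ↔ IsNonsingularAt ![(1 : K), x, y] P := by
    rw [isNonsingularAt_iff_locAt hj0 hj, isNonsingularAt_affine (hz1 _) (hz1 _), hσ, σ.surjective.range_comp]
  rw [hns, jacobian_affine hK htop hg (by rw [hF'ev, hzF]) P (hz1 _) (hz1 _), hpd, hpd, not_or]
  have hint : ∀ l, P.1 (MvPolynomial.aeval z (MvPolynomial.pderiv l F)) ≤ 1 := fun l => by
    rw [MvPolynomial.aeval_def]
    induction MvPolynomial.pderiv l F using MvPolynomial.induction_on with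
    | C c => simpa using P.2.1 c
    | add p q hp hq => rw [MvPolynomial.eval₂_add]; exact P.1.map_add_le hp hq
    | mul_X p i hp => rw [MvPolynomial.eval₂_mul, MvPolynomial.eval₂_X, map_mul]; exact mul_le_one' hp (hz1 i)
  constructor
  · rintro ⟨h0, h1⟩ l
    have h0' := lt_of_le_of_ne (hint _) h0
    have h1' := lt_of_le_of_ne (hint _) h1
    have he := euler_ratio hφ hhom hFφ j
    rw [← Equiv.sum_comp σ, Fin.sum_univ_three] at he
    have hs0 : σ 0 = j := by simp [σ]
    rw [← σ.apply_symm_apply l]
    generalize σ.symm l = i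
    fin_cases i
    · simp only [hs0, div_self hj0, one_mul, add_assoc] at he
      show P.1 (MvPolynomial.aeval z (MvPolynomial.pderiv (σ 0) F)) < 1
      rw [hs0, eq_neg_of_add_eq_zero_left he, Valuation.map_neg]
      refine P.1.map_add_lt ?_ ?_ <;> rw [map_mul]
      · exact (mul_le_of_le_one_left' (hz1 _)).trans_lt h0'
      · exact (mul_le_of_le_one_left' (hz1 _)).trans_lt h1'
    · exact h0'
    · exact h1'
  · exact fun h => ⟨(h _).ne, (h _).ne⟩

include hK hφ hhom hFφ in
/-- The tangent line meets the curve with order at least two. -/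
theorem tangent_vanishes (P : Place k K) (j : Fin 3) (hj : ∀ i, P.1 (φ i) ≤ P.1 (φ j)) (c : Fin 3 → k)
    (hc : ∀ i, P.1 (MvPolynomial.aeval (fun l => φ l / φ j) (MvPolynomial.pderiv i F) - algebraMap k K (c i)) < 1) :
    P.1 (∑ i, c i • (φ i / φ j)) ≤ exp (-2) := by
  classical
  obtain ⟨t, ht⟩ := exists_val_eq P (-1)
  obtain ⟨Ht, hHt⟩ := exists_hasse_param hK ht
  obtain ⟨e⟩ := exists_paramExp hK ht
  set z : Fin 3 → K := fun i => φ i / φ j
  set v : Fin 3 → K := fun i => MvPolynomial.aeval z (MvPolynomial.pderiv i F)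
  have hz1 : ∀ i, P.1 (z i) ≤ 1 := fun i => by
    rw [map_div₀]; exact div_le_one_of_le₀ (hj i) zero_le
  set D := LocRes.hasseD Ht 1
  have hDle : ∀ i, P.1 (D (z i)) ≤ 1 := fun i => e.hasseD_le_one hK ht hHt (hz1 i) 1
  -- the chain rule
  have hchain : ∀ q : MvPolynomial (Fin 3) k, D (MvPolynomial.aeval z q) =
      ∑ i, MvPolynomial.aeval z (MvPolynomial.pderiv i q) * D (z i) := fun q => by
    induction q using MvPolynomial.induction_on with
    | C a => simp [D, PowerSeries.algebraMap_apply]
    | add p q hp hq =>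
      simp only [map_add, D, LocRes.hasseD, add_mul, Finset.sum_add_distrib] at hp hq ⊢
      rw [hp, hq]
    | mul_X p l hp =>
      simp only [map_mul, D, hasseD_one_mul Ht hHt.2, MvPolynomial.aeval_X, Derivation.leibniz, smul_eq_mul,
        MvPolynomial.pderiv_X] at hp ⊢
      rw [hp]
      simp [Fin.sum_univ_three]
      fin_cases l <;> simp <;> ring
  have h0 : ∑ i, v i * D (z i) = 0 := by
    have h0 := aeval_homogeneous_div hhom φ (hφ.ne_zero j)
    rw [hFφ, mul_eq_zero] at h0
    rw [← hchain F, h0.resolve_right (pow_ne_zero _ (hφ.ne_zero j))]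
    simp [D]
  set L := ∑ i, c i • z i
  have hsmall : ∀ w : Fin 3 → K, (∀ i, P.1 (w i) ≤ 1) → ∑ i, v i * w i = 0 →
      P.1 (∑ i, algebraMap k K (c i) * w i) < 1 := fun w hw hsum => by
    rw [show (∑ i, algebraMap k K (c i) * w i) = -∑ i, (v i - algebraMap k K (c i)) * w i by
      simp only [sub_mul, Finset.sum_sub_distrib, hsum, zero_sub, neg_neg], Valuation.map_neg]
    refine P.1.map_sum_lt one_ne_zero fun i _ => ?_
    rw [map_mul]; exact (mul_le_of_le_one_right' (hw i)).trans_lt (hc i)
  have hL : L = ∑ i, algebraMap k K (c i) * z i := Finset.sum_congr rfl fun i _ => Algebra.smul_def _ _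
  have hL1 : P.1 L < 1 := by
    rw [hL]
    exact hsmall z hz1 (by simpa [v, z, mul_comm] using euler_ratio hφ hhom hFφ j)
  have hDL : P.1 (D L) < 1 := by
    have : D L = ∑ i, algebraMap k K (c i) * D (z i) := by
      rw [hL]; simp [D, PowerSeries.algebraMap_apply]
    rw [this]; exact hsmall _ hDle h0
  rcases eq_or_ne L 0 with h | h
  · rw [h]; simp
  have hpos := (val_lt_one_iff P h).1 hL1
  by_contra hlt
  rw [val_eq_exp P h, exp_le_exp] at hlt
  have hLt : P.1 L = exp (-1) := by rw [val_eq_exp P h]; congr 1; omega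
  have h1 := vDiff_eq hK ht hHt e.isExp 1 L
  rw [LocRes.vDiff, map_one, one_mul, val_D_of_val_eq ((e.isExp.1 _).trans hLt), one_mul] at h1
  exact hDL.ne h1.symm

end Jacobian

end Groth.Agent.FunFldLib
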