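import Groth.Agent.FunFld.Ramification

/-!
The Plücker inequality for a linear series on a curve of genus zero in characteristic zero.
-/

namespace Groth.Agent.FunFldLib

open FunFld WithZero Polynomial

section Wronskian

variable {k : Type*} [Field k] {n : ℕ}

/-- The Wronskian of a family of polynomials. -/
noncomputable def wronsk (p : Fin n → k[X]) : k[X] :=
  (Matrix.of fun a i : Fin n => derivative^[(a : ℕ)] (p i)).det

theorem coeff_prod_sum {ι : Type*} (s : Finset ι) (f : ι → k[X]) (e : ι → ℕ)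
    (h : ∀ i ∈ s, (f i).natDegree ≤ e i) :
    (∏ i ∈ s, f i).natDegree ≤ ∑ i ∈ s, e i ∧
      (∏ i ∈ s, f i).coeff (∑ i ∈ s, e i) = ∏ i ∈ s, (f i).coeff (e i) := by
  classical
  induction s using Finset.induction_on with
  | empty => simp
  | insert a s ha ih =>
    obtain ⟨h1, h2⟩ := ih fun i hi => h i (Finset.mem_insert_of_mem hi)
    have h3 := h a (Finset.mem_insert_self a s)
    rw [Finset.prod_insert ha, Finset.sum_insert ha, Finset.prod_insert ha]
    refine ⟨Polynomial.natDegree_mul_le.trans (by omega), ?_⟩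
    rw [Polynomial.coeff_mul_add_eq_of_natDegree_le h3 h1, h2]

theorem wronsk_ne_zero [CharZero k] (p : Fin n → k[X]) (h0 : ∀ i, p i ≠ 0)
    (hinj : Function.Injective fun i => (p i).natDegree) :
    wronsk p ≠ 0 ∧ (wronsk p).natDegree + ∑ a : Fin n, (a : ℕ) ≤ ∑ i, (p i).natDegree := by
  classical
  set N : Matrix (Fin n) (Fin n) k[X] :=
    Matrix.of fun a i => X ^ (a : ℕ) * derivative^[(a : ℕ)] (p i) with hN
  have hdet : N.det = X ^ (∑ a : Fin n, (a : ℕ)) * wronsk p := by
    rw [hN, wronsk, ← Finset.prod_pow_eq_pow_sum]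
    exact Matrix.det_mul_column (fun a : Fin n => (X : k[X]) ^ (a : ℕ)) _
  have hcoe : ∀ a i : Fin n, ∀ m, (p i).natDegree ≤ m → (N a i).coeff m =
      ((m.descFactorial (a : ℕ) : ℕ) : k) * (p i).coeff m := by
    intro a i m hm
    simp only [hN, Matrix.of_apply, Polynomial.coeff_X_pow_mul', Polynomial.coeff_iterate_derivative]
    split_ifs with h
    · rw [Nat.sub_add_cancel h, nsmul_eq_mul]
    · rw [Nat.descFactorial_eq_zero_iff_lt.2 (by omega), Nat.cast_zero, zero_mul]
  have hdeg : ∀ a i : Fin n, (N a i).natDegree ≤ (p i).natDegree := fun a i =>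
    Polynomial.natDegree_le_iff_coeff_eq_zero.2 fun m hm => by
      rw [hcoe a i m hm.le, Polynomial.coeff_eq_zero_of_natDegree_lt hm, mul_zero]
  have hterm : ∀ σ : Equiv.Perm (Fin n), (∏ i, N (σ i) i).natDegree ≤ ∑ i, (p i).natDegree ∧
      (∏ i, N (σ i) i).coeff (∑ i, (p i).natDegree) = ∏ i, (N (σ i) i).coeff ((p i).natDegree) :=
    fun σ => coeff_prod_sum _ _ _ fun i _ => hdeg _ _
  have hNdeg : N.det.natDegree ≤ ∑ i, (p i).natDegree := by
    rw [Matrix.det_apply]
    refine Polynomial.natDegree_sum_le_of_forall_le _ _ fun σ _ => ?_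
    rw [Units.smul_def, zsmul_eq_mul]
    refine Polynomial.natDegree_mul_le.trans ?_
    rw [Polynomial.natDegree_intCast, zero_add]
    exact (hterm σ).1
  have hNcoe : N.det.coeff (∑ i, (p i).natDegree) =
      (Matrix.of fun a i : Fin n => (p i).leadingCoeff *
        (((p i).natDegree.descFactorial (a : ℕ) : ℕ) : k)).det := by
    rw [Matrix.det_apply, Matrix.det_apply, Polynomial.finsetSum_coeff]
    refine Finset.sum_congr rfl fun σ _ => ?_
    simp only [Units.smul_def, zsmul_eq_mul, Polynomial.coeff_intCast_mul, (hterm σ).2,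
      hcoe _ _ _ le_rfl, Matrix.of_apply]
    congr 1
    exact Finset.prod_congr rfl fun i _ => mul_comm _ _
  have hne : N.det.coeff (∑ i, (p i).natDegree) ≠ 0 := by
    have hv : (Matrix.of fun a i : Fin n => (((p i).natDegree.descFactorial (a : ℕ) : ℕ) : k)).det =
        (Matrix.vandermonde fun i : Fin n => ((p i).natDegree : k)).det := by
      rw [Matrix.det_eval_matrixOfPolynomials_eq_det_vandermonde _
        (fun a : Fin n => descPochhammer k (a : ℕ)) (fun a => descPochhammer_natDegree k _)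
        (fun a => monic_descPochhammer k _), ← Matrix.det_transpose]
      congr 1
      ext i a
      simp [descPochhammer_eval_eq_descFactorial]
    rw [hNcoe]
    refine (Matrix.det_mul_row (fun i => (p i).leadingCoeff)
      (Matrix.of fun a i : Fin n => (((p i).natDegree.descFactorial (a : ℕ) : ℕ) : k))).trans_ne ?_
    rw [hv]
    refine mul_ne_zero (Finset.prod_ne_zero_iff.2 fun i _ => Polynomial.leadingCoeff_ne_zero.2 (h0 i))
      (Matrix.det_vandermonde_ne_zero_iff.2 fun i j h => hinj (Nat.cast_injective h))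
  have hN0 : N.det ≠ 0 := fun h => hne (by rw [h, Polynomial.coeff_zero])
  have hw : wronsk p ≠ 0 := fun h => hN0 (by rw [hdet, h, mul_zero])
  rw [hdet, Polynomial.natDegree_mul (pow_ne_zero _ Polynomial.X_ne_zero) hw,
    Polynomial.natDegree_X_pow] at hNdeg
  exact ⟨hw, by omega⟩

theorem pow_dvd_wronsk (q : Fin n → k[X]) (c : k) (m : Fin n → ℕ)
    (h : ∀ i, (X - C c) ^ m i ∣ q i) {M : ℕ} (hM : M + ∑ a : Fin n, (a : ℕ) ≤ ∑ i, m i) :
    (X - C c) ^ M ∣ wronsk q := by
  classical
  set N : Matrix (Fin n) (Fin n) k[X] :=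
    Matrix.of fun a i => (X - C c) ^ (a : ℕ) * derivative^[(a : ℕ)] (q i) with hN
  have hdet : N.det = (X - C c) ^ (∑ a : Fin n, (a : ℕ)) * wronsk q := by
    rw [hN, wronsk, ← Finset.prod_pow_eq_pow_sum]
    exact Matrix.det_mul_column (fun a : Fin n => (X - C c) ^ (a : ℕ)) _
  have hd : (X - C c) ^ (∑ i, m i) ∣ N.det := by
    rw [Matrix.det_apply]
    refine Finset.dvd_sum fun σ _ => ?_
    rw [Units.smul_def, zsmul_eq_mul]
    refine Dvd.dvd.mul_left ?_ _
    rw [← Finset.prod_pow_eq_pow_sum]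
    refine Finset.prod_dvd_prod_of_dvd _ _ fun i _ => ?_
    simp only [hN, Matrix.of_apply]
    obtain ⟨e, he⟩ := Polynomial.pow_sub_dvd_iterate_derivative_of_pow_dvd (σ i : ℕ) (h i)
    rw [he, ← mul_assoc, ← pow_add]
    exact Dvd.dvd.mul_right (pow_dvd_pow _ (by omega)) _
  have h2 := (pow_dvd_pow (X - C c) hM).trans hd
  rw [hdet, pow_add, mul_comm] at h2
  exact (mul_dvd_mul_iff_left (pow_ne_zero _ (Polynomial.X_sub_C_ne_zero c))).1 h2

theorem wronsk_of_comb (p q : Fin n → k[X]) (T : Matrix (Fin n) (Fin n) k)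
    (h : ∀ i, p i = ∑ j, C (T j i) * q j) : wronsk p = wronsk q * C T.det := by
  have he : (Matrix.of fun a i : Fin n => derivative^[(a : ℕ)] (p i)) =
      (Matrix.of fun a i : Fin n => derivative^[(a : ℕ)] (q i)) * T.map C := by
    refine Matrix.ext fun a i => ?_
    simp only [Matrix.of_apply, Matrix.mul_apply, Matrix.map_apply, h i,
      Polynomial.iterate_derivative_sum, Polynomial.iterate_derivative_C_mul]
    exact Finset.sum_congr rfl fun j _ => mul_comm _ _
  rw [wronsk, he, Matrix.det_mul, RingHom.map_det]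
  rfl

end Wronskian

section Coordinate

variable {k K : Type*} [Field k] [Field K] [Algebra k K]

theorem ne_zero_of_transcendental {x : K} (hx : Transcendental k x) : x ≠ 0 :=
  fun h => hx (h ▸ isAlgebraic_zero)

theorem val_aeval_le_one (P : Place k K) {x : K} (hx : P.1 x ≤ 1) (q : k[X]) :
    P.1 (aeval x q) ≤ 1 := by
  rw [Polynomial.aeval_eq_sum_range]
  refine P.1.map_sum_le fun j _ => ?_
  rw [Algebra.smul_def, map_mul, map_pow]
  refine mul_le_one' ?_ (pow_le_one₀ zero_le hx)
  rcases eq_or_ne (q.coeff j) 0 with h | h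
  · simp [h]
  · rw [val_algebraMap P h]

theorem ord_nonneg_of_mem_L_single {B P : Place k K} (hP : P ≠ B) {x : K} (hx0 : x ≠ 0) {m : ℤ}
    (hx : x ∈ L (Finsupp.single B m)) : 0 ≤ P.ord x := by
  simpa [Finsupp.single_eq_of_ne hP] using (mem_L_iff hx0).1 hx P

/-- A coordinate: a function with a single simple pole at `B`. -/
theorem exists_coord [IsAlgClosed k] (hK : IsFunctionField k K) (hg : genus k K = 0) (B : Place k K) :
    ∃ x : K, Transcendental k x ∧ x ∈ L (Finsupp.single B 1) ∧ B.ord x = -1 := by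
  have hB := deg_eq_one hK B
  have h2 := ell_eq_of_deg_ge hK (D := Finsupp.single B 1) (by rw [deg_single, hB, hg]; norm_num)
  rw [deg_single, hB, hg] at h2
  obtain ⟨x, hxL, hxt⟩ := exists_transcendental_mem_L hK (D := Finsupp.single B 1) (by omega)
  refine ⟨x, hxt, hxL, ?_⟩
  have h1 := (mem_L_iff (ne_zero_of_transcendental hxt)).1 hxL B
  rw [Finsupp.single_eq_same] at h1
  rcases eq_or_lt_of_le (show -1 ≤ B.ord x by omega) with h | h
  · exact h.symm
  exfalso
  obtain ⟨c, hc⟩ := mem_range_of_ord_nonneg hK (x := x) fun P => by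
    rcases eq_or_ne P B with rfl | hP
    · omega
    · exact ord_nonneg_of_mem_L_single hP (ne_zero_of_transcendental hxt) hxL
  exact hxt (hc ▸ isAlgebraic_algebraMap c)

theorem coord_sub [IsAlgClosed k] (hK : IsFunctionField k K) {B : Place k K} {x : K}
    (hxt : Transcendental k x) (hxL : x ∈ L (Finsupp.single B 1)) {P : Place k K} (hP : P ≠ B)
    {c : k} (hc : P.1 (x - algebraMap k K c) < 1) :
    P.ord (x - algebraMap k K c) = 1 ∧
      ∀ R : Place k K, R ≠ B → R ≠ P → ¬ R.1 (x - algebraMap k K c) < 1 := by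
  classical
  have h0 : x - algebraMap k K c ≠ 0 := fun h =>
    hxt (by rw [sub_eq_zero.1 h]; exact isAlgebraic_algebraMap c)
  have hm : x - algebraMap k K c ∈ L (Finsupp.single B 1) := by
    refine Submodule.sub_mem _ hxL ?_
    rw [Algebra.algebraMap_eq_smul_one]
    refine Submodule.smul_mem _ c (L_mono (D₁ := 0) (Finsupp.single_nonneg.2 zero_le_one) ?_)
    rw [L_zero hK]; exact Submodule.one_le.1 le_rfl
  set E : Divisor k K := Finsupp.single B 1 + div k (x - algebraMap k K c) with hE
  have hE0 : 0 ≤ E := nonneg_of_mem_L hK h0 hm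
  have hEdeg : E.deg = 1 := by
    rw [hE, deg_add, deg_div hK, deg_single, deg_eq_one hK B]; norm_num
  have hEap : ∀ R : Place k K, R ≠ B → E R = R.ord (x - algebraMap k K c) := fun R hR => by
    rw [hE, Finsupp.add_apply, div_apply hK, Finsupp.single_eq_of_ne hR, zero_add]
  have hP1 : 1 ≤ E P := by
    rw [hEap P hP]; have := (val_lt_one_iff P h0).1 hc; omega
  have hEq : Finsupp.single P 1 = E := by
    refine eq_of_le_of_deg_le hK (fun R => ?_) (by rw [hEdeg, deg_single, deg_eq_one hK P]; norm_num)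
    rcases eq_or_ne R P with rfl | hR
    · simpa using hP1
    · simpa [Finsupp.single_eq_of_ne hR] using hE0 R
  refine ⟨by rw [← hEap P hP, ← hEq, Finsupp.single_eq_same], fun R hR hRP hlt => ?_⟩
  have := (val_lt_one_iff R h0).1 hlt
  rw [← hEap R hR, ← hEq, Finsupp.single_eq_of_ne hRP] at this
  omega

theorem pow_ord_dvd {P : Place k K} {x : K} {c : k}
    (hx : P.1 x ≤ 1) (hc : P.1 (x - algebraMap k K c) < 1)
    (h1 : P.ord (x - algebraMap k K c) = 1) {p : k[X]} (hp : p ≠ 0) {m : ℕ}
    (hm : (m : ℤ) ≤ P.ord (aeval x p)) : (X - C c) ^ m ∣ p := by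
  obtain ⟨q, hq, hqc⟩ := Polynomial.exists_eq_pow_rootMultiplicity_mul_and_not_dvd p hp c
  have hq0 : q.eval c ≠ 0 := fun h => hqc (Polynomial.dvd_iff_isRoot.2 h)
  have hval : P.1 (aeval x q) = 1 := by
    obtain ⟨r, hr⟩ := Polynomial.X_sub_C_dvd_sub_C_eval (a := c) (p := q)
    have he : aeval x q = algebraMap k K (q.eval c) + (x - algebraMap k K c) * aeval x r := by
      have := congrArg (aeval x) hr
      simp only [map_sub, map_mul, aeval_X, aeval_C] at this
      linear_combination this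
    rw [he, P.1.map_add_eq_of_lt_left, val_algebraMap P hq0]
    rw [val_algebraMap P hq0, map_mul]
    exact lt_of_le_of_lt (mul_le_of_le_one_right' (val_aeval_le_one P hx r)) hc
  have hx0 : x - algebraMap k K c ≠ 0 := fun h => by simp [h, Place.ord] at h1
  have haq : aeval x q ≠ 0 := fun h => by rw [h, map_zero] at hval; exact zero_ne_one hval
  have he : P.ord (aeval x p) = (p.rootMultiplicity c : ℕ) := by
    conv_lhs => rw [hq, map_mul, map_pow, map_sub, aeval_X, aeval_C,
      ord_mul P (pow_ne_zero _ hx0) haq, ord_pow, h1, mul_one,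
      ord_eq_of_val P (n := 0) (by rw [hval, exp_zero]), neg_zero, add_zero]
  rw [he] at hm
  exact (pow_dvd_pow _ (by exact_mod_cast hm)).trans (Polynomial.pow_rootMultiplicity_dvd p c)

theorem ord_aeval_at_pole (B : Place k K) {x : K} (hx : B.ord x = -1) {p : k[X]} (hp : p ≠ 0) :
    B.ord (aeval x p) = -(p.natDegree : ℤ) := by
  have hx0 : x ≠ 0 := fun h => by simp [h, Place.ord] at hx
  have hv : B.1 x = exp (1 : ℤ) := by rw [val_eq_exp B hx0, hx, neg_neg]
  have hterm : ∀ i, p.coeff i ≠ 0 → B.1 (p.coeff i • x ^ i) = exp (i : ℤ) := fun i hi => by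
    rw [Algebra.smul_def, map_mul, map_pow, val_algebraMap B hi, one_mul, hv, ← exp_nsmul]
    simp
  refine ord_eq_of_val B ?_
  rw [Polynomial.aeval_eq_sum_range, B.1.map_sum_eq_of_lt (j := p.natDegree) (by simp)
    fun i hi => ?_, hterm _ (Polynomial.leadingCoeff_ne_zero.2 hp)]
  simp only [Finset.mem_sdiff, Finset.mem_range, Finset.mem_singleton] at hi
  rw [hterm _ (Polynomial.leadingCoeff_ne_zero.2 hp)]
  rcases eq_or_ne (p.coeff i) 0 with h | h
  · rw [h, zero_smul, map_zero]; exact exp_pos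
  · rw [hterm i h, exp_lt_exp]; omega

theorem exists_aeval_eq_of_mem_L [IsAlgClosed k] (hK : IsFunctionField k K) (hg : genus k K = 0)
    {B : Place k K} {x : K} (hxt : Transcendental k x) (hxL : x ∈ L (Finsupp.single B 1)) {d : ℕ}
    {u : K} (hu : u ∈ L (Finsupp.single B (d : ℤ))) : ∃ p : k[X], aeval x p = u := by
  classical
  have := finiteDimensional_L hK (Finsupp.single B (d : ℤ))
  let W := Submodule.span k (Set.range fun i : Fin (d + 1) => x ^ (i : ℕ))
  have hle : W ≤ L (Finsupp.single B (d : ℤ)) := by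
    refine Submodule.span_le.2 ?_
    rintro _ ⟨i, rfl⟩
    refine (mem_L_iff (pow_ne_zero _ (ne_zero_of_transcendental hxt))).2 fun R => ?_
    have h := (mem_L_iff (ne_zero_of_transcendental hxt)).1 hxL R
    have hi : ((i : ℕ) : ℤ) ≤ d := by exact_mod_cast Nat.lt_succ_iff.1 i.2
    simp only [ord_pow]
    rcases eq_or_ne R B with rfl | hR
    · rw [Finsupp.single_eq_same] at h ⊢
      nlinarith
    · rw [Finsupp.single_eq_of_ne hR] at h ⊢
      nlinarith
  have hli : LinearIndependent k fun i : Fin (d + 1) => x ^ (i : ℕ) := by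
    rw [Fintype.linearIndependent_iff]
    intro g hg' i
    have h0 : (∑ j : Fin (d + 1), C (g j) * X ^ (j : ℕ)) = 0 :=
      (transcendental_iff.1 hxt) _ (by simpa [map_sum, Algebra.smul_def] using hg')
    simpa [Polynomial.finsetSum_coeff, Polynomial.coeff_C_mul_X_pow, Fin.val_inj] using
      congrArg (fun q : k[X] => q.coeff (i : ℕ)) h0
  have hr : Module.finrank k W = d + 1 := by
    rw [finrank_span_eq_card hli, Fintype.card_fin]
  have hL : Module.finrank k ↥(L (Finsupp.single B (d : ℤ))) = d + 1 := by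
    have := ell_eq_of_deg_ge hK (D := Finsupp.single B (d : ℤ))
      (by rw [deg_single, deg_eq_one hK B, hg]; push_cast; omega)
    rw [deg_single, deg_eq_one hK B, hg, ell] at this
    push_cast at this
    omega
  rw [← Submodule.eq_of_le_of_finrank_eq hle (hr.trans hL.symm)] at hu
  obtain ⟨g, hg'⟩ := (Submodule.mem_span_range_iff_exists_fun k).1 hu
  exact ⟨∑ j : Fin (d + 1), C (g j) * X ^ (j : ℕ), by simpa [map_sum, Algebra.smul_def] using hg'⟩

end Coordinate

variable {k K : Type*} [Field k] [Field K] [Algebra k K]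

theorem sum_fin_val (r : ℕ) : ∑ a : Fin (r + 1), (a : ℕ) = r * (r + 1) / 2 := by
  rw [Fin.sum_univ_eq_sum_range fun i => i, choose_two_le_sum_range]

/-- **Plücker in genus zero**: `∑ (wsum - R) ≤ (r + 1) d - 2 R`, `R = r (r + 1) / 2`. -/
theorem plucker [IsAlgClosed k] [CharZero k] (hK : IsFunctionField k K) (hg : genus k K = 0)
    {V : Submodule k K} {D : Divisor k K} (hV : V ≤ L D) {d r : ℕ} (hd : D.deg = d)
    (hr : Module.finrank k V = r + 1) (s : Finset (Place k K)) :
    (∑ P ∈ s, wsum V D P d) + r * (r + 1) ≤ (r + 1) * d + s.card * (r * (r + 1) / 2) := by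
  classical
  obtain ⟨B⟩ := exists_place hK
  suffices H : ∀ t : Finset (Place k K), B ∉ t →
      (∑ P ∈ t, wsum V D P d) + wsum V D B d + r * (r + 1) ≤
        (r + 1) * d + (t.card + 1) * (r * (r + 1) / 2) by
    by_cases hB : B ∈ s
    · have := H (s.erase B) (Finset.notMem_erase B s)
      rwa [Finset.sum_erase_add _ _ hB, Finset.card_erase_add_one hB] at this
    · have h1 := H s hB
      have h2 := wsum_ge hK (deg_eq_one hK B) hV hd hr
      rw [add_mul s.card 1, one_mul] at h1
      omega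
  intro t hBt
  have hdegB := deg_eq_one hK B
  obtain ⟨x, hxt, hxL, hxB⟩ := exists_coord hK hg B
  have hinj : Function.Injective (aeval x : k[X] →ₐ[k] K) := transcendental_iff_injective.1 hxt
  -- `D` is linearly equivalent to `d B`
  set F := D - Finsupp.single B (d : ℤ) with hF
  have hFdeg : F.deg = 0 := by rw [hF, deg_sub, deg_single, hdegB, hd]; push_cast; ring
  obtain ⟨y, hy0, hyL⟩ := exists_ne_zero_of_ell_pos (D := F) (by
    have := ell_eq_of_deg_ge hK (D := F) (by rw [hFdeg, hg]; norm_num)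
    rw [hFdeg, hg] at this
    omega)
  have hy : ∀ R : Place k K, R.ord y + D R = Finsupp.single B (d : ℤ) R := fun R => by
    have h0 := eq_of_le_of_deg_le hK (nonneg_of_mem_L hK hy0 hyL)
      (by rw [deg_add, deg_div hK, hFdeg]; simp [deg_eq_degHom_sum])
    have h1 := DFunLike.congr_fun h0.symm R
    rw [Finsupp.add_apply, div_apply hK, hF, Finsupp.sub_apply] at h1
    simp at h1
    omega
  have hpoly : ∀ v ∈ V, v ≠ 0 → ∃ p : k[X], p ≠ 0 ∧ aeval x p = v / y := by
    intro v hv hv0
    obtain ⟨p, hp⟩ := exists_aeval_eq_of_mem_L hK hg hxt hxL (d := d) (u := v / y)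
      ((mem_L_iff (div_ne_zero hv0 hy0)).2 fun R => by
        have h1 := hy R
        have h2 := (mem_L_iff hv0).1 (hV hv) R
        rw [ord_div R hv0 hy0]
        omega)
    exact ⟨p, fun h => div_ne_zero hv0 hy0 (by rw [← hp, h, map_zero]), hp⟩
  obtain ⟨m, v, hminj, hmd, hvV, hv0, hvm, -, -, hwB, -⟩ := exists_adapted hK hdegB hV hd hr
  choose p hp0 hp using fun i => hpoly (v i) (hvV i) (hv0 i)
  have hdeg : ∀ i, (p i).natDegree + m i = d := fun i => by
    have h1 := ord_aeval_at_pole B hxB (hp0 i)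
    rw [hp i, ord_div B (hv0 i) hy0] at h1
    have h2 := hvm i
    have h3 := hy B
    rw [Finsupp.single_eq_same] at h3
    omega
  obtain ⟨hW0, hW⟩ := wronsk_ne_zero p hp0 fun i j (h : (p i).natDegree = (p j).natDegree) =>
    hminj (by have := hdeg i; have := hdeg j; omega)
  -- the value of the coordinate
  have hval : ∀ P : t, ∃ c : k, P.1.1 x ≤ 1 ∧ P.1.1 (x - algebraMap k K c) < 1 := fun P => by
    have hPB : P.1 ≠ B := fun h => hBt (h ▸ P.2)
    have hx1 : P.1.1 x ≤ 1 :=
      (val_le_one_iff _ (ne_zero_of_transcendental hxt)).2 (ord_nonneg_of_mem_L_single hPB (ne_zero_of_transcendental hxt) hxL)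
    obtain ⟨c, hc⟩ := exists_sub_const_val_lt_one hK P.1 (deg_eq_one hK P.1) hx1
    exact ⟨c, hx1, hc⟩
  choose c hx1 hc using hval
  have hcinj : Function.Injective c := fun P Q h => by
    by_contra hne
    exact (coord_sub hK hxt hxL (fun h' => hBt (h' ▸ P.2)) (hc P)).2 Q.1 (fun h' => hBt (h' ▸ Q.2))
      (fun h' => hne (Subtype.ext h').symm) (h ▸ hc Q)
  have hR := sum_fin_val r
  have hdvd : ∀ P : t, (X - C (c P)) ^ (wsum V D P.1 d - r * (r + 1) / 2) ∣ wronsk p := by
    intro P
    have hPB : P.1 ≠ B := fun h => hBt (h ▸ P.2)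
    obtain ⟨m', v', -, -, hvV', hv0', hvm', -, hsp, hwP, -⟩ :=
      exists_adapted hK (deg_eq_one hK P.1) hV hd hr
    choose q hq0 hq using fun j => hpoly (v' j) (hvV' j) (hv0' j)
    have hqd : ∀ j, (X - C (c P)) ^ m' j ∣ q j := fun j => by
      refine pow_ord_dvd (hx1 P) (hc P)
        (coord_sub hK hxt hxL hPB (hc P)).1 (hq0 j) (le_of_eq ?_)
      rw [hq j, ord_div _ (hv0' j) hy0]
      have h2 := hvm' j
      have h3 := hy P.1
      rw [Finsupp.single_eq_of_ne hPB] at h3
      omega
    have hmem : ∀ i, v i ∈ Submodule.span k (Set.range v') := fun i => by rw [hsp]; exact hvV i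
    choose T hT using fun i => (Submodule.mem_span_range_iff_exists_fun k).1 (hmem i)
    have hcomb := wronsk_of_comb p q (Matrix.of fun j i => T i j) fun i => hinj (by
      rw [hp i, map_sum, ← hT i, Finset.sum_div]
      refine Finset.sum_congr rfl fun j _ => ?_
      rw [map_mul, aeval_C, hq j, Matrix.of_apply, Algebra.smul_def, mul_div_assoc])
    rw [hcomb]
    have h4 := wsum_ge hK (deg_eq_one hK P.1) hV hd hr
    exact Dvd.dvd.mul_right (pow_dvd_wronsk q (c P) m' hqd (by rw [hR, ← hwP]; omega)) _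
  have hall := Fintype.prod_dvd_of_coprime
    (fun P Q hPQ => (Polynomial.pairwise_coprime_X_sub_C hcinj hPQ).pow) hdvd
  have h5 := Polynomial.natDegree_le_of_dvd hall hW0
  rw [Polynomial.natDegree_prod _ _ fun P _ => pow_ne_zero _ (Polynomial.X_sub_C_ne_zero _)] at h5
  simp only [Polynomial.natDegree_pow, Polynomial.natDegree_X_sub_C, mul_one] at h5
  rw [Finset.sum_coe_sort t fun P => wsum V D P d - r * (r + 1) / 2] at h5
  have h6 : ∑ P ∈ t, wsum V D P d = (∑ P ∈ t, (wsum V D P d - r * (r + 1) / 2)) +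
      t.card * (r * (r + 1) / 2) := by
    rw [Finset.card_eq_sum_ones, Finset.sum_mul, one_mul, ← Finset.sum_add_distrib]
    exact Finset.sum_congr rfl fun P _ => by
      have := wsum_ge hK (deg_eq_one hK P) hV hd hr; omega
  have h7 : (∑ i, (p i).natDegree) + ∑ i, m i = (r + 1) * d := by
    rw [← Finset.sum_add_distrib, Finset.sum_congr rfl fun i _ => hdeg i]; simp
  have h8 : r * (r + 1) = 2 * (r * (r + 1) / 2) :=
    (Nat.mul_div_cancel' (Nat.even_mul_succ_self r).two_dvd).symm
  rw [hR] at hW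
  rw [add_mul t.card 1, one_mul]
  omega

end Groth.Agent.FunFldLib
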