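import Groth.Agent.FunFld.ASGenus
import Groth.Agent.FunFld.HyperGenus

/-!
`L((g-1) ∞)` in quadratic extensions of `k(x)` and uniqueness of the rational subfield.
-/

namespace Groth.Agent.FunFldLib

open FunFld WithZero

/-- Two degree `2g-2` divisors with `ℓ ≥ g` differ by a principal divisor. -/
theorem exists_scale_canonical {k K : Type*} [Field k] [Field K] [Algebra k K] (hK : IsFunctionField k K)
    {D D' : Divisor k K} (hd : D.deg = 2 * (genus k K : ℤ) - 2) (hl : (genus k K : ℤ) ≤ ell D)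
    (hd' : D'.deg = 2 * (genus k K : ℤ) - 2) (hl' : (genus k K : ℤ) ≤ ell D') :
    ∃ s : K, s ≠ 0 ∧ ∀ u ∈ L D', u * s ∈ L D := by
  obtain ⟨C, hC⟩ := exists_isCanonical hK
  have hC2 := (canonical_ell_deg hK hC).2
  have key : ∀ E : Divisor k K, E.deg = 2 * (genus k K : ℤ) - 2 → (genus k K : ℤ) ≤ ell E →
      ∃ x : K, x ≠ 0 ∧ ∀ P : Place k K, E P = C P + P.ord x := fun E hE hlE => by
    have hRR := riemann_roch hK hC E
    rw [hE] at hRR
    have hne : L (C - E) ≠ ⊥ := fun h => by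
      have h0 : ell (C - E) = 0 := by rw [ell, h, finrank_bot]
      omega
    obtain ⟨x, hx, hx0⟩ := Submodule.exists_mem_ne_zero_of_ne_bot hne
    refine ⟨x, hx0, fun P => ?_⟩
    have hsupp := finite_support_ord hK x
    set Z : Divisor k K := C - E + div k x
    have hZ : 0 ≤ Z := fun Q => by
      have h := (mem_L_iff hx0).1 hx Q
      rw [Finsupp.add_apply, Finsupp.zero_apply, div_apply hK]
      omega
    have hZdeg : Z.deg = 0 := by rw [deg_add, deg_sub, deg_div hK, hC2, hE]; ring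
    have hZ0 : Z P = 0 := by
      have h1 := hZ P
      rw [Finsupp.zero_apply] at h1
      by_contra hne
      have hmem : P ∈ Z.support := Finsupp.mem_support_iff.2 hne
      have h2 : Z P * (P.deg : ℤ) ≤ Z.deg :=
        Finset.single_le_sum (f := fun Q => Z Q * (Q.deg : ℤ))
          (fun Q _ => mul_nonneg (by simpa using hZ Q) (Int.natCast_nonneg _)) hmem
      have h3 : (0 : ℤ) < P.deg := by exact_mod_cast deg_pos hK P
      have : 0 < Z P * (P.deg : ℤ) := mul_pos (lt_of_le_of_ne h1 (Ne.symm hne)) h3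
      omega
    simp only [Z, Finsupp.add_apply, Finsupp.sub_apply, div_apply hK] at hZ0
    omega
  obtain ⟨x, hx0, hx⟩ := key D hd hl
  obtain ⟨x', hx0', hx'⟩ := key D' hd' hl'
  refine ⟨x' / x, div_ne_zero hx0' hx0, fun u hu => ?_⟩
  rcases eq_or_ne u 0 with rfl | hu0
  · rw [zero_mul]; exact zero_mem _
  refine (mem_L_iff (mul_ne_zero hu0 (div_ne_zero hx0' hx0))).2 fun P => ?_
  rw [ord_mul P hu0 (div_ne_zero hx0' hx0), ord_div P hx0' hx0]
  have := (mem_L_iff hu0).1 hu P
  have := hx P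
  have := hx' P
  omega

section Quad

variable {k : Type*} [Field k] {K : Type*} [Field K] [Algebra k K] [Algebra (RatFunc k) K]
  [IsScalarTower k (RatFunc k) K] [FiniteDimensional (RatFunc k) K]

/-- Pointwise description of `L(conorm N₀)` when `char ≠ 2`. -/
theorem hyper_mem_L (h2 : (2 : k) ≠ 0) (hdeg : Module.finrank (RatFunc k) K = 2) {y : K}
    (hy : y ∉ Set.range (algebraMap (RatFunc k) K)) {f : RatFunc k} (heq : y ^ 2 = algebraMap (RatFunc k) K f)
    (N₀ : Divisor k (RatFunc k)) (a b : RatFunc k) :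
    algebraMap _ K a + algebraMap _ K b * y ∈ L (conorm K N₀) ↔
      a ∈ L N₀ ∧ ∀ P : Place k (RatFunc k), P.1 (b ^ 2 * f) ≤ exp (2 * N₀ P) := by
  classical
  have hF := isFunctionField_ratFunc (k := k)
  have htr : ∀ a b : RatFunc k,
      Algebra.trace (RatFunc k) K (algebraMap _ K a + algebraMap _ K b * y) = 2 * a := fun a b => by
    rw [map_add, Algebra.trace_algebraMap, hdeg, ← Algebra.smul_def, map_smul, quad_trace hdeg hy heq,
      smul_zero, add_zero, two_smul, two_mul]
  have hfin : ∀ P : Place k (RatFunc k), ∀ a b : RatFunc k,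
      IntAbove P (algebraMap _ K a + algebraMap _ K b * y) ↔ P.1 a ≤ 1 ∧ P.1 (b ^ 2 * f) ≤ 1 := fun P a b => by
    have hsq : ∀ Q : Place k K, IsOver Q P →
        (Q.1 (algebraMap _ K b * y) ≤ 1 ↔ P.1 (b ^ 2 * f) ≤ 1) := fun Q hQ => by
      have he := isOverWith_ramIdx hQ
      rw [← pow_le_one_iff_of_nonneg zero_le two_ne_zero, ← map_pow, mul_pow, heq, ← map_pow (algebraMap (RatFunc k) K),
        ← map_mul, he, pow_le_one_iff_of_nonneg zero_le (isOverWith_pos he).ne']
    constructor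
    · intro h
      have ha : P.1 a ≤ 1 := by
        have := val_trace_le_one hF h
        rwa [htr, map_mul, ← map_ofNat (algebraMap k (RatFunc k)) 2, val_algebraMap P h2, one_mul] at this
      obtain ⟨Q, hQ⟩ := exists_above (K' := K) hF P
      refine ⟨ha, (hsq Q hQ).1 ?_⟩
      have haQ : Q.1 (algebraMap (RatFunc k) K a) ≤ 1 := by
        rw [isOverWith_ramIdx hQ]; exact pow_le_one₀ zero_le ha
      have h1 := (Q.1.map_sub _ _).trans (max_le (h Q hQ) haQ)
      rwa [add_sub_cancel_left] at h1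
    · rintro ⟨ha, hb⟩ Q hQ
      refine (Q.1.map_add _ _).trans (max_le ?_ ((hsq Q hQ).2 hb))
      rw [isOverWith_ramIdx hQ]; exact pow_le_one₀ zero_le ha
  have hP : ∀ P : Place k (RatFunc k),
      ((∀ Q : Place k K, IsOver Q P → Q.1 (algebraMap _ K a + algebraMap _ K b * y) ≤ exp (conorm K N₀ Q)) ↔
        P.1 a ≤ exp (N₀ P) ∧ P.1 (b ^ 2 * f) ≤ exp (2 * N₀ P)) := fun P => by
    obtain ⟨c, hc⟩ := exists_val_eq P (-(N₀ P))
    have h := hfin P (c * a) (c * b)
    have e1 : P.1 (c * a) ≤ 1 ↔ P.1 a ≤ exp (N₀ P) := by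
      rw [map_mul, hc, exp_neg, inv_mul_le_iff₀ exp_pos, mul_one]
    have e2 : P.1 ((c * b) ^ 2 * f) ≤ 1 ↔ P.1 (b ^ 2 * f) ≤ exp (2 * N₀ P) := by
      rw [mul_pow, mul_assoc, map_mul, map_pow, hc, ← exp_nsmul, show (2 : ℕ) • -N₀ P = -(2 * N₀ P) by simp,
        exp_neg, inv_mul_le_iff₀ exp_pos, mul_one]
    rw [e1, e2] at h
    rw [← h]
    refine forall_congr' fun Q => forall_congr' fun hQ => ?_
    rw [map_mul (algebraMap (RatFunc k) K), map_mul (algebraMap (RatFunc k) K), mul_assoc, ← mul_add, map_mul,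
      conorm_apply hF, (isOver_iff_below Q P).1 hQ, isOverWith_ramIdx hQ, hc,
      ← exp_nsmul, nsmul_eq_mul, mul_neg, exp_neg, inv_mul_le_iff₀ exp_pos, mul_one, mul_comm (N₀ P)]
  constructor
  · intro h
    exact ⟨fun P => ((hP P).1 fun Q _ => h Q).1, fun P => ((hP P).1 fun Q _ => h Q).2⟩
  · rintro ⟨ha, hb⟩ Q
    exact (hP _).2 ⟨ha _, hb _⟩ Q (isOver_below Q)

/-- Pointwise description of `L(conorm N₀)` for `y ^ 2 + y = f`. -/
theorem as_mem_L [CharP k 2] (hdeg : Module.finrank (RatFunc k) K = 2) {y : K}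
    (hy : y ∉ Set.range (algebraMap (RatFunc k) K)) {f : RatFunc k}
    (heq : y ^ 2 + y = algebraMap (RatFunc k) K f) (D : Divisor k (RatFunc k))
    (hD : ∀ P : Place k (RatFunc k), (0 ≤ P.ord f ∧ D P = 0) ∨ (P.ord f < 0 ∧ P.ord f = 1 - 2 * D P))
    (N₀ : Divisor k (RatFunc k)) (a b : RatFunc k) :
    algebraMap _ K a + algebraMap _ K b * y ∈ L (conorm K N₀) ↔ a ∈ L N₀ ∧ b ∈ L (N₀ - D) := by
  have hF := isFunctionField_ratFunc (k := k)
  have hP : ∀ P : Place k (RatFunc k),
      ((∀ Q : Place k K, IsOver Q P → Q.1 (algebraMap _ K a + algebraMap _ K b * y) ≤ exp (conorm K N₀ Q)) ↔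
        P.1 a ≤ exp (N₀ P) ∧ P.1 b ≤ exp ((N₀ - D) P)) := fun P => by
    obtain ⟨c, hc⟩ := exists_val_eq P (-(N₀ P))
    have hscale : ∀ (x : RatFunc k) (m : ℤ), P.1 (c * x) ≤ exp m ↔ P.1 x ≤ exp (N₀ P + m) := fun x m => by
      rw [map_mul, hc, exp_neg, inv_mul_le_iff₀ exp_pos, ← exp_add]
    have h := as_intAbove_iff hdeg hy heq P (D P) (hD P) (c * a) (c * b)
    rw [show P.1 (c * a) ≤ 1 ↔ P.1 (c * a) ≤ exp 0 by rw [exp_zero], hscale, hscale, add_zero,
      ← sub_eq_add_neg, ← Finsupp.sub_apply] at h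
    rw [← h]
    refine forall_congr' fun Q => forall_congr' fun hQ => ?_
    rw [map_mul (algebraMap (RatFunc k) K), map_mul (algebraMap (RatFunc k) K), mul_assoc, ← mul_add, map_mul,
      conorm_apply hF, (isOver_iff_below Q P).1 hQ, isOverWith_ramIdx hQ, hc,
      ← exp_nsmul, nsmul_eq_mul, mul_neg, exp_neg, inv_mul_le_iff₀ exp_pos, mul_one, mul_comm (N₀ P)]
  constructor
  · intro h
    exact ⟨fun P => ((hP P).1 fun Q _ => h Q).1, fun P => ((hP P).1 fun Q _ => h Q).2⟩
  · rintro ⟨ha, hb⟩ Q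
    exact (hP _).2 ⟨ha _, hb _⟩ Q (isOver_below Q)

/-- `L((g-1)·∞)` consists of rational functions of `x` (char ≠ 2). -/
theorem hyper_L_subset (h2 : (2 : k) ≠ 0) (hdeg : Module.finrank (RatFunc k) K = 2) {y : K} {f : Polynomial k}
    (hf : Squarefree f) (hd : 1 ≤ f.natDegree) (heq : y ^ 2 = algebraMap (RatFunc k) K (polR f))
    {Pi : Place k (RatFunc k)} (hPi : 1 < Pi.1 RatFunc.X) {n : ℤ} (hn : 2 * n < f.natDegree) {u : K}
    (hu : u ∈ L (conorm K (Finsupp.single Pi n))) :
    ∃ a : RatFunc k, a ∈ L (Finsupp.single Pi n) ∧ u = algebraMap (RatFunc k) K a := by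
  have hy := hyper_notMem hf hd heq
  obtain ⟨a, b, rfl⟩ := quad_repr hdeg hy u
  obtain ⟨ha, hb⟩ := (hyper_mem_L h2 hdeg hy heq _ a b).1 hu
  suffices hb0 : b = 0 by exact ⟨a, ha, by simp [hb0]⟩
  have hf0 : f ≠ 0 := hf.ne_zero
  obtain ⟨q, rfl⟩ := rat_eq_pol (z := b) fun P hP => by
    have h := hb P
    rw [Finsupp.single_eq_of_ne (show P ≠ Pi from fun h' => not_le.2 hPi (h' ▸ hP)), mul_zero, exp_zero, map_mul,
      map_pow] at h
    by_contra hlt
    rw [not_le] at hlt
    have hb0 : b ≠ 0 := fun h => by rw [h, map_zero] at hlt; exact not_lt_zero hlt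
    have hfl : exp (-1) ≤ P.1 (polR f) := by
      by_cases hPf : P.1 (polR f) < 1
      · obtain ⟨p, hp, hpf, hpv⟩ := rat_exists_prime P hf0 hPf
        exact (rat_val_squarefree P hp hpv hf hpf).ge
      · exact (le_of_lt (by rw [← exp_zero, exp_lt_exp]; norm_num)).trans (not_lt.1 hPf)
    have h4 := (mul_le_mul' (le_refl (P.1 b ^ 2)) hfl).trans h
    rw [val_eq_exp P hb0, ← exp_zero, exp_lt_exp] at hlt
    rw [val_eq_exp P hb0, ← exp_nsmul, ← exp_add, ← exp_zero, exp_le_exp, nsmul_eq_mul] at h4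
    push_cast at h4
    omega
  by_contra hq
  have hq0 : q ≠ 0 := by rintro rfl; simp [polR] at hq
  have h := hb Pi
  rw [Finsupp.single_eq_same, map_mul, map_pow, rat_val_pol_inf Pi hPi hq0, rat_val_pol_inf Pi hPi hf0,
    rat_val_X_inf Pi hPi, ← exp_nsmul, ← exp_nsmul, ← exp_nsmul, ← exp_add, exp_le_exp] at h
  simp only [nsmul_eq_mul] at h
  push_cast at h
  omega

/-- Canonical `(g-1)·∞`. -/
theorem conorm_inf_props (hK : IsFunctionField k K) (hdeg : Module.finrank (RatFunc k) K = 2)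
    {Pi : Place k (RatFunc k)} (hPi : 1 < Pi.1 RatFunc.X) {n : ℤ} (hn : -1 ≤ n) :
    (conorm K (Finsupp.single Pi n)).deg = 2 * n ∧
      ∀ a ∈ L (Finsupp.single Pi n), algebraMap (RatFunc k) K a ∈ L (conorm K (Finsupp.single Pi n)) ∧
      n + 1 ≤ (ell (conorm K (Finsupp.single Pi n)) : ℤ) := by
  have hF := isFunctionField_ratFunc (k := k)
  refine ⟨by rw [deg_conorm hF, deg_single, hdeg, rat_deg_inf Pi hPi]; simp, fun a ha => ?_⟩
  have hmem : ∀ a ∈ L (Finsupp.single Pi n), algebraMap (RatFunc k) K a ∈ L (conorm K (Finsupp.single Pi n)) :=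
    fun a ha Q => by
      rw [conorm_apply hF, isOverWith_ramIdx (isOver_below (K := RatFunc k) Q), mul_comm, exp_mul_nat_aux]
      exact pow_le_pow_left₀ zero_le (ha _) _
  refine ⟨hmem a ha, ?_⟩
  have := finiteDimensional_L hK (conorm K (Finsupp.single Pi n))
  have h0 := rat_ell (D := Finsupp.single Pi n) (by rw [deg_single, rat_deg_inf Pi hPi]; simpa using hn)
  rw [deg_single, rat_deg_inf Pi hPi] at h0
  let j : L (Finsupp.single Pi n) →ₗ[k] L (conorm K (Finsupp.single Pi n)) :=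
    LinearMap.codRestrict _ (((Algebra.linearMap (RatFunc k) K).restrictScalars k) ∘ₗ (L (Finsupp.single Pi n)).subtype)
      fun a => hmem a.1 a.2
  have hle : ell (Finsupp.single Pi n) ≤ ell (conorm K (Finsupp.single Pi n)) :=
    LinearMap.finrank_le_finrank_of_injective (f := j) fun a a' h =>
      Subtype.ext ((algebraMap (RatFunc k) K).injective (congrArg Subtype.val h :))
  simp at h0
  omega
where
  exp_mul_nat_aux {e : ℕ} {m : ℤ} : exp ((e : ℤ) * m) = (exp m : WithZero (Multiplicative ℤ)) ^ e := by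
    rw [← exp_nsmul, nsmul_eq_mul]

end Quad

end Groth.Agent.FunFldLib

namespace Groth.Agent.FunFldLib

open FunFld WithZero

/-- A subfield `k(x)` as an action of `RatFunc k`. -/
theorem exists_ratFunc_hom {k K : Type*} [Field k] [Field K] [Algebra k K] (hK : IsFunctionField k K) {x : K}
    (hx : Module.finrank (IntermediateField.adjoin k ({x} : Set K)) K ≠ 0) :
    ∃ i : RatFunc k →ₐ[k] K, i RatFunc.X = x ∧ (∀ a, i a ∈ IntermediateField.adjoin k ({x} : Set K)) ∧
      (letI := i.toRingHom.toAlgebra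
       Module.finrank (RatFunc k) K = Module.finrank (IntermediateField.adjoin k ({x} : Set K)) K ∧
        (Algebra.IsSeparable (IntermediateField.adjoin k ({x} : Set K)) K → Algebra.IsSeparable (RatFunc k) K)) := by
  have ht : Transcendental k x := fun halg => by
    obtain ⟨c, rfl⟩ := hK.2 x halg
    obtain ⟨z, hz, -⟩ := hK.1
    have : FiniteDimensional (IntermediateField.adjoin k ({algebraMap k K c} : Set K)) K :=
      Module.finite_of_finrank_pos (Nat.pos_of_ne_zero hx)
    have := IntermediateField.isAlgebraic_adjoin_simple (K := k) (x := algebraMap k K c) isIntegral_algebraMap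
    exact hz ((Algebra.IsAlgebraic.isAlgebraic (R := IntermediateField.adjoin k ({algebraMap k K c} : Set K)) z).restrictScalars k)
  let e := RatFunc.algEquivOfTranscendental x ht
  refine ⟨(IntermediateField.adjoin k ({x} : Set K)).val.comp e.toAlgHom, RatFunc.algEquivOfTranscendental_X x ht,
    fun a => (e a).2, ?_, fun hsep => ?_⟩
  · letI := ((IntermediateField.adjoin k ({x} : Set K)).val.comp e.toAlgHom).toRingHom.toAlgebra
    exact Algebra.finrank_eq_of_equiv_equiv e.toRingEquiv (RingEquiv.refl K) (by ext z; rfl)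
  · letI := ((IntermediateField.adjoin k ({x} : Set K)).val.comp e.toAlgHom).toRingHom.toAlgebra
    exact Algebra.IsSeparable.of_equiv_equiv (A₁ := IntermediateField.adjoin k ({x} : Set K))
      (B₁ := K) e.toRingEquiv.symm (RingEquiv.refl K) (by
        ext z
        show algebraMap (RatFunc k) K (e.symm z) = (z : K)
        exact congrArg Subtype.val (e.apply_symm_apply z))

/-- The argument for uniqueness of the rational subfield. -/
theorem adjoin_le_of_L_subset {k K : Type*} [Field k] [Field K] [Algebra k K] (hK : IsFunctionField k K) {x x' : K}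
    {D D' : Divisor k K}
    (hd : D.deg = 2 * (genus k K : ℤ) - 2) (hl : (genus k K : ℤ) ≤ ell D)
    (hsub : ∀ u ∈ L D, u ∈ IntermediateField.adjoin k ({x} : Set K))
    (hd' : D'.deg = 2 * (genus k K : ℤ) - 2) (hl' : (genus k K : ℤ) ≤ ell D')
    (h1 : (1 : K) ∈ L D') (hx' : x' ∈ L D')
    (hr : Module.finrank (IntermediateField.adjoin k ({x} : Set K)) K = 2)
    (hr' : Module.finrank (IntermediateField.adjoin k ({x'} : Set K)) K = 2) :
    IntermediateField.adjoin k ({x} : Set K) = IntermediateField.adjoin k ({x'} : Set K) := by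
  obtain ⟨s, hs, hmul⟩ := exists_scale_canonical hK hd hl hd' hl'
  have e1 := hsub _ (hmul 1 h1)
  rw [one_mul] at e1
  have e2 := hsub _ (hmul x' hx')
  have hmem : x' ∈ IntermediateField.adjoin k ({x} : Set K) := by
    have := mul_mem e2 (inv_mem e1)
    rwa [mul_assoc, mul_inv_cancel₀ hs, mul_one] at this
  set A := IntermediateField.adjoin k ({x} : Set K)
  set B := IntermediateField.adjoin k ({x'} : Set K)
  have hle : B ≤ A := IntermediateField.adjoin_simple_le_iff.2 hmem
  have : FiniteDimensional B K := Module.finite_of_finrank_pos (by omega)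
  have : FiniteDimensional A K := Module.finite_of_finrank_pos (by omega)
  exact (IntermediateField.eq_of_le_of_finrank_eq' hle (by omega)).symm

/-- The one and the coordinate lie in `L((g-1)∞)`. -/
theorem one_X_mem_L {k : Type*} [Field k] {Pi : Place k (RatFunc k)} (hPi : 1 < Pi.1 RatFunc.X) {n : ℤ}
    (hn : 1 ≤ n) : (1 : RatFunc k) ∈ L (Finsupp.single Pi n) ∧ (RatFunc.X : RatFunc k) ∈ L (Finsupp.single Pi n) := by
  refine ⟨fun P => ?_, fun P => ?_⟩ <;> rcases eq_or_ne P Pi with rfl | hP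
  · rw [Finsupp.single_eq_same, map_one, ← exp_zero, exp_le_exp]; omega
  · rw [Finsupp.single_eq_of_ne hP, map_one, exp_zero]
  · rw [Finsupp.single_eq_same, rat_val_X_inf _ hPi, exp_le_exp]; omega
  · rw [Finsupp.single_eq_of_ne hP, exp_zero]
    by_contra h
    exact hP (rat_inf_unique (not_le.1 h) hPi)

end Groth.Agent.FunFldLib
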