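import Groth.Agent.FunFld.HyperDiff
import Groth.Agent.S12516

/-!
Regular differentials `z dx` of quadratic extensions of `k(x)`.
-/

namespace Groth.Agent.FunFldLib

open FunFld WithZero LaurentSeries

variable {k : Type*} [Field k] {K : Type*} [Field K] [Algebra k K]

/-- Regularity of `z dx` once the orders of `dx` are known. -/
theorem regular_iff {F : Place k K → Type*} [∀ P, Field (F P)] [∀ P, Algebra k (F P)]
    {φ : ∀ P, K →ₐ[k] (F P)⸨X⸩} (hφ : ∀ P, LocRes.IsExpansionAt P.1 (φ P)) {x w : K} {N : Divisor k K}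
    (h : ∀ Q : Place k K, Valued.v (LocRes.D (F Q) (φ Q x)) = exp (-N Q) * Q.1 w) (z : K) :
    (∀ Q, LocRes.vDiff (φ Q) z x ≤ 1) ↔ z * w ∈ L N := by
  refine forall_congr' fun Q => ?_
  rw [LocRes.vDiff, map_mul, (hφ Q).1, h Q, mul_left_comm, exp_neg, inv_mul_le_iff₀ exp_pos, mul_one, map_mul]

variable [Algebra (RatFunc k) K] [IsScalarTower k (RatFunc k) K] [FiniteDimensional (RatFunc k) K]
  {F : Type*} [Field F] [Algebra k F] {ψ : K →ₐ[k] F⸨X⸩} {Q : Place k K}

theorem hyper_val_Dx (hK : IsFunctionField k K) (h2 : ringChar k ≠ 2)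
    (hdeg : Module.finrank (RatFunc k) K = 2) {y : K}
    {f : Polynomial k} (hf : Squarefree f) (hd : 1 ≤ f.natDegree)
    (heq : y ^ 2 = algebraMap (RatFunc k) K (polR f))
    {Pi : Place k (RatFunc k)} (hPi : 1 < Pi.1 RatFunc.X) (hψ : LocRes.IsExpansionAt Q.1 ψ) :
    Valued.v (LocRes.D F (ψ (algebraMap (RatFunc k) K RatFunc.X))) =
      exp (-(conorm K (Finsupp.single Pi ((genus k K : ℤ) - 1)) Q)) * Q.1 y := by
  have hF := isFunctionField_ratFunc (k := k)
  have h2k : (2 : k) ≠ 0 := Ring.two_ne_zero h2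
  have hy := hyper_notMem hf hd heq
  have hy0 : y ≠ 0 := fun h => hy ⟨0, by rw [map_zero, h]⟩
  have hg := genus_hyperelliptic hK h2k hdeg y hf hd heq
  set P₀ := below (K := RatFunc k) Q with hP₀
  have hQ : IsOver Q P₀ := isOver_below Q
  set e := ramIdx Q P₀ with he_def
  have he : IsOverWith Q P₀ e := isOverWith_ramIdx hQ
  have he1 := isOverWith_pos he
  have he2 : e ≤ 2 := (quad_ram hF hdeg hQ).1
  have hek : (e : k) ≠ 0 := by
    rcases (show e = 1 ∨ e = 2 by omega) with h | h <;> rw [h] <;> simp [h2k]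
  have hsq : Q.1 y ^ 2 = P₀.1 (polR f) ^ e := by rw [← map_pow, heq, he]
  rw [conorm_apply hF, ← hP₀, ← he_def, val_eq_exp Q hy0, ← exp_add]
  rw [val_eq_exp Q hy0, ← exp_nsmul, nsmul_eq_mul] at hsq
  have hf0 : f ≠ 0 := hf.ne_zero
  rcases le_or_gt (P₀.1 RatFunc.X) 1 with hX | hX
  · rw [Finsupp.single_eq_of_ne (fun h : P₀ = Pi => not_le.2 hPi (h ▸ hX)), (val_Dx_tame hψ he hek).1 hX, exp_inj]
    by_cases hlt : P₀.1 (polR f) < 1
    · obtain ⟨p, hp, hpf, hpv⟩ := rat_exists_prime P₀ hf0 hlt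
      have hv := rat_val_squarefree P₀ hp hpv hf hpf
      have hr := (quad_ramified hF hdeg (ne_zero_of_val P₀ hv) heq
        (by rw [ord_eq_of_val P₀ hv]; exact ⟨0, rfl⟩)).2 Q hQ
      have : e = 2 := (isOverWith_unique he hr.1).2
      rw [hr.2.2, ord_eq_of_val P₀ hv, this]; simp
    · have hv : P₀.1 (polR f) = 1 := le_antisymm (rat_val_pol_le_one P₀ hX f) (not_lt.1 hlt)
      have : e = 1 := (isOverWith_unique he (quad_unramified hF hdeg h2k hy heq hv hQ)).2
      rw [hv, one_pow, ← exp_zero, exp_inj] at hsq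
      push_cast at hsq
      rw [this]; simp; omega
  · have hPP : P₀ = Pi := rat_inf_unique hX hPi
    rw [hPP, Finsupp.single_eq_same, (val_Dx_tame hψ he hek).2 hX, exp_inj]
    rw [rat_val_pol_inf P₀ hX hf0, rat_val_X_inf P₀ hX, ← exp_nsmul, ← exp_nsmul, exp_inj] at hsq
    simp only [nsmul_eq_mul, mul_one] at hsq
    push_cast at hsq
    have h16 := Groth.Agent.S12516.result k K h2 hdeg y f hf hd heq Pi ((one_lt_val_iff Pi RatFunc.X_ne_zero).1 hPi)
    rcases Nat.even_or_odd f.natDegree with hev | hodd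
    · have : e = 1 := (isOverWith_unique he (hPP ▸ (h16.2 hev).2 Q (hPP ▸ hQ))).2
      obtain ⟨m, hm⟩ := hev
      rw [this] at hsq ⊢
      push_cast at hsq ⊢
      omega
    · have : e = 2 := (isOverWith_unique he (hPP ▸ ((h16.1 hodd).2 Q (hPP ▸ hQ)).1)).2
      obtain ⟨m, hm⟩ := hodd
      rw [this] at hsq ⊢
      push_cast at hsq ⊢
      omega

theorem as_exists_D (f : RatFunc k) (hodd : ∀ P : Place k (RatFunc k), P.ord f < 0 → Odd (P.ord f)) :
    ∃ D : Divisor k (RatFunc k), ∀ P : Place k (RatFunc k),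
      (0 ≤ P.ord f ∧ D P = 0) ∨ (P.ord f < 0 ∧ P.ord f = 1 - 2 * D P) := by
  classical
  refine ⟨Finsupp.onFinset (finite_support_ord isFunctionField_ratFunc f).toFinset
    (fun P => if P.ord f < 0 then (1 - P.ord f) / 2 else 0) fun P h => ?_, fun P => ?_⟩
  · simp only [Set.Finite.mem_toFinset, Function.mem_support]
    intro h0; simp [h0] at h
  · rw [Finsupp.onFinset_apply]
    by_cases h : P.ord f < 0
    · rw [if_pos h]
      obtain ⟨m, hm⟩ := hodd P h
      right; exact ⟨h, by omega⟩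
    · rw [if_neg h]; left; exact ⟨not_lt.1 h, rfl⟩

theorem rat_pole_deg {q : Polynomial k} (hq0 : q ≠ 0) {Pi : Place k (RatFunc k)} (hPi : 1 < Pi.1 RatFunc.X)
    {D : Divisor k (RatFunc k)} (hq : ∀ P : Place k (RatFunc k), P.1 RatFunc.X ≤ 1 → P.ord (polR q) = D P) :
    D.deg = q.natDegree + D Pi := by
  classical
  have hF := isFunctionField_ratFunc (k := k)
  have h : D = div k (polR q) + Finsupp.single Pi ((q.natDegree : ℤ) + D Pi) := by
    ext P
    rw [Finsupp.add_apply, div_apply hF]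
    rcases eq_or_ne P Pi with rfl | hP
    · rw [Finsupp.single_eq_same, ord_eq_of_val P (n := q.natDegree) (by
        rw [rat_val_pol_inf P hPi hq0, rat_val_X_inf P hPi, ← exp_nsmul]; simp)]
      ring
    · rw [Finsupp.single_eq_of_ne hP, add_zero, hq P (not_lt.1 fun h => hP (rat_inf_unique h hPi))]
  rw [h, deg_add, deg_div hF, deg_single, rat_deg_inf Pi hPi, ← h]
  simp

theorem as_val_Dx [CharP k 2] [PerfectField k] (hK : IsFunctionField k K)
    (hdeg : Module.finrank (RatFunc k) K = 2) {y : K} (hy : y ∉ Set.range (algebraMap (RatFunc k) K))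
    {f : RatFunc k} (heq : y ^ 2 + y = algebraMap (RatFunc k) K f) {D : Divisor k (RatFunc k)}
    (hD : ∀ P : Place k (RatFunc k), (0 ≤ P.ord f ∧ D P = 0) ∨ (P.ord f < 0 ∧ P.ord f = 1 - 2 * D P))
    {q : Polynomial k} (hq0 : q ≠ 0)
    (hq : ∀ P : Place k (RatFunc k), P.1 RatFunc.X ≤ 1 → P.ord (polR q) = D P)
    {Pi : Place k (RatFunc k)} (hPi : 1 < Pi.1 RatFunc.X) (hψ : LocRes.IsExpansionAt Q.1 ψ) :
    Valued.v (LocRes.D F (ψ (algebraMap (RatFunc k) K RatFunc.X))) =
      exp (-(conorm K (Finsupp.single Pi ((genus k K : ℤ) - 1)) Q)) * Q.1 (algebraMap (RatFunc k) K (polR q)) := by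
  have hF := isFunctionField_ratFunc (k := k)
  have hg := genus_artinSchreier hK hdeg hy heq D hD
  have hdd := rat_pole_deg hq0 hPi hq
  set P₀ := below (K := RatFunc k) Q with hP₀
  have hQ : IsOver Q P₀ := isOver_below Q
  set e := ramIdx Q P₀ with he_def
  have he : IsOverWith Q P₀ e := isOverWith_ramIdx hQ
  have hqR : polR q ≠ 0 := by simpa [polR] using hq0
  rw [conorm_apply hF, ← hP₀, ← he_def, he, val_eq_exp P₀ hqR, ← exp_nsmul, ← exp_add, nsmul_eq_mul]
  rcases hD P₀ with ⟨hno, hD0⟩ | ⟨hneg, hord⟩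
  · have hfv : P₀.1 f ≤ 1 := by
      rcases eq_or_ne f 0 with rfl | hf0
      · simp
      exact (val_le_one_iff P₀ hf0).2 hno
    have : e = 1 := (isOverWith_unique he (as_unramified hF hdeg hy heq hfv hQ)).2
    rw [this] at he ⊢
    rcases le_or_gt (P₀.1 RatFunc.X) 1 with hX | hX
    · rw [Finsupp.single_eq_of_ne (fun h : P₀ = Pi => not_le.2 hPi (h ▸ hX)),
        (val_Dx_tame hψ he (by simp)).1 hX, exp_inj, hq P₀ hX, hD0]
      simp
    · have hPP : P₀ = Pi := rat_inf_unique hX hPi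
      rw [(val_Dx_tame hψ he (by simp)).2 hX, exp_inj, ord_eq_of_val P₀ (n := q.natDegree) (by
        rw [rat_val_pol_inf P₀ hX hq0, rat_val_X_inf P₀ hX, ← exp_nsmul]; simp), hPP, Finsupp.single_eq_same]
      rw [hPP] at hD0
      push_cast
      omega
  · have hr := (as_ramified hF hdeg heq hneg (by rw [hord]; exact ⟨-D P₀, by ring⟩)).2 Q hQ
    have : e = 2 := (isOverWith_unique he hr.1).2
    rw [this] at he ⊢
    have hw := val_Dx_wild hψ he heq hord hr.2.2 hneg
    rcases le_or_gt (P₀.1 RatFunc.X) 1 with hX | hX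
    · rw [Finsupp.single_eq_of_ne (fun h : P₀ = Pi => not_le.2 hPi (h ▸ hX)), hw.1 hX, exp_inj, hq P₀ hX]
      simp
    · have hPP : P₀ = Pi := rat_inf_unique hX hPi
      rw [hw.2 hX, exp_inj, ord_eq_of_val P₀ (n := q.natDegree) (by
        rw [rat_val_pol_inf P₀ hX hq0, rat_val_X_inf P₀ hX, ← exp_nsmul]; simp), hPP, Finsupp.single_eq_same]
      push_cast
      omega

end Groth.Agent.FunFldLib
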