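import Groth.Agent.FunFld.Rational

/-!
Vanishing orders of a linear series at a place of degree one, the two-point bound, and the numerics
of compatible aspects.
-/

namespace Groth.Agent.FunFldLib

open FunFld WithZero

variable {k K : Type*} [Field k] [Field K] [Algebra k K]

/-- The sum of the vanishing orders, written as a sum of dimensions. -/
noncomputable def wsum (V : Submodule k K) (D : Divisor k K) (P : Place k K) (d : ℕ) : ℕ :=
  ∑ n ∈ Finset.range d, Module.finrank k ↥(V ⊓ L (D - Finsupp.single P ((n : ℤ) + 1)))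

theorem L_sub_single_mono (D : Divisor k K) (P : Place k K) {a b : ℤ} (h : a ≤ b) :
    L (D - Finsupp.single P b) ≤ L (D - Finsupp.single P a) :=
  L_mono (sub_le_sub_left (Finsupp.single_mono h) _)

theorem mem_L_sub_single {D : Divisor k K} {P : Place k K} {v : K} (hv0 : v ≠ 0) (n : ℤ)
    (hv : v ∈ L D) : v ∈ L (D - Finsupp.single P n) ↔ n ≤ P.ord v + D P := by
  classical
  rw [mem_L_iff hv0]
  constructor
  · intro h
    have := h P
    rw [Finsupp.sub_apply, Finsupp.single_eq_same] at this
    omega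
  · intro h Q
    rcases eq_or_ne Q P with rfl | hQ
    · rw [Finsupp.sub_apply, Finsupp.single_eq_same]; omega
    · simpa [Finsupp.single_eq_of_ne hQ] using (mem_L_iff hv0).1 hv Q

/-- An adapted basis: vanishing orders `m` and vectors `v` realising them. -/
theorem exists_adapted (hK : IsFunctionField k K) {V : Submodule k K} {D : Divisor k K}
    {P : Place k K} (hP : P.deg = 1) (hV : V ≤ L D) {d r : ℕ} (hd : D.deg = d)
    (hr : Module.finrank k V = r + 1) :
    ∃ (m : Fin (r + 1) → ℕ) (v : Fin (r + 1) → K), Function.Injective m ∧ (∀ i, m i ≤ d) ∧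
      (∀ i, v i ∈ V) ∧ (∀ i, v i ≠ 0) ∧ (∀ i, P.ord (v i) + D P = m i) ∧
      LinearIndependent k v ∧ Submodule.span k (Set.range v) = V ∧
      wsum V D P d = ∑ i, m i ∧
      ∀ n : ℕ, Module.finrank k ↥(V ⊓ L (D - Finsupp.single P (n : ℤ))) =
        (Finset.univ.filter fun i => n ≤ m i).card := by
  classical
  have hle : ∀ v ∈ V, v ≠ 0 → P.ord v + D P ≤ d := by
    intro v hv hv0
    by_contra hlt
    have h1 : v ∈ L (D - Finsupp.single P ((d : ℤ) + 1)) :=
      (mem_L_sub_single hv0 _ (hV hv)).2 (by omega)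
    rw [L_eq_bot_of_deg_neg hK (by rw [deg_sub, deg_single, hP, hd]; omega), Submodule.mem_bot] at h1
    exact hv0 h1
  let S : Finset ℕ := (Finset.range (d + 1)).filter fun n => ∃ v ∈ V, v ≠ 0 ∧ P.ord v + D P = n
  have hS : ∀ s : S, ∃ v ∈ V, v ≠ 0 ∧ P.ord v + D P = (s : ℕ) := fun s => (Finset.mem_filter.1 s.2).2
  choose v hvV hv0 hv using hS
  have hmem : ∀ u ∈ V, u ≠ 0 → ∃ s : S, ((s : ℕ) : ℤ) = P.ord u + D P := by
    intro u hu hu0
    have h0 : 0 ≤ P.ord u + D P := by have := (mem_L_iff hu0).1 (hV hu) P; omega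
    refine ⟨⟨(P.ord u + D P).toNat, Finset.mem_filter.2
      ⟨Finset.mem_range.2 (by have := hle u hu hu0; omega), u, hu, hu0, by omega⟩⟩, by simp; omega⟩
  -- `V(-nP)` is spanned by the vectors of order at least `n`
  have hspan : ∀ n : ℕ, V ⊓ L (D - Finsupp.single P (n : ℤ)) =
      Submodule.span k (v '' {s : S | n ≤ (s : ℕ)}) := by
    intro n
    refine le_antisymm ?_ (Submodule.span_le.2 ?_)
    swap
    · rintro _ ⟨s, hs, rfl⟩
      exact ⟨hvV s, (mem_L_sub_single (hv0 s) _ (hV (hvV s))).2 (by rw [hv s]; exact_mod_cast hs)⟩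
    suffices H : ∀ j : ℕ, ∀ n : ℕ, d + 1 ≤ n + j →
        V ⊓ L (D - Finsupp.single P (n : ℤ)) ≤ Submodule.span k (v '' {s : S | n ≤ (s : ℕ)}) from
      H (d + 1) n (by omega)
    intro j
    induction j with
    | zero =>
      intro n hn u hu
      rcases eq_or_ne u 0 with rfl | hu0
      · exact zero_mem _
      have h1 := (mem_L_sub_single hu0 _ (hV hu.1)).1 hu.2
      have := hle u hu.1 hu0
      omega
    | succ j ih =>
      intro n hn u hu
      have hsub : Submodule.span k (v '' {s : S | n + 1 ≤ (s : ℕ)}) ≤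
          Submodule.span k (v '' {s : S | n ≤ (s : ℕ)}) :=
        Submodule.span_mono (Set.image_mono fun s (hs : n + 1 ≤ (s : ℕ)) => (show n ≤ (s : ℕ) by omega))
      rcases eq_or_ne u 0 with rfl | hu0
      · exact zero_mem _
      have h1 := (mem_L_sub_single hu0 _ (hV hu.1)).1 hu.2
      rcases eq_or_lt_of_le h1 with heq | hlt
      · obtain ⟨s, hs⟩ := hmem u hu.1 hu0
        have hsn : (s : ℕ) = n := by omega
        obtain ⟨c, hc⟩ := exists_sub_const_val_lt_one hK P hP (x := u / v s) (by
          rw [map_div₀, val_eq_exp P hu0, val_eq_exp P (hv0 s), ← exp_sub, ← exp_zero, exp_le_exp]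
          have := hv s; omega)
        have hw : u - c • v s ∈ V ⊓ L (D - Finsupp.single P ((n + 1 : ℕ) : ℤ)) := by
          refine ⟨V.sub_mem hu.1 (V.smul_mem c (hvV s)), ?_⟩
          rcases eq_or_ne (u - c • v s) 0 with h | h
          · show u - c • v s ∈ L (D - Finsupp.single P ((n + 1 : ℕ) : ℤ))
            rw [h]; exact zero_mem _
          refine (mem_L_sub_single h _ (hV (V.sub_mem hu.1 (V.smul_mem c (hvV s))))).2 ?_
          have he : u / v s - algebraMap k K c = (u - c • v s) / v s := by
            rw [Algebra.smul_def, sub_div, mul_div_cancel_right₀ _ (hv0 s)]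
          rw [he, val_lt_one_iff P (div_ne_zero h (hv0 s)), ord_div P h (hv0 s)] at hc
          have := hv s
          omega
        have := add_mem (hsub (ih (n + 1) (by omega) hw))
          (Submodule.smul_mem _ c (Submodule.subset_span ⟨s, show n ≤ (s : ℕ) by omega, rfl⟩))
        rwa [sub_add_cancel] at this
      · exact hsub (ih (n + 1) (by omega) ⟨hu.1, (mem_L_sub_single hu0 _ (hV hu.1)).2 (by omega)⟩)
  have hli : LinearIndependent k v := by
    rw [Fintype.linearIndependent_iff]
    intro g hg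
    by_contra hne
    push Not at hne
    obtain ⟨s₁, hs₁⟩ := hne
    obtain ⟨s₀, hs₀, hmin⟩ := Finset.exists_min_image (Finset.univ.filter fun s => g s ≠ 0)
      (fun s : S => (s : ℕ)) ⟨s₁, by simpa using hs₁⟩
    simp only [Finset.mem_filter, Finset.mem_univ, true_and] at hs₀ hmin
    have hsum : ∑ s ∈ Finset.univ.filter (fun s => g s ≠ 0), g s • v s = 0 := by
      rw [Finset.sum_filter_of_ne (p := fun s => g s ≠ 0) (fun s _ h h0 => h (by rw [h0, zero_smul]))]
      exact hg
    have h := P.1.map_sum_eq_of_lt (f := fun s => g s • v s)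
      (s := Finset.univ.filter fun s => g s ≠ 0) (j := s₀) (by simp [hs₀]) fun s hs => by
        simp only [Finset.mem_sdiff, Finset.mem_filter, Finset.mem_univ, true_and,
          Finset.mem_singleton] at hs
        rw [Algebra.smul_def, Algebra.smul_def, map_mul, map_mul, val_algebraMap P hs.1,
          val_algebraMap P hs₀, one_mul, one_mul, val_eq_exp P (hv0 s), val_eq_exp P (hv0 s₀),
          exp_lt_exp]
        have h1 := hmin s hs.1
        have h2 : (s : ℕ) ≠ (s₀ : ℕ) := fun h' => hs.2 (Subtype.ext h')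
        have := hv s; have := hv s₀
        omega
    rw [hsum, map_zero, eq_comm, Algebra.smul_def, map_mul, val_algebraMap P hs₀, one_mul] at h
    exact val_ne_zero P (hv0 s₀) h
  have hdim : ∀ n : ℕ, Module.finrank k ↥(V ⊓ L (D - Finsupp.single P (n : ℤ))) =
      (Finset.univ.filter fun s : S => n ≤ (s : ℕ)).card := by
    intro n
    have hset : v '' {s : S | n ≤ (s : ℕ)} =
        Set.range fun s : {s : S // n ≤ (s : ℕ)} => v s := by ext; simp
    have hrk : Module.finrank k ↥(Submodule.span k (Set.range fun s : {s : S // n ≤ (s : ℕ)} => v s)) =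
        Fintype.card {s : S // n ≤ (s : ℕ)} :=
      finrank_span_eq_card (hli.comp _ Subtype.val_injective)
    rw [hspan, hset, hrk, Fintype.card_subtype]
  have hV0 : Submodule.span k (Set.range v) = V := by
    have h0 := hspan 0
    rw [Nat.cast_zero, Finsupp.single_zero, sub_zero, inf_eq_left.2 hV] at h0
    refine Eq.trans ?_ h0.symm
    simp
  have hcard : Fintype.card S = r + 1 := by
    rw [← hr, ← hV0, finrank_span_eq_card hli]
  let e : Fin (r + 1) ≃ S := (Fintype.equivFinOfCardEq hcard).symm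
  refine ⟨fun i => (e i : ℕ), fun i => v (e i), Subtype.val_injective.comp e.injective,
    fun i => Nat.lt_succ_iff.1 (Finset.mem_range.1 (Finset.mem_filter.1 (e i).2).1),
    fun i => hvV _, fun i => hv0 _, fun i => hv _, hli.comp _ e.injective, ?_, ?_, fun n => ?_⟩
  · rw [← hV0]; congr 1; exact e.surjective.range_comp v
  · have h1 : ∀ n : ℕ, Module.finrank k ↥(V ⊓ L (D - Finsupp.single P ((n : ℤ) + 1))) =
        ∑ s : S, if n + 1 ≤ (s : ℕ) then 1 else 0 := fun n => by
      rw [show ((n : ℤ) + 1) = ((n + 1 : ℕ) : ℤ) by push_cast; rfl, hdim, Finset.card_filter]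
    rw [wsum, Finset.sum_congr rfl fun n _ => h1 n, Finset.sum_comm,
      Equiv.sum_comp e (fun s : S => (s : ℕ))]
    refine Finset.sum_congr rfl fun s _ => ?_
    rw [← Finset.card_filter]
    have h2 : (s : ℕ) ≤ d := Nat.lt_succ_iff.1 (Finset.mem_range.1 (Finset.mem_filter.1 s.2).1)
    have h3 : (Finset.range d).filter (fun n => n + 1 ≤ (s : ℕ)) = Finset.range (s : ℕ) := by
      ext n; simp; omega
    rw [h3, Finset.card_range]
  · rw [hdim]
    exact Finset.card_equiv e.symm fun s => by simp

theorem choose_two_le_sum_range (n : ℕ) : ∑ i ∈ Finset.range (n + 1), i = n * (n + 1) / 2 := by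
  rw [Finset.sum_range_id, mul_comm]; simp

/-- A finite set of naturals has sum at least `0 + 1 + ⋯`. -/
theorem sum_range_le_sum (s : Finset ℕ) : ∑ i ∈ Finset.range s.card, i ≤ ∑ x ∈ s, x := by
  induction s using Finset.induction_on_max with
  | empty => simp
  | insert a s hlt ih =>
    have ha : a ∉ s := fun h => lt_irrefl a (hlt a h)
    have hcard : s.card ≤ a := by
      simpa using Finset.card_le_card (t := Finset.range a) fun x hx => Finset.mem_range.2 (hlt x hx)
    rw [Finset.card_insert_of_notMem ha, Finset.sum_range_succ, Finset.sum_insert ha]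
    omega

theorem wsum_ge (hK : IsFunctionField k K) {V : Submodule k K} {D : Divisor k K}
    {P : Place k K} (hP : P.deg = 1) (hV : V ≤ L D) {d r : ℕ} (hd : D.deg = d)
    (hr : Module.finrank k V = r + 1) : r * (r + 1) / 2 ≤ wsum V D P d := by
  obtain ⟨m, v, hm, -, -, -, -, -, -, hw, -⟩ := exists_adapted hK hP hV hd hr
  have h := sum_range_le_sum (Finset.univ.image m)
  rw [Finset.card_image_of_injective _ hm, Finset.sum_image fun a _ b _ h => hm h, Finset.card_univ,
    Fintype.card_fin, choose_two_le_sum_range] at h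
  omega

theorem wsum_ge_of_cusp (hK : IsFunctionField k K) {V : Submodule k K} {D : Divisor k K}
    {P : Place k K} (hP : P.deg = 1) (hV : V ≤ L D) {d r : ℕ} (hd : D.deg = d)
    (hr : Module.finrank k V = r + 1)
    (hc : r ≤ Module.finrank k ↥(V ⊓ L (D - Finsupp.single P (2 : ℤ)))) :
    r * (r + 1) / 2 + r ≤ wsum V D P d := by
  classical
  obtain ⟨m, v, hm, -, -, -, -, -, -, hw, hdim⟩ := exists_adapted hK hP hV hd hr
  have h2 := hdim 2
  rw [Nat.cast_ofNat] at h2
  rw [h2] at hc
  set T := Finset.univ.filter fun i => 2 ≤ m i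
  have hsub : ∀ i ∈ T, ∀ j ∈ T, m i - 2 = m j - 2 → i = j := fun i hi j hj h => hm (by
    simp [T] at hi hj; omega)
  have h := sum_range_le_sum (T.image fun i => m i - 2)
  rw [Finset.card_image_of_injOn hsub, Finset.sum_image hsub] at h
  have h3 : ∑ i ∈ T, m i = (∑ i ∈ T, (m i - 2)) + 2 * T.card := by
    rw [Finset.card_eq_sum_ones, Finset.mul_sum, ← Finset.sum_add_distrib]
    exact Finset.sum_congr rfl fun i hi => by simp [T] at hi; omega
  have h4 : ∑ i ∈ T, m i ≤ ∑ i, m i := Finset.sum_le_univ_sum_of_nonneg fun _ => Nat.zero_le _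
  have h5 : ∑ i ∈ Finset.range r, i ≤ ∑ i ∈ Finset.range T.card, i :=
    Finset.sum_le_sum_of_subset (Finset.range_subset_range.2 hc)
  have h6 := choose_two_le_sum_range r
  rw [Finset.sum_range_succ] at h6
  omega

/-- Two points: `V(-nP) ∩ V(-mQ) = 0` when `n + m > d`. -/
theorem finrank_add_finrank_le (hK : IsFunctionField k K) {V : Submodule k K} {D : Divisor k K}
    {P Q : Place k K} (hP : P.deg = 1) (hQ : Q.deg = 1) (hPQ : P ≠ Q) (hV : V ≤ L D) {d : ℕ}
    (hd : D.deg = d) {n m : ℕ} (hnm : d < n + m) :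
    Module.finrank k ↥(V ⊓ L (D - Finsupp.single P (n : ℤ))) +
      Module.finrank k ↥(V ⊓ L (D - Finsupp.single Q (m : ℤ))) ≤ Module.finrank k V := by
  classical
  have := finiteDimensional_L hK D
  have hfV : FiniteDimensional k V := Submodule.finiteDimensional_of_le hV
  have : FiniteDimensional k ↥(V ⊓ L (D - Finsupp.single P (n : ℤ))) :=
    Submodule.finiteDimensional_of_le inf_le_left
  have : FiniteDimensional k ↥(V ⊓ L (D - Finsupp.single Q (m : ℤ))) :=
    Submodule.finiteDimensional_of_le inf_le_left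
  have h1 := Submodule.finrank_sup_add_finrank_inf_eq (V ⊓ L (D - Finsupp.single P (n : ℤ)))
    (V ⊓ L (D - Finsupp.single Q (m : ℤ)))
  have h2 : V ⊓ L (D - Finsupp.single P (n : ℤ)) ⊓ (V ⊓ L (D - Finsupp.single Q (m : ℤ))) = ⊥ := by
    refine (Submodule.eq_bot_iff _).2 fun u hu => by_contra fun hu0 => ?_
    have h3 : u ∈ L (D - Finsupp.single P (n : ℤ) - Finsupp.single Q (m : ℤ)) := fun R => by
      have hP' := hu.1.2 R
      have hQ' := hu.2.2 R
      rcases eq_or_ne R P with rfl | hR
      · simpa [Finsupp.single_eq_of_ne hPQ] using hP'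
      · simpa [Finsupp.single_eq_of_ne hR] using hQ'
    rw [L_eq_bot_of_deg_neg hK (by rw [deg_sub, deg_sub, deg_single, deg_single, hP, hQ, hd]; omega),
      Submodule.mem_bot] at h3
    exact hu0 h3
  rw [h2, finrank_bot, add_zero] at h1
  have h4 : Module.finrank k ↥(V ⊓ L (D - Finsupp.single P (n : ℤ)) ⊔ (V ⊓ L (D - Finsupp.single Q (m : ℤ)))) ≤
      Module.finrank k V := Submodule.finrank_mono (sup_le inf_le_left inf_le_left)
  omega

theorem wsum_add_wsum_le (hK : IsFunctionField k K) {V : Submodule k K} {D : Divisor k K}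
    {P Q : Place k K} (hP : P.deg = 1) (hQ : Q.deg = 1) (hPQ : P ≠ Q) (hV : V ≤ L D) {d r : ℕ}
    (hd : D.deg = d) (hr : Module.finrank k V = r + 1) :
    wsum V D P d + wsum V D Q d ≤ (r + 1) * d := by
  rw [wsum, wsum, ← Finset.sum_range_reflect (fun n => Module.finrank k ↥(V ⊓ L (D - Finsupp.single Q ((n : ℤ) + 1)))),
    ← Finset.sum_add_distrib]
  calc _ ≤ ∑ _n ∈ Finset.range d, (r + 1) := Finset.sum_le_sum fun n hn => by
        rw [Finset.mem_range] at hn
        have := finrank_add_finrank_le hK hP hQ hPQ hV hd (n := n + 1) (m := d - 1 - n + 1) (by omega)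
        rw [hr] at this
        push_cast at this
        exact this
    _ = (r + 1) * d := by rw [Finset.sum_const, Finset.card_range, smul_eq_mul, mul_comm]

/-- Weights at the two sides of a node. -/
theorem wsum_add_wsum_of_compat {K' : Type*} [Field K'] [Algebra k K']
    {V : Submodule k K} {D : Divisor k K} {P : Place k K}
    {V' : Submodule k K'} {D' : Divisor k K'} {P' : Place k K'} {d r : ℕ}
    (h : ∀ m : ℕ, m ≤ d + 1 → Module.finrank k ↥(V ⊓ L (D - Finsupp.single P ((m : ℤ)))) +
      Module.finrank k ↥(V' ⊓ L (D' - Finsupp.single P' ((d : ℤ) + 1 - m))) = r + 1) :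
    wsum V D P d + wsum V' D' P' d = (r + 1) * d := by
  rw [wsum, wsum, ← Finset.sum_range_reflect (fun n => Module.finrank k ↥(V' ⊓ L (D' - Finsupp.single P' ((n : ℤ) + 1)))),
    ← Finset.sum_add_distrib]
  calc _ = ∑ _n ∈ Finset.range d, (r + 1) := Finset.sum_congr rfl fun n hn => by
        rw [Finset.mem_range] at hn
        have := h (n + 1) (by omega)
        have e1 : ((d - 1 - n : ℕ) : ℤ) + 1 = (d : ℤ) + 1 - ((n + 1 : ℕ) : ℤ) := by omega
        rw [← this, e1]
        push_cast
        rfl
    _ = (r + 1) * d := by rw [Finset.sum_const, Finset.card_range, smul_eq_mul, mul_comm]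

/-- With positive genus at most one section vanishes to order `d - 1`. -/
theorem finrank_pred_le_one (hK : IsFunctionField k K) (hg : 0 < genus k K) {V : Submodule k K}
    {D : Divisor k K} {P : Place k K} (hP : P.deg = 1) {d : ℕ} (hd : D.deg = d) :
    Module.finrank k ↥(V ⊓ L (D - Finsupp.single P ((d : ℤ) - 1))) ≤ 1 := by
  classical
  have := finiteDimensional_L hK (D - Finsupp.single P ((d : ℤ) - 1))
  refine le_trans (Submodule.finrank_mono inf_le_right) ?_
  show ell _ ≤ 1
  by_contra hlt
  push Not at hlt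
  set F := D - Finsupp.single P ((d : ℤ) - 1) with hF
  have hdeg : F.deg = 1 := by rw [hF, deg_sub, deg_single, hP, hd]; push_cast; ring
  -- an effective representative
  obtain ⟨z, hz0, hz⟩ := exists_ne_zero_of_ell_pos (D := F) (by omega)
  have hE := nonneg_of_mem_L hK hz0 hz
  have hEdeg : (F + div k z).deg = 1 := by rw [deg_add, deg_div hK, hdeg, add_zero]
  obtain ⟨x, hx, hxt⟩ := exists_transcendental_mem_L hK (D := F + div k z)
    (by rw [ell_add_div hK F hz0]; omega)
  have h1 := finrank_le_deg hK hE hxt hx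
  have h2 := adjoin_eq_top_of_finrank_le_one hK hxt (by rw [hEdeg] at h1; exact_mod_cast h1)
  have := (genus_eq_zero_of_adjoin_eq_top hK h2).1
  omega

/-- A cusp at `B` forces at most one section vanishing to order `d - 1` at `A`. -/
theorem finrank_pred_le_one_of_cusp (hK : IsFunctionField k K) {V : Submodule k K}
    {D : Divisor k K} {A B : Place k K} (hA : A.deg = 1) (hB : B.deg = 1) (hAB : A ≠ B) (hV : V ≤ L D)
    {d r : ℕ} (hd : D.deg = d) (hr : Module.finrank k V = r + 1)
    (hc : r ≤ Module.finrank k ↥(V ⊓ L (D - Finsupp.single B (2 : ℤ)))) :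
    Module.finrank k ↥(V ⊓ L (D - Finsupp.single A ((d : ℤ) - 1))) ≤ 1 := by
  rcases Nat.eq_zero_or_pos d with rfl | hd1
  · have := finiteDimensional_L hK D
    have : FiniteDimensional k V := Submodule.finiteDimensional_of_le hV
    have h1 : Module.finrank k ↥(V ⊓ L (D - Finsupp.single A (((0 : ℕ) : ℤ) - 1))) ≤ Module.finrank k V :=
      Submodule.finrank_mono inf_le_left
    have h2 : Module.finrank k ↥(V ⊓ L (D - Finsupp.single B (2 : ℤ))) ≤ 0 := by
      rw [L_eq_bot_of_deg_neg hK (by rw [deg_sub, deg_single, hB, hd]; norm_num), inf_bot_eq, finrank_bot]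
    omega
  have h := finrank_add_finrank_le hK hA hB hAB hV hd (n := d - 1) (m := 2) (by omega)
  rw [Nat.cast_sub hd1, Nat.cast_one, Nat.cast_ofNat] at h
  omega

end Groth.Agent.FunFldLib
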