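import Groth.Agent.FunFld.DiffExp
import Groth.Agent.FunFld.Inertia
import Mathlib.RingTheory.Unramified.Field

/-!
A place with an expansion has separable residue field; constants are approximated by elements.
-/

namespace Groth.Agent.FunFldLib

open FunFld WithZero LaurentSeries

set_option linter.unusedSectionVars false

/-- A derivation of the coefficients, applied coefficientwise. -/
noncomputable def coeffDer {k F : Type*} [Field k] [Field F] [Algebra k F] (δ : Derivation k F F) :
    Derivation k F⸨X⸩ F⸨X⸩ :=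
  { toFun := fun f => f.map δ.toLinearMap
    map_add' := fun f g => by ext n; simp
    map_smul' := fun c f => by
      ext n
      rw [RingHom.id_apply, Algebra.smul_def, HahnSeries.algebraMap_apply',
        PowerSeries.algebraMap_apply, HahnSeries.ofPowerSeries_C, HahnSeries.C_mul_eq_smul,
        HahnSeries.map_coeff, HahnSeries.coeff_smul, HahnSeries.coeff_smul, HahnSeries.map_coeff, algebraMap_smul]
      exact LinearMap.map_smul _ c _
    map_one_eq_zero' := show (1 : F⸨X⸩).map δ.toLinearMap = 0 by
      ext n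
      rcases eq_or_ne n 0 with rfl | h <;> simp [HahnSeries.coeff_one, *]
    leibniz' := fun f g => show (f * g).map δ.toLinearMap = f * g.map δ.toLinearMap + g * f.map δ.toLinearMap by
      ext n
      simp only [HahnSeries.coeff_add, HahnSeries.map_coeff]
      rw [HahnSeries.coeff_mul, map_sum, mul_comm g,
        HahnSeries.coeff_mul_right' (x := f) (y := g.map δ.toLinearMap) g.isPWO_support
          (Function.support_comp_subset (map_zero δ.toLinearMap) _),
        HahnSeries.coeff_mul_left' (x := f.map δ.toLinearMap) (y := g) f.isPWO_support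
          (Function.support_comp_subset (map_zero δ.toLinearMap) _),
        ← Finset.sum_add_distrib]
      refine Finset.sum_congr rfl fun ij _ => ?_
      simp only [HahnSeries.map_coeff, Derivation.coeFn_coe, Derivation.leibniz,
        smul_eq_mul]
      ring }

theorem coeffDer_coeff {k F : Type*} [Field k] [Field F] [Algebra k F] (δ : Derivation k F F) (f : F⸨X⸩) (n : ℤ) :
    (coeffDer δ f).coeff n = δ (f.coeff n) := rfl

theorem val_le_of_low {F : Type*} [Field F] {f g : F⸨X⸩} {N : ℤ} (hf : Valued.v f ≤ exp (-N))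
    (h : ∀ n, f.coeff n = 0 → g.coeff n = 0) : Valued.v g ≤ exp (-N) :=
  (LaurentSeries.valuation_le_iff_coeff_lt_eq_zero F).2 fun n hn =>
    h n ((LaurentSeries.valuation_le_iff_coeff_lt_eq_zero F).1 hf n hn)

theorem val_D_le_of_le {F : Type*} [Field F] {f : F⸨X⸩} {N : ℤ} (hf : Valued.v f ≤ exp (-N)) :
    Valued.v (LocRes.D F f) ≤ exp (-(N - 1)) :=
  (LaurentSeries.valuation_le_iff_coeff_lt_eq_zero F).2 fun n hn => by
    rw [LocRes.D_coeff, (LaurentSeries.valuation_le_iff_coeff_lt_eq_zero F).1 hf _ (by omega), smul_zero]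

theorem val_le_one_coeff {F : Type*} [Field F] {f : F⸨X⸩} (hf : Valued.v f ≤ 1) :
    Valued.v (f - HahnSeries.C (f.coeff 0)) ≤ exp (-1) := by
  rw [← exp_zero, ← neg_zero] at hf
  refine (LaurentSeries.valuation_le_iff_coeff_lt_eq_zero F).2 fun n hn => ?_
  rcases lt_or_eq_of_le (Int.lt_add_one_iff.1 (show n < 0 + 1 by omega)) with h | h
  · rw [HahnSeries.coeff_sub, (LaurentSeries.valuation_le_iff_coeff_lt_eq_zero F).1 hf n h, HahnSeries.C_apply,
      HahnSeries.coeff_single_of_ne h.ne, sub_zero]
  · subst h
    simp [HahnSeries.C_apply]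

section Sep

variable {k K K' : Type*} [Field k] [Field K] [Field K'] [Algebra k K] [Algebra K K'] [Algebra k K']
  [IsScalarTower k K K'] [FiniteDimensional K K'] [Algebra.IsSeparable K K']
variable {F' : Type*} [Field F'] [Algebra k F'] {Q : Place k K'} {ψ : K' →ₐ[k] F'⸨X⸩}

/-- The residue field is the coefficient field. -/
theorem exists_residue_equiv (hψ : LocRes.IsExpansionAt Q.1 ψ) :
    ∃ r : IsLocalRing.ResidueField Q.O ≃ₐ[k] F', ∀ a : Q.O, r (IsLocalRing.residue Q.O a) = (ψ (a : K')).coeff 0 := by
  have hco : ∀ a : Q.O, ∃ p : PowerSeries F', (p : F'⸨X⸩) = ψ (a : K') := fun a =>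
    (LaurentSeries.val_le_one_iff_eq_coe F' _).1 ((hψ.1 _).trans_le a.2)
  choose p hp using hco
  have huniq : ∀ (a : Q.O) (q : PowerSeries F'), (q : F'⸨X⸩) = ψ (a : K') → p a = q := fun a q hq =>
    HahnSeries.ofPowerSeries_injective ((hp a).trans hq.symm)
  have hcoeff : ∀ a : Q.O, PowerSeries.constantCoeff (p a) = (ψ (a : K')).coeff 0 := fun a => by
    rw [← hp, ← PowerSeries.coeff_zero_eq_constantCoeff_apply]
    exact (LaurentSeries.coeff_coe_powerSeries (p a) 0).symm
  let r0 : Q.O →+* F' :=
    { toFun := fun a => PowerSeries.constantCoeff (p a)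
      map_one' := by rw [huniq 1 1 (by simp)]; simp
      map_zero' := by rw [huniq 0 0 (by simp)]; simp
      map_mul' := fun a b => by rw [huniq (a * b) (p a * p b) (by push_cast; rw [hp, hp, map_mul]), map_mul]
      map_add' := fun a b => by rw [huniq (a + b) (p a + p b) (by push_cast; rw [hp, hp, map_add]), map_add] }
  have hlt : ∀ a : Q.O, Q.1 (a : K') < 1 → r0 a = 0 := fun a h => by
    show PowerSeries.constantCoeff (p a) = 0
    rw [hcoeff]
    refine (LaurentSeries.valuation_le_iff_coeff_lt_eq_zero F').1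
      (show Valued.v (ψ (a : K')) ≤ exp (-(1 : ℤ)) from ?_) 0 one_pos
    rw [hψ.1]
    rcases eq_or_ne (a : K') 0 with h0 | h0
    · rw [h0, map_zero]; exact zero_le
    rw [val_eq_exp Q h0, exp_le_exp]
    rw [val_lt_one_iff Q h0] at h
    omega
  have hloc : IsLocalHom r0 := ⟨fun a ha => by
    by_contra hu
    refine ha.ne_zero (hlt a ?_)
    have : IsLocalRing.residue Q.O a = 0 :=
      (IsLocalRing.residue_eq_zero_iff a).2 ((IsLocalRing.mem_maximalIdeal a).2 hu)
    exact (residue_eq_zero_iff Q a).1 this⟩
  let r1 : IsLocalRing.ResidueField Q.O →ₐ[k] F' :=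
    { IsLocalRing.ResidueField.lift r0 with
      commutes' := fun c => by
        show IsLocalRing.ResidueField.lift r0 (IsLocalRing.residue Q.O (algebraMap k Q.O c)) = _
        rw [IsLocalRing.ResidueField.lift_residue_apply]
        show PowerSeries.constantCoeff (p _) = _
        rw [hcoeff, show ((algebraMap k Q.O c : Q.O) : K') = algebraMap k K' c from rfl, LocRes.map_algebraMap,
          HahnSeries.C_apply, HahnSeries.coeff_single_same] }
  have hr1 : ∀ a : Q.O, r1 (IsLocalRing.residue Q.O a) = (ψ (a : K')).coeff 0 := fun a =>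
    (IsLocalRing.ResidueField.lift_residue_apply (f := r0) a).trans (hcoeff a)
  refine ⟨AlgEquiv.ofBijective r1 ⟨r1.toRingHom.injective, fun b => ?_⟩, hr1⟩
  obtain ⟨u, hu, hub⟩ := hψ.2.1 b
  exact ⟨IsLocalRing.residue Q.O ⟨u, hu⟩, (hr1 ⟨u, hu⟩).trans hub⟩

theorem isSeparable_of_ratio (hK : IsFunctionField k K) {x : K}
    (hrat : ∀ u : K, ∃ a : K, KaehlerDifferential.D k K u = a • KaehlerDifferential.D k K x)
    (hψ : LocRes.IsExpansionAt Q.1 ψ) (hxD : LocRes.D F' (ψ (algebraMap K K' x)) ≠ 0) :
    Algebra.IsSeparable k (IsLocalRing.ResidueField Q.O) := by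
  obtain ⟨r, -⟩ := exists_residue_equiv hψ
  letI : Module k (IsLocalRing.ResidueField Q.O) := Algebra.toModule
  have : FiniteDimensional k (IsLocalRing.ResidueField Q.O) :=
    Module.finite_of_finrank_pos (deg_pos_ff (isFF_of_finite hK) Q)
  have : FiniteDimensional k F' := r.toLinearEquiv.finiteDimensional
  have hD0 : ∀ c : F', KaehlerDifferential.D k F' c = 0 := fun c => by
    rw [← Module.forall_dual_apply_eq_zero_iff F']
    intro l
    let δ : Derivation k F' F' := l.compDer (KaehlerDifferential.D k F')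
    show δ c = 0
    set Δ := coeffDer δ
    let _i : Algebra K' F'⸨X⸩ := ψ.toRingHom.toAlgebra
    have _t : IsScalarTower k K' F'⸨X⸩ := LocRes.isScalarTower_exp ψ
    let _j : Algebra K F'⸨X⸩ := (ψ.comp (IsScalarTower.toAlgHom k K K')).toRingHom.toAlgebra
    have _t2 : IsScalarTower K K' F'⸨X⸩ := IsScalarTower.of_algebraMap_eq fun _ => rfl
    have _t3 : IsScalarTower k K F'⸨X⸩ := LocRes.isScalarTower_exp (ψ.comp (IsScalarTower.toAlgHom k K K'))
    set c0 := Δ (ψ (algebraMap K K' x)) / LocRes.D F' (ψ (algebraMap K K' x))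
    let δ' : Derivation k K' F'⸨X⸩ :=
      { toFun := fun u => Δ (ψ u) - c0 * LocRes.D F' (ψ u)
        map_add' := fun a b => by simp only [map_add]; ring
        map_smul' := fun c a => by
          have hc : Δ (ψ (algebraMap k K' c)) = 0 := by rw [ψ.commutes, Derivation.map_algebraMap]
          have hc' : LocRes.D F' (ψ (algebraMap k K' c)) = 0 := by
            rw [LocRes.map_algebraMap, LocRes.D_apply, LocRes.derivative_C]
          rw [RingHom.id_apply, Algebra.smul_def, map_mul, Derivation.leibniz, Derivation.leibniz, hc, hc']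
          simp only [smul_eq_mul, mul_zero, add_zero]
          rw [LocRes.map_algebraMap, ← algebraMap_smul F' c (Δ (ψ a) - c0 * LocRes.D F' (ψ a)),
            ← HahnSeries.C_mul_eq_smul]
          ring
        map_one_eq_zero' := show Δ (ψ 1) - c0 * LocRes.D F' (ψ 1) = 0 by
          rw [map_one, Derivation.map_one_eq_zero, Derivation.map_one_eq_zero, mul_zero, sub_zero]
        leibniz' := fun a b => show Δ (ψ (a * b)) - c0 * LocRes.D F' (ψ (a * b)) =
            ψ a * (Δ (ψ b) - c0 * LocRes.D F' (ψ b)) + ψ b * (Δ (ψ a) - c0 * LocRes.D F' (ψ a)) by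
          rw [map_mul, Derivation.leibniz, Derivation.leibniz, smul_eq_mul, smul_eq_mul, smul_eq_mul, smul_eq_mul]
          ring }
    have hval : ∀ u : K', δ' u = Δ (ψ u) - c0 * LocRes.D F' (ψ u) := fun u => rfl
    have hzK : ∀ u : K, δ' (algebraMap K K' u) = 0 := fun u => by
      obtain ⟨a, ha⟩ := hrat u
      have h1 := congrArg (fun ω => (δ'.compAlgebraMap K).liftKaehlerDifferential ω) ha
      simp only [map_smul, Derivation.liftKaehlerDifferential_comp_D] at h1
      rw [show (δ'.compAlgebraMap K) u = δ' (algebraMap K K' u) from rfl,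
        show (δ'.compAlgebraMap K) x = δ' (algebraMap K K' x) from rfl, hval (algebraMap K K' x)] at h1
      rw [h1, div_mul_cancel₀ _ hxD, sub_self, smul_zero]
    let δK : Derivation K K' F'⸨X⸩ := Derivation.mk'
      { toFun := fun u => δ' u
        map_add' := map_add _
        map_smul' := fun a u => by
          show δ' (a • u) = a • δ' u
          rw [Algebra.smul_def, Derivation.leibniz, hzK, smul_zero, add_zero]
          exact algebraMap_smul K' a (δ' u) } fun u v => Derivation.leibniz δ' u v
    have hzero : ∀ u : K', Δ (ψ u) = c0 * LocRes.D F' (ψ u) := fun u => by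
      have : Algebra.FormallyUnramified K K' := Algebra.FormallyUnramified.of_isSeparable K K'
      have : δK = 0 := by
        refine Derivation.ext fun u => ?_
        rw [← Derivation.liftKaehlerDifferential_comp_D δK u,
          Subsingleton.elim (KaehlerDifferential.D K K' u) 0, map_zero, Derivation.zero_apply]
      have h := congrArg (fun d : Derivation K K' F'⸨X⸩ => d u) this
      rw [Derivation.zero_apply] at h
      exact sub_eq_zero.1 ((hval u).symm.trans h)
    obtain ⟨s, hs⟩ := hψ.2.2
    have hc0 : Valued.v c0 ≤ exp (-1) := by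
      have h := congrArg Valued.v (hzero s)
      rw [map_mul, val_D_of_val_eq ((hψ.1 s).trans hs), mul_one] at h
      rw [← h]
      exact val_le_of_low ((hψ.1 s).trans hs).le fun n hn => by rw [coeffDer_coeff, hn, map_zero]
    obtain ⟨u, hu, huc⟩ := hψ.2.1 c
    have h := hzero u
    have h0 : Valued.v (Δ (ψ u)) ≤ exp (-1) := by
      rw [h, map_mul]
      exact (mul_le_mul' hc0 (val_D_le_one ((hψ.1 u).trans_le hu))).trans_eq (mul_one _)
    have := (LaurentSeries.valuation_le_iff_coeff_lt_eq_zero F').1 h0 0 one_pos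
    rwa [coeffDer_coeff, huc] at this
  have : Algebra.FormallyUnramified k F' := ⟨by
    refine subsingleton_of_forall_eq 0 fun ω => ?_
    have hω : ω ∈ Submodule.span F' (Set.range (KaehlerDifferential.D k F')) := by
      rw [KaehlerDifferential.span_range_derivation]; exact Submodule.mem_top
    rw [show Set.range (KaehlerDifferential.D k F') = {0} by
      ext ω'; exact ⟨fun ⟨c, hc⟩ => hc ▸ hD0 c, fun h => ⟨0, by rw [map_zero]; exact h.symm⟩⟩,
      Submodule.span_zero_singleton, Submodule.mem_bot] at hω
    exact hω⟩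
  have : Algebra.IsSeparable k F' := Algebra.FormallyUnramified.isSeparable k F'
  exact Algebra.IsSeparable.of_algHom k F' r.toAlgHom

theorem isSeparable_of_expansion (hK : IsFunctionField k K) (hg : IsGeometric k K)
    (hψ : LocRes.IsExpansionAt Q.1 ψ) {x : K} (hxD : LocRes.D F' (ψ (algebraMap K K' x)) ≠ 0) :
    Algebra.IsSeparable k (IsLocalRing.ResidueField Q.O) :=
  isSeparable_of_ratio hK (exists_kaehler_ratio hK hg (x := x)
    (kaehler_ne_of_vDiff (φ := ψ.comp (IsScalarTower.toAlgHom k K K')) (u := 1) (by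
      rw [LocRes.vDiff, map_one, one_mul]
      exact (Valuation.ne_zero_iff Valued.v).2 hxD))) hψ hxD

theorem newton_step {A : Type*} [CommRing A] (m : Polynomial A) (y c : A) (hc : m.eval c = 0) :
    ∃ z : A, m.eval y = m.derivative.eval y * (y - c) - z * (y - c) ^ 2 := by
  obtain ⟨z, hz⟩ := Polynomial.binomExpansion m y (c - y)
  rw [add_sub_cancel, hc] at hz
  exact ⟨z, by linear_combination -hz⟩

/-- Constants are limits of elements of a subfield that contains a lift. -/
theorem exists_approx_const (hψ : LocRes.IsExpansionAt Q.1 ψ) (E : Subfield K')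
    (hE : ∀ c : k, algebraMap k K' c ∈ E) {u : K'} (hu : Q.1 u ≤ 1) (huE : u ∈ E)
    (hsep : IsSeparable k ((ψ u).coeff 0)) (N : ℕ) :
    ∃ w ∈ E, Q.1 w ≤ 1 ∧ Valued.v (ψ w - HahnSeries.C ((ψ u).coeff 0)) ≤ exp (-(N : ℤ) - 1) := by
  set c := (ψ u).coeff 0
  induction N with
  | zero => exact ⟨u, huE, hu, (val_le_one_coeff ((hψ.1 u).trans_le hu)).trans_eq (by simp)⟩
  | succ N ih =>
    obtain ⟨w, hwE, hw, hd⟩ := ih
    set m := minpoly k c
    obtain ⟨a, ha⟩ := (LaurentSeries.val_le_one_iff_eq_coe F' (ψ w)).1 ((hψ.1 w).trans_le hw)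
    let mP : Polynomial (PowerSeries F') := m.map (algebraMap k (PowerSeries F'))
    have hevalC : mP.eval (PowerSeries.C c) = 0 := by
      rw [Polynomial.eval_map, ← Polynomial.aeval_def,
        show PowerSeries.C c = IsScalarTower.toAlgHom k F' (PowerSeries F') c from rfl,
        Polynomial.aeval_algHom_apply, minpoly.aeval, map_zero]
    have hcoe : ∀ p : Polynomial k, ((Polynomial.aeval a p : PowerSeries F') : F'⸨X⸩) = ψ (Polynomial.aeval w p) := by
      intro p
      induction p using Polynomial.induction_on' with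
      | add p q hp hq => simp only [map_add, PowerSeries.coe_add, hp, hq]
      | monomial n r =>
        rw [Polynomial.aeval_monomial, Polynomial.aeval_monomial, PowerSeries.coe_mul, map_mul, map_pow,
          LocRes.map_algebraMap, PowerSeries.algebraMap_apply, PowerSeries.coe_C, map_pow, ha]
    obtain ⟨z, hz⟩ := newton_step mP a (PowerSeries.C c) hevalC
    rw [Polynomial.derivative_map] at hz
    simp only [mP, Polynomial.eval_map, ← Polynomial.aeval_def] at hz
    set δ := ψ w - HahnSeries.C c with hδ
    have hzL : ψ (Polynomial.aeval w m) =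
        ψ (Polynomial.aeval w (Polynomial.derivative m)) * δ - (z : F'⸨X⸩) * δ ^ 2 := by
      have := congrArg (fun q : PowerSeries F' => (q : F'⸨X⸩)) hz
      simp only [PowerSeries.coe_sub, PowerSeries.coe_mul, PowerSeries.coe_pow, hcoe, PowerSeries.coe_C, ha] at this
      exact this
    have hm'0 : Polynomial.aeval c (Polynomial.derivative m) ≠ 0 := hsep.aeval_derivative_ne_zero (minpoly.aeval k c)
    have hm' : Valued.v (ψ (Polynomial.aeval w (Polynomial.derivative m))) = 1 := by
      rw [← hcoe]
      refine le_antisymm ((LaurentSeries.val_le_one_iff_eq_coe F' _).2 ⟨_, rfl⟩) (not_lt.1 fun hlt => hm'0 ?_)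
      have h0 := (LaurentSeries.valuation_le_iff_coeff_lt_eq_zero F').1
        (show Valued.v ((Polynomial.aeval a (Polynomial.derivative m) : PowerSeries F') : F'⸨X⸩) ≤ exp (-(1 : ℤ)) from ?_) 0 one_pos
      · rw [← Nat.cast_zero, LaurentSeries.coeff_coe_powerSeries, PowerSeries.coeff_zero_eq_constantCoeff_apply,
          Polynomial.aeval_def, Polynomial.hom_eval₂] at h0
        rw [Polynomial.aeval_def]
        convert h0 using 2
        · ext r; simp [PowerSeries.algebraMap_apply]
        · have ha0 : (ψ w).coeff 0 = c := by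
            have := (LaurentSeries.valuation_le_iff_coeff_lt_eq_zero F').1
              (hd.trans_eq (show exp (-(N : ℤ) - 1) = exp (-((N : ℤ) + 1)) by congr 1; ring)) 0 (by omega)
            simpa [hδ, sub_eq_zero, HahnSeries.C_apply] using this
          rw [← ha0, ← ha, ← Nat.cast_zero, LaurentSeries.coeff_coe_powerSeries,
            PowerSeries.coeff_zero_eq_constantCoeff_apply]
      · rcases eq_or_ne (Valued.v ((Polynomial.aeval a (Polynomial.derivative m) : PowerSeries F') : F'⸨X⸩)) 0 with h | h
        · rw [h]; exact zero_le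
        rw [← exp_log h, ← exp_zero, exp_lt_exp] at hlt
        rw [← exp_log h, exp_le_exp]; omega
    have hQm' : Q.1 (Polynomial.aeval w (Polynomial.derivative m)) = 1 := (hψ.1 _).symm.trans hm'
    have hmemE : ∀ p : Polynomial k, Polynomial.aeval w p ∈ E := fun p => by
      rw [Polynomial.aeval_eq_sum_range]
      exact Subfield.sum_mem _ fun i _ => by
        rw [Algebra.smul_def]; exact mul_mem (hE _) (pow_mem hwE i)
    set w' := w - Polynomial.aeval w m / Polynomial.aeval w (Polynomial.derivative m)
    have hm0 : ψ (Polynomial.aeval w (Polynomial.derivative m)) ≠ 0 := fun h => by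
      rw [h, map_zero] at hm'; exact zero_ne_one hm'
    have hδ' : ψ w' - HahnSeries.C c = (z : F'⸨X⸩) * δ ^ 2 / ψ (Polynomial.aeval w (Polynomial.derivative m)) := by
      rw [map_sub, map_div₀, hzL, hδ]
      field_simp
      ring
    have hval : Valued.v (ψ w' - HahnSeries.C c) ≤ exp (-((N + 1 : ℕ) : ℤ) - 1) := by
      rw [hδ', map_div₀, hm', div_one, map_mul, map_pow]
      refine (mul_le_of_le_one_left' ((LaurentSeries.val_le_one_iff_eq_coe F' _).2 ⟨z, rfl⟩)).trans ?_
      refine (pow_le_pow_left₀ zero_le hd 2).trans ?_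
      rw [← exp_nsmul, exp_le_exp, nsmul_eq_mul]; push_cast; omega
    refine ⟨w', sub_mem hwE (div_mem (hmemE _) (hmemE _)), ?_, hval⟩
    rw [← hψ.1, show ψ w' = (ψ w' - HahnSeries.C c) + HahnSeries.C c by ring]
    refine (Valued.v.map_add _ _).trans (max_le (hval.trans ?_) ?_)
    · rw [← exp_zero, exp_le_exp]; omega
    · rw [← PowerSeries.coe_C]; exact (LaurentSeries.val_le_one_iff_eq_coe F' _).2 ⟨_, rfl⟩

end Sep

end Groth.Agent.FunFldLib
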