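import Groth.Agent.FunFld.ResidueThm
import Groth.Agent.FunFld.ResSep
import Mathlib.RingTheory.Trace.Basic

/-!
The Weil differential `a ↦ ∑ Res(a u dv)` and its divisor.
-/

namespace Groth.Agent.FunFldLib

open FunFld WithZero Tate
open scoped LaurentSeries

variable {k : Type*} [Field k] {K : Type*} [Field K] [Algebra k K]
  {F : Place k K → Type*} [∀ P, Field (F P)] [∀ P, Algebra k (F P)] [∀ P, FiniteDimensional k (F P)]
  {φ : ∀ P, K →ₐ[k] (F P)⸨X⸩}

variable (φ) in
/-- The residue of `z u dv` at `P`, linear in `z`. -/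
noncomputable def resMap (P : Place k K) (u v : K) : K →ₗ[k] k :=
  Algebra.trace k (F P) ∘ₗ (LocRes.res (F P)).restrictScalars k ∘ₗ
    mulOp k (φ P u * LocRes.D (F P) (φ P v)) ∘ₗ expLin (φ P)

omit [∀ P, FiniteDimensional k (F P)] in
theorem resMap_apply (P : Place k K) (u v z : K) : resMap φ P u v z = LocRes.locRes (φ P) (z * u) v := by
  show Algebra.trace k (F P) (LocRes.res (F P) (φ P u * LocRes.D (F P) (φ P v) * φ P z)) = _
  rw [LocRes.locRes, LocRes.resExp, map_mul (φ P)]
  congr 2; ring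

variable (hK : IsFunctionField k K) (hφ : ∀ P, LocRes.IsExpansionAt P.1 (φ P))
  {u v : K} (hr : ∀ t : K, ∃ a : K, KaehlerDifferential.D k K t = a • KaehlerDifferential.D k K v) (hu : u ≠ 0)

include hK hr hφ in
theorem D_expansion_ne_zero (P : Place k K) : LocRes.D (F P) (φ P v) ≠ 0 := fun h => by
  obtain ⟨t, ht⟩ := (hφ P).2.2
  obtain ⟨a, ha⟩ := hr t
  have h1 := val_D_of_val_eq (((hφ P).1 t).trans ht)
  rw [D_smul_expansion (φ P) ha, h, mul_zero, map_zero] at h1
  exact zero_ne_one h1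

include hK hr hφ hu in
theorem vDiff_ne_zero (P : Place k K) : LocRes.vDiff (φ P) u v ≠ 0 := by
  rw [LocRes.vDiff, map_mul, (hφ P).1]
  exact mul_ne_zero (val_ne_zero P hu) ((Valuation.ne_zero_iff Valued.v).2 (D_expansion_ne_zero hK hφ hr P))

include hK hr hφ in
theorem coeffField_separable (P : Place k K) : Algebra.IsSeparable k (F P) := by
  obtain ⟨r, -⟩ := exists_residue_equiv (K' := K) (hφ P)
  have := isSeparable_of_ratio (K := K) (K' := K) hK hr (hφ P)
    (by simpa using D_expansion_ne_zero hK hφ hr P)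
  exact Algebra.IsSeparable.of_algHom k (IsLocalRing.ResidueField P.O) r.symm.toAlgHom

include hφ in
theorem resMap_eq_zero (P : Place k K) {z : K} (h : P.1 z * LocRes.vDiff (φ P) u v ≤ 1) : resMap φ P u v z = 0 := by
  rw [resMap_apply]
  have h1 : Valued.v (φ P (z * u) * LocRes.D (F P) (φ P v)) ≤ exp (-(0 : ℤ)) := by
    rw [neg_zero, exp_zero, map_mul (φ P), mul_assoc, map_mul, (hφ P).1]; exact h
  have h2 := (LaurentSeries.valuation_le_iff_coeff_lt_eq_zero (F P)).1 h1 (-1) (by norm_num)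
  rw [LocRes.locRes, LocRes.resExp, LocRes.res_apply, h2, map_zero]

include hK hr hφ hu in
/-- The residue pairing is nondegenerate. -/
theorem exists_resMap_ne_zero (P : Place k K) {m : ℤ} (hm : LocRes.ordDiff (φ P) u v < m) :
    ∃ z : K, P.1 z ≤ exp m ∧ resMap φ P u v z ≠ 0 := by
  have := coeffField_separable hK hφ hr P
  set o := LocRes.ordDiff (φ P) u v with ho
  set w := φ P u * LocRes.D (F P) (φ P v)
  have hw : Valued.v w = exp (-o) := by
    rw [ho, LocRes.ordDiff, neg_neg, exp_log (vDiff_ne_zero hK hφ hr hu P)]; rfl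
  have hw1 : w ∈ ordGE k (F P) o := mem_ordGE_iff.2 hw.le
  have hw2 : w.coeff o ≠ 0 := fun h => by
    have : w ∈ ordGE k (F P) (o + 1) := fun n hn => by
      rcases lt_or_eq_of_le (Int.lt_add_one_iff.1 hn) with h' | h'
      · exact hw1 n h'
      · rw [h', h]
    rw [mem_ordGE_iff, hw, exp_le_exp] at this
    omega
  obtain ⟨s, hs⟩ : ∃ s : F P, Algebra.trace k (F P) s ≠ 0 := by
    by_contra! h
    exact Algebra.trace_ne_zero k (F P) (LinearMap.ext h)
  obtain ⟨z, hz, hzc⟩ := exists_coeff_eq (hφ P) (-1 - o) (s / w.coeff o)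
  refine ⟨z, ?_, ?_⟩
  · rw [← (hφ P).1]
    refine (mem_ordGE_iff.1 hz).trans ?_
    rw [exp_le_exp]; omega
  · show Algebra.trace k (F P) ((w * φ P z).coeff (-1)) ≠ 0
    rw [show (-1 : ℤ) = o + (-1 - o) by ring, coeff_mul_lead hw1 hz, hzc, mul_div_cancel₀ _ hw2]
    exact hs

variable (u v) in
include hK hφ in
theorem finite_support_resMap {a : Place k K → K} (ha : a ∈ adele k K) :
    (Function.support fun P => resMap φ P u v (a P)).Finite := by
  have h1 : {P : Place k K | ¬ P.1 (a P) ≤ 1}.Finite := Filter.eventually_cofinite.1 ha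
  refine (h1.union ((finite_not_integral hK u).union (finite_not_integral hK v))).subset fun P hP => ?_
  by_contra hPS
  simp only [Set.mem_union, Set.mem_ofPred_eq, not_or, not_not] at hPS
  refine hP (resMap_eq_zero hφ P ?_)
  rw [LocRes.vDiff, map_mul, (hφ P).1]
  exact mul_le_one' hPS.1 (mul_le_one' hPS.2.1 (val_D_le_one (((hφ P).1 v).trans_le hPS.2.2)))

/-- `a ↦ ∑ Res_P(a_P u dv)`. -/
noncomputable def pairing (u v : K) : Module.Dual k (adele k K) where
  toFun a := ∑ᶠ P, resMap φ P u v ((a : Place k K → K) P)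
  map_add' a b := by
    simp only [Submodule.coe_add, Pi.add_apply, map_add]
    exact finsum_add_distrib (finite_support_resMap hK hφ u v a.2) (finite_support_resMap hK hφ u v b.2)
  map_smul' c a := by
    simp only [SetLike.val_smul, Pi.smul_apply, map_smul, RingHom.id_apply]
    exact (smul_finsum' c (finite_support_resMap hK hφ u v a.2)).symm

open Classical in
include hK hr hφ hu in
theorem pairing_props :
    IsWeil (pairing hK hφ u v) ∧ pairing hK hφ u v ≠ 0 ∧
      ∃ C : Divisor k K, IsDivOf (pairing hK hφ u v) C ∧ ∀ P, C P = LocRes.ordDiff (φ P) u v := by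
  set ω := pairing hK hφ u v
  have hv' : ∀ P, LocRes.vDiff (φ P) u v = exp (-LocRes.ordDiff (φ P) u v) := fun P => by
    rw [LocRes.ordDiff, neg_neg, exp_log (vDiff_ne_zero hK hφ hr hu P)]
  have hvan : ∀ E : Divisor k K, (∀ P, E P ≤ LocRes.ordDiff (φ P) u v) → ω ∈ WD E := fun E hE => by
    rw [mem_WD]
    intro a ha
    obtain ⟨b, hb, _, ⟨z, rfl⟩, hbz⟩ := Submodule.mem_sup.1 ha
    have hzero : ∀ P, resMap φ P u v (a.1 P) = resMap φ P u v z := fun P => by
      have h := congrFun hbz P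
      rw [Pi.add_apply] at h
      rw [← h, map_add, resMap_eq_zero hφ P (z := b P), zero_add]
      · rfl
      refine (mul_le_mul' ((hb P).trans (exp_le_exp.2 (hE P))) le_rfl).trans_eq ?_
      rw [hv', ← exp_add, ← exp_zero]; congr 1; ring
    show ∑ᶠ P, resMap φ P u v (a.1 P) = 0
    rw [finsum_congr fun P => (hzero P).trans (resMap_apply P u v z)]
    exact (sum_locRes_eq_zero hK hφ (z * u) v).2
  have hsingle : ∀ P y, ∃ a : adele k K, a.1 = Pi.single P y ∧ ω a = resMap φ P u v y := fun P y => by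
    have hmem : (Pi.single P y : Place k K → K) ∈ adele k K := by
      show ∀ᶠ R : Place k K in Filter.cofinite, R.1 ((Pi.single P y : Place k K → K) R) ≤ 1
      rw [Filter.eventually_cofinite]
      refine (Set.finite_singleton P).subset fun R hR => ?_
      by_contra hne
      exact hR (by rw [Pi.single_eq_of_ne hne, map_zero]; exact zero_le)
    refine ⟨⟨_, hmem⟩, rfl, ?_⟩
    show ∑ᶠ R, resMap φ R u v ((Pi.single P y : Place k K → K) R) = _
    rw [finsum_eq_single _ P fun R hR => by rw [Pi.single_eq_of_ne hR, map_zero], Pi.single_eq_same]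
  have hmax : ∀ E : Divisor k K, ω ∈ WD E → ∀ P, E P ≤ LocRes.ordDiff (φ P) u v := fun E hE P => by
    by_contra h
    obtain ⟨z, hz, hne⟩ := exists_resMap_ne_zero hK hφ hr hu P (not_le.1 h)
    obtain ⟨a, ha, hωa⟩ := hsingle P z
    refine hne (hωa ▸ mem_WD.1 hE a (Submodule.mem_sup_left ?_))
    rw [ha]
    intro R
    by_cases hR : R = P
    · subst hR; rw [Pi.single_eq_same]; exact hz
    · rw [Pi.single_eq_of_ne hR, map_zero]; exact zero_le
  set S := ((finite_not_integral hK u).union (finite_not_integral hK v)).toFinset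
  let E₀ : Divisor k K := Finsupp.onFinset S (fun P => if P ∈ S then LocRes.ordDiff (φ P) u v else 0)
    fun P h => by by_contra hn; exact h (if_neg hn)
  have hE₀ : ω ∈ WD E₀ := hvan E₀ fun P => by
    rw [Finsupp.onFinset_apply]
    split_ifs with hP
    · exact le_rfl
    simp only [S, Set.Finite.mem_toFinset, Set.mem_union, Set.mem_ofPred_eq, not_or, not_not] at hP
    have h : LocRes.vDiff (φ P) u v ≤ 1 := by
      rw [LocRes.vDiff, map_mul, (hφ P).1]
      exact mul_le_one' hP.1 (val_D_le_one (((hφ P).1 v).trans_le hP.2))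
    rw [hv', ← exp_zero, exp_le_exp] at h
    omega
  obtain ⟨P⟩ := exists_place hK
  have hne : ω ≠ 0 := fun h => by
    obtain ⟨z, -, hz⟩ := exists_resMap_ne_zero hK hφ hr hu P (lt_add_one (LocRes.ordDiff (φ P) u v))
    obtain ⟨a, -, hωa⟩ := hsingle P z
    rw [h] at hωa
    exact hz hωa.symm
  obtain ⟨C, hC⟩ := exists_isDivOf hK ⟨E₀, hE₀⟩ hne
  refine ⟨⟨E₀, hE₀⟩, hne, C, hC, fun Q => le_antisymm (hmax C ((hC C).2 le_rfl) Q) ?_⟩
  have hle := (hC (C + Finsupp.single Q (LocRes.ordDiff (φ Q) u v - C Q))).1 (hvan _ fun R => by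
    by_cases h : R = Q
    · subst h; simp
    · rw [Finsupp.add_apply, Finsupp.single_eq_of_ne h, add_zero]
      exact hmax C ((hC C).2 le_rfl) R) Q
  simp at hle
  omega

theorem pairing_mulW (w : K) :
    mulW w (smul_mem_adele hK w) (pairing hK hφ 1 v) = pairing hK hφ w v := LinearMap.ext fun a => by
  rw [mulW_apply]
  refine finsum_congr fun P => ?_
  rw [resMap_apply, resMap_apply]
  show LocRes.locRes (φ P) (w * a.1 P * 1) v = _
  rw [mul_one, mul_comm]

include hK hr hφ in
/-- `{y | (y dv) ≥ D}` is `L(C - D)`. -/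
theorem exists_regular_eq_L :
    ∃ C : Divisor k K, IsDivOf (pairing hK hφ 1 v) C ∧ ∀ (D : Divisor k K) (y : K),
      ((∀ P, LocRes.vDiff (φ P) y v ≤ exp (-(D P))) ↔ y ∈ L (C - D)) := by
  obtain ⟨-, -, C, hC, hCP⟩ := pairing_props hK hφ hr (one_ne_zero (α := K))
  refine ⟨C, hC, fun D y => forall_congr' fun P => ?_⟩
  have h1 : LocRes.vDiff (φ P) y v = P.1 y * LocRes.vDiff (φ P) 1 v := by
    rw [LocRes.vDiff, LocRes.vDiff, map_mul, (hφ P).1, map_one, one_mul]
  have h2 : LocRes.vDiff (φ P) 1 v = exp (-C P) := by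
    rw [hCP, LocRes.ordDiff, neg_neg, exp_log (vDiff_ne_zero hK hφ hr (one_ne_zero (α := K)) P)]
  rw [h1, h2, ← le_div_iff₀ exp_pos, ← exp_sub, Finsupp.sub_apply, show -D P - -C P = C P - D P by ring]

include hK hr hφ in
theorem finrank_regular_eq_WD (D : Divisor k K) :
    Module.finrank k (Submodule.span k {y : K | ∀ P, LocRes.vDiff (φ P) y v ≤ exp (-(D P))}) =
      Module.finrank k (WD D) := by
  obtain ⟨C, hC, hiff⟩ := exists_regular_eq_L hK hφ hr
  rw [show {y : K | ∀ P, LocRes.vDiff (φ P) y v ≤ exp (-(D P))} = (L (C - D) : Set K) from Set.ext fun y => hiff D y,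
    Submodule.span_eq, ← WD_eq_map hK hC D]
  exact (Submodule.equivMapOfInjective _ (mulWₗ_injective hK (IsDivOf.ne_zero hK hC)) _).finrank_eq

end Groth.Agent.FunFldLib
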