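import Groth.Agent.FunFld.Tate

/-!
The Tate trace of a lattice with a stable cocompact discrete subspace vanishes.
-/

namespace Groth.Agent.FunFldLib.Tate

variable {k : Type*} [Field k] {V : Type*} [AddCommGroup V] [Module k V]

theorem finite_range_of_le {C : V →ₗ[k] V} {U : Submodule k V} [FiniteDimensional k U] (h : ∀ x, C x ∈ U) :
    FiniteDimensional k (LinearMap.range C) :=
  Submodule.finiteDimensional_of_le (show LinearMap.range C ≤ U by rintro _ ⟨x, rfl⟩; exact h x)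

theorem hasTr_op_finite {π f g : V →ₗ[k] V} {U : Submodule k V} [FiniteDimensional k U] (h : ∀ x, π x ∈ U) :
    HasTr (op π f g) 0 := by
  have : FiniteDimensional k (LinearMap.range ((π ∘ₗ f) ∘ₗ g)) := finite_range_of_le fun x => h _
  have : FiniteDimensional k (LinearMap.range (g ∘ₗ π ∘ₗ f)) :=
    finite_range_of_le (U := U.map g) fun x => Submodule.mem_map_of_mem (h _)
  have h1 := hasTr_of_range (C := (π ∘ₗ f) ∘ₗ g) (U := U) fun x => h _
  have h2 := HasTr.sub_finite h1 h1.swap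
  rw [sub_self] at h2
  exact h2

theorem tate_global {A D : Submodule k V} {f g : V →ₗ[k] V} (hfg : ∀ x, f (g x) = g (f x))
    (hf : ∀ x ∈ D, f x ∈ D) (hg : ∀ x ∈ D, g x ∈ D) [FiniteDimensional k (A ⊓ D : Submodule k V)]
    [FiniteDimensional k (V ⧸ (A ⊔ D))] {τ : k} (h : TateTr A f g τ) : τ = 0 := by
  obtain ⟨T, hT⟩ := (A ⊔ D).exists_isCompl
  have : FiniteDimensional k T := Module.Finite.equiv (Submodule.quotientEquivOfIsCompl _ T hT)
  let σ₀ : V →ₗ[k] (A ⊔ D : Submodule k V) := (A ⊔ D).projectionOnto T hT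
  let σ : V →ₗ[k] V := (A ⊔ D).subtype ∘ₗ σ₀
  have hσ : ∀ x ∈ A ⊔ D, σ x = x := fun x hx =>
    congrArg Subtype.val (Submodule.projectionOnto_apply_left hT ⟨x, hx⟩)
  have hT' : ∀ x, x - σ x ∈ T := fun x => by
    have h := (A ⊔ D).projectionOnto_apply_eq_zero_iff hT (x := x - σ x)
    refine h.1 ?_
    rw [map_sub, sub_eq_zero]
    exact (Submodule.projectionOnto_apply_left hT _).symm
  obtain ⟨πI, hπI⟩ := exists_isProj (A ⊓ D)
  let q : (A × D) →ₗ[k] (A ⊔ D : Submodule k V) :=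
    (Submodule.inclusion le_sup_left).coprod (Submodule.inclusion le_sup_right)
  have hq : Function.Surjective q := fun x => by
    obtain ⟨a, ha, d, hd, h⟩ := Submodule.mem_sup.1 x.2
    exact ⟨(⟨a, ha⟩, ⟨d, hd⟩), Subtype.ext h⟩
  let φA : (A × D) →ₗ[k] V := A.subtype.coprod (πI ∘ₗ D.subtype)
  let φD : (A × D) →ₗ[k] V := (πI ∘ₗ A.subtype).coprod D.subtype
  have hker : LinearMap.ker q ≤ LinearMap.ker φA ∧ LinearMap.ker q ≤ LinearMap.ker φD := by
    have key : ∀ p ∈ LinearMap.ker q, (p.1 : V) + p.2 = 0 ∧ πI p.1 = p.1 ∧ πI p.2 = p.2 := fun p hp => by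
      have h0 : (p.1 : V) + p.2 = 0 := congrArg Subtype.val (LinearMap.mem_ker.1 hp)
      refine ⟨h0, hπI.2 _ ⟨p.1.2, ?_⟩, hπI.2 _ ⟨?_, p.2.2⟩⟩
      · rw [eq_neg_of_add_eq_zero_left h0]; exact neg_mem p.2.2
      · rw [eq_neg_of_add_eq_zero_right h0]; exact neg_mem p.1.2
    refine ⟨fun p hp => ?_, fun p hp => ?_⟩ <;> obtain ⟨h0, h1, h2⟩ := key p hp <;>
      simp only [LinearMap.mem_ker, φA, φD, LinearMap.coprod_apply, LinearMap.comp_apply, Submodule.coe_subtype,
        h1, h2] <;> exact h0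
  let lift : ∀ φ : (A × D) →ₗ[k] V, LinearMap.ker q ≤ LinearMap.ker φ → (V →ₗ[k] V) := fun φ hφ =>
    (LinearMap.ker q).liftQ φ hφ ∘ₗ (q.quotKerEquivOfSurjective hq).symm.toLinearMap ∘ₗ σ₀
  let πA := lift φA hker.1
  let πD := lift φD hker.2
  have hlift : ∀ φ hφ x, ∃ p, q p = σ₀ x ∧ lift φ hφ x = φ p := fun φ hφ x => by
    obtain ⟨p, hp⟩ := hq (σ₀ x)
    refine ⟨p, hp, ?_⟩
    show (LinearMap.ker q).liftQ φ hφ ((q.quotKerEquivOfSurjective hq).symm (σ₀ x)) = φ p
    rw [← hp, show (q.quotKerEquivOfSurjective hq).symm (q p) = Submodule.Quotient.mk p from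
      (LinearEquiv.symm_apply_eq _).2 rfl]
    rfl
  have hlift' : ∀ φ hφ x p, (p.1 : V) + (p.2 : V) = x → lift φ hφ x = φ p := fun φ hφ x p hp => by
    obtain ⟨p', hp', he⟩ := hlift φ hφ x
    rw [he, ← sub_eq_zero, ← map_sub]
    refine LinearMap.mem_ker.1 (hφ (LinearMap.mem_ker.2 ?_))
    have hx : x ∈ A ⊔ D := hp ▸ add_mem (Submodule.mem_sup_left p.1.2) (Submodule.mem_sup_right p.2.2)
    rw [map_sub, sub_eq_zero, hp']
    exact Subtype.ext ((hσ x hx).trans hp.symm)
  have hA : IsProj A πA := by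
    refine ⟨fun x => ?_, fun x hx => ?_⟩
    · obtain ⟨p, -, hp⟩ := hlift φA hker.1 x
      show lift φA hker.1 x ∈ A
      rw [hp]
      exact add_mem p.1.2 (hπI.1 _).1
    · show lift φA hker.1 x = x
      rw [hlift' φA hker.1 x (⟨x, hx⟩, 0) (by simp)]
      simp [φA]
  have hD : IsProj D πD := by
    refine ⟨fun x => ?_, fun x hx => ?_⟩
    · obtain ⟨p, -, hp⟩ := hlift φD hker.2 x
      show lift φD hker.2 x ∈ D
      rw [hp]
      exact add_mem (hπI.1 _).2 p.2.2
    · show lift φD hker.2 x = x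
      rw [hlift' φD hker.2 x (0, ⟨x, hx⟩) (by simp)]
      simp [φD]
  have hsum : ∀ x, πA x + πD x = σ x + πI (σ x) := fun x => by
    obtain ⟨p, hp⟩ := hq (σ₀ x)
    have hσx : σ x = (p.1 : V) + p.2 := (congrArg Subtype.val hp).symm
    obtain ⟨pA, hpA, eA⟩ := hlift φA hker.1 x
    obtain ⟨pD, hpD, eD⟩ := hlift φD hker.2 x
    have e1 : φA pA = φA p := by
      rw [← sub_eq_zero, ← map_sub]
      exact LinearMap.mem_ker.1 (hker.1 (LinearMap.mem_ker.2 (by rw [map_sub, hpA, hp, sub_self])))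
    have e2 : φD pD = φD p := by
      rw [← sub_eq_zero, ← map_sub]
      exact LinearMap.mem_ker.1 (hker.2 (LinearMap.mem_ker.2 (by rw [map_sub, hpD, hp, sub_self])))
    show lift φA hker.1 x + lift φD hker.2 x = _
    rw [eA, eD, e1, e2, hσx]
    simp only [φA, φD, LinearMap.coprod_apply, LinearMap.comp_apply, Submodule.coe_subtype, map_add]
    abel
  -- finite rank part
  have hI : ∀ x, (πI ∘ₗ σ) x ∈ A ⊓ D := fun x => hπI.1 _
  have hTm : ∀ x, ((LinearMap.id : V →ₗ[k] V) - σ) x ∈ T := hT'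
  set E := op (πI ∘ₗ σ) f g - op ((LinearMap.id : V →ₗ[k] V) - σ) f g
  have : FiniteDimensional k (LinearMap.range (op (πI ∘ₗ σ) f g)) :=
    finite_range_of_le (U := (A ⊓ D) ⊔ (A ⊓ D).map g) fun x =>
      sub_mem (Submodule.mem_sup_left (hI _)) (Submodule.mem_sup_right (Submodule.mem_map_of_mem (hI _)))
  have : FiniteDimensional k (LinearMap.range (op ((LinearMap.id : V →ₗ[k] V) - σ) f g)) :=
    finite_range_of_le (U := T ⊔ T.map g) fun x =>
      sub_mem (Submodule.mem_sup_left (hTm _)) (Submodule.mem_sup_right (Submodule.mem_map_of_mem (hTm _)))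
  have hE : HasTr E 0 := by
    have := HasTr.sub_finite (hasTr_op_finite (f := f) (g := g) hI) (hasTr_op_finite (f := f) (g := g) hTm)
    rwa [sub_zero] at this
  have : FiniteDimensional k (LinearMap.range E) :=
    finite_range_of_le (U := LinearMap.range (op (πI ∘ₗ σ) f g) ⊔ LinearMap.range (op ((LinearMap.id : V →ₗ[k] V) - σ) f g)) fun x =>
      sub_mem (Submodule.mem_sup_left (LinearMap.mem_range_self _ x))
        (Submodule.mem_sup_right (LinearMap.mem_range_self _ x))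
  have hND : ∀ x, op πD f g x ∈ D := fun x => sub_mem (hD.1 _) (hg _ (hD.1 _))
  have hN : ∀ x, op πD f g (op πD f g x) = 0 := fun x => by
    have hy := hND x
    generalize op πD f g x = y at hy
    rw [op_apply, hD.2 _ (hf _ (hg _ hy)), hD.2 _ (hf _ hy), hfg, sub_self]
  have key : op πA f g = E - op πD f g := LinearMap.ext fun x => by
    have e : ∀ z, πA z = σ z + πI (σ z) - πD z := fun z => eq_sub_of_add_eq (hsum z)
    simp only [E, LinearMap.sub_apply, op_apply, LinearMap.comp_apply, LinearMap.id_apply, e, map_add, map_sub, hfg]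
    abel
  exact ((h πA hA).unique (key ▸ HasTr.sub_sq_zero hE hN))

end Groth.Agent.FunFldLib.Tate
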