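import Groth.Agent.FunFld.TateLaurent
import Groth.Agent.FunFld.TateGlobal
import Groth.Agent.FunFld.LocalRes
import Groth.Agent.FunFld.RR

/-!
The residue theorem.
-/

namespace Groth.Agent.FunFldLib

open FunFld WithZero Tate
open scoped LaurentSeries

variable {k : Type*} [Field k] {K : Type*} [Field K] [Algebra k K]

/-- An expansion, linear for the coefficientwise structure. -/
noncomputable def expLin {F : Type*} [Field F] [Algebra k F] (φ : K →ₐ[k] F⸨X⸩) : K →ₗ[k] F⸨X⸩ where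
  toFun := φ
  map_add' := map_add φ
  map_smul' c a := by
    rw [RingHom.id_apply, Algebra.smul_def, map_mul, LocRes.map_algebraMap, smul_eq_C_mul]

theorem mem_ordGE_iff {F : Type*} [Field F] [Algebra k F] {f : F⸨X⸩} {N : ℤ} :
    f ∈ ordGE k F N ↔ Valued.v f ≤ exp (-N) :=
  (LaurentSeries.valuation_le_iff_coeff_lt_eq_zero F).symm

theorem coeff_mul_lead {F : Type*} [Field F] [Algebra k F] {a b : F⸨X⸩} {M N : ℤ} (ha : a ∈ ordGE k F M)
    (hb : b ∈ ordGE k F N) : (a * b).coeff (M + N) = a.coeff M * b.coeff N := by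
  rw [HahnSeries.coeff_mul]
  refine (Finset.sum_eq_single (M, N) (fun p hp hne => ?_) fun hp => ?_)
  · obtain ⟨-, -, h⟩ := Finset.mem_antidiagonal.1 hp
    rcases lt_trichotomy p.1 M with h1 | h1 | h1
    · rw [ha _ h1, zero_mul]
    · exact absurd (Prod.ext h1 (by omega)) hne
    · rw [hb p.2 (by omega), mul_zero]
  · by_contra h
    obtain ⟨h1, h2⟩ := mul_ne_zero_iff.1 h
    exact hp (Finset.mem_antidiagonal.2 ⟨h1, h2, rfl⟩)

theorem exists_coeff_eq {F : Type*} [Field F] [Algebra k F] {P : Place k K} {φ : K →ₐ[k] F⸨X⸩}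
    (hφ : LocRes.IsExpansionAt P.1 φ) (m : ℤ) (c : F) :
    ∃ u : K, φ u ∈ ordGE k F m ∧ (φ u).coeff m = c := by
  obtain ⟨t, ht⟩ := hφ.2.2
  have hv : Valued.v (φ (t ^ m)) = exp (-m) := by
    rw [hφ.1, map_zpow₀, ht, ← exp_zsmul, smul_eq_mul, mul_neg_one]
  have h1 : φ (t ^ m) ∈ ordGE k F m := mem_ordGE_iff.2 hv.le
  have h2 : (φ (t ^ m)).coeff m ≠ 0 := fun h => by
    have : φ (t ^ m) ∈ ordGE k F (m + 1) := fun n hn => by
      rcases lt_or_eq_of_le (Int.lt_add_one_iff.1 hn) with h' | h'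
      · exact h1 n h'
      · rw [h', h]
    rw [mem_ordGE_iff, hv, exp_le_exp] at this
    omega
  obtain ⟨w, hw, hwc⟩ := hφ.2.1 (c / (φ (t ^ m)).coeff m)
  have h3 : φ w ∈ ordGE k F 0 := mem_ordGE_iff.2 (by rw [hφ.1, neg_zero, exp_zero]; exact hw)
  refine ⟨t ^ m * w, ?_, ?_⟩
  · rw [map_mul]; simpa using mul_mem_ordGE h1 h3
  · have := coeff_mul_lead h1 h3
    rw [add_zero] at this
    rw [map_mul, this, hwc, mul_div_cancel₀ _ h2]

/-- The image of `K` is dense. -/
theorem exists_approx_series {F : Type*} [Field F] [Algebra k F] {P : Place k K} {φ : K →ₐ[k] F⸨X⸩}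
    (hφ : LocRes.IsExpansionAt P.1 φ) (v : F⸨X⸩) (N : ℤ) : ∃ u : K, v - φ u ∈ ordGE k F N := by
  obtain ⟨M, hM⟩ := exists_ordGE (k := k) v
  suffices h : ∀ j : ℕ, ∃ u : K, v - φ u ∈ ordGE k F (-(M : ℤ) + j) by
    obtain ⟨u, hu⟩ := h (N + M).toNat
    exact ⟨u, ordGE_mono (by omega) hu⟩
  intro j
  induction j with
  | zero => exact ⟨0, by simpa using hM⟩
  | succ j ih =>
    obtain ⟨u, hu⟩ := ih
    obtain ⟨w, hw, hwc⟩ := exists_coeff_eq hφ (-(M : ℤ) + j) ((v - φ u).coeff (-(M : ℤ) + j))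
    refine ⟨u + w, fun n hn => ?_⟩
    rw [map_add, show v - (φ u + φ w) = (v - φ u) - φ w by ring, HahnSeries.coeff_sub]
    push_cast at hn
    rcases lt_or_eq_of_le (show n ≤ -(M : ℤ) + j by omega) with h | h
    · rw [hu n h, hw n h, sub_zero]
    · rw [h, hwc, sub_self]

theorem sum_locRes_eq_zero (hK : IsFunctionField k K) {F : Place k K → Type*} [∀ P, Field (F P)]
    [∀ P, Algebra k (F P)] [∀ P, FiniteDimensional k (F P)] {φ : ∀ P, K →ₐ[k] (F P)⸨X⸩}
    (hφ : ∀ P, LocRes.IsExpansionAt P.1 (φ P)) (u v : K) :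
    (Function.support fun P => LocRes.locRes (φ P) u v).Finite ∧ ∑ᶠ P, LocRes.locRes (φ P) u v = 0 := by
  classical
  set S := ((finite_not_integral hK u).union (finite_not_integral hK v)).toFinset
  have hS : ∀ P, P ∉ S → P.1 u ≤ 1 ∧ P.1 v ≤ 1 := fun P hP => by
    simp only [S, Set.Finite.mem_toFinset, Set.mem_union, Set.mem_ofPred_eq, not_or, not_not] at hP
    exact hP
  have hsupp : Function.support (fun P => LocRes.locRes (φ P) u v) ⊆ S := fun P hP => by
    by_contra h
    obtain ⟨hu, hv⟩ := hS P h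
    refine hP ?_
    show Algebra.trace k (F P) (LocRes.resExp (φ P) u v) = 0
    rw [resExp_eq_zero_of_coe (φ P) ((hφ P).1 u |>.trans_le hu) ((hφ P).1 v |>.trans_le hv), map_zero]
  refine ⟨S.finite_toSet.subset hsupp, ?_⟩
  rw [finsum_eq_finsetSum_of_support_subset _ hsupp, ← Finset.sum_coe_sort]
  let W : S → Type _ := fun P => (F P.1)⸨X⸩
  let A : ∀ P : S, Submodule k (W P) := fun P => ordGE k (F P.1) 0
  choose M₁ hM₁ using fun P : S => exists_ordGE (k := k) (φ P.1 u)
  choose M₂ hM₂ using fun P : S => exists_ordGE (k := k) (φ P.1 v)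
  let M₀ : S → ℕ := fun P => max (M₁ P) (M₂ P)
  let N : S → ℕ := fun P => 2 * M₀ P
  let L : ∀ P : S, Submodule k (W P) := fun P => ordGE k (F P.1) (-(N P : ℤ))
  let H : ∀ P : S, Submodule k (W P) := fun P => ordGE k (F P.1) (N P : ℤ)
  have hband : ∀ P : S, FiniteDimensional k (Band (L P) (H P)) := fun P => finite_band _
  have hbnd : ∀ P : S, top' (A P) (mulOp k (φ P.1 v)) ≤ L P ∧ H P ≤ bot' (A P) (mulOp k (φ P.1 u)) (mulOp k (φ P.1 v)) :=
    fun P => top_bot_le (ordGE_mono (by simp [M₀]) (hM₁ P)) (ordGE_mono (by simp [M₀]) (hM₂ P))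
  let M : ∀ i j : S, W j →ₗ[k] W i := fun i => Pi.single (M := fun j => W j →ₗ[k] W i) i (mulOp k (φ i.1 u))
  let g : ∀ P : S, W P →ₗ[k] W P := fun P => mulOp k (φ P.1 v)
  have hMii : ∀ i, M i i = mulOp k (φ i.1 u) := fun i => Pi.single_eq_same _ _
  have hMij : ∀ i j, j ≠ i → M i j = 0 := fun i j h => Pi.single_eq_of_ne (M := fun j => W j →ₗ[k] W i) h _
  have htot : TateTr (Submodule.pi Set.univ A) (blockMap M) (LinearMap.pi fun i => g i ∘ₗ LinearMap.proj i)
      (∑ P : S, LocRes.locRes (φ P.1) u v) := by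
    refine tateTr_pi A L H M g (fun i j x => ?_) (fun i => le_sup_left.trans (hbnd i).1)
      (fun i => le_sup_right.trans (hbnd i).1) (fun i j x hx => ?_) fun i => ?_
    · by_cases h : j = i
      · subst h; rw [hMii]; exact mul_left_comm _ _ _
      · rw [hMij i j h]; simp
    · by_cases h : j = i
      · subst h; rw [hMii]; exact ⟨((hbnd _).2 hx).1, ((hbnd _).2 hx).2⟩
      · rw [hMij i j h]; exact ⟨zero_mem _, zero_mem _⟩
    · rw [hMii]; exact laurent_tateTr _ _
  -- the discrete subspace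
  let R : Submodule k K :=
    { carrier := {z | ∀ P, P ∉ S → P.1 z ≤ 1}
      add_mem' := fun {a b} ha hb P hP => (P.1.map_add a b).trans (max_le (ha P hP) (hb P hP))
      zero_mem' := fun P _ => by simp
      smul_mem' := fun c a ha P hP => by
        rw [Algebra.smul_def, map_mul]; exact (mul_le_mul' (P.2.1 c) (ha P hP)).trans_eq (one_mul _) }
  let Θ : K →ₗ[k] ∀ P : S, W P := LinearMap.pi fun P => expLin (φ P.1)
  let Dd := R.map Θ
  have hF : ∀ x i, blockMap M x i = φ i.1 u * x i := fun x i => by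
    rw [blockMap_apply, Finset.sum_eq_single_of_mem i (Finset.mem_univ i) fun j _ hj => by
      rw [hMij i j hj]; rfl, hMii]
    rfl
  have hfD : ∀ x ∈ Dd, blockMap M x ∈ Dd := by
    rintro _ ⟨z, hz, rfl⟩
    refine ⟨u * z, fun P hP => ?_, ?_⟩
    · rw [map_mul]; exact mul_le_one' (hS P hP).1 (hz P hP)
    · funext i; rw [hF]; exact map_mul (φ i.1) u z
  have hgD : ∀ x ∈ Dd, (LinearMap.pi fun i => g i ∘ₗ LinearMap.proj i) x ∈ Dd := by
    rintro _ ⟨z, hz, rfl⟩
    refine ⟨v * z, fun P hP => ?_, ?_⟩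
    · rw [map_mul]; exact mul_le_one' (hS P hP).2 (hz P hP)
    · funext i; exact map_mul (φ i.1) v z
  have := finiteDimensional_L hK (0 : Divisor k K)
  have : FiniteDimensional k (Submodule.pi Set.univ A ⊓ Dd : Submodule k (∀ P : S, W P)) := by
    refine Submodule.finiteDimensional_of_le (S₂ := (FunFld.L (0 : Divisor k K)).map Θ) ?_
    rintro _ ⟨hx, z, hz, rfl⟩
    refine ⟨z, fun P => ?_, rfl⟩
    rw [Finsupp.zero_apply, exp_zero]
    by_cases hP : P ∈ S
    · have h : φ P z ∈ ordGE k (F P) 0 := hx ⟨P, hP⟩ trivial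
      rw [mem_ordGE_iff, neg_zero, exp_zero, (hφ P).1] at h
      exact h
    · exact hz P hP
  -- cocompactness
  let Ψ : (S → K) →ₗ[k] ∀ P : S, W P := LinearMap.pi fun P => expLin (φ P.1) ∘ₗ LinearMap.proj P
  let ext₀ : (S → K) →ₗ[k] adele k K :=
    LinearMap.codRestrict _ (LinearMap.pi fun P => if h : P ∈ S then LinearMap.proj ⟨P, h⟩ else 0) fun a => by
      show ∀ᶠ P : Place k K in Filter.cofinite, P.1 _ ≤ 1
      rw [Filter.eventually_cofinite]
      refine S.finite_toSet.subset fun P hP => ?_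
      by_contra h
      apply hP
      have h' : P ∉ S := h
      rw [LinearMap.pi_apply, dif_neg h', LinearMap.zero_apply, map_zero]
      exact zero_le
  let p := Submodule.pi Set.univ A ⊔ Dd
  let η : (S → K) →ₗ[k] (∀ P : S, W P) ⧸ p := p.mkQ ∘ₗ Ψ
  have hsurj : Function.Surjective η := fun y => by
    induction y using Submodule.Quotient.induction_on with
    | H x =>
      choose a ha using fun P : S => exists_approx_series (hφ P.1) (x P) 0
      refine ⟨a, ?_⟩
      show Submodule.Quotient.mk (Ψ a) = Submodule.Quotient.mk x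
      rw [Submodule.Quotient.eq, ← neg_sub]
      exact neg_mem (Submodule.mem_sup_left fun P _ => ha P)
  obtain ⟨hfin, -⟩ := finrank_adele_quotient hK (0 : Divisor k K)
  have hker : LinearMap.ker ((ADK (0 : Divisor k K)).mkQ ∘ₗ ext₀) ≤ LinearMap.ker η := fun a ha => by
    rw [LinearMap.mem_ker, LinearMap.comp_apply, Submodule.mkQ_apply, Submodule.Quotient.mk_eq_zero, ADK,
      Submodule.mem_comap, Submodule.mem_sup] at ha
    obtain ⟨a', ha', _, ⟨z, rfl⟩, hsum⟩ := ha
    have hval : ∀ P : Place k K, a' P + z = if h : P ∈ S then a ⟨P, h⟩ else 0 := fun P => by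
      have := congrFun hsum P
      rw [Pi.add_apply] at this
      rw [show z = diag k K z P from rfl, this]
      show (if h : P ∈ S then (LinearMap.proj ⟨P, h⟩ : (S → K) →ₗ[k] K) else 0) a = _
      split_ifs <;> rfl
    have ha'1 : ∀ P : Place k K, P.1 (a' P) ≤ 1 := fun P => by
      have := ha' P; rwa [Finsupp.zero_apply, exp_zero] at this
    have hzR : z ∈ R := fun P hP => by
      have := hval P
      rw [dif_neg hP] at this
      rw [eq_neg_of_add_eq_zero_right this, Valuation.map_neg]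
      exact ha'1 P
    rw [LinearMap.mem_ker, LinearMap.comp_apply, Submodule.mkQ_apply, Submodule.Quotient.mk_eq_zero]
    have : Ψ a = (Ψ a - Θ z) + Θ z := by abel
    rw [this]
    refine add_mem (Submodule.mem_sup_left fun P _ => ?_) (Submodule.mem_sup_right ⟨z, hzR, rfl⟩)
    show φ P.1 (a P) - φ P.1 z ∈ ordGE k (F P.1) 0
    have := hval P.1
    rw [dif_pos P.2] at this
    rw [mem_ordGE_iff, ← map_sub, (hφ P.1).1, neg_zero, exp_zero,
      show a P = a' P.1 + z from this.symm, add_sub_cancel_right]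
    exact ha'1 _
  have : FiniteDimensional k ((S → K) ⧸ LinearMap.ker ((ADK (0 : Divisor k K)).mkQ ∘ₗ ext₀)) :=
    Module.Finite.equiv (LinearMap.quotKerEquivRange _).symm
  have : FiniteDimensional k ((∀ P : S, W P) ⧸ (Submodule.pi Set.univ A ⊔ Dd)) :=
    Module.Finite.of_surjective ((LinearMap.ker _).liftQ η hker) fun y => by
      obtain ⟨a, ha⟩ := hsurj y
      exact ⟨Submodule.Quotient.mk a, ha⟩
  refine tate_global (fun x => ?_) hfD hgD htot
  funext i
  rw [hF]
  show φ i.1 u * (φ i.1 v * x i) = φ i.1 v * blockMap M x i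
  rw [hF]; ring

end Groth.Agent.FunFldLib
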