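import Groth.Agent.FunFld.ResiduePairing

/-!
The divisor of a pulled back differential and Riemann–Hurwitz, allowing a bigger constant field above.
-/

namespace Groth.Agent.FunFldLib

open FunFld WithZero
open scoped LaurentSeries

set_option linter.unusedSectionVars false
attribute [local instance 2000] Algebra.toModule

section Ratio

variable {k k' K K' : Type*} [Field k] [Field k'] [Field K] [Field K'] [Algebra k k'] [Algebra k K]
  [Algebra K K'] [Algebra k' K'] [Algebra k K'] [IsScalarTower k k' K'] [IsScalarTower k K K']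

/-- If `dx` spans the differentials of `K/k` it spans those of a separable extension over any larger base. -/
theorem kaehler_ratio_ext [Algebra.IsSeparable K K'] {x : K}
    (hr : ∀ u : K, ∃ a : K, KaehlerDifferential.D k K u = a • KaehlerDifferential.D k K x) (t : K') :
    ∃ a : K', KaehlerDifferential.D k' K' t = a • KaehlerDifferential.D k' K' (algebraMap K K' x) := by
  suffices KaehlerDifferential.D k' K' t ∈
      Submodule.span K' {KaehlerDifferential.D k' K' (algebraMap K K' x)} by
    obtain ⟨a, ha⟩ := Submodule.mem_span_singleton.1 this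
    exact ⟨a, ha.symm⟩
  by_contra hmem
  obtain ⟨l, hl, hl0⟩ := Submodule.exists_dual_map_eq_bot_of_notMem hmem inferInstance
  set δ' : Derivation k' K' K' := l.compDer (KaehlerDifferential.D k' K')
  set δ : Derivation k K' K' := δ'.restrictScalars k
  have hx0 : δ (algebraMap K K' x) = 0 := by
    have := Submodule.mem_map_of_mem (f := l)
      (Submodule.mem_span_singleton_self (KaehlerDifferential.D k' K' (algebraMap K K' x)))
    rw [hl0, Submodule.mem_bot] at this
    exact this
  have hzK : ∀ u : K, δ (algebraMap K K' u) = 0 := fun u => by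
    obtain ⟨a, ha⟩ := hr u
    have h := congrArg (fun ω => (δ.compAlgebraMap K).liftKaehlerDifferential ω) ha
    simp only [map_smul, Derivation.liftKaehlerDifferential_comp_D] at h
    rw [show (δ.compAlgebraMap K) u = δ (algebraMap K K' u) from rfl,
      show (δ.compAlgebraMap K) x = δ (algebraMap K K' x) from rfl, hx0, smul_zero] at h
    exact h
  let δK : Derivation K K' K' := Derivation.mk'
    { toFun := fun u => δ u
      map_add' := map_add _
      map_smul' := fun a u => by
        show δ (a • u) = a • δ u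
        rw [Algebra.smul_def, Derivation.leibniz, hzK, smul_zero, add_zero, smul_eq_mul, Algebra.smul_def] }
    fun u w => Derivation.leibniz δ u w
  have : Algebra.FormallyUnramified K K' := Algebra.FormallyUnramified.of_isSeparable K K'
  have h0 : δK t = 0 := by
    rw [← Derivation.liftKaehlerDifferential_comp_D δK t,
      Subsingleton.elim (KaehlerDifferential.D K K' t) 0, map_zero]
  exact hl h0

variable [FiniteDimensional k k']

variable (k k' K') in
/-- A place over a finite extension of the base is a place over the base. -/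
noncomputable def placeRestrict : Place k' K' ≃ Place k K' where
  toFun Q := ⟨Q.1, fun c => by rw [IsScalarTower.algebraMap_apply k k' K']; exact Q.2.1 _, Q.2.2⟩
  invFun R := ⟨R.1, fun c => val_algebraic_le_one R
    ((Algebra.IsIntegral.isIntegral (R := k) c).map (IsScalarTower.toAlgHom k k' K')), R.2.2⟩
  left_inv _ := rfl
  right_inv _ := rfl

theorem deg_placeRestrict (Q : Place k' K') :
    (placeRestrict k k' K' Q).deg = Module.finrank k k' * Q.deg := by
  show @Module.finrank k (IsLocalRing.ResidueField Q.O) _ _ (@Algebra.toModule _ _ _ _ (Place.algRes (placeRestrict k k' K' Q))) =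
    _ * @Module.finrank k' (IsLocalRing.ResidueField Q.O) _ _ _
  letI : Algebra k (IsLocalRing.ResidueField Q.O) := Place.algRes (placeRestrict k k' K' Q)
  have : @IsScalarTower k k' (IsLocalRing.ResidueField Q.O) Algebra.toSMul Algebra.toSMul Algebra.toSMul := IsScalarTower.of_algebraMap_eq fun c =>
    congrArg (IsLocalRing.residue Q.O) (Subtype.ext (IsScalarTower.algebraMap_apply k k' K' c))
  exact (Module.finrank_mul_finrank k k' (IsLocalRing.ResidueField Q.O)).symm

theorem riemannHurwitz [FiniteDimensional K K'] [Algebra.IsSeparable K K']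
    (hK : IsFunctionField k K) (hg : IsGeometric k K) (hK' : IsFunctionField k' K')
    {F : Place k K → Type*} [∀ P, Field (F P)] [∀ P, Algebra k (F P)]
    {φ : ∀ P, K →ₐ[k] (F P)⸨X⸩} (hφ : ∀ P, LocRes.IsExpansionAt P.1 (φ P))
    {F' : Place k' K' → Type*} [∀ Q, Field (F' Q)] [∀ Q, Algebra k' (F' Q)]
    {ψ : ∀ Q, K' →ₐ[k'] (F' Q)⸨X⸩} (hψ : ∀ Q, LocRes.IsExpansionAt Q.1 (ψ Q))
    (bel : Place k' K' → Place k K) (e : Place k' K' → ℕ)
    (he : ∀ Q (z : K), Q.1 (algebraMap K K' z) = (bel Q).1 z ^ e Q)
    {x : K} (hx : ∀ P, LocRes.vDiff (φ P) 1 x ≠ 0) :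
    (Function.support fun Q => LocRes.diffExp (φ (bel Q)) (ψ Q) (e Q) x).Finite ∧
    (Module.finrank k k' : ℤ) * (2 * (genus k' K' : ℤ) - 2) =
      (Module.finrank K K' : ℤ) * (2 * (genus k K : ℤ) - 2) +
      (Module.finrank k k' : ℤ) * ∑ᶠ Q, LocRes.diffExp (φ (bel Q)) (ψ Q) (e Q) x * (Q.deg : ℤ) := by
  classical
  obtain ⟨P₀⟩ := exists_place hK
  have hr := exists_kaehler_ratio hK hg (kaehler_ne_of_vDiff (hx P₀))
  have hr' := kaehler_ratio_ext (k' := k') (K' := K') hr
  have : ∀ P, FiniteDimensional k (F P) := fun P => by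
    obtain ⟨r, -⟩ := exists_residue_equiv (K' := K) (hφ P)
    have : FiniteDimensional k (IsLocalRing.ResidueField P.O) := Module.finite_of_finrank_pos (deg_pos hK P)
    exact r.toLinearEquiv.finiteDimensional
  have : ∀ Q, FiniteDimensional k' (F' Q) := fun Q => by
    obtain ⟨r, -⟩ := exists_residue_equiv (K' := K') (hψ Q)
    have : FiniteDimensional k' (IsLocalRing.ResidueField Q.O) := Module.finite_of_finrank_pos (deg_pos hK' Q)
    exact r.toLinearEquiv.finiteDimensional
  obtain ⟨-, hne, C, hC, hCP⟩ := pairing_props hK hφ hr (one_ne_zero (α := K))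
  obtain ⟨-, hne', C', hC', hCQ⟩ := pairing_props hK' hψ hr' (one_ne_zero (α := K'))
  have hdC := (canonical_ell_deg hK ⟨_, hne, hC⟩).2
  have hdC' := (canonical_ell_deg hK' ⟨_, hne', hC'⟩).2
  set τ := placeRestrict k k' K'
  set N : Divisor k' K' := Finsupp.equivMapDomain τ.symm (conorm K' C)
  have hN : ∀ Q, N Q = conorm K' C (τ Q) := fun Q => by
    rw [Finsupp.equivMapDomain_apply, Equiv.symm_symm]
  have hd : ∀ Q, LocRes.diffExp (φ (bel Q)) (ψ Q) (e Q) x = (C' - N) Q := fun Q => by
    have ho : IsOverWith (τ Q) (bel Q) (e Q) := he Q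
    rw [LocRes.diffExp, Finsupp.sub_apply, hCQ, hN, conorm_apply hK,
      (isOver_iff_below (τ Q) (bel Q)).1 ⟨_, ho⟩, ramIdx_eq ho, hCP]
    ring
  have hdegN : (Module.finrank k k' : ℤ) * N.deg = Module.finrank K K' * C.deg := by
    rw [← deg_conorm hK, Divisor.deg, Divisor.deg, Finsupp.sum_equivMapDomain, Finsupp.mul_sum]
    refine Finsupp.sum_congr fun R _ => ?_
    have h := deg_placeRestrict (k := k) (τ.symm R)
    rw [show placeRestrict k k' K' (τ.symm R) = R from τ.apply_symm_apply R] at h
    rw [h]; push_cast; ring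
  constructor
  · refine (C' - N).hasFiniteSupport.subset fun Q hQ => ?_
    rwa [Function.mem_support, hd] at hQ
  have hsum : ∑ᶠ Q, LocRes.diffExp (φ (bel Q)) (ψ Q) (e Q) x * (Q.deg : ℤ) = (C' - N).deg := by
    rw [Divisor.deg, Finsupp.sum, finsum_eq_sum_of_support_subset]
    · exact Finset.sum_congr rfl fun Q _ => by rw [hd]
    · intro Q hQ
      rw [Finset.mem_coe, Finsupp.mem_support_iff, ← hd]
      exact left_ne_zero_of_mul hQ
  rw [hdC] at hdegN
  rw [hsum, deg_sub, hdC']
  linear_combination hdegN

end Ratio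

end Groth.Agent.FunFldLib
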