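import Groth.Agent.FunFld.Pencils
import Groth.Prelude.Def_W4c6gradedringsgwSect

/-!
The section ring at a point: leading coefficients at the point give a homomorphism onto the semigroup algebra.
-/

namespace Groth.Agent.FunFldLib

open FunFld WithZero W4c6gradedringsgw
open scoped Classical

variable {k K : Type*} [Field k] [Field K] [Algebra k K]

set_option linter.unusedSectionVars false

/-- The value in `k` of a function integral at a place of degree one (`0` otherwise). -/
noncomputable def resVal (P : Place k K) (y : K) : k :=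
  if h : ∃ c : k, P.1 (y - algebraMap k K c) < 1 then h.choose else 0

theorem resVal_eq {P : Place k K} {y : K} {c : k} (h : P.1 (y - algebraMap k K c) < 1) : resVal P y = c := by
  have hex : ∃ c : k, P.1 (y - algebraMap k K c) < 1 := ⟨c, h⟩
  rw [resVal, dif_pos hex]
  exact sub_const_unique hex.choose_spec h

theorem resVal_of_lt {P : Place k K} {y : K} (h : P.1 y < 1) : resVal P y = 0 :=
  resVal_eq (by simpa using h)

theorem resVal_algebraMap {P : Place k K} (c : k) : resVal P (algebraMap k K c) = c :=
  resVal_eq (by simp)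

theorem mul_zsmul_single (P : Place k K) (n : ℤ) :
    n • (Finsupp.single P 1 : Divisor k K) = Finsupp.single P n := by simp [Finsupp.smul_single]

section

variable [IsAlgClosed k] (hK : IsFunctionField k K) (P : Place k K)

include hK

theorem resVal_spec {y : K} (h : P.1 y ≤ 1) : P.1 (y - algebraMap k K (resVal P y)) < 1 := by
  obtain ⟨c, hc⟩ := exists_sub_const_val_lt_one hK P (deg_eq_one hK P) h
  rwa [resVal_eq hc]

theorem resVal_add {y z : K} (hy : P.1 y ≤ 1) (hz : P.1 z ≤ 1) :
    resVal P (y + z) = resVal P y + resVal P z :=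
  resVal_eq (by
    rw [map_add (algebraMap k K), add_sub_add_comm]
    exact P.1.map_add_lt (resVal_spec hK P hy) (resVal_spec hK P hz))

theorem resVal_mul {y z : K} (hy : P.1 y ≤ 1) (hz : P.1 z ≤ 1) :
    resVal P (y * z) = resVal P y * resVal P z :=
  resVal_eq (by
    rw [show y * z - algebraMap k K (resVal P y * resVal P z) =
      (y - algebraMap k K (resVal P y)) * z +
        algebraMap k K (resVal P y) * (z - algebraMap k K (resVal P z)) by rw [map_mul]; ring]
    refine P.1.map_add_lt ?_ ?_
    · rw [map_mul]; exact lt_of_le_of_lt (mul_le_of_le_one_right' hz) (resVal_spec hK P hy)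
    · rw [map_mul]
      exact lt_of_le_of_lt (mul_le_of_le_one_left' (P.2.1 _)) (resVal_spec hK P hz))

theorem val_lt_one_of_resVal_eq_zero {y : K} (hy : P.1 y ≤ 1) (h : resVal P y = 0) : P.1 y < 1 := by
  simpa [h] using resVal_spec hK P hy

/-- A chosen uniformizer. -/
noncomputable def unif : K := (exists_val_eq P (-1)).choose

omit hK in
theorem val_unif : P.1 (unif P) = exp (-1 : ℤ) := (exists_val_eq P (-1)).choose_spec

/-- The leading coefficient of a member of `L(n P)`. -/
noncomputable def lead (n : ℕ) (a : K) : k := resVal P (a * unif P ^ n)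

omit hK in
theorem val_mul_unif {n : ℕ} {a : K} {m : ℤ} (ha : P.1 a ≤ exp m) :
    P.1 (a * unif P ^ n) ≤ exp (m - n) := by
  rw [map_mul, map_pow, val_unif, ← exp_nsmul, sub_eq_add_neg, exp_add]
  simpa using mul_le_mul_left ha (exp (-(n : ℤ)))

omit hK in
theorem val_lead_le {n : ℕ} {a : K} (ha : a ∈ L (Finsupp.single P (n : ℤ))) :
    P.1 (a * unif P ^ n) ≤ 1 := by
  have h := ha P
  rw [Finsupp.single_eq_same] at h
  simpa using val_mul_unif P (n := n) h

theorem lead_eq_zero_iff {n : ℕ} {a : K} (ha : a ∈ L (Finsupp.single P (n : ℤ))) :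
    lead P n a = 0 ↔ a ∈ L (Finsupp.single P ((n : ℤ) - 1)) := by
  constructor
  · intro h R
    rcases eq_or_ne R P with rfl | hR
    · rw [Finsupp.single_eq_same]
      rcases eq_or_ne a 0 with rfl | h0
      · simp
      have h1 := val_lt_one_of_resVal_eq_zero hK R (val_lead_le R ha) h
      have hu : unif R ≠ 0 := ne_zero_of_val R (val_unif R)
      rw [val_lt_one_iff R (mul_ne_zero h0 (pow_ne_zero _ hu)), ord_mul R h0 (pow_ne_zero _ hu), ord_pow,
        ord_eq_of_val R (val_unif R)] at h1
      rw [val_le_exp_iff R h0]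
      omega
    · simpa [Finsupp.single_eq_of_ne hR] using ha R
  · intro h
    refine resVal_of_lt ?_
    have h1 := h P
    rw [Finsupp.single_eq_same] at h1
    refine (val_mul_unif P (n := n) h1).trans_lt ?_
    rw [← exp_zero, exp_lt_exp]; omega

theorem lead_add {n : ℕ} {a b : K} (ha : a ∈ L (Finsupp.single P (n : ℤ)))
    (hb : b ∈ L (Finsupp.single P (n : ℤ))) : lead P n (a + b) = lead P n a + lead P n b := by
  rw [lead, add_mul, resVal_add hK P (val_lead_le P ha) (val_lead_le P hb)]; rfl

theorem lead_mul {i j : ℕ} {a b : K} (ha : a ∈ L (Finsupp.single P (i : ℤ)))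
    (hb : b ∈ L (Finsupp.single P (j : ℤ))) : lead P (i + j) (a * b) = lead P i a * lead P j b := by
  rw [lead, pow_add, mul_mul_mul_comm, resVal_mul hK P (val_lead_le P ha) (val_lead_le P hb)]; rfl

theorem lead_smul {n : ℕ} {a : K} (c : k) (ha : a ∈ L (Finsupp.single P (n : ℤ))) :
    lead P n (c • a) = c * lead P n a := by
  rw [lead, Algebra.smul_def, mul_assoc,
    resVal_mul hK P (P.2.1 c) (val_lead_le P ha), resVal_algebraMap]; rfl

omit hK in
theorem lead_zero (n : ℕ) : lead P n (0 : K) = 0 := resVal_of_lt (by simp)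

omit hK in
theorem coeff_mem (p : ↥(sectRing (Finsupp.single P 1 : Divisor k K))) (n : ℕ) :
    (p : Polynomial K).coeff n ∈ L (Finsupp.single P (n : ℤ)) := by
  have h := p.2 n
  rwa [mul_zsmul_single] at h

theorem lead_sum {n : ℕ} {ι : Type*} (s : Finset ι) (f : ι → K)
    (hf : ∀ i ∈ s, f i ∈ L (Finsupp.single P (n : ℤ))) :
    lead P n (∑ i ∈ s, f i) = ∑ i ∈ s, lead P n (f i) := by
  induction s using Finset.induction_on with
  | empty => simp [lead_zero]
  | insert a s ha ih =>
    rw [Finset.sum_insert ha, Finset.sum_insert ha, lead_add hK P (hf a (Finset.mem_insert_self a s))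
      (Submodule.sum_mem _ fun i hi => hf i (Finset.mem_insert_of_mem hi)),
      ih fun i hi => hf i (Finset.mem_insert_of_mem hi)]

/-- The polynomial of leading coefficients. -/
noncomputable def leadFun (p : ↥(sectRing (Finsupp.single P 1 : Divisor k K))) : Polynomial k :=
  ∑ i ∈ (p : Polynomial K).support, Polynomial.monomial i (lead P i ((p : Polynomial K).coeff i))

omit hK in
theorem coeff_leadFun (p : ↥(sectRing (Finsupp.single P 1 : Divisor k K))) (n : ℕ) :
    (leadFun P p).coeff n = lead P n ((p : Polynomial K).coeff n) := by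
  rw [leadFun, Polynomial.finsetSum_coeff]
  simp only [Polynomial.coeff_monomial]
  rw [Finset.sum_ite_eq']
  split_ifs with h
  · rfl
  · rw [Polynomial.notMem_support_iff.1 h, lead_zero]

/-- The leading-coefficient homomorphism. -/
noncomputable def leadHom : ↥(sectRing (Finsupp.single P 1 : Divisor k K)) →ₐ[k] Polynomial k where
  toFun := leadFun P
  map_one' := by
    ext n
    rw [coeff_leadFun, OneMemClass.coe_one, Polynomial.coeff_one, Polynomial.coeff_one]
    split_ifs with h
    · subst h
      rw [lead, pow_zero, mul_one, show (1 : K) = algebraMap k K 1 from (map_one _).symm, resVal_algebraMap]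
    · exact lead_zero P n
  map_zero' := by ext n; rw [coeff_leadFun]; simp [lead_zero]
  map_add' p q := by
    ext n
    rw [Polynomial.coeff_add, coeff_leadFun, coeff_leadFun, coeff_leadFun, Subalgebra.coe_add,
      Polynomial.coeff_add, lead_add hK P (coeff_mem P p n) (coeff_mem P q n)]
  map_mul' p q := by
    ext n
    rw [Polynomial.coeff_mul, coeff_leadFun, Subalgebra.coe_mul, Polynomial.coeff_mul,
      lead_sum hK P _ _ fun x hx => ?_]
    · refine Finset.sum_congr rfl fun x hx => ?_
      rw [coeff_leadFun, coeff_leadFun, ← Finset.mem_antidiagonal.1 hx,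
        lead_mul hK P (coeff_mem P p x.1) (coeff_mem P q x.2)]
    · have h := W4c6gradedringsgw.mul_mem_L (coeff_mem P p x.1) (coeff_mem P q x.2)
      rwa [← Finsupp.single_add, ← Nat.cast_add, Finset.mem_antidiagonal.1 hx] at h
  commutes' c := by
    ext n
    rw [coeff_leadFun, Subalgebra.coe_algebraMap, Polynomial.algebraMap_apply, Polynomial.coeff_C,
      Polynomial.algebraMap_apply, Polynomial.coeff_C]
    split_ifs with h
    · subst h; rw [lead, pow_zero, mul_one, resVal_algebraMap]; rfl
    · exact lead_zero P n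

theorem coeff_leadHom (p : ↥(sectRing (Finsupp.single P 1 : Divisor k K))) (n : ℕ) :
    (leadHom hK P p).coeff n = lead P n ((p : Polynomial K).coeff n) := coeff_leadFun P p n

omit hK in
/-- A homogeneous member. -/
theorem monomial_mem {n : ℕ} {a : K} (ha : a ∈ L (Finsupp.single P (n : ℤ))) :
    Polynomial.monomial n a ∈ sectRing (Finsupp.single P 1 : Divisor k K) := fun i => by
  rw [Polynomial.coeff_monomial, mul_zsmul_single]
  split_ifs with h
  · subst h; exact ha
  · exact zero_mem _

omit hK in
theorem const_mem_L (c : k) (n : ℕ) : algebraMap k K c ∈ L (Finsupp.single P (n : ℤ) : Divisor k K) :=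
  L_mono (Finsupp.single_nonneg.2 (Int.natCast_nonneg n)) (W4c6gradedringsgw.algebraMap_mem_L_zero c)

theorem mem_poleOrders_iff (n : ℕ) : n ∈ poleOrders P ↔ IsPoleOrder P n := by
  rw [isPoleOrder_iff_L_ne hK]
  simp only [poleOrders, Set.mem_ofPred_eq, mul_zsmul_single]
  have hle : L (Finsupp.single P ((n : ℤ) - 1)) ≤ L (Finsupp.single P (n : ℤ) : Divisor k K) :=
    L_mono (Finsupp.single_mono (by omega))
  have := finiteDimensional_L hK (Finsupp.single P (n : ℤ))
  have h1 := ell_le_add_deg hK (Finsupp.single P (n : ℤ)) P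
  rw [single_sub_single, deg_eq_one hK P] at h1
  have h3 := ell_mono hK (Finsupp.single_mono (show (n : ℤ) - 1 ≤ (n : ℤ) by omega) :
    (Finsupp.single P ((n : ℤ) - 1) : Divisor k K) ≤ Finsupp.single P (n : ℤ))
  constructor
  · intro h heq
    have := congrArg (fun S : Submodule k K => Module.finrank k S) heq
    simp only [ell] at h this
    omega
  · intro hne
    have h2 := Submodule.finrank_lt_finrank_of_lt (lt_of_le_of_ne hle hne.symm)
    simp only [ell] at h1 h3 ⊢
    omega

theorem exists_lead_eq_one {n : ℕ} (hn : n ∈ poleOrders P) :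
    ∃ a ∈ L (Finsupp.single P (n : ℤ)), lead P n a = 1 := by
  obtain ⟨x, hx0, hx, hxo⟩ := (mem_poleOrders_iff hK P n).1 hn
  have h : lead P n x ≠ 0 := fun h => by
    have := (mem_L_iff hx0).1 ((lead_eq_zero_iff hK P hx).1 h) P
    rw [Finsupp.single_eq_same] at this
    omega
  exact ⟨(lead P n x)⁻¹ • x, Submodule.smul_mem _ _ hx, by rw [lead_smul hK P _ hx, inv_mul_cancel₀ h]⟩

theorem lead_eq_zero_of_notMem {n : ℕ} (hn : n ∉ poleOrders P) {a : K}
    (ha : a ∈ L (Finsupp.single P (n : ℤ))) : lead P n a = 0 := by
  rw [lead_eq_zero_iff hK P ha]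
  have hn' : ¬ IsPoleOrder P n := fun h => hn ((mem_poleOrders_iff hK P n).2 h)
  rw [isPoleOrder_iff_L_ne hK, not_ne_iff] at hn'
  exact hn' ▸ ha

theorem closure_poleOrders : (AddSubmonoid.closure (poleOrders P) : Set ℕ) = poleOrders P := by
  refine Set.Subset.antisymm ?_ AddSubmonoid.subset_closure
  intro n hn
  exact AddSubmonoid.closure_induction (motive := fun n _ => n ∈ poleOrders P) (fun _ h => h)
    ((mem_poleOrders_iff hK P 0).2 (isPoleOrder_zero hK P))
    (fun a b _ _ ha hb => (mem_poleOrders_iff hK P _).2
      (((mem_poleOrders_iff hK P a).1 ha).add ((mem_poleOrders_iff hK P b).1 hb))) hn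

theorem range_leadHom :
    ((leadHom hK P).range : Set (Polynomial k)) = {q | ∀ n, q.coeff n ≠ 0 → n ∈ poleOrders P} := by
  refine Set.Subset.antisymm ?_ fun q hq => ?_
  · rintro _ ⟨p, rfl⟩ n hn
    by_contra h
    exact hn ((coeff_leadHom hK P p n).trans (lead_eq_zero_of_notMem hK P h (coeff_mem P p n)))
  · rw [q.as_sum_support]
    refine sum_mem fun n hn => ?_
    obtain ⟨a, ha, ha1⟩ := exists_lead_eq_one hK P (hq n (Polynomial.mem_support_iff.1 hn))
    refine ⟨⟨_, monomial_mem P (Submodule.smul_mem _ (q.coeff n) ha)⟩, Polynomial.ext fun i => ?_⟩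
    refine (coeff_leadHom hK P _ i).trans ?_
    simp only [Polynomial.coeff_monomial]
    split_ifs with h
    · subst h; rw [lead_smul hK P _ ha, ha1, mul_one]
    · exact lead_zero P i

theorem L_single_one (hg : 1 ≤ genus k K) : L (Finsupp.single P 1 : Divisor k K) = 1 := by
  rw [← L_zero hK]
  have := finiteDimensional_L hK (Finsupp.single P 1)
  refine (Submodule.eq_of_le_of_finrank_le (L_mono (Finsupp.single_nonneg.2 zero_le_one)) ?_).symm
  have h1 := ell_single_eq_one hK (by omega) (deg_eq_one hK P)
  have h2 := ell_zero hK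
  simp only [ell] at h1 h2
  omega

theorem one_notMem_poleOrders (hg : 1 ≤ genus k K) : 1 ∉ poleOrders P := by
  intro h
  obtain ⟨x, hx0, hx, hxo⟩ := (mem_poleOrders_iff hK P 1).1 h
  push_cast at hx hxo
  rw [L_single_one hK P hg, ← L_zero hK] at hx
  have := (mem_L_iff hx0).1 hx P
  simp at this
  omega

theorem coeff_one_mem_range (hg : 1 ≤ genus k K) (p : ↥(sectRing (Finsupp.single P 1 : Divisor k K))) :
    ∃ c : k, algebraMap k K c = (p : Polynomial K).coeff 1 := by
  have h := coeff_mem P p 1
  rw [Nat.cast_one, L_single_one hK P hg, Submodule.mem_one] at h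
  exact h

omit hK in
theorem T_mem : Polynomial.X ∈ sectRing (Finsupp.single P 1 : Divisor k K) := by
  have h := monomial_mem P (n := 1) (a := (1 : K)) (by simpa using const_mem_L P (1 : k) 1)
  rwa [Polynomial.monomial_one_one_eq_X] at h

/-- The generator `T` of degree one. -/
noncomputable def Tel : ↥(sectRing (Finsupp.single P 1 : Divisor k K)) := ⟨Polynomial.X, T_mem P⟩

theorem mem_ker_leadHom_iff (p : ↥(sectRing (Finsupp.single P 1 : Divisor k K))) :
    p ∈ RingHom.ker (leadHom hK P) ↔ ∃ q, p = Tel P * q := by
  rw [RingHom.mem_ker]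
  constructor
  · intro h
    have h' : ∀ n : ℕ, (p : Polynomial K).coeff n ∈ L (Finsupp.single P ((n : ℤ) - 1)) := fun n =>
      (lead_eq_zero_iff hK P (coeff_mem P p n)).1 (by rw [← coeff_leadHom hK P p n, h, Polynomial.coeff_zero])
    have h0 : (p : Polynomial K).coeff 0 = 0 := by
      have := h' 0
      rwa [L_eq_bot_of_deg_neg hK (by rw [deg_single, deg_eq_one hK P]; norm_num), Submodule.mem_bot] at this
    refine ⟨⟨(p : Polynomial K).divX, fun n => ?_⟩, Subtype.ext ?_⟩
    · rw [Polynomial.coeff_divX, mul_zsmul_single]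
      simpa using h' (n + 1)
    · show (p : Polynomial K) = Polynomial.X * (p : Polynomial K).divX
      conv_lhs => rw [← Polynomial.X_mul_divX_add (p : Polynomial K), h0, map_zero, add_zero]
  · rintro ⟨q, rfl⟩
    have hT : leadHom hK P (Tel P) = 0 := Polynomial.ext fun n => by
      rw [coeff_leadHom, Polynomial.coeff_zero, Tel]
      simp only [Polynomial.coeff_X]
      split_ifs with h
      · subst h
        refine (lead_eq_zero_iff hK P (by simpa using const_mem_L P (1 : k) 1)).2 ?_
        simpa using const_mem_L P (1 : k) 0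
      · exact lead_zero P n
    rw [map_mul, hT, zero_mul]

theorem ker_leadHom : RingHom.ker (leadHom hK P) = Ideal.span {Tel P} :=
  Ideal.ext fun p => by
    rw [mem_ker_leadHom_iff, Ideal.mem_span_singleton]
    exact Iff.rfl

omit hK in
theorem Tel_ne_zero : Tel P ≠ (0 : ↥(sectRing (Finsupp.single P 1 : Divisor k K))) :=
  fun h => Polynomial.X_ne_zero (congrArg Subtype.val h)

theorem prime_Tel : Prime (Tel P) := by
  rw [← Ideal.span_singleton_prime (Tel_ne_zero P), ← ker_leadHom hK P]
  exact RingHom.ker_isPrime _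

theorem nonempty_quotient_equiv :
    Nonempty ((↥(sectRing (Finsupp.single P 1 : Divisor k K)) ⧸ Ideal.span {Tel P}) ≃ₐ[k]
      AddMonoidAlgebra k ↥(AddSubmonoid.closure (poleOrders P))) := by
  set S := AddSubmonoid.closure (poleOrders P)
  let ι : AddMonoidAlgebra k S →ₐ[k] Polynomial k :=
    (Polynomial.toFinsuppIsoAlg k).symm.toAlgHom.comp (AddMonoidAlgebra.mapDomainAlgHom k k S.subtype)
  have hι : Function.Injective ι :=
    (Polynomial.toFinsuppIsoAlg k).symm.injective.comp
      (AddMonoidAlgebra.mapDomain_injective Subtype.val_injective)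
  have hs : ∀ (s : S) (c : k), ι (AddMonoidAlgebra.single s c) = Polynomial.monomial (s : ℕ) c := fun s c => by
    show (Polynomial.toFinsuppIsoAlg k).symm (AddMonoidAlgebra.mapDomain _ (AddMonoidAlgebra.single s c)) = _
    rw [AddMonoidAlgebra.mapDomain_single]
    exact Polynomial.ofFinsupp_single _ _
  have hcl := closure_poleOrders hK P
  have hrange : (leadHom hK P).range = ι.range := by
    refine SetLike.coe_injective ((range_leadHom hK P).trans (Set.Subset.antisymm (fun q hq => ?_) ?_))
    · rw [q.as_sum_support]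
      refine sum_mem fun n hn => ?_
      exact ⟨AddMonoidAlgebra.single ⟨n, AddSubmonoid.subset_closure (hq n (Polynomial.mem_support_iff.1 hn))⟩
        (q.coeff n), hs _ _⟩
    · rintro _ ⟨f, rfl⟩ n hn
      by_contra hnH
      apply hn
      show (ι f).coeff n = 0
      clear hn
      induction f using AddMonoidAlgebra.induction_linear with
      | zero => simp
      | add f g hf hg => rw [map_add, Polynomial.coeff_add, hf, hg, add_zero]
      | single s c =>
        rw [hs, Polynomial.coeff_monomial, if_neg]
        rintro rfl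
        exact hnH (hcl.subset s.2)
  exact ⟨(Ideal.quotientEquivAlgOfEq k (ker_leadHom hK P).symm).trans
    ((Ideal.quotientKerEquivRange (leadHom hK P)).trans
      ((Subalgebra.equivOfEq _ _ hrange).trans (AlgEquiv.ofInjective ι hι).symm))⟩

/-! ### The irrelevant ideal -/

theorem finite_minGens (hg : 1 ≤ genus k K) : (minGens (poleOrders P)).Finite := by
  refine (Finset.range (4 * genus k K + 1)).finite_toSet.subset fun h hh => ?_
  obtain ⟨-, -, hmin⟩ := hh
  rw [Finset.coe_range, Set.mem_Iio]
  by_contra hlt
  push Not at hlt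
  have hbig : ∀ n : ℕ, 2 * genus k K ≤ n → n ∈ poleOrders P := fun n hn =>
    (mem_poleOrders_iff hK P n).2 (isPoleOrder_of_two_genus_le hK (deg_eq_one hK P) hn)
  exact hmin _ (hbig (2 * genus k K) le_rfl) _ (hbig (h - 2 * genus k K) (by omega)) (by omega) (by omega) (by omega)

theorem spanFinrank_irrelevant (hg : 1 ≤ genus k K) :
    (RingHom.ker (Polynomial.constantCoeff.comp
      (sectRing (Finsupp.single P 1 : Divisor k K)).val.toRingHom)).spanFinrank =
      (minGens (poleOrders P)).ncard + 1 := by
  set R := sectRing (Finsupp.single P 1 : Divisor k K)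
  set m := RingHom.ker (Polynomial.constantCoeff.comp R.val.toRingHom) with hm
  have hmem : ∀ p : R, p ∈ m ↔ (p : Polynomial K).coeff 0 = 0 := fun p => by
    rw [hm, RingHom.mem_ker]
    rfl
  set M := minGens (poleOrders P)
  have hMfin : M.Finite := finite_minGens hK P hg
  have hlift : ∀ n : ℕ, ∃ a : K, a ∈ L (Finsupp.single P (n : ℤ)) ∧ (n ∈ poleOrders P → lead P n a = 1) := by
    intro n
    by_cases hn : n ∈ poleOrders P
    · obtain ⟨a, ha, ha1⟩ := exists_lead_eq_one hK P hn; exact ⟨a, ha, fun _ => ha1⟩
    · exact ⟨0, zero_mem _, fun h => absurd h hn⟩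
  choose a ha ha1 using hlift
  let x : ℕ → R := fun n => ⟨Polynomial.monomial n (a n), monomial_mem P (ha n)⟩
  let G : Set R := insert (Tel P) (x '' M)
  -- the generators generate
  have hgen : Ideal.span G = m := by
    refine le_antisymm (Ideal.span_le.2 ?_) ?_
    · rintro _ (rfl | ⟨n, hn, rfl⟩)
      · exact (hmem _).2 (by simp [Tel])
      · refine (hmem _).2 ?_
        show (Polynomial.monomial n (a n)).coeff 0 = 0
        rw [Polynomial.coeff_monomial, if_neg hn.2.1]
    have hx : ∀ n : ℕ, 1 ≤ n → n ∈ poleOrders P → ∀ (hn : ∀ j, 1 ≤ j → j < n → ∀ b : K, ∀ hb : b ∈ L (Finsupp.single P (j : ℤ)),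
        (⟨Polynomial.monomial j b, monomial_mem P hb⟩ : R) ∈ Ideal.span G),
        ∃ b : K, ∃ hb : b ∈ L (Finsupp.single P (n : ℤ)), lead P n b = 1 ∧
          (⟨Polynomial.monomial n b, monomial_mem P hb⟩ : R) ∈ Ideal.span G := by
      intro n hn1 hnH ih
      by_cases hM : n ∈ M
      · exact ⟨a n, ha n, ha1 n hnH, Ideal.subset_span (Or.inr ⟨n, hM, rfl⟩)⟩
      · obtain ⟨i, hi, j, hj, hi0, hj0, hij⟩ : ∃ i ∈ poleOrders P, ∃ j ∈ poleOrders P, i ≠ 0 ∧ j ≠ 0 ∧ i + j = n := by
          by_contra hc
          push Not at hc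
          exact hM ⟨hnH, by omega, fun i hi j hj h1 h2 => hc i hi j hj h1 h2⟩
        subst hij
        have hab : a i * a j ∈ L (Finsupp.single P ((i + j : ℕ) : ℤ)) := by
          rw [Nat.cast_add, Finsupp.single_add]; exact W4c6gradedringsgw.mul_mem_L (ha i) (ha j)
        refine ⟨a i * a j, hab, by rw [lead_mul hK P (ha i) (ha j), ha1 i hi, ha1 j hj, one_mul], ?_⟩
        have e : (⟨Polynomial.monomial (i + j) (a i * a j), monomial_mem P hab⟩ : R) = x i * x j :=
          Subtype.ext (Polynomial.monomial_mul_monomial i j (a i) (a j)).symm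
        rw [e]
        exact Ideal.mul_mem_left _ _ (ih j (by omega) (by omega) (a j) (ha j))
    have key : ∀ n : ℕ, 1 ≤ n → ∀ b : K, ∀ hb : b ∈ L (Finsupp.single P (n : ℤ)),
        (⟨Polynomial.monomial n b, monomial_mem P hb⟩ : R) ∈ Ideal.span G := by
      intro n
      induction n using Nat.strong_induction_on with
      | _ n ih =>
        intro hn1 b hb
        have hlow : ∀ c : K, ∀ hc : c ∈ L (Finsupp.single P (n : ℤ)), lead P n c = 0 →
            (⟨Polynomial.monomial n c, monomial_mem P hc⟩ : R) ∈ Ideal.span G := by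
          intro c hc h0
          have hc' : c ∈ L (Finsupp.single P (((n - 1 : ℕ)) : ℤ)) := by
            have := (lead_eq_zero_iff hK P hc).1 h0
            rwa [show ((n - 1 : ℕ) : ℤ) = (n : ℤ) - 1 by omega]
          have e : (⟨Polynomial.monomial n c, monomial_mem P hc⟩ : R) =
              ⟨Polynomial.monomial (n - 1) c, monomial_mem P hc'⟩ * Tel P := by
            refine Subtype.ext ?_
            show Polynomial.monomial n c = Polynomial.monomial (n - 1) c * Polynomial.X
            rw [Polynomial.monomial_mul_X]; congr; omega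
          rw [e]
          exact Ideal.mul_mem_left _ _ (Ideal.subset_span (Or.inl rfl))
        by_cases hnH : n ∈ poleOrders P
        · obtain ⟨u, hu, hu1, huG⟩ := hx n hn1 hnH fun j hj1 hj => ih j hj hj1
          have hc : b - lead P n b • u ∈ L (Finsupp.single P (n : ℤ)) :=
            Submodule.sub_mem _ hb (Submodule.smul_mem _ _ hu)
          have h0 : lead P n (b - lead P n b • u) = 0 := by
            rw [sub_eq_add_neg, ← neg_smul, lead_add hK P hb (Submodule.smul_mem _ _ hu), lead_smul hK P _ hu, hu1]
            ring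
          have e : (⟨Polynomial.monomial n b, monomial_mem P hb⟩ : R) =
              ⟨Polynomial.monomial n (b - lead P n b • u), monomial_mem P hc⟩ +
                lead P n b • ⟨Polynomial.monomial n u, monomial_mem P hu⟩ := by
            refine Subtype.ext ?_
            show Polynomial.monomial n b = Polynomial.monomial n _ + lead P n b • Polynomial.monomial n u
            rw [Polynomial.smul_monomial, ← map_add, sub_add_cancel]
          rw [e]
          exact add_mem (hlow _ hc h0) (by
            rw [Algebra.smul_def]; exact Ideal.mul_mem_left _ _ huG)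
        · exact hlow b hb (lead_eq_zero_of_notMem hK P hnH hb)
    intro p hp
    have e : p = ∑ n ∈ (p : Polynomial K).support,
        (⟨Polynomial.monomial n ((p : Polynomial K).coeff n), monomial_mem P (coeff_mem P p n)⟩ : R) := by
      refine Subtype.ext ?_
      rw [AddSubmonoidClass.coe_finsetSum]
      exact (p : Polynomial K).as_sum_support
    rw [e]
    refine sum_mem fun n hn => key n ?_ _ (coeff_mem P p n)
    by_contra h
    rw [show n = 0 by omega, Polynomial.mem_support_iff] at hn
    exact hn ((hmem p).1 hp)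
  have hMone : (1 : ℕ) ∉ M := fun h => one_notMem_poleOrders hK P hg h.1
  have hGfin : G.Finite := (hMfin.image x).insert _
  have hupper : m.spanFinrank ≤ M.ncard + 1 := by
    rw [← hgen]
    refine (Submodule.spanFinrank_span_le_ncard_of_finite hGfin).trans ?_
    exact (Set.ncard_insert_le _ _).trans (Nat.add_le_add_right (Set.ncard_image_le hMfin) 1)
  refine le_antisymm hupper ?_
  -- lower bound: the coefficients in the minimal degrees kill `m ^ 2`
  have := hMfin.fintype
  let N := Option M
  let deg' : N → ℕ := fun o => o.elim 1 fun h => h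
  let cf : R → N → k := fun p o => o.elim (resVal P ((p : Polynomial K).coeff 1)) fun h => lead P h ((p : Polynomial K).coeff h)
  have hc1 : ∀ p : R, algebraMap k K (resVal P ((p : Polynomial K).coeff 1)) = (p : Polynomial K).coeff 1 :=
    fun p => by
      obtain ⟨c, hc⟩ := coeff_one_mem_range hK P hg p
      rw [← hc, resVal_algebraMap]
  have hval1 : ∀ p : R, P.1 ((p : Polynomial K).coeff 1) ≤ 1 := fun p => by
    rw [← hc1 p]; exact P.2.1 _
  have hadd : ∀ p q : R, cf (p + q) = cf p + cf q := fun p q => funext fun o => by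
    rcases o with _ | h
    · show resVal P (((p + q : R) : Polynomial K).coeff 1) = _
      rw [Subalgebra.coe_add, Polynomial.coeff_add, resVal_add hK P (hval1 p) (hval1 q)]; rfl
    · show lead P h (((p + q : R) : Polynomial K).coeff h) = _
      rw [Subalgebra.coe_add, Polynomial.coeff_add, lead_add hK P (coeff_mem P p h) (coeff_mem P q h)]; rfl
  -- a product with a member of `m` only sees the constant term
  have hmul : ∀ (r g : R), g ∈ m → ∀ o, cf (r * g) o = lead P 0 ((r : Polynomial K).coeff 0) * cf g o := by
    intro r g hg o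
    have hg0 := (hmem g).1 hg
    have hr0 : (r : Polynomial K).coeff 0 = algebraMap k K (lead P 0 ((r : Polynomial K).coeff 0)) := by
      have h := coeff_mem P r 0
      rw [Nat.cast_zero, Finsupp.single_zero, L_zero hK, Submodule.mem_one] at h
      obtain ⟨c, hc⟩ := h
      rw [← hc, lead, pow_zero, mul_one, resVal_algebraMap]
    rcases o with _ | ⟨h, hh⟩
    · show resVal P (((r * g : R) : Polynomial K).coeff 1) = _ * resVal P _
      rw [Subalgebra.coe_mul, Polynomial.coeff_mul,
        show Finset.antidiagonal 1 = {((0 : ℕ), 1), (1, 0)} by decide,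
        Finset.sum_insert (by simp), Finset.sum_singleton, hg0, mul_zero, add_zero]
      conv_lhs => rw [hr0]
      rw [resVal_mul hK P (P.2.1 _) (hval1 g), resVal_algebraMap]
    · show lead P h (((r * g : R) : Polynomial K).coeff h) = _ * lead P h _
      rw [Subalgebra.coe_mul, Polynomial.coeff_mul, lead_sum hK P _ _ fun y hy => ?_]
      · rw [Finset.sum_eq_single (0, h)]
        · rw [hr0]
          rw [← Algebra.smul_def, lead_smul hK P _ (coeff_mem P g h), ← hr0]
        · rintro ⟨i, j⟩ hy hne
          have hij : i + j = h := Finset.mem_antidiagonal.1 hy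
          rcases eq_or_ne j 0 with rfl | hj0
          · show lead P h ((r : Polynomial K).coeff i * (g : Polynomial K).coeff 0) = 0
            rw [hg0, mul_zero, lead_zero]
          · have hi0 : i ≠ 0 := fun h0 => hne (Prod.ext h0 (by omega))
            show lead P h ((r : Polynomial K).coeff i * (g : Polynomial K).coeff j) = 0
            rw [← hij, lead_mul hK P (coeff_mem P r i) (coeff_mem P g j)]
            by_cases hiH : i ∈ poleOrders P
            · have hjH : j ∉ poleOrders P := fun hjH => hh.2.2 i hiH j hjH hi0 hj0 hij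
              rw [lead_eq_zero_of_notMem hK P hjH (coeff_mem P g j), mul_zero]
            · rw [lead_eq_zero_of_notMem hK P hiH (coeff_mem P r i), zero_mul]
        · intro h0; exact absurd (Finset.mem_antidiagonal.2 (zero_add h)) h0
      · have h' := W4c6gradedringsgw.mul_mem_L (coeff_mem P r y.1) (coeff_mem P g y.2)
        rwa [← Finsupp.single_add, ← Nat.cast_add, Finset.mem_antidiagonal.1 hy] at h'
  have hfg : Submodule.FG m := hgen ▸ Submodule.fg_span hGfin
  obtain ⟨s, hscard, hs⟩ := hfg.exists_span_finset_card_eq_spanFinrank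
  have hsm : ∀ g ∈ s, g ∈ m := fun g hg => hs ▸ Submodule.subset_span hg
  set W : Submodule k (N → k) := Submodule.span k ((s.image cf : Finset (N → k)) : Set (N → k))
  have hW : ∀ p ∈ m, cf p ∈ W := by
    intro p hp
    rw [← hs, Submodule.mem_span_finset] at hp
    obtain ⟨r, -, rfl⟩ := hp
    have hzero : cf 0 = 0 := funext fun o => by
      rcases o with _ | h
      · exact resVal_of_lt (by simp)
      · simp [cf, lead_zero]
    let cfh : R →+ (N → k) := { toFun := cf, map_zero' := hzero, map_add' := hadd }
    show cfh _ ∈ W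
    rw [map_sum]
    refine Submodule.sum_mem _ fun g hg => ?_
    have : cfh (r g • g) = lead P 0 ((r g : Polynomial K).coeff 0) • cf g := funext fun o => hmul (r g) g (hsm g hg) o
    rw [this]
    exact Submodule.smul_mem _ _ (Submodule.subset_span (Finset.mem_coe.2 (Finset.mem_image_of_mem _ hg)))
  have hsingle : ∀ o : N, Pi.single o (1 : k) ∈ W := by
    intro o
    have hg' : ∃ p ∈ m, cf p = Pi.single o (1 : k) := by
      rcases o with _ | ⟨h, hh⟩
      · refine ⟨Tel P, (hmem _).2 (by simp [Tel]), funext fun o => ?_⟩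
        rcases o with _ | ⟨i, hi⟩
        · show resVal P ((Polynomial.X : Polynomial K).coeff 1) = _
          rw [Polynomial.coeff_X_one, show (1 : K) = algebraMap k K 1 from (map_one _).symm, resVal_algebraMap,
            Pi.single_eq_same]
        · show lead P i ((Polynomial.X : Polynomial K).coeff i) = _
          rw [Polynomial.coeff_X, if_neg fun h1 : 1 = i => hMone (h1 ▸ hi), lead_zero,
            Pi.single_eq_of_ne (by simp)]
      · refine ⟨x h, (hmem _).2 (by simp [x, Polynomial.coeff_monomial, hh.2.1]), funext fun o => ?_⟩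
        rcases o with _ | ⟨i, hi⟩
        · show resVal P ((Polynomial.monomial h (a h)).coeff 1) = _
          rw [Polynomial.coeff_monomial, if_neg fun h1 : h = 1 => hMone (h1 ▸ hh),
            Pi.single_eq_of_ne (by simp)]
          exact resVal_of_lt (by simp)
        · show lead P i ((Polynomial.monomial h (a h)).coeff i) = _
          rw [Polynomial.coeff_monomial]
          rcases eq_or_ne h i with rfl | hhi
          · rw [if_pos rfl, ha1 h hh.1, Pi.single_eq_same]
          · rw [if_neg hhi, lead_zero, Pi.single_eq_of_ne (fun he => hhi (congrArg Subtype.val (Option.some.inj he)).symm)]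
    obtain ⟨p, hp, hpo⟩ := hg'
    exact hpo ▸ hW p hp
  have htop : W = ⊤ := by
    refine eq_top_iff.2 fun v _ => ?_
    rw [← Finset.univ_sum_single v]
    refine Submodule.sum_mem _ fun o _ => ?_
    have := Submodule.smul_mem W (v o) (hsingle o)
    rwa [← Pi.single_smul, smul_eq_mul, mul_one] at this
  have h1 : Module.finrank k W ≤ (s.image cf).card := finrank_span_finset_le_card _
  rw [htop, finrank_top, Module.finrank_fintype_fun_eq_card, Fintype.card_option, ← Nat.card_eq_fintype_card,
    Nat.card_coe_set_eq] at h1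
  exact h1.trans (Finset.card_image_le.trans hscard.le)

end

end Groth.Agent.FunFldLib
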