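import Groth.Agent.FunFld.CanDeg
import Groth.Agent.FunFld.RR
import Groth.Agent.FunFld.Rational
import Mathlib.RingTheory.Discriminant

/-!
A geometric function field has infinitely many places with separable residue field.
-/

namespace Groth.Agent.FunFldLib

open FunFld WithZero

variable {k K : Type*} [Field k] [Field K] [Algebra k K]

theorem infinite_places (hK : IsFunctionField k K) : Infinite (Place k K) := by
  by_contra hfin
  have : Finite (Place k K) := not_infinite_iff_finite.1 hfin
  cases nonempty_fintype (Place k K)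
  obtain ⟨P⟩ := exists_place hK
  obtain ⟨x, hx⟩ := exists_approx_eq (k := k) (K := K) Finset.univ (fun _ => 0) (fun _ => -1)
  have hv : ∀ Q : Place k K, Q.1 x = exp (-1) := fun Q => by simpa using hx Q (Finset.mem_univ Q)
  obtain ⟨c, rfl⟩ := mem_range_of_ord_nonneg hK (x := x) fun Q => by
    rw [ord_eq_of_val Q (hv Q)]; norm_num
  have h := hv P
  rcases eq_or_ne c 0 with rfl | hc
  · simp at h; exact exp_ne_zero h.symm
  · rw [val_algebraMap P hc] at h; exact absurd h.symm (by rw [exp_eq_one]; omega)

/-- A rational subfield is a function field, for any ground field. -/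
theorem isFunctionField_adjoin_sep (hK : IsFunctionField k K) {s : K} (hs : Transcendental k s) :
    IsFunctionField k (IntermediateField.adjoin k ({s} : Set K)) ∧
      IntermediateField.adjoin k
        ({⟨s, IntermediateField.mem_adjoin_simple_self k s⟩} : Set (IntermediateField.adjoin k ({s} : Set K))) = ⊤ := by
  set K₀ := IntermediateField.adjoin k ({s} : Set K)
  set x₀ : K₀ := ⟨s, IntermediateField.mem_adjoin_simple_self k s⟩
  have htop : IntermediateField.adjoin k ({x₀} : Set K₀) = ⊤ := by
    apply IntermediateField.map_injective K₀.val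
    rw [IntermediateField.adjoin_map, Set.image_singleton, ← AlgHom.fieldRange_eq_map,
      IntermediateField.fieldRange_val]
    rfl
  refine ⟨⟨⟨x₀, fun h => hs ?_, ?_⟩, fun y hy => ?_⟩, htop⟩
  · exact h.algebraMap (A := K)
  · rw [htop]
    exact Module.finite_of_finrank_pos (by rw [IntermediateField.finrank_top]; exact one_pos)
  · obtain ⟨c, hc⟩ := hK.2 (y : K) (hy.algebraMap (A := K))
    exact ⟨c, Subtype.ext hc⟩

theorem infinite_separable_residue (hK : IsFunctionField k K) {s : K} (hs : Transcendental k s)
    (hsep : IsSepVar k s) [Infinite k] :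
    {P : Place k K | Algebra.IsSeparable k (IsLocalRing.ResidueField P.O)}.Infinite := by
  classical
  set K₀ := IntermediateField.adjoin k ({s} : Set K) with hK₀def
  have : FiniteDimensional K₀ K := finiteDimensional_adjoin hK hs
  obtain ⟨h0, htop⟩ := isFunctionField_adjoin_sep hK hs
  set x₀ : K₀ := ⟨s, IntermediateField.mem_adjoin_simple_self k s⟩ with hx₀
  have hx₀t : Transcendental k x₀ := fun h => hs (h.algebraMap (A := K))
  let pb := Field.powerBasisOfFiniteOfSeparable K₀ K
  set θ := pb.gen with hθ
  set F := minpoly K₀ θ with hF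
  set w := Polynomial.aeval θ F.derivative with hw
  have hint : IsIntegral K₀ θ := .of_finite K₀ θ
  have hw0 : w ≠ 0 := (Algebra.IsSeparable.isSeparable K₀ θ).aeval_derivative_ne_zero (minpoly.aeval _ _)
  set D := Algebra.discr K₀ pb.basis with hD
  have hD0 : D ≠ 0 := Algebra.discr_not_zero_of_basis K₀ pb.basis
  let bad : Set (Place k K₀) :=
    (below (K := K₀)) '' ({Q : Place k K | Q.ord θ < 0} ∪ Function.support fun Q : Place k K => Q.ord w) ∪
      ((Function.support fun P : Place k K₀ => P.ord D) ∪
        ⋃ i ∈ F.support, Function.support fun P : Place k K₀ => P.ord (F.coeff i))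
  have hbad : bad.Finite :=
    ((((finite_support_ord hK θ).subset fun Q (hQ : Q.ord θ < 0) => hQ.ne).union
      (finite_support_ord hK w)).image _).union
      ((finite_support_ord h0 D).union (F.support.finite_toSet.biUnion fun i _ => finite_support_ord h0 _))
  have hc : ∀ c : k, ∃ Q : Place k K, 0 < Q.ord (s - algebraMap k K c) := fun c =>
    exists_place_ord_pos hK fun h => hs (by simpa using h.add (isAlgebraic_algebraMap c))
  choose Q hQ using hc
  have hne : ∀ c : k, s - algebraMap k K c ≠ 0 := fun c h => by
    have := hQ c; rw [h] at this; simp [Place.ord] at this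
  have hQlt : ∀ c, (Q c).1 (s - algebraMap k K c) < 1 := fun c => (val_lt_one_iff _ (hne c)).2 (hQ c)
  have hQinj : Function.Injective Q := fun c d h => by
    refine sub_const_unique (P := Q c) (hQlt c) ?_
    rw [h]; exact hQlt d
  let badQ : Set (Place k K) := ⋃ P ∈ bad, {R | IsOver R P}
  have hbadQ : badQ.Finite := hbad.biUnion fun P _ => finite_isOver (K' := K) h0 P
  refine (((Set.infinite_range_of_injective hQinj).sdiff hbadQ)).mono ?_
  rintro _ ⟨⟨c, rfl⟩, hgood⟩
  show Algebra.IsSeparable k (IsLocalRing.ResidueField (Q c).O)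
  set R := Q c with hR
  set P := below (K := K₀) R with hP
  have hover : IsOver R P := isOver_below R
  have hPgood : P ∉ bad := fun h => hgood (Set.mem_iUnion₂.2 ⟨P, h, hover⟩)
  simp only [bad, Set.mem_union, not_or, Set.mem_image, not_exists, not_and, Function.mem_support,
    Set.mem_iUnion, not_not, Set.mem_ofPred_eq] at hPgood
  obtain ⟨hKbad, hDord, hcoef⟩ := hPgood
  have he := isOverWith_ramIdx hover
  have hepos := isOverWith_pos he
  have hDval : P.1 D = 1 := by rw [val_eq_exp P hD0, hDord, neg_zero, exp_zero]
  have hθint : IntAbove P θ := fun T hT => by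
    rcases eq_or_ne θ 0 with h | h
    · simp [h]
    rw [val_le_one_iff T h]
    by_contra hn
    exact (hKbad T (Or.inl (not_le.1 hn))) ((isOver_iff_below T P).1 hT)
  have hwval : R.1 w = 1 := by
    rw [val_eq_exp R hw0]
    rcases eq_or_ne (R.ord w) 0 with h | h
    · rw [h, neg_zero, exp_zero]
    · exact absurd hP.symm (hKbad R (Or.inr h))
  have hcoefle : ∀ i, P.1 (F.coeff i) ≤ 1 := fun i => by
    rcases eq_or_ne (F.coeff i) 0 with h | h
    · simp [h]
    rw [val_le_one_iff P h, hcoef i (Polynomial.mem_support_iff.2 h)]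
  -- the place below has degree one
  have hdegP : P.deg = 1 := by
    have hu0 : x₀ - algebraMap k K₀ c ≠ 0 := fun h => hne c (congrArg Subtype.val h)
    have hpos : 0 < P.ord (x₀ - algebraMap k K₀ c) := by
      have h := isOverWith_ord he hu0
      rw [show algebraMap K₀ K (x₀ - algebraMap k K₀ c) = s - algebraMap k K c from rfl] at h
      have := hQ c
      rw [← hR, h] at this
      exact pos_of_mul_pos_right this (Int.natCast_nonneg _)
    set u := (x₀ - algebraMap k K₀ c)⁻¹ with hu
    have hut : Transcendental k u := fun h => hx₀t (by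
      simpa [hu] using h.inv.add (isAlgebraic_algebraMap (R := k) (A := K₀) c))
    have htopu : IntermediateField.adjoin k ({u} : Set K₀) = ⊤ := by
      refine eq_top_iff.2 (htop ▸ IntermediateField.adjoin_simple_le_iff.2 ?_)
      have := IntermediateField.mem_adjoin_simple_self k u
      have h2 : x₀ = u⁻¹ + algebraMap k K₀ c := by rw [hu, inv_inv, sub_add_cancel]
      rw [h2]
      exact add_mem (inv_mem this) (IntermediateField.algebraMap_mem _ c)
    have hff : IsFF k K₀ := isFF_of_finite (K := K₀) h0
    have hfinpoles := finite_poles_ff hff u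
    have hsum := sum_poles_ff hff hut (insert P hfinpoles.toFinset) fun T hT =>
      Finset.mem_insert_of_mem (hfinpoles.mem_toFinset.2 hT)
    rw [htopu, IntermediateField.finrank_top] at hsum
    have hordu : 1 ≤ max (-P.ord u) 0 := by rw [hu, ord_inv]; omega
    have hle : max (-P.ord u) 0 * (P.deg : ℤ) ≤ 1 := by
      refine le_trans ?_ hsum.le
      exact Finset.single_le_sum (f := fun T : Place k K₀ => max (-T.ord u) 0 * (T.deg : ℤ))
        (fun T _ => mul_nonneg (le_max_right _ _) (Int.natCast_nonneg _)) (Finset.mem_insert_self _ _)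
    have := deg_pos h0 P
    have : (P.deg : ℤ) ≤ max (-P.ord u) 0 * (P.deg : ℤ) := le_mul_of_one_le_left (Int.natCast_nonneg _) hordu
    omega
  have hfd : FiniteDimensional k (IsLocalRing.ResidueField R.O) := Module.finite_of_finrank_pos (deg_pos hK R)
  have hle : ∀ a : K₀, P.1 a ≤ 1 → R.1 (algebraMap K₀ K a) ≤ 1 := fun a ha => by
    rw [he]; exact pow_le_one₀ zero_le ha
  let ι : P.O →+* R.O := ((algebraMap K₀ K).comp P.O.subtype).codRestrict R.O.toSubring fun a => hle a.1 a.2
  have hconst : ∀ a : P.O, ∃ d : k, IsLocalRing.residue R.O (ι a) = algebraMap k (IsLocalRing.ResidueField R.O) d := fun a => by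
    obtain ⟨d, hd⟩ := exists_sub_const_val_lt_one h0 P hdegP a.2
    refine ⟨d, ?_⟩
    rw [← sub_eq_zero]
    show IsLocalRing.residue R.O (ι a) - IsLocalRing.residue R.O (algebraMap k R.O d) = 0
    rw [← map_sub, ← val_lt_one_iff_residue]
    show R.1 (algebraMap K₀ K (a : K₀) - algebraMap k K d) < 1
    rw [IsScalarTower.algebraMap_apply k K₀ K, ← map_sub, he]
    exact pow_lt_one₀ zero_le hd hepos.ne'
  let θR : R.O := ⟨θ, hθint R hover⟩
  set t : (IsLocalRing.ResidueField R.O) := IsLocalRing.residue R.O θR with ht
  -- the residue is separable over `k`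
  have htsep : IsSeparable k t := by
    let Fo : Polynomial P.O := Polynomial.ofFinsupp
      (AddMonoidAlgebra.ofCoeff (Finsupp.onFinset F.support (fun i => (⟨F.coeff i, hcoefle i⟩ : P.O)) fun i hi =>
        Polynomial.mem_support_iff.2 fun h => hi (Subtype.ext h)))
    have hFo : Fo.map (algebraMap P.O K₀) = F := by
      ext i; simp [Fo, Polynomial.coeff_map]
    choose dd hdd using hconst
    obtain ⟨g, hg⟩ : ∃ g : Polynomial k, g.map (algebraMap k (IsLocalRing.ResidueField R.O)) = Fo.map ((IsLocalRing.residue R.O).comp ι) := by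
      refine (Polynomial.mem_lifts _).1 ((Polynomial.lifts_iff_coeff_lifts _).2 fun i => ?_)
      rw [Polynomial.coeff_map]
      exact ⟨dd _, (hdd _).symm⟩
    have heval : ∀ f : Polynomial P.O, (f.map ((IsLocalRing.residue R.O).comp ι)).eval t =
        IsLocalRing.residue R.O (f.eval₂ ι θR) := fun f => by
      rw [Polynomial.eval_map, ht, Polynomial.hom_eval₂]
    have hevalK : ∀ f : Polynomial P.O, ((f.eval₂ ι θR : R.O) : K) =
        Polynomial.aeval θ (f.map (algebraMap P.O K₀)) := fun f => by
      rw [Polynomial.aeval_def, Polynomial.eval₂_map]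
      exact Polynomial.hom_eval₂ f ι R.O.subtype θR
    have hg0 : Polynomial.aeval t g = 0 := by
      rw [Polynomial.aeval_def, ← Polynomial.eval_map, hg, heval]
      rw [show Fo.eval₂ ι θR = 0 from Subtype.ext (by rw [hevalK, hFo]; exact minpoly.aeval _ _), map_zero]
    have hgd : Polynomial.aeval t g.derivative ≠ 0 := by
      rw [Polynomial.aeval_def, ← Polynomial.eval_map, ← Polynomial.derivative_map, hg, Polynomial.derivative_map,
        heval, Ne, ← val_lt_one_iff_residue, hevalK, ← Polynomial.derivative_map, hFo, ← hw, hwval]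
      exact lt_irrefl _
    obtain ⟨q, hq⟩ := minpoly.dvd k t hg0
    rw [IsSeparable, Polynomial.separable_iff_derivative_ne_zero (minpoly.irreducible (@IsIntegral.of_finite k _ _ _ _ hfd t))]
    intro h
    exact hgd (by rw [hq, Polynomial.derivative_mul, h]; simp)
  -- and generates the residue field
  have hgen : IntermediateField.adjoin k ({t} : Set (IsLocalRing.ResidueField R.O)) = ⊤ := by
    set T := IntermediateField.adjoin k ({t} : Set (IsLocalRing.ResidueField R.O)) with hT
    refine eq_top_iff.2 fun a _ => ?_
    obtain ⟨a, rfl⟩ := IsLocalRing.residue_surjective a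
    set S := (finite_isOver (K' := K) h0 P).toFinset with hS
    obtain ⟨z, hz⟩ := exists_approx (k := k) (K := K) S (fun T => if T = R then (a : K) else 0)
      (fun T => if T = R then -1 else 0)
    have hzR : R.1 (z - a) < 1 := by
      have h := hz R ((finite_isOver h0 P).mem_toFinset.2 hover)
      rw [if_pos rfl, if_pos rfl] at h
      exact h.trans_lt (by rw [← exp_zero, exp_lt_exp]; norm_num)
    have hzint : IntAbove P z := fun T hT => by
      rcases eq_or_ne T R with rfl | hTR
      · have h1 := (Valuation.map_add _ _ _).trans (max_le hzR.le a.2)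
        rwa [sub_add_cancel] at h1
      · have h := hz T ((finite_isOver h0 P).mem_toFinset.2 hT)
        rwa [if_neg hTR, if_neg hTR, sub_zero, exp_zero] at h
    letI : Algebra P.O K := ((algebraMap K₀ K).comp P.O.subtype).toAlgebra
    have : IsScalarTower P.O K₀ K := IsScalarTower.of_algebraMap_eq fun _ => rfl
    have hmem := Algebra.discr_mul_isIntegral_mem_adjoin (R := P.O) (K := K₀) (L := K) (B := pb)
      ((isIntegral_iff_intAbove h0 P θ).2 hθint) ((isIntegral_iff_intAbove h0 P z).2 hzint)
    let U : Subring K := (T.toSubring.comap (IsLocalRing.residue R.O)).map R.O.subtype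
    have hU : ∀ x ∈ Algebra.adjoin P.O ({θ} : Set K), x ∈ U := fun x hx => by
      induction hx using Algebra.adjoin_induction with
      | mem x hx =>
        obtain rfl : x = θ := hx
        exact ⟨θR, IntermediateField.mem_adjoin_simple_self k t, rfl⟩
      | algebraMap r =>
        obtain ⟨d, hd⟩ := hconst r
        refine ⟨ι r, ?_, rfl⟩
        show IsLocalRing.residue R.O (ι r) ∈ T
        rw [hd]; exact T.algebraMap_mem d
      | add x y _ _ hx hy => exact add_mem hx hy
      | mul x y _ _ hx hy => exact mul_mem hx hy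
    obtain ⟨v, hv, hvval⟩ := hU _ hmem
    obtain ⟨d, hd⟩ := hconst ⟨D, hDval.le⟩
    have hzle : R.1 z ≤ 1 := hzint R hover
    have hv' : v = ι ⟨D, hDval.le⟩ * ⟨z, hzle⟩ := Subtype.ext (by
      rw [show (v : K) = _ from hvval, Algebra.smul_def]; rfl)
    have hres : IsLocalRing.residue R.O ⟨z, hzle⟩ = IsLocalRing.residue R.O a := by
      rw [← sub_eq_zero, ← map_sub, ← val_lt_one_iff_residue]; exact hzR
    have hv2 : IsLocalRing.residue R.O v ∈ T := hv
    rw [hv', map_mul, hd, hres] at hv2
    have hd0 : algebraMap k (IsLocalRing.ResidueField R.O) d ≠ 0 := by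
      rw [← hd, Ne, ← val_lt_one_iff_residue]
      show ¬ R.1 (algebraMap K₀ K D) < 1
      rw [he, hDval, one_pow]; exact lt_irrefl _
    have := mul_mem (inv_mem (T.algebraMap_mem d)) hv2
    rwa [← mul_assoc, inv_mul_cancel₀ hd0, one_mul] at this
  have := (IntermediateField.isSeparable_adjoin_simple_iff_isSeparable k (IsLocalRing.ResidueField R.O)).2 htsep
  rw [hgen] at this
  exact AlgEquiv.Algebra.isSeparable (IntermediateField.topEquiv (F := k) (E := (IsLocalRing.ResidueField R.O)))

end Groth.Agent.FunFldLib
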