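import Groth.Agent.FunFld.CurveBasic

/-!
A generator `y` such that `1, x, y` span a parameter at every place.
-/

namespace Groth.Agent.FunFldLib

open FunFld WithZero

variable {k K : Type*} [Field k] [IsAlgClosed k] [Field K] [Algebra k K]

theorem exists_generator_span_param (hK : IsFunctionField k K) {x : K} (hsep : IsSepVar k x) :
    ∃ y : K, IntermediateField.adjoin k ({x, y} : Set K) = ⊤ ∧
      ∀ P : Place k K, ∃ f ∈ Submodule.span k ({1, x, y} : Set K), P.1 f = exp (-1) := by
  classical
  have hg := isGeometric_of_isAlgClosed (k := k) (K := K)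
  have hxt : Transcendental k x := fun halg => by
    obtain ⟨c, rfl⟩ := hK.2 x halg
    obtain ⟨t, ht, -⟩ := hK.1
    have hbot : IntermediateField.adjoin k ({algebraMap k K c} : Set K) = ⊥ :=
      IntermediateField.adjoin_simple_eq_bot_iff.2 (IntermediateField.algebraMap_mem _ c)
    have halg : Algebra.IsAlgebraic (IntermediateField.adjoin k ({algebraMap k K c} : Set K)) K :=
      @Algebra.IsSeparable.isAlgebraic _ _ _ _ _ _ hsep
    rw [hbot] at halg
    have : Algebra.IsAlgebraic k (⊥ : IntermediateField k K) := Algebra.IsAlgebraic.of_finite k _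
    exact ht ((Algebra.IsAlgebraic.trans k (⊥ : IntermediateField k K) K).isAlgebraic t)
  have := finiteDimensional_adjoin hK hxt
  obtain ⟨H, hH⟩ := exists_hasseFamily hxt hsep
  set S := ((finite_hasseD_param hK hH).union (finite_not_integral hK x)).toFinset
  choose π hπ using fun P : Place k K => exists_val_eq P (-1)
  obtain ⟨y₀, hy₀⟩ := exists_approx S π (fun _ => -2)
  set K₀ := IntermediateField.adjoin k ({x} : Set K)
  have : Infinite k := IsAlgClosed.instInfinite
  let V : Submodule k K :=
    { carrier := {z | ∀ P ∈ S, P.1 z ≤ exp (-2)}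
      zero_mem' := fun P _ => by simp
      add_mem' := fun ha hb P hP => P.1.map_add_le (ha P hP) (hb P hP)
      smul_mem' := fun c z hz P hP => by
        rw [Algebra.smul_def, map_mul]; exact (mul_le_of_le_one_left' (P.2.1 c)).trans (hz P hP) }
  have hV : ∀ M : IntermediateField K₀ K, (∀ v ∈ V, v ∈ M) → M = ⊤ := fun M hM => eq_top_iff.2 fun z _ => by
    obtain ⟨v, hv⟩ := exists_approx_eq S (fun _ => (0 : K)) (fun P => min (-2) (P.ord z - 2))
    rcases eq_or_ne v 0 with rfl | hv0
    · by_cases hS : S.Nonempty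
      · obtain ⟨P, hP⟩ := hS
        have := hv P hP
        simp [exp_ne_zero.symm] at this
      · exact hM z fun P hP => absurd ⟨P, hP⟩ hS
    have hvV : v ∈ V := fun P hP => by
      have := hv P hP
      rw [sub_zero] at this
      rw [this, exp_le_exp]; omega
    have hvz : v * z ∈ V := fun P hP => by
      have := hv P hP
      rw [sub_zero] at this
      rcases eq_or_ne z 0 with rfl | hz
      · simp
      rw [map_mul, this, val_eq_exp P hz, ← exp_add, exp_le_exp]; omega
    have := div_mem (hM _ hvz) (hM v hvV)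
    rwa [mul_div_cancel_left₀ _ hv0] at this
  have : Finite (IntermediateField K₀ K) :=
    Field.finite_intermediateField_of_exists_primitive_element K₀ K (Field.exists_primitive_element K₀ K)
  let p : {M : IntermediateField K₀ K // M ≠ ⊤} → Submodule k V := fun M =>
    (Subalgebra.toSubmodule (M.1.restrictScalars k).toSubalgebra).comap V.subtype
  obtain ⟨w, hw⟩ := Submodule.exists_forall_notMem_of_forall_ne_top p fun M h => M.2 <|
    hV M.1 fun v hv => (Submodule.eq_top_iff'.1 h) ⟨v, hv⟩
  have hfin : (⋃ M : {M : IntermediateField K₀ K // M ≠ ⊤}, {c : k | y₀ + c • (w : K) ∈ M.1}).Finite := by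
    refine Set.finite_iUnion fun M => Set.Subsingleton.finite fun c hc d hd => ?_
    by_contra hne
    have h1 : (c - d) • (w : K) ∈ M.1 := by
      rw [sub_smul, ← add_sub_add_left_eq_sub _ _ y₀]; exact sub_mem hc hd
    have h2 := (M.1.restrictScalars k).toSubalgebra.smul_mem h1 (c - d)⁻¹
    rw [smul_smul, inv_mul_cancel₀ (sub_ne_zero.2 hne), one_smul] at h2
    exact hw M h2
  obtain ⟨c, hc⟩ := hfin.infinite_compl.nonempty
  set y := y₀ + c • (w : K)
  have htop : IntermediateField.adjoin K₀ ({y} : Set K) = ⊤ := by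
    by_contra hne
    exact hc (Set.mem_iUnion.2 ⟨⟨_, hne⟩, IntermediateField.mem_adjoin_simple_self K₀ y⟩)
  refine ⟨y, by rw [← IntermediateField.adjoin_simple_adjoin_simple, htop, IntermediateField.restrictScalars_top],
    fun P => ?_⟩
  have hmem : ∀ z ∈ ({1, x, y} : Set K), z ∈ Submodule.span k ({1, x, y} : Set K) := fun z hz => Submodule.subset_span hz
  by_cases hP : P ∈ S
  · refine ⟨y, hmem y (by simp), ?_⟩
    have h1 : P.1 (y - π P) ≤ exp (-2) := by
      rw [show y - π P = (y₀ - π P) + c • (w : K) by simp [y]; ring]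
      exact P.1.map_add_le (hy₀ P hP) (V.smul_mem c w.2 P hP)
    rw [show y = (y - π P) + π P by ring, P.1.map_add_eq_of_lt_right (h1.trans_lt (by rw [hπ, exp_lt_exp]; omega)), hπ]
  · simp only [S, Set.Finite.mem_toFinset, Set.mem_union, Set.mem_ofPred_eq, not_or, not_not] at hP
    obtain ⟨hD, hx1⟩ := hP
    obtain ⟨Ht, hHt⟩ := exists_hasse_param hK (hπ P)
    have hD1 := hD (π P) Ht (hπ P) hHt
    obtain ⟨b, hb⟩ := exists_sub_const_val_lt_one hK P (deg_eq_one hK P) hx1
    refine ⟨x - algebraMap k K b, sub_mem (hmem x (by simp)) (by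
      rw [Algebra.algebraMap_eq_smul_one]; exact Submodule.smul_mem _ _ (hmem 1 (by simp))), ?_⟩
    by_contra hne
    obtain ⟨e⟩ := exists_paramExp hK (hπ P)
    rcases eq_or_ne (x - algebraMap k K b) 0 with h0 | h0
    · exact hxt (by rw [sub_eq_zero.1 h0]; exact isAlgebraic_algebraMap b)
    obtain ⟨v, hv, hvx⟩ : ∃ v, P.1 v ≤ 1 ∧ x - algebraMap k K b = π P * π P * v := by
      have hπ0 := ne_zero_of_val P (hπ P)
      refine ⟨(x - algebraMap k K b) / (π P * π P), ?_, by rw [mul_div_cancel₀ _ (mul_ne_zero hπ0 hπ0)]⟩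
      rw [val_eq_exp P h0, exp_inj] at hne
      have := (val_lt_one_iff P h0).1 hb
      rw [map_div₀, map_mul, hπ, ← exp_add, div_le_one₀ exp_pos, val_eq_exp P h0, exp_le_exp]
      omega
    have hDx : LocRes.hasseD Ht 1 x = LocRes.hasseD Ht 1 (π P * π P * v) := by
      rw [← hvx]; simp [LocRes.hasseD, PowerSeries.algebraMap_apply]
    rw [hDx, hasseD_one_mul Ht hHt.2, hasseD_one_mul Ht hHt.2, hasseD_one_self hHt] at hD1
    refine absurd hD1 (ne_of_lt ?_)
    have hlt : P.1 (π P) < 1 := by rw [hπ, ← exp_zero, exp_lt_exp]; omega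
    refine P.1.map_add_lt ?_ ?_ <;> rw [map_mul]
    · refine (mul_le_of_le_one_right' (e.hasseD_le_one hK (hπ P) hHt hv 1)).trans_lt ?_
      rw [map_mul]; exact (mul_le_of_le_one_left' hlt.le).trans_lt hlt
    · refine (mul_le_of_le_one_left' hv).trans_lt ?_
      rw [mul_one]
      exact (P.1.map_add_le le_rfl le_rfl).trans_lt hlt

end Groth.Agent.FunFldLib
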