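import Groth.Agent.FunFld.NsTower
import Groth.Agent.FunFld.RiemannHurwitz
import Mathlib.FieldTheory.PurelyInseparable.Basic
import Mathlib.FieldTheory.IsAlgClosed.AlgebraicClosure
import Mathlib.FieldTheory.PrimitiveElement

/-!
Places above a nonsingular place in a splitting constant extension: number and ramification index.
-/

namespace Groth.Agent.FunFldLib.SplitCount

open FunFld WithZero TensorProduct

attribute [local instance 2000] Algebra.toModule

/-- Elements independent over an intermediate field stay independent after extending scalars. -/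
theorem eq_zero_of_sum_mul {k F k' : Type*} [Field k] [Field F] [Field k'] [Algebra k F] [Algebra k k']
    [FiniteDimensional k k'] (S : IntermediateField k F) {ι : Type*} [Fintype ι] {f : ι → F}
    (hf : LinearIndependent S f) (y : ι → S ⊗[k] k')
    (h : ∑ i, (f i ⊗ₜ[k] (1 : k')) * Algebra.TensorProduct.map S.val (AlgHom.id k k') (y i) = 0) : y = 0 := by
  classical
  let b := Module.finBasis k k'
  have hy : ∀ i, y i = ∑ l, ((Algebra.TensorProduct.basis S b).repr (y i) l) ⊗ₜ[k] b l := fun i => by
    conv_lhs => rw [← (Algebra.TensorProduct.basis S b).sum_repr (y i)]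
    refine Finset.sum_congr rfl fun l _ => ?_
    rw [Algebra.TensorProduct.basis_apply, TensorProduct.smul_tmul', smul_eq_mul, mul_one]
  have h2 : ∑ l, (∑ i, f i * ((Algebra.TensorProduct.basis S b).repr (y i) l : F)) ⊗ₜ[k] b l = 0 := by
    refine Eq.trans ?_ h
    simp only [TensorProduct.sum_tmul]
    rw [Finset.sum_comm]
    refine Finset.sum_congr rfl fun i _ => ?_
    conv_rhs => rw [hy i, map_sum, Finset.mul_sum]
    refine Finset.sum_congr rfl fun l _ => ?_
    rw [Algebra.TensorProduct.map_tmul, Algebra.TensorProduct.tmul_mul_tmul, AlgHom.id_apply, one_mul]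
    rfl
  have h3 : ∀ l, ∑ i, f i * ((Algebra.TensorProduct.basis S b).repr (y i) l : F) = 0 := fun l => by
    have h4 := congrArg (fun t => (Algebra.TensorProduct.basis F b).repr t l) h2
    simpa [map_sum, Finsupp.coe_finsetSum, Finsupp.single_apply] using h4
  funext i
  rw [hy i, Pi.zero_apply, Finset.sum_eq_zero fun l _ => ?_]
  have h5 := Fintype.linearIndependent_iff.1 hf (fun i => (Algebra.TensorProduct.basis S b).repr (y i) l) (by
    refine Eq.trans (Finset.sum_congr rfl fun i _ => ?_) (h3 l)
    rw [Algebra.smul_def, mul_comm]; rfl) i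
  rw [h5, TensorProduct.zero_tmul]

variable {k k' K K' : Type*} [Field k] [Field k'] [Field K] [Field K'] [Algebra k k'] [FiniteDimensional k k']
  [Algebra k K] [Algebra K K'] [Algebra k' K'] [Algebra k K'] [IsScalarTower k k' K'] [IsScalarTower k K K']

theorem exists_res_equiv {Q : Place k' K'} (hd : Q.deg = 1) :
    Function.Bijective (algebraMap k' (IsLocalRing.ResidueField Q.O)) := by
  refine ⟨(algebraMap k' _).injective, fun x => ?_⟩
  have h : (⊥ : Subalgebra k' (IsLocalRing.ResidueField Q.O)) = ⊤ := Subalgebra.bot_eq_top_of_finrank_eq_one hd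
  have hx : x ∈ (⊥ : Subalgebra k' (IsLocalRing.ResidueField Q.O)) := h ▸ Algebra.mem_top
  exact Algebra.mem_bot.1 hx

/-- Elements of value at most `exp (-i)`. -/
def boundSub (Q : Place k' K') (i : ℕ) : Submodule k' K' where
  carrier := {z | Q.1 z ≤ exp (-(i : ℤ))}
  add_mem' {a b} ha hb := (Q.1.map_add a b).trans (max_le ha hb)
  zero_mem' := by simp
  smul_mem' c a ha := by
    show Q.1 (c • a) ≤ _
    rw [Algebra.smul_def, map_mul]
    exact (mul_le_mul' (Q.2.1 c) ha).trans_eq (one_mul _)

theorem mem_boundSub {Q : Place k' K'} {i : ℕ} {z : K'} : z ∈ boundSub Q i ↔ Q.1 z ≤ exp (-(i : ℤ)) := Iff.rfl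

theorem finrank_le_of_bound {Q : Place k' K'} (hd : Q.deg = 1) (e : ℕ) {n : ℕ} (w : Fin n → K') (hw : ∀ i, Q.1 (w i) ≤ 1)
    (hn : e < n) : ∃ c : Fin n → k', c ≠ 0 ∧ Q.1 (∑ i, c i • w i) ≤ exp (-(e : ℤ)) := by
  classical
  obtain ⟨s, hs⟩ := exists_val_eq Q (-1)
  let W : ℕ → Submodule k' (Fin n → k') := fun i => (boundSub Q i).comap (Fintype.linearCombination k' w)
  suffices h : ∀ i, n ≤ Module.finrank k' (W i) + i by
    have h1 := h e
    obtain ⟨c, hc, hc0⟩ := Submodule.exists_mem_ne_zero_of_ne_bot (p := W e) (by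
      intro hb; rw [hb, finrank_bot] at h1; omega)
    have hc' : Q.1 (Fintype.linearCombination k' w c) ≤ exp (-(e : ℤ)) := hc
    exact ⟨c, hc0, by rwa [Fintype.linearCombination_apply] at hc'⟩
  intro i
  induction i with
  | zero =>
    have : W 0 = ⊤ := eq_top_iff.2 fun c _ => by
      change Fintype.linearCombination k' w c ∈ boundSub Q 0
      rw [mem_boundSub]
      rw [Fintype.linearCombination_apply, Nat.cast_zero, neg_zero, exp_zero]
      refine Q.1.map_sum_le fun j _ => ?_
      rw [Algebra.smul_def, map_mul]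
      exact mul_le_one' (Q.2.1 _) (hw j)
    rw [this, finrank_top, Module.finrank_fin_fun]; omega
  | succ i ih =>
    let m : W i →ₗ[k'] Q.O :=
      { toFun := fun c => ⟨Fintype.linearCombination k' w c.1 / s ^ i, by
          show Q.1 _ ≤ 1
          rw [map_div₀, map_pow, hs, div_le_one₀ (pow_pos exp_pos i), ← exp_nsmul]
          refine (c.2 : Q.1 (Fintype.linearCombination k' w c.1) ≤ exp (-(i : ℤ))).trans_eq ?_
          congr 1; simp⟩
        map_add' := fun a b => Subtype.ext (by
          show _ / _ = Fintype.linearCombination k' w a.1 / s ^ i + Fintype.linearCombination k' w b.1 / s ^ i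
          rw [Submodule.coe_add, map_add, add_div])
        map_smul' := fun r a => Subtype.ext (by
          show _ / _ = ((algebraMap k' Q.O r * _ : Q.O) : K')
          rw [SetLike.val_smul, map_smul, Algebra.smul_def, mul_div_assoc]
          rfl) }
    let T : W i →ₗ[k'] IsLocalRing.ResidueField Q.O :=
      { toFun := fun c => IsLocalRing.residue Q.O (m c)
        map_add' := fun a b => by rw [map_add, map_add]
        map_smul' := fun r a => by
          rw [map_smul, Algebra.smul_def, map_mul, RingHom.id_apply, Algebra.smul_def]; rfl }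
    have : FiniteDimensional k' (IsLocalRing.ResidueField Q.O) := Module.finite_of_finrank_pos (by
      exact Nat.one_pos.trans_eq hd.symm)
    have hr := LinearMap.finrank_range_add_finrank_ker T
    have h1 : Module.finrank k' (LinearMap.range T) ≤ 1 := (Submodule.finrank_le _).trans (le_of_eq hd)
    have h2 : Submodule.map (W i).subtype (LinearMap.ker T) ≤ W (i + 1) := by
      rintro _ ⟨c, hc, rfl⟩
      change Fintype.linearCombination k' w c.1 ∈ boundSub Q (i + 1)
      rw [mem_boundSub]
      have h3 : Q.1 (Fintype.linearCombination k' w c.1 / s ^ i) < 1 :=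
        (residue_eq_zero_iff Q (m c)).1 hc
      rw [map_div₀, map_pow, hs, div_lt_one₀ (pow_pos exp_pos i), ← exp_nsmul] at h3
      rcases eq_or_ne (Fintype.linearCombination k' w c.1) 0 with h0 | h0
      · rw [h0, map_zero]; exact zero_le
      rw [val_eq_exp Q h0, exp_lt_exp, nsmul_eq_mul] at h3
      rw [val_eq_exp Q h0, exp_le_exp]; push_cast; omega
    have h3 := Submodule.finrank_mono h2
    rw [Submodule.finrank_map_subtype_eq] at h3
    omega

variable {φ : K ⊗[k] k' →ₐ[K] K'} {P : Place k K}

/-- Integral elements come from `O ⊗ k'`. -/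
theorem exists_inclS_eq [FiniteDimensional K K'] (hK : IsFunctionField k K)
    (hφt : ∀ a c, φ (a ⊗ₜ c) = algebraMap K K' a * algebraMap k' K' c)
    (hns : integralClosure (P.O.toSubring.map (algebraMap K K')) K' =
      Algebra.adjoin (P.O.toSubring.map (algebraMap K K')) (Set.range (algebraMap k' K')))
    {z : K'} (hz : IntAbove P z) : ∃ t, φ (inclS k' P t) = z := by
  have hz' := (mem_ic_place_iff hK P z).2 hz
  rw [hns] at hz'
  let M := (inclS k' P).range.map (φ.restrictScalars k)
  have hM : z ∈ M := by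
    clear hz
    induction hz' using Algebra.adjoin_induction with
    | mem u hu =>
      obtain ⟨c, rfl⟩ := hu
      exact ⟨_, ⟨(1 : P.O) ⊗ₜ c, rfl⟩, by
        show φ (((1 : P.O) : K) ⊗ₜ[k] c) = _
        rw [hφt, OneMemClass.coe_one, map_one, one_mul]⟩
    | algebraMap r =>
      obtain ⟨_, a, ha, rfl⟩ := r
      exact ⟨_, ⟨(⟨a, ha⟩ : P.O) ⊗ₜ (1 : k'), rfl⟩, by
        show φ (a ⊗ₜ[k] (1 : k')) = algebraMap K K' a
        rw [hφt, map_one, mul_one]⟩
    | add u v _ _ hu hv => exact add_mem hu hv
    | mul u v _ _ hu hv => exact mul_mem hu hv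
  obtain ⟨_, ⟨t, rfl⟩, ht⟩ := hM
  exact ⟨t, ht⟩

/-- Elements of `O ⊗ k'` small at every place above `P` reduce to zero. -/
theorem resS_eq_zero_of_small [FiniteDimensional K K'] (hK : IsFunctionField k K) (hφ : Function.Bijective φ)
    (hφt : ∀ a c, φ (a ⊗ₜ c) = algebraMap K K' a * algebraMap k' K' c)
    (hns : integralClosure (P.O.toSubring.map (algebraMap K K')) K' =
      Algebra.adjoin (P.O.toSubring.map (algebraMap K K')) (Set.range (algebraMap k' K')))
    (t : P.O ⊗[k] k') (ht : ∀ R : Place k K', IsOver R P → R.1 (φ (inclS k' P t)) ≤ exp (-(ramIdx R P : ℤ))) :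
    resS k' P t = 0 := by
  obtain ⟨p, hp⟩ := exists_val_eq P (-1)
  let π : P.O := ⟨p, show P.1 p ≤ 1 by rw [hp, ← exp_zero, exp_le_exp]; omega⟩
  have hresπ : IsLocalRing.residue P.O π = 0 :=
    (val_lt_one_iff_residue P π).1 (show P.1 p < 1 by rw [hp, ← exp_zero, exp_lt_exp]; omega)
  have hp0 : algebraMap K K' p ≠ 0 := (map_ne_zero _).2 (ne_zero_of_val P hp)
  obtain ⟨u, hu⟩ := exists_inclS_eq hK hφt hns (z := φ (inclS k' P t) / algebraMap K K' p) fun R hR => by
    rw [map_div₀, isOverWith_ramIdx hR, hp, ← exp_nsmul, div_le_one₀ exp_pos]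
    simpa using ht R hR
  have : t = π ⊗ₜ[k] (1 : k') * u := inclS_injective P (hφ.1 (by
    rw [map_mul, map_mul, inclS_smul_one, AlgHom.commutes, hu, mul_div_cancel₀ _ hp0]))
  rw [this, map_mul, resS_tmul, hresπ, TensorProduct.zero_tmul, zero_mul]

variable [FiniteDimensional K K']

omit [FiniteDimensional K K'] in
theorem mem_O_above {Q : Place k' K'} {eR : ℕ} (he : IsOverWith (placeRestrict k k' K' Q) P eR) (a : P.O) :
    algebraMap K K' a ∈ Q.O := by
  show (placeRestrict k k' K' Q).1 _ ≤ 1
  rw [he]; exact pow_le_one₀ zero_le a.2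

/-- The residue map of `O_P` into the residue field of a place over the big constants. -/
noncomputable def resAbove {Q : Place k' K'} {eR : ℕ} (he : IsOverWith (placeRestrict k k' K' Q) P eR) :
    P.O →+* IsLocalRing.ResidueField Q.O :=
  (IsLocalRing.residue Q.O).comp (((algebraMap K K').comp P.O.subtype).codRestrict Q.O (mem_O_above he))

instance isLocalHom_resAbove {Q : Place k' K'} {eR : ℕ} (he : IsOverWith (placeRestrict k k' K' Q) P eR) :
    IsLocalHom (resAbove he) :=
  ⟨fun a ha => by
    rw [← IsLocalRing.residue_ne_zero_iff_isUnit, Ne, residue_eq_zero_iff]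
    intro hlt
    have h0 : resAbove he a = 0 := by
      show IsLocalRing.residue Q.O _ = 0
      rw [residue_eq_zero_iff]
      show (placeRestrict k k' K' Q).1 (algebraMap K K' a) < 1
      rw [he]
      exact pow_lt_one₀ zero_le hlt (isOverWith_pos he).ne'
    exact ha.ne_zero h0⟩

/-- The residue character of a place of degree one. -/
noncomputable def resChar (Q : Place k' K') (hd : Q.deg = 1) {eR : ℕ}
    (he : IsOverWith (placeRestrict k k' K' Q) P eR) : IsLocalRing.ResidueField P.O →ₐ[k] k' :=
  { toRingHom := (RingEquiv.ofBijective (algebraMap k' _) (exists_res_equiv hd)).symm.toRingHom.comp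
      (IsLocalRing.ResidueField.lift (resAbove he))
    commutes' := fun c => by
      show (RingEquiv.ofBijective (algebraMap k' _) (exists_res_equiv hd)).symm
        (IsLocalRing.ResidueField.lift (resAbove he) (IsLocalRing.residue P.O (algebraMap k P.O c))) = _
      rw [IsLocalRing.ResidueField.lift_residue_apply, RingEquiv.symm_apply_eq]
      show IsLocalRing.residue Q.O _ = IsLocalRing.residue Q.O (algebraMap k' Q.O (algebraMap k k' c))
      congr 1
      refine Subtype.ext ?_
      show algebraMap K K' (algebraMap k K c) = algebraMap k' K' (algebraMap k k' c)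
      rw [← IsScalarTower.algebraMap_apply, ← IsScalarTower.algebraMap_apply] }

theorem resChar_spec {Q : Place k' K'} (hd : Q.deg = 1) {eR : ℕ}
    (he : IsOverWith (placeRestrict k k' K' Q) P eR) (a : P.O) :
    Q.1 (algebraMap K K' a - algebraMap k' K' (resChar Q hd he (IsLocalRing.residue P.O a))) < 1 := by
  have e1 := ((RingEquiv.ofBijective (algebraMap k' _) (exists_res_equiv hd)).apply_symm_apply
    (IsLocalRing.ResidueField.lift (resAbove he) (IsLocalRing.residue P.O a))).trans
    (IsLocalRing.ResidueField.lift_residue_apply (f := resAbove he) a)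
  have e2 : IsLocalRing.residue Q.O (algebraMap k' Q.O (resChar Q hd he (IsLocalRing.residue P.O a))) =
      IsLocalRing.residue Q.O ⟨algebraMap K K' a, mem_O_above he a⟩ := e1
  have e3 : IsLocalRing.residue Q.O (⟨algebraMap K K' a, mem_O_above he a⟩ -
      algebraMap k' Q.O (resChar Q hd he (IsLocalRing.residue P.O a))) = 0 := by
    rw [map_sub, e2, sub_self]
  exact (residue_eq_zero_iff Q _).1 e3

variable (k' P) in
/-- Evaluation of `O ⊗ k'` by a residue character. -/
noncomputable def evalChar {Ω : Type*} [Field Ω] [Algebra k Ω] [Algebra k' Ω] [IsScalarTower k k' Ω]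
    (f : IsLocalRing.ResidueField P.O →ₐ[k] Ω) : P.O ⊗[k] k' →ₐ[k] Ω :=
  (Algebra.TensorProduct.productMap f (IsScalarTower.toAlgHom k k' Ω)).comp (resS k' P)

theorem evalChar_tmul {Ω : Type*} [Field Ω] [Algebra k Ω] [Algebra k' Ω] [IsScalarTower k k' Ω]
    (f : IsLocalRing.ResidueField P.O →ₐ[k] Ω) (a : P.O) (c : k') :
    evalChar k' P f (a ⊗ₜ c) = f (IsLocalRing.residue P.O a) * algebraMap k' Ω c := by
  show Algebra.TensorProduct.productMap _ _ (resS k' P (a ⊗ₜ c)) = _
  rw [resS_tmul, Algebra.TensorProduct.productMap_apply_tmul]; rfl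

theorem evalChar_spec (hφt : ∀ a c, φ (a ⊗ₜ c) = algebraMap K K' a * algebraMap k' K' c) {Q : Place k' K'}
    (hd : Q.deg = 1) {eR : ℕ} (he : IsOverWith (placeRestrict k k' K' Q) P eR) (t : P.O ⊗[k] k') :
    Q.1 (φ (inclS k' P t) - algebraMap k' K' (evalChar k' P (resChar Q hd he) t)) < 1 := by
  induction t using TensorProduct.induction_on with
  | zero => simp [zero_lt_one]
  | tmul a c =>
    rw [inclS_tmul, hφt, evalChar_tmul, Algebra.algebraMap_self, RingHom.id_apply, map_mul, ← sub_mul, map_mul]
    exact mul_lt_one_of_lt_of_le (resChar_spec hd he a) (Q.2.1 c)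
  | add u v hu hv =>
    rw [map_add, map_add, map_add, map_add, add_sub_add_comm]
    exact Q.1.map_add_lt hu hv

theorem evalChar_eq_of_small (hφt : ∀ a c, φ (a ⊗ₜ c) = algebraMap K K' a * algebraMap k' K' c) {Q : Place k' K'}
    (hd : Q.deg = 1) {eR : ℕ} (he : IsOverWith (placeRestrict k k' K' Q) P eR) (t : P.O ⊗[k] k') (d : k')
    (h : Q.1 (φ (inclS k' P t) - algebraMap k' K' d) < 1) : evalChar k' P (resChar Q hd he) t = d := by
  by_contra hne
  have h4 := Q.1.map_sub_lt h (evalChar_spec hφt hd he t)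
  rw [sub_sub_sub_cancel_left, ← map_sub, val_algebraMap Q (sub_ne_zero.2 hne)] at h4
  exact lt_irrefl _ h4

theorem evalChar_algebraMap {Ω : Type*} [Field Ω] [Algebra k Ω] [Algebra k' Ω] [IsScalarTower k k' Ω]
    (f : IsLocalRing.ResidueField P.O →ₐ[k] k') (t : P.O ⊗[k] k') :
    evalChar k' P ((IsScalarTower.toAlgHom k k' Ω).comp f) t = algebraMap k' Ω (evalChar k' P f t) := by
  induction t using TensorProduct.induction_on with
  | zero => simp
  | tmul a c => simp [evalChar_tmul, map_mul]
  | add u v hu hv => rw [map_add, map_add, map_add, hu, hv]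

theorem val_le_exp_neg_one {R : Place k K'} {z : K'} (h : R.1 z < 1) : R.1 z ≤ exp (-1) := by
  rcases eq_or_ne z 0 with h0 | h0
  · rw [h0, map_zero]; exact zero_le
  rw [val_eq_exp R h0, ← exp_zero, exp_lt_exp] at h
  rw [val_eq_exp R h0, exp_le_exp]; omega

variable (hK : IsFunctionField k K) (hφ : Function.Bijective φ)
  (hφt : ∀ a c, φ (a ⊗ₜ c) = algebraMap K K' a * algebraMap k' K' c)
  (hns : integralClosure (P.O.toSubring.map (algebraMap K K')) K' =
    Algebra.adjoin (P.O.toSubring.map (algebraMap K K')) (Set.range (algebraMap k' K')))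
  (hsplit : ∀ Q : Place k' K', IsOver (placeRestrict k k' K' Q) P → Q.deg = 1)

/-- The places above, as places over the big constants. -/
abbrev Above (k' K' : Type*) [Field k'] [Field K'] [Algebra k k'] [FiniteDimensional k k'] [Algebra K K'] [Algebra k' K']
    [Algebra k K'] [IsScalarTower k k' K'] (P : Place k K) :=
  {Q : Place k' K' // IsOver (placeRestrict k k' K' Q) P}

/-- The character of a place above. -/
noncomputable def charOf (Q : Above k' K' P) : IsLocalRing.ResidueField P.O →ₐ[k] k' :=
  resChar Q.1 (hsplit Q.1 Q.2) (isOverWith_ramIdx Q.2)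

include hK hφt hns in
theorem charOf_injective (Ω : Type*) [Field Ω] [Algebra k Ω] [Algebra k' Ω] [IsScalarTower k k' Ω] :
    Function.Injective fun Q : Above k' K' P => (IsScalarTower.toAlgHom k k' Ω).comp (charOf hsplit Q) := by
  classical
  intro Q R hQR
  by_contra hne
  set τ := placeRestrict k k' K'
  have hne' : τ Q.1 ≠ τ R.1 := fun h0 => hne (Subtype.ext (τ.injective h0))
  have hσ0 : charOf hsplit Q = charOf hsplit R :=
    AlgHom.ext fun a => (algebraMap k' Ω).injective (congrArg (fun f => f a) hQR)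
  obtain ⟨u, hu⟩ := exists_approx (k := k) (K := K') (finite_isOver hK P).toFinset
    (fun S => if S = τ R.1 then (1 : K') else 0) (fun _ => -1)
  have hu' : ∀ S, IsOver S P → S.1 (u - if S = τ R.1 then (1 : K') else 0) < 1 := fun S hS =>
    (hu S ((finite_isOver hK P).mem_toFinset.2 hS)).trans_lt (by rw [← exp_zero, exp_lt_exp]; norm_num)
  have huint : IntAbove P u := fun S hS => by
    have h1 := (hu' S hS).le
    rw [← sub_add_cancel u (if S = τ R.1 then (1 : K') else 0)]
    exact S.1.map_add_le h1 (by split_ifs <;> simp)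
  obtain ⟨t, rfl⟩ := exists_inclS_eq hK hφt hns huint
  have h1 := hu' (τ R.1) R.2
  rw [if_pos rfl] at h1
  have h2 := hu' (τ Q.1) Q.2
  rw [if_neg hne', sub_zero] at h2
  have e1 := evalChar_eq_of_small hφt (hsplit Q.1 Q.2) (isOverWith_ramIdx Q.2) t 0 (by rw [map_zero, sub_zero]; exact h2)
  have e2 := evalChar_eq_of_small hφt (hsplit R.1 R.2) (isOverWith_ramIdx R.2) t 1 (by rw [map_one]; exact h1)
  have h3 : evalChar k' P (charOf hsplit Q) t = evalChar k' P (charOf hsplit R) t := by rw [hσ0]
  rw [charOf, charOf, e1, e2] at h3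
  exact zero_ne_one h3

include hK hφ hφt hns in
theorem charOf_surjective (Ω : Type*) [Field Ω] [Algebra k Ω] [Algebra k' Ω] [IsScalarTower k k' Ω] :
    Function.Surjective fun Q : Above k' K' P => (IsScalarTower.toAlgHom k k' Ω).comp (charOf hsplit Q) := by
  classical
  intro f
  by_contra hall
  push Not at hall
  set τ := placeRestrict k k' K'
  have : Finite (Above k' K' P) :=
    (Set.Finite.preimage (f := τ) τ.injective.injOn (finite_isOver (K' := K') hK P)).to_subtype
  have := Fintype.ofFinite (Above k' K' P)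
  have hz : ∀ Q : Above k' K' P, ∃ t, evalChar k' P (charOf hsplit Q) t = 0 ∧ evalChar k' P f t ≠ 0 := by
    intro Q
    obtain ⟨a, ha⟩ : ∃ a, algebraMap k' Ω (charOf hsplit Q a) ≠ f a := by
      by_contra! h0
      exact hall Q (AlgHom.ext h0)
    obtain ⟨a, rfl⟩ := IsLocalRing.residue_surjective a
    refine ⟨a ⊗ₜ 1 - 1 ⊗ₜ charOf hsplit Q (IsLocalRing.residue P.O a), ?_, ?_⟩
    · rw [map_sub, evalChar_tmul, evalChar_tmul, map_one (IsLocalRing.residue P.O), map_one, map_one, one_mul, mul_one]
      exact sub_self _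
    · rw [map_sub, evalChar_tmul, evalChar_tmul, map_one (IsLocalRing.residue P.O), map_one, map_one, one_mul, mul_one]
      exact sub_ne_zero.2 ha.symm
  choose tQ htQ htQ' using hz
  set M := ∑ R ∈ (finite_isOver (K' := K') hK P).toFinset, ramIdx R P
  have hzero := resS_eq_zero_of_small hK hφ hφt hns ((∏ Q, tQ Q) ^ M) fun R hR => by
    obtain ⟨Q, rfl⟩ := τ.surjective R
    have hle : ramIdx (τ Q) P ≤ M := Finset.single_le_sum (f := fun R : Place k K' => ramIdx R P)
      (fun _ _ => Nat.zero_le _) ((finite_isOver hK P).mem_toFinset.2 hR)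
    have h0 : evalChar k' P (charOf hsplit ⟨Q, hR⟩) (∏ T, tQ T) = 0 := by
      rw [map_prod]
      refine Finset.prod_eq_zero (i := (⟨Q, hR⟩ : Above k' K' P)) (Finset.mem_univ _) ?_
      exact htQ ⟨Q, hR⟩
    have h1 := evalChar_spec hφt (hsplit Q hR) (isOverWith_ramIdx hR) (∏ T, tQ T)
    rw [charOf] at h0
    rw [h0, map_zero, sub_zero] at h1
    rw [map_pow, map_pow, map_pow]
    refine (pow_le_pow_left₀ zero_le (val_le_exp_neg_one (R := τ Q) h1) M).trans ?_
    rw [← exp_nsmul, exp_le_exp]; simp; exact hle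
  have h2 : evalChar k' P f ((∏ Q, tQ Q) ^ M) = 0 := by
    show Algebra.TensorProduct.productMap _ _ (resS k' P _) = 0
    rw [hzero, map_zero]
  rw [map_pow, map_prod] at h2
  exact Finset.prod_ne_zero_iff.2 (fun Q _ => htQ' Q) (eq_zero_of_pow_eq_zero h2)

/-- An embedding is determined on a primitive element of the separable closure. -/
theorem algHom_ext_of_primitive {k F Ω : Type*} [Field k] [Field F] [Field Ω] [Algebra k F] [Algebra k Ω]
    [Algebra.IsAlgebraic k F] (θ : separableClosure k F)
    (hθ : IntermediateField.adjoin k ({θ} : Set (separableClosure k F)) = ⊤) (f g : F →ₐ[k] Ω)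
    (h : f (θ : F) = g (θ : F)) : f = g := by
  have hS : ∀ s : separableClosure k F, f (s : F) = g (s : F) := fun s => by
    have : f.comp (separableClosure k F).val = g.comp (separableClosure k F).val := by
      refine AlgHom.ext fun z => ?_
      have hz : z ∈ IntermediateField.adjoin k ({θ} : Set (separableClosure k F)) := by rw [hθ]; trivial
      induction hz using IntermediateField.adjoin_induction with
      | mem w hw =>
        obtain rfl : w = θ := hw
        exact h
      | algebraMap c => rw [AlgHom.commutes, AlgHom.commutes]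
      | add u w _ _ hu hw => rw [map_add, map_add, hu, hw]
      | inv u _ hu => rw [map_inv₀, map_inv₀, hu]
      | mul u w _ _ hu hw => rw [map_mul, map_mul, hu, hw]
    exact congrArg (fun f => f s) this
  refine AlgHom.ext fun a => ?_
  obtain ⟨qe, hqe⟩ := ExpChar.exists k
  have : ExpChar (separableClosure k F) qe :=
    expChar_of_injective_algebraMap (algebraMap k (separableClosure k F)).injective qe
  have : ExpChar Ω qe := expChar_of_injective_algebraMap (algebraMap k Ω).injective qe
  obtain ⟨n, s, hs⟩ := IsPurelyInseparable.pow_mem (separableClosure k F) qe a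
  refine iterateFrobenius_inj Ω qe n ?_
  rw [iterateFrobenius_def, iterateFrobenius_def, ← map_pow, ← map_pow, ← hs]
  exact hS s

include hK hφ hφt hns hsplit in
theorem insepDegree_le_ramIdx (Q : Above k' K' P) :
    Module.finrank (separableClosure k (IsLocalRing.ResidueField P.O)) (IsLocalRing.ResidueField P.O) ≤
      ramIdx (placeRestrict k k' K' Q.1) P := by
  classical
  set τ := placeRestrict k k' K'
  set F := IsLocalRing.ResidueField P.O
  have : FiniteDimensional k F := Module.finite_of_finrank_pos (deg_pos hK P)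
  set S := separableClosure k F
  set q := Module.finrank S F
  obtain ⟨θ, hθ⟩ := Field.exists_primitive_element k S
  by_contra hlt
  push Not at hlt
  set cτ := charOf hsplit Q (θ : F)
  set m : Polynomial k' := (minpoly k θ).map (algebraMap k k')
  have hroot : m.eval cτ = 0 := by
    rw [Polynomial.eval_map, ← Polynomial.aeval_def]
    show Polynomial.aeval ((charOf hsplit Q).comp S.val θ) (minpoly k θ) = 0
    rw [Polynomial.aeval_algHom_apply, minpoly.aeval, map_zero]
  obtain ⟨hpoly, hh⟩ : ∃ hp : Polynomial k', m = (Polynomial.X - Polynomial.C cτ) * hp := Polynomial.dvd_iff_isRoot.2 hroot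
  set hc := hpoly.eval cτ
  have hc0 : hc ≠ 0 := by
    have hd : m.derivative.eval cτ = hc := by
      rw [hh, Polynomial.derivative_mul]; simp [hc]
    rw [← hd, Polynomial.derivative_map, Polynomial.eval_map, ← Polynomial.aeval_def]
    show Polynomial.aeval ((charOf hsplit Q).comp S.val θ) _ ≠ 0
    rw [Polynomial.aeval_algHom_apply, map_ne_zero]
    exact (Algebra.IsSeparable.isSeparable k θ).aeval_derivative_ne_zero (minpoly.aeval k θ)
  let iR : k' →+* S ⊗[k] k' := (Algebra.TensorProduct.includeRight : k' →ₐ[k] S ⊗[k] k').toRingHom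
  set gS : S ⊗[k] k' := hpoly.eval₂ iR (θ ⊗ₜ 1)
  have hkill : (θ ⊗ₜ[k] (1 : k') - (1 : S) ⊗ₜ[k] cτ) * gS = 0 := by
    have h1 := congrArg (Polynomial.eval₂ iR (θ ⊗ₜ 1)) hh
    rw [Polynomial.eval₂_mul, Polynomial.eval₂_sub, Polynomial.eval₂_X, Polynomial.eval₂_C, Polynomial.eval₂_map,
      show iR.comp (algebraMap k k') = algebraMap k (S ⊗[k] k') from
        RingHom.ext fun c => (Algebra.TensorProduct.includeRight : k' →ₐ[k] S ⊗[k] k').commutes c,
      ← Polynomial.aeval_def, show (θ ⊗ₜ[k] (1 : k')) = (Algebra.TensorProduct.includeLeft : S →ₐ[k] S ⊗[k] k') θ from rfl,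
      Polynomial.aeval_algHom_apply, minpoly.aeval, map_zero] at h1
    exact h1.symm
  have hsq : gS * gS = gS * ((1 : S) ⊗ₜ[k] hc) := by
    obtain ⟨r, hr⟩ := Polynomial.X_sub_C_dvd_sub_C_eval (p := hpoly) (a := cτ)
    have h1 := congrArg (Polynomial.eval₂ iR (θ ⊗ₜ 1)) hr
    rw [Polynomial.eval₂_sub, Polynomial.eval₂_mul, Polynomial.eval₂_C, Polynomial.eval₂_sub, Polynomial.eval₂_X,
      Polynomial.eval₂_C] at h1
    have h2 := congrArg (gS * ·) h1
    simp only [← mul_assoc] at h2
    rw [show iR cτ = (1 : S) ⊗ₜ[k] cτ from rfl, mul_comm gS (θ ⊗ₜ[k] (1 : k') - (1 : S) ⊗ₜ[k] cτ), hkill, zero_mul, mul_sub, sub_eq_zero] at h2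
    exact h2
  let jS : S ⊗[k] k' →ₐ[k] F ⊗[k] k' := Algebra.TensorProduct.map S.val (AlgHom.id k k')
  obtain ⟨G, hG⟩ : ∃ G, resS k' P G = jS gS := by
    have hs : ∀ y : F ⊗[k] k', ∃ G, resS k' P G = y := fun y => by
      induction y using TensorProduct.induction_on with
      | zero => exact ⟨0, map_zero _⟩
      | tmul a c =>
        obtain ⟨a, rfl⟩ := IsLocalRing.residue_surjective a
        exact ⟨a ⊗ₜ c, rfl⟩
      | add u v hu hv =>
        obtain ⟨a, rfl⟩ := hu; obtain ⟨b, rfl⟩ := hv
        exact ⟨a + b, map_add _ _ _⟩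
    exact hs _
  have hGR : ∀ R : Above k' K' P, R ≠ Q → evalChar k' P (charOf hsplit R) G = 0 := by
    intro R hR
    have hne : charOf hsplit R θ ≠ cτ := fun h0 => hR (charOf_injective hK hφt hns hsplit (AlgebraicClosure k') (by
      refine algHom_ext_of_primitive θ hθ _ _ ?_
      exact congrArg (algebraMap k' (AlgebraicClosure k')) h0))
    have h1 := congrArg (Algebra.TensorProduct.productMap ((charOf hsplit R).comp S.val) (AlgHom.id k k')) hkill
    rw [map_mul, map_sub, map_zero, Algebra.TensorProduct.productMap_apply_tmul,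
      Algebra.TensorProduct.productMap_apply_tmul, map_one, map_one, one_mul, mul_one] at h1
    have h2 := (mul_eq_zero.1 h1).resolve_left (sub_ne_zero.2 hne)
    show Algebra.TensorProduct.productMap _ _ (resS k' P G) = 0
    rw [hG]
    refine Eq.trans ?_ h2
    generalize gS = y
    induction y using TensorProduct.induction_on with
    | zero => simp
    | tmul a c => simp [jS]
    | add u v hu hv => simp only [map_add, hu, hv]
  have hgQ : Algebra.TensorProduct.productMap ((charOf hsplit Q).comp S.val) (AlgHom.id k k') gS = hc := by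
    rw [show gS = hpoly.eval₂ iR (θ ⊗ₜ 1) from rfl]
    refine (Polynomial.hom_eval₂ hpoly iR
      (Algebra.TensorProduct.productMap ((charOf hsplit Q).comp S.val) (AlgHom.id k k')).toRingHom _).trans ?_
    show hpoly.eval₂ _ (Algebra.TensorProduct.productMap ((charOf hsplit Q).comp S.val) (AlgHom.id k k') (θ ⊗ₜ 1)) = _
    rw [Algebra.TensorProduct.productMap_apply_tmul, map_one, mul_one]
    rw [show (Algebra.TensorProduct.productMap ((charOf hsplit Q).comp S.val) (AlgHom.id k k')).toRingHom.comp iR = RingHom.id k' from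
      RingHom.ext fun c => by simp [iR]]
    rfl
  have : FiniteDimensional S F := Module.Finite.of_restrictScalars_finite k S F
  let b := Module.finBasis S F
  choose a ha using fun j => IsLocalRing.residue_surjective (R := P.O) (b j)
  set M := ∑ R ∈ (finite_isOver (K' := K') hK P).toFinset, ramIdx R P
  let W : Fin q → P.O ⊗[k] k' := fun j => (a j ⊗ₜ 1) * G ^ (M + 1)
  obtain ⟨c, hc', hcv⟩ := finrank_le_of_bound (hsplit Q.1 Q.2) (ramIdx (τ Q.1) P) (fun j => φ (inclS k' P (W j)))
    (fun j => intAbove_inclS (φ := φ) (W j) (τ Q.1) Q.2) hlt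
  set T := ∑ j, ((1 : P.O) ⊗ₜ[k] c j) * W j
  have hT : φ (inclS k' P T) = ∑ j, c j • φ (inclS k' P (W j)) := by
    rw [map_sum, map_sum]
    refine Finset.sum_congr rfl fun j _ => ?_
    rw [map_mul, map_mul, inclS_tmul, hφt, OneMemClass.coe_one, map_one, one_mul, Algebra.smul_def]
  have hres := resS_eq_zero_of_small hK hφ hφt hns T fun R hR => by
    obtain ⟨R, rfl⟩ := τ.surjective R
    by_cases hRQ : R = Q.1
    · subst hRQ; rw [hT]; exact hcv
    rw [show T = (∑ j, ((1 : P.O) ⊗ₜ[k] c j) * (a j ⊗ₜ 1)) * G ^ (M + 1) by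
      rw [Finset.sum_mul]; exact Finset.sum_congr rfl fun j _ => by simp only [W, mul_assoc]]
    rw [map_mul, map_mul, map_mul, map_pow, map_pow, map_pow]
    refine (mul_le_of_le_one_left' (intAbove_inclS (φ := φ) _ _ hR)).trans ?_
    have h1 := evalChar_spec hφt (hsplit R hR) (isOverWith_ramIdx hR) G
    have h0 := hGR ⟨R, hR⟩ fun h0 => hRQ (congrArg Subtype.val h0)
    rw [charOf] at h0
    rw [h0, map_zero, sub_zero] at h1
    refine (pow_le_pow_left₀ zero_le (val_le_exp_neg_one (R := τ R) h1) (M + 1)).trans ?_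
    rw [← exp_nsmul, exp_le_exp]
    have hle : ramIdx (τ R) P ≤ M := Finset.single_le_sum (f := fun R : Place k K' => ramIdx R P)
      (fun _ _ => Nat.zero_le _) ((finite_isOver hK P).mem_toFinset.2 hR)
    simp; omega
  have hgpow : ∀ N : ℕ, gS ^ (N + 1) = gS * ((1 : S) ⊗ₜ[k] (hc ^ N)) := fun N => by
    induction N with
    | zero => rw [pow_one, pow_zero, ← Algebra.TensorProduct.one_def, mul_one]
    | succ N ih =>
      rw [pow_succ, ih, mul_right_comm, hsq, mul_assoc, Algebra.TensorProduct.tmul_mul_tmul, one_mul, pow_succ']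
  have h0 := eq_zero_of_sum_mul S b.linearIndependent (fun j => gS * ((1 : S) ⊗ₜ[k] (hc ^ M * c j))) (by
    refine Eq.trans ?_ hres
    rw [map_sum]
    refine Finset.sum_congr rfl fun j _ => ?_
    rw [map_mul (resS k' P), resS_tmul, map_one, show resS k' P (W j) = (b j ⊗ₜ 1) * jS gS ^ (M + 1) by
      rw [map_mul, map_pow, resS_tmul, ha, hG], ← map_pow jS, hgpow, map_mul jS, map_mul, Algebra.TensorProduct.map_tmul,
      Algebra.TensorProduct.map_tmul, map_one, AlgHom.id_apply, AlgHom.id_apply,
      show (1 : F) ⊗ₜ[k] (hc ^ M * c j) = ((1 : F) ⊗ₜ[k] (hc ^ M)) * ((1 : F) ⊗ₜ[k] c j) by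
        rw [Algebra.TensorProduct.tmul_mul_tmul, one_mul]]
    ring)
  refine hc' (funext fun j => ?_)
  have h1 := congrArg (Algebra.TensorProduct.productMap ((charOf hsplit Q).comp S.val) (AlgHom.id k k')) (congrFun h0 j)
  rw [Pi.zero_apply, map_zero, map_mul, hgQ, Algebra.TensorProduct.productMap_apply_tmul, map_one, one_mul,
    AlgHom.id_apply, mul_eq_zero, mul_eq_zero] at h1
  exact (h1.resolve_left hc0).resolve_left (pow_ne_zero _ hc0)

include hK hφ hφt hns hsplit in
theorem card_and_ramIdx :
    Finite (Above k' K' P) ∧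
      Nat.card (Above k' K' P) = Field.finSepDegree k (IsLocalRing.ResidueField P.O) ∧
      ∀ Q : Above k' K' P, ramIdx (placeRestrict k k' K' Q.1) P =
        Module.finrank (separableClosure k (IsLocalRing.ResidueField P.O)) (IsLocalRing.ResidueField P.O) := by
  classical
  set τ := placeRestrict k k' K'
  set F := IsLocalRing.ResidueField P.O
  have : FiniteDimensional k F := Module.finite_of_finrank_pos (deg_pos hK P)
  have hfin : Finite (Above k' K' P) :=
    (Set.Finite.preimage (f := τ) τ.injective.injOn (finite_isOver (K' := K') hK P)).to_subtype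
  have := Fintype.ofFinite (Above k' K' P)
  have hcard : Nat.card (Above k' K' P) = Field.finSepDegree k F := by
    rw [Field.finSepDegree_eq_of_isAlgClosed k F (AlgebraicClosure k')]
    exact Nat.card_congr (Equiv.ofBijective _
      ⟨charOf_injective hK hφt hns hsplit _, charOf_surjective hK hφ hφt hns hsplit _⟩)
  obtain ⟨-, hsum⟩ := finite_isOver_and_sum (K' := K') hK P
  have hsum' := hsum (Finset.univ.map ⟨fun Q : Above k' K' P => τ Q.1, fun a b h0 => Subtype.ext (τ.injective h0)⟩)
    fun R => by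
      simp only [Finset.mem_map, Finset.mem_univ, true_and, Function.Embedding.coeFn_mk]
      exact ⟨fun ⟨Q, hQ⟩ => hQ ▸ Q.2, fun hR => ⟨⟨τ.symm R, by rw [Equiv.apply_symm_apply]; exact hR⟩,
        τ.apply_symm_apply R⟩⟩
  rw [Finset.sum_map] at hsum'
  have hn : Module.finrank K K' = Module.finrank k k' := by
    rw [← (AlgEquiv.ofBijective φ hφ).toLinearEquiv.finrank_eq, Module.finrank_baseChange]
  have hd : ∀ Q : Above k' K' P, (τ Q.1).deg = Module.finrank k k' := fun Q => by
    rw [deg_placeRestrict, hsplit Q.1 Q.2, mul_one]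
  simp only [Function.Embedding.coeFn_mk, hd, ← Finset.sum_mul, hn] at hsum'
  have hP : P.deg = Fintype.card (Above k' K' P) * Module.finrank (separableClosure k F) F := by
    rw [← Nat.card_eq_fintype_card, hcard, show P.deg = Module.finrank k F from rfl]
    exact (Field.finSepDegree_mul_finInsepDegree k F).symm
  have hsum2 : ∑ Q : Above k' K' P, ramIdx (τ Q.1) P =
      ∑ _Q : Above k' K' P, Module.finrank (separableClosure k F) F := by
    rw [Finset.sum_const, Finset.card_univ, smul_eq_mul, ← hP]
    exact Nat.eq_of_mul_eq_mul_right Module.finrank_pos (hsum'.trans (mul_comm _ _))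
  have heq := (Finset.sum_eq_sum_iff_of_le fun Q _ => insepDegree_le_ramIdx hK hφ hφt hns hsplit Q).1 hsum2.symm
  exact ⟨hfin, hcard, fun Q => (heq Q (Finset.mem_univ _)).symm⟩

omit [FiniteDimensional K K'] in
theorem count_and_ramIdx
    (h : Function.Bijective (Algebra.TensorProduct.productMap
      (IsScalarTower.toAlgHom k k' K') (IsScalarTower.toAlgHom k K K')))
    (hK : IsFunctionField k K) (P : Place k K)
    (hns : integralClosure (P.O.toSubring.map (algebraMap K K')) K' =
        Algebra.adjoin (P.O.toSubring.map (algebraMap K K')) (Set.range (algebraMap k' K')))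
    (hsplit : ∀ Q : Place k' K', (∃ e : ℕ, ∀ z : K, Q.1 (algebraMap K K' z) = P.1 z ^ e) → Q.deg = 1) :
    {Q : Place k' K' | ∃ e : ℕ, ∀ z : K, Q.1 (algebraMap K K' z) = P.1 z ^ e}.Finite ∧
    {Q : Place k' K' | ∃ e : ℕ, ∀ z : K, Q.1 (algebraMap K K' z) = P.1 z ^ e}.ncard =
      Field.finSepDegree k (IsLocalRing.ResidueField P.O) ∧
    ∀ Q : Place k' K', (∃ e : ℕ, ∀ z : K, Q.1 (algebraMap K K' z) = P.1 z ^ e) →
      ∀ z : K, Q.1 (algebraMap K K' z) =
        P.1 z ^ Module.finrank (separableClosure k (IsLocalRing.ResidueField P.O)) (IsLocalRing.ResidueField P.O) := by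
  obtain ⟨φ, hφ, hφt⟩ := exists_constExt_hom h
  have : FiniteDimensional K K' := Module.Finite.equiv (AlgEquiv.ofBijective φ hφ).toLinearEquiv
  obtain ⟨hfin, hcard, hram⟩ := card_and_ramIdx hK hφ hφt hns (fun Q hQ => hsplit Q hQ)
  refine ⟨Set.finite_coe_iff.1 hfin, (Nat.card_coe_set_eq _).symm.trans hcard, fun Q hQ z => ?_⟩
  have h1 := isOverWith_ramIdx (Q := placeRestrict k k' K' Q) (P := P) hQ z
  rw [hram ⟨Q, hQ⟩] at h1
  exact h1

end Groth.Agent.FunFldLib.SplitCount
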