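import Mathlib.LinearAlgebra.Trace
import Mathlib.LinearAlgebra.FiniteDimensional.Basic
import Mathlib.LinearAlgebra.Projection

/-!
Traces of finite-potent operators and the trace of `[π f, g]` relative to a lattice (Tate).
-/

namespace Groth.Agent.FunFldLib.Tate

variable {k : Type*} [Field k] {V : Type*} [AddCommGroup V] [Module k V]

/-- `τ` is the trace of the finite-potent operator `C`, computed on some invariant finite subspace. -/
def HasTr (C : V →ₗ[k] V) (τ : k) : Prop :=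
  ∃ U : Submodule k V, FiniteDimensional k U ∧ ∃ hU : ∀ x ∈ U, C x ∈ U,
    (∃ n : ℕ, ∀ x, (C ^ n) x ∈ U) ∧ LinearMap.trace k U (C.restrict hU) = τ

theorem pow_mem {C : V →ₗ[k] V} {U : Submodule k V} (hU : ∀ x ∈ U, C x ∈ U) (n : ℕ) :
    ∀ x ∈ U, (C ^ n) x ∈ U := by
  induction n with
  | zero => exact fun x hx => hx
  | succ n ih => intro x hx; rw [pow_succ, Module.End.mul_apply]; exact ih _ (hU x hx)

/-- The trace on a subspace containing the image. -/
theorem trace_step {C : V →ₗ[k] V} {U U' : Submodule k V} [FiniteDimensional k U] (hle : U' ≤ U)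
    (hU : ∀ x ∈ U, C x ∈ U) (hU' : ∀ x ∈ U', C x ∈ U') (hC : ∀ x ∈ U, C x ∈ U') :
    LinearMap.trace k U (C.restrict hU) = LinearMap.trace k U' (C.restrict hU') := by
  have : FiniteDimensional k U' := Submodule.finiteDimensional_of_le hle
  let r : U →ₗ[k] U' := (C ∘ₗ U.subtype).codRestrict U' fun x => hC x x.2
  have e1 : C.restrict hU = (Submodule.inclusion hle) ∘ₗ r := LinearMap.ext fun x => Subtype.ext rfl
  have e2 : C.restrict hU' = r ∘ₗ (Submodule.inclusion hle) := LinearMap.ext fun x => Subtype.ext rfl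
  rw [e1, e2, LinearMap.trace_comp_comm']

theorem trace_pow_step {C : V →ₗ[k] V} (n : ℕ) : ∀ {U U' : Submodule k V} [FiniteDimensional k U],
    U' ≤ U → ∀ (hU : ∀ x ∈ U, C x ∈ U) (hU' : ∀ x ∈ U', C x ∈ U'), (∀ x ∈ U, (C ^ n) x ∈ U') →
      LinearMap.trace k U (C.restrict hU) = LinearMap.trace k U' (C.restrict hU') := by
  induction n with
  | zero =>
    intro U U' _ hle hU hU' h
    obtain rfl : U = U' := le_antisymm (fun x hx => by simpa using h x hx) hle
    rfl
  | succ n ih =>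
    intro U U' _ hle hU hU' h
    have hU'' : ∀ x ∈ U' ⊔ U.map C, C x ∈ U' ⊔ U.map C := fun x hx => by
      obtain ⟨a, ha, b, hb, rfl⟩ := Submodule.mem_sup.1 hx
      obtain ⟨b', hb', rfl⟩ := hb
      rw [map_add]
      exact add_mem (Submodule.mem_sup_left (hU' a ha))
        (Submodule.mem_sup_right (Submodule.mem_map_of_mem (hU b' hb')))
    have hle'' : U' ⊔ U.map C ≤ U := sup_le hle (by rintro _ ⟨x, hx, rfl⟩; exact hU x hx)
    have : FiniteDimensional k (U' ⊔ U.map C : Submodule k V) := Submodule.finiteDimensional_of_le hle''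
    rw [trace_step hle'' hU hU'' fun x hx => Submodule.mem_sup_right (Submodule.mem_map_of_mem hx)]
    refine ih le_sup_left hU'' hU' fun x hx => ?_
    obtain ⟨a, ha, b, ⟨b', hb', rfl⟩, rfl⟩ := Submodule.mem_sup.1 hx
    rw [map_add]
    refine add_mem (pow_mem hU' n a ha) ?_
    have := h b' hb'
    rwa [pow_succ, Module.End.mul_apply] at this

theorem HasTr.unique {C : V →ₗ[k] V} {τ τ' : k} (h : HasTr C τ) (h' : HasTr C τ') : τ = τ' := by
  obtain ⟨U, hf, hU, ⟨n, hn⟩, rfl⟩ := h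
  obtain ⟨U', hf', hU', ⟨n', hn'⟩, rfl⟩ := h'
  have hs : ∀ x ∈ U ⊔ U', C x ∈ U ⊔ U' := fun x hx => by
    obtain ⟨a, ha, b, hb, rfl⟩ := Submodule.mem_sup.1 hx
    rw [map_add]
    exact add_mem (Submodule.mem_sup_left (hU a ha)) (Submodule.mem_sup_right (hU' b hb))
  rw [← trace_pow_step n le_sup_left hs hU fun x _ => hn x, ← trace_pow_step n' le_sup_right hs hU' fun x _ => hn' x]

theorem hasTr_zero_of_pow {C : V →ₗ[k] V} {n : ℕ} (h : ∀ x, (C ^ n) x = 0) : HasTr C 0 := by
  refine ⟨⊥, inferInstance, fun x hx => by rw [(Submodule.mem_bot k).1 hx, map_zero]; exact zero_mem _, ⟨n, fun x => by rw [h x]; exact zero_mem _⟩, ?_⟩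
  rw [show C.restrict _ = (0 : (⊥ : Submodule k V) →ₗ[k] (⊥ : Submodule k V)) from
    LinearMap.ext fun x => Subsingleton.elim _ _, map_zero]

/-- `tr (a b) = tr (b a)`. -/
theorem HasTr.swap {V' : Type*} [AddCommGroup V'] [Module k V'] {a : V' →ₗ[k] V} {b : V →ₗ[k] V'} {τ : k}
    (h : HasTr (a ∘ₗ b) τ) : HasTr (b ∘ₗ a) τ := by
  obtain ⟨U, hf, hU, ⟨n, hn⟩, rfl⟩ := h
  have hb : ∀ x ∈ U.map b, a x ∈ U := by rintro _ ⟨y, hy, rfl⟩; exact hU y hy
  refine ⟨U.map b, inferInstance, fun x hx => Submodule.mem_map_of_mem (hb x hx), ⟨n + 1, fun x => ?_⟩, ?_⟩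
  · have e : ∀ (m : ℕ) y, ((b ∘ₗ a) ^ m) (b y) = b (((a ∘ₗ b) ^ m) y) := fun m => by
      induction m with
      | zero => exact fun y => rfl
      | succ m ih =>
        intro y
        rw [pow_succ, pow_succ, Module.End.mul_apply, Module.End.mul_apply, LinearMap.comp_apply, ih]
        rfl
    rw [pow_succ, Module.End.mul_apply, LinearMap.comp_apply, e]
    exact Submodule.mem_map_of_mem (hn _)
  · let r : U →ₗ[k] U.map b := (b ∘ₗ U.subtype).codRestrict _ fun x => Submodule.mem_map_of_mem x.2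
    let s : U.map b →ₗ[k] U := (a ∘ₗ (U.map b).subtype).codRestrict _ fun x => hb x x.2
    rw [show (b ∘ₗ a).restrict _ = r ∘ₗ s from LinearMap.ext fun x => Subtype.ext rfl,
      show (a ∘ₗ b).restrict hU = s ∘ₗ r from LinearMap.ext fun x => Subtype.ext rfl, LinearMap.trace_comp_comm']

/-- An invariant finite subspace containing the image computes the trace. -/
theorem hasTr_of_range {C : V →ₗ[k] V} {U : Submodule k V} [hf : FiniteDimensional k U] (h : ∀ x, C x ∈ U) :
    HasTr C (LinearMap.trace k U (C.restrict fun x _ => h x)) :=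
  ⟨U, hf, _, ⟨1, fun x => by simpa using h x⟩, rfl⟩

/-- Additivity for operators of finite rank. -/
theorem HasTr.sub_finite {C D : V →ₗ[k] V} {σ τ : k} (hC : HasTr C σ) (hD : HasTr D τ)
    [FiniteDimensional k (LinearMap.range C)] [FiniteDimensional k (LinearMap.range D)] :
    HasTr (C - D) (σ - τ) := by
  set U := LinearMap.range C ⊔ LinearMap.range D
  have h1 : ∀ x, C x ∈ U := fun x => Submodule.mem_sup_left (LinearMap.mem_range_self C x)
  have h2 : ∀ x, D x ∈ U := fun x => Submodule.mem_sup_right (LinearMap.mem_range_self D x)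
  have h3 : ∀ x, (C - D) x ∈ U := fun x => sub_mem (h1 x) (h2 x)
  rw [hC.unique (hasTr_of_range h1), hD.unique (hasTr_of_range h2), ← map_sub]
  convert hasTr_of_range h3 using 3
  exact LinearMap.ext fun x => Subtype.ext rfl

/-- A traceless finite-rank operator minus a square-zero one is traceless. -/
theorem HasTr.sub_sq_zero {E N : V →ₗ[k] V} [FiniteDimensional k (LinearMap.range E)] (hE : HasTr E 0)
    (hN : ∀ x, N (N x) = 0) : HasTr (E - N) 0 := by
  set R := LinearMap.range E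
  set U := R ⊔ R.map N
  have hEU : ∀ x, E x ∈ U := fun x => Submodule.mem_sup_left (LinearMap.mem_range_self E x)
  have hNU : ∀ x ∈ U, N x ∈ U := fun x hx => by
    obtain ⟨a, ha, b, ⟨b', hb', rfl⟩, rfl⟩ := Submodule.mem_sup.1 hx
    rw [map_add, hN, add_zero]
    exact Submodule.mem_sup_right (Submodule.mem_map_of_mem ha)
  refine ⟨U, inferInstance, fun x hx => sub_mem (hEU x) (hNU x hx), ⟨2, fun x => ?_⟩, ?_⟩
  · show (E - N) ((E - N) x) ∈ U
    rw [LinearMap.sub_apply, LinearMap.sub_apply, map_sub N (E x), hN, sub_zero]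
    exact sub_mem (hEU _) (Submodule.mem_sup_right (Submodule.mem_map_of_mem (LinearMap.mem_range_self E x)))
  · have h1 := hE.unique (hasTr_of_range hEU)
    have h2 : LinearMap.trace k U (N.restrict hNU) = 0 := by
      rw [trace_pow_step 2 (U := U) (U' := ⊥) bot_le hNU (fun x hx => by
        rw [(Submodule.mem_bot k).1 hx, map_zero]; exact zero_mem _) fun x _ => by
        rw [pow_two, Module.End.mul_apply, hN]; exact zero_mem _,
        show N.restrict _ = (0 : (⊥ : Submodule k V) →ₗ[k] (⊥ : Submodule k V)) from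
          LinearMap.ext fun x => Subsingleton.elim _ _, map_zero]
    rw [show (E - N).restrict _ = (E.restrict fun x _ => hEU x) - N.restrict hNU from
      LinearMap.ext fun x => Subtype.ext rfl, map_sub, ← h1, h2, sub_zero]

/-- The quotient `L/H`. -/
abbrev Band (L H : Submodule k V) := L ⧸ H.comap L.subtype

/-- The operator induced on `L/H` by one with image in `L` that kills `H`. -/
noncomputable def band {L H : Submodule k V} (C : V →ₗ[k] V) (hr : ∀ x, C x ∈ L) (hk : ∀ x ∈ H, C x = 0) :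
    Band L H →ₗ[k] Band L H :=
  Submodule.mapQ _ _ (C.restrict fun x _ => hr x) fun x hx => by
    show (C (x : V)) ∈ H
    rw [hk (x : V) hx]; exact zero_mem _

theorem band_mk {L H : Submodule k V} (C : V →ₗ[k] V) (hr : ∀ x, C x ∈ L) (hk : ∀ x ∈ H, C x = 0) (x : L) :
    band C hr hk (Submodule.Quotient.mk x) = Submodule.Quotient.mk ⟨C x, hr x⟩ := rfl

theorem hasTr_band {L H : Submodule k V} [FiniteDimensional k (Band L H)] {C : V →ₗ[k] V} (hr : ∀ x, C x ∈ L)
    (hk : ∀ x ∈ H, C x = 0) : HasTr C (LinearMap.trace k (Band L H) (band C hr hk)) := by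
  let b : Band L H →ₗ[k] V := Submodule.liftQ _ (C ∘ₗ L.subtype) fun x hx => LinearMap.mem_ker.2 (hk _ hx)
  have hb : ∀ y, b y ∈ LinearMap.range b := fun y => LinearMap.mem_range_self _ _
  have hbr : ∀ x ∈ LinearMap.range b, C x ∈ LinearMap.range b := by
    rintro _ ⟨y, rfl⟩
    induction y using Submodule.Quotient.induction_on with
    | H z => exact ⟨Submodule.Quotient.mk ⟨C z, hr z⟩, rfl⟩
  refine ⟨LinearMap.range b, inferInstance, hbr, ⟨2, fun x => ⟨Submodule.Quotient.mk ⟨C x, hr x⟩, rfl⟩⟩, ?_⟩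
  have hle : LinearMap.range b ≤ L := by
    rintro _ ⟨y, rfl⟩
    induction y using Submodule.Quotient.induction_on with
    | H z => exact hr z
  let r : Band L H →ₗ[k] LinearMap.range b := b.rangeRestrict
  let s : LinearMap.range b →ₗ[k] Band L H := Submodule.mkQ _ ∘ₗ Submodule.inclusion hle
  rw [show C.restrict hbr = r ∘ₗ s from LinearMap.ext fun x => Subtype.ext rfl,
    show band C hr hk = s ∘ₗ r from Submodule.linearMap_qext _ (LinearMap.ext fun x => rfl),
    LinearMap.trace_comp_comm']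

theorem band_add {L H : Submodule k V} {C D : V →ₗ[k] V} (hr : ∀ x, C x ∈ L) (hk : ∀ x ∈ H, C x = 0)
    (hr' : ∀ x, D x ∈ L) (hk' : ∀ x ∈ H, D x = 0) :
    band (C + D) (fun x => add_mem (hr x) (hr' x))
      (fun x hx => by rw [LinearMap.add_apply, hk x hx, hk' x hx, add_zero]) = band (L := L) (H := H) C hr hk + band D hr' hk' :=
  Submodule.linearMap_qext _ (LinearMap.ext fun x => rfl)

theorem HasTr.add_band {L H : Submodule k V} [FiniteDimensional k (Band L H)] {C D : V →ₗ[k] V} {σ τ : k}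
    (hr : ∀ x, C x ∈ L) (hk : ∀ x ∈ H, C x = 0) (hr' : ∀ x, D x ∈ L) (hk' : ∀ x ∈ H, D x = 0)
    (hC : HasTr C σ) (hD : HasTr D τ) : HasTr (C + D) (σ + τ) := by
  rw [hC.unique (hasTr_band hr hk), hD.unique (hasTr_band hr' hk'), ← map_add, ← band_add hr hk hr' hk']
  exact hasTr_band _ _

/-- `[π f, g]`. -/
def op (π f g : V →ₗ[k] V) : V →ₗ[k] V := π ∘ₗ f ∘ₗ g - g ∘ₗ π ∘ₗ f

theorem op_apply (π f g : V →ₗ[k] V) (x : V) : op π f g x = π (f (g x)) - g (π (f x)) := rfl

/-- `π` projects onto `A`. -/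
def IsProj (A : Submodule k V) (π : V →ₗ[k] V) : Prop := (∀ x, π x ∈ A) ∧ ∀ x ∈ A, π x = x

theorem exists_isProj (A : Submodule k V) : ∃ π, IsProj A π := by
  obtain ⟨B, hB⟩ := A.exists_isCompl
  refine ⟨A.subtype ∘ₗ A.projectionOnto B hB, fun x => Subtype.coe_prop _, fun x hx => ?_⟩
  show ((A.projectionOnto B hB x : A) : V) = x
  have := Submodule.projectionOnto_apply_left hB ⟨x, hx⟩
  exact congrArg Subtype.val this

/-- The range of `[π f, g]`. -/
def top' (A : Submodule k V) (g : V →ₗ[k] V) : Submodule k V := A ⊔ A.map g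

/-- The kernel of `[π f, g]`. -/
def bot' (A : Submodule k V) (f g : V →ₗ[k] V) : Submodule k V := A.comap f ⊓ A.comap (f ∘ₗ g)

theorem op_mem {A : Submodule k V} {π : V →ₗ[k] V} (hπ : IsProj A π) (f g : V →ₗ[k] V) (x : V) :
    op π f g x ∈ top' A g :=
  sub_mem (Submodule.mem_sup_left (hπ.1 _)) (Submodule.mem_sup_right (Submodule.mem_map_of_mem (hπ.1 _)))

theorem op_kill {A : Submodule k V} {π : V →ₗ[k] V} (hπ : IsProj A π) {f g : V →ₗ[k] V}
    (hfg : ∀ x, f (g x) = g (f x)) {x : V} (hx : x ∈ bot' A f g) : op π f g x = 0 := by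
  rw [op_apply, hπ.2 (f (g x)) hx.2, hπ.2 (f x) hx.1, hfg, sub_self]

/-- The trace does not depend on the projection. -/
theorem hasTr_op_indep {A : Submodule k V} {π π' : V →ₗ[k] V} (hπ : IsProj A π) (hπ' : IsProj A π')
    {f g : V →ₗ[k] V} (hfg : ∀ x, f (g x) = g (f x)) [FiniteDimensional k (Band (top' A g) (bot' A f g))] {τ : k}
    (h : HasTr (op π f g) τ) : HasTr (op π' f g) τ := by
  set δ := π' - π
  have hδ : ∀ x, δ x ∈ A := fun x => sub_mem (hπ'.1 x) (hπ.1 x)
  have hδ0 : ∀ x ∈ A, δ x = 0 := fun x hx => by rw [LinearMap.sub_apply, hπ'.2 x hx, hπ.2 x hx, sub_self]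
  have r1 : ∀ x, ((δ ∘ₗ f) ∘ₗ g) x ∈ top' A g := fun x => Submodule.mem_sup_left (hδ _)
  have k1 : ∀ x ∈ bot' A f g, ((δ ∘ₗ f) ∘ₗ g) x = 0 := fun x hx => hδ0 _ hx.2
  have r2 : ∀ x, (g ∘ₗ δ ∘ₗ f) x ∈ top' A g := fun x => Submodule.mem_sup_right (Submodule.mem_map_of_mem (hδ _))
  have k2 : ∀ x ∈ bot' A f g, (g ∘ₗ δ ∘ₗ f) x = 0 := fun x hx => by
    show g (δ (f x)) = 0
    rw [hδ0 _ hx.1, map_zero]
  have h1 := hasTr_band r1 k1
  have h2 : HasTr (-(g ∘ₗ δ ∘ₗ f)) (-LinearMap.trace k _ (band _ r1 k1)) := by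
    rw [h1.swap.unique (hasTr_band r2 k2), ← map_neg,
      show -band (g ∘ₗ δ ∘ₗ f) r2 k2 = band (-(g ∘ₗ δ ∘ₗ f)) (fun x => neg_mem (r2 x))
        (fun x hx => by rw [LinearMap.neg_apply, k2 x hx, neg_zero]) from
        Submodule.linearMap_qext _ (LinearMap.ext fun x => rfl)]
    exact hasTr_band _ _
  have h3 := (h.add_band (op_mem hπ f g) (fun x hx => op_kill hπ hfg hx) r1 k1 h1).add_band
    (fun x => add_mem (op_mem hπ f g x) (r1 x))
    (fun x hx => by rw [LinearMap.add_apply, op_kill hπ hfg hx, k1 x hx, add_zero])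
    (fun x => neg_mem (r2 x)) (fun x hx => by rw [LinearMap.neg_apply, k2 x hx, neg_zero]) h2
  rw [add_neg_cancel_right] at h3
  convert h3 using 1
  ext x
  simp [op, δ]

/-- `τ` is the trace of `[π f, g]` for every projection `π` onto `A`. -/
def TateTr (A : Submodule k V) (f g : V →ₗ[k] V) (τ : k) : Prop := ∀ π, IsProj A π → HasTr (op π f g) τ

theorem tateTr_of {A : Submodule k V} {π : V →ₗ[k] V} (hπ : IsProj A π)
    {f g : V →ₗ[k] V} (hfg : ∀ x, f (g x) = g (f x)) [FiniteDimensional k (Band (top' A g) (bot' A f g))] {τ : k}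
    (h : HasTr (op π f g) τ) : TateTr A f g τ := fun _ hπ' => hasTr_op_indep hπ hπ' hfg h

theorem TateTr.unique {A : Submodule k V} {f g : V →ₗ[k] V} {τ τ' : k} (h : TateTr A f g τ)
    (h' : TateTr A f g τ') : τ = τ' :=
  let ⟨π, hπ⟩ := exists_isProj A
  (h π hπ).unique (h' π hπ)

theorem exists_tateTr {A : Submodule k V} {f g : V →ₗ[k] V} (hfg : ∀ x, f (g x) = g (f x))
    [FiniteDimensional k (Band (top' A g) (bot' A f g))] : ∃ τ, TateTr A f g τ :=
  let ⟨_, hπ⟩ := exists_isProj A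
  ⟨_, tateTr_of hπ hfg (hasTr_band (op_mem hπ f g) fun _ hx => op_kill hπ hfg hx)⟩

end Groth.Agent.FunFldLib.Tate
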