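import Groth.Agent.FunFld.TatePi
import Groth.Prelude.Def_LocRes
import Mathlib.RingTheory.Trace.Defs

/-!
The Tate trace on Laurent series is the residue.
-/

namespace Groth.Agent.FunFldLib.Tate

open scoped LaurentSeries
open WithZero

theorem trace_pi_eq {k ι M : Type*} [Field k] [Fintype ι] [DecidableEq ι] [AddCommGroup M] [Module k M]
    [FiniteDimensional k M] (T : (ι → M) →ₗ[k] ι → M) :
    LinearMap.trace k (ι → M) T =
      ∑ i, LinearMap.trace k M (LinearMap.proj i ∘ₗ T ∘ₗ LinearMap.single k (fun _ => M) i) := by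
  have h : T = ∑ i, LinearMap.single k (fun _ => M) i ∘ₗ (LinearMap.proj i ∘ₗ T) := LinearMap.ext fun x => funext fun j => by
    simp [LinearMap.sum_apply, Finset.sum_apply, Pi.single_apply]
  conv_lhs => rw [h]
  rw [map_sum]
  exact Finset.sum_congr rfl fun i _ => LinearMap.trace_comp_comm' _ _

variable {k F : Type*} [Field k] [Field F] [Algebra k F]

variable (k F) in
/-- Series without terms below degree `N`. -/
def ordGE (N : ℤ) : Submodule k F⸨X⸩ where
  carrier := {f | ∀ n < N, f.coeff n = 0}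
  add_mem' {f g} hf hg n hn := by rw [HahnSeries.coeff_add, hf n hn, hg n hn, add_zero]
  zero_mem' n _ := rfl
  smul_mem' c f hf n hn := by rw [HahnSeries.coeff_smul, hf n hn, smul_zero]

theorem smul_eq_C_mul (c : k) (x : F⸨X⸩) : c • x = HahnSeries.C (algebraMap k F c) * x := by
  ext n
  rw [HahnSeries.C_mul_eq_smul, HahnSeries.coeff_smul, HahnSeries.coeff_smul, algebraMap_smul]

variable (k) in
/-- Multiplication. -/
noncomputable def mulOp (a : F⸨X⸩) : F⸨X⸩ →ₗ[k] F⸨X⸩ where
  toFun x := a * x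
  map_add' := mul_add a
  map_smul' c x := by rw [RingHom.id_apply, smul_eq_C_mul, smul_eq_C_mul]; ring

theorem mulOp_apply (a x : F⸨X⸩) : mulOp k a x = a * x := rfl

variable (k F) in
/-- Truncation to nonnegative degrees. -/
noncomputable def trunc : F⸨X⸩ →ₗ[k] F⸨X⸩ where
  toFun f := ⟨fun n => if 0 ≤ n then f.coeff n else 0, f.isPWO_support.mono fun n hn => by
    simp only [Function.mem_support, ne_eq] at hn
    exact fun h => hn (by simp [h])⟩
  map_add' f g := by ext n; by_cases h : 0 ≤ n <;> simp [h]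
  map_smul' c f := by ext n; by_cases h : 0 ≤ n <;> simp [h]

theorem trunc_coeff (f : F⸨X⸩) (n : ℤ) : (trunc k F f).coeff n = if 0 ≤ n then f.coeff n else 0 := rfl

theorem isProj_trunc : IsProj (ordGE k F 0) (trunc k F) :=
  ⟨fun f n hn => by rw [trunc_coeff, if_neg (not_le.2 hn)],
    fun f hf => by
      ext n
      rw [trunc_coeff]
      split_ifs with h
      · rfl
      · exact (hf n (not_le.1 h)).symm⟩

theorem mul_mem_ordGE {a b : F⸨X⸩} {M N : ℤ} (ha : a ∈ ordGE k F M) (hb : b ∈ ordGE k F N) :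
    a * b ∈ ordGE k F (M + N) := fun n hn => by
  rw [HahnSeries.coeff_mul]
  refine Finset.sum_eq_zero fun ij hij => ?_
  obtain ⟨-, -, h⟩ := Finset.mem_antidiagonal.1 hij
  rcases lt_or_ge ij.1 M with h1 | h1
  · rw [ha _ h1, zero_mul]
  · rw [hb _ (by omega), mul_zero]

theorem ordGE_mono {M N : ℤ} (h : M ≤ N) : ordGE k F N ≤ ordGE k F M := fun _ hf n hn => hf n (lt_of_lt_of_le hn h)

theorem coeff_zero_mul {a b : F⸨X⸩} {M : ℕ} (ha : a ∈ ordGE k F (-(M : ℤ))) (hb : b ∈ ordGE k F (-(M : ℤ))) :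
    (a * b).coeff 0 = ∑ i ∈ Finset.Icc (-(M : ℤ)) M, a.coeff i * b.coeff (-i) := by
  rw [HahnSeries.coeff_mul, ← Finset.sum_image (f := fun p : ℤ × ℤ => a.coeff p.1 * b.coeff p.2)
    (g := fun i : ℤ => (i, -i)) (fun i _ j _ h => (Prod.ext_iff.1 h).1)]
  refine Finset.sum_subset (fun p hp => ?_) fun p hp hnot => ?_
  · obtain ⟨h1, h2, h3⟩ := Finset.mem_antidiagonal.1 hp
    refine Finset.mem_image.2 ⟨p.1, Finset.mem_Icc.2 ⟨?_, ?_⟩, Prod.ext rfl (by dsimp only; omega)⟩
    · exact not_lt.1 fun hlt => h1 (ha _ hlt)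
    · exact not_lt.1 fun hlt => h2 (hb _ (by omega))
  · obtain ⟨i, -, rfl⟩ := Finset.mem_image.1 hp
    by_contra h
    obtain ⟨h1, h2⟩ := mul_ne_zero_iff.1 h
    exact hnot (Finset.mem_antidiagonal.2 ⟨h1, h2, add_neg_cancel i⟩)

theorem exists_ordGE (a : F⸨X⸩) : ∃ M : ℕ, a ∈ ordGE k F (-(M : ℤ)) :=
  ⟨(-a.order).toNat, fun n hn => HahnSeries.coeff_eq_zero_of_lt_order (by omega)⟩

variable [FiniteDimensional k F]

/-- Coordinates on a band. -/
noncomputable def bandCoord (M : ℕ) :
    Band (ordGE k F (-(M : ℤ))) (ordGE k F M) ≃ₗ[k] (Fin (2 * M) → F) := by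
  let c : (ordGE k F (-(M : ℤ))) →ₗ[k] Fin (2 * M) → F :=
    { toFun := fun x i => (x : F⸨X⸩).coeff (-(M : ℤ) + i)
      map_add' := fun x y => funext fun i => by simp
      map_smul' := fun r x => funext fun i => by simp }
  refine LinearEquiv.ofBijective (Submodule.liftQ _ c fun x hx => funext fun i => (show (x : F⸨X⸩) ∈ ordGE k F M from hx) _ (by omega)) ⟨?_, ?_⟩
  · rw [← LinearMap.ker_eq_bot, Submodule.ker_liftQ_eq_bot]
    intro x hx n hn
    rcases lt_or_ge n (-(M : ℤ)) with h | h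
    · exact x.2 n h
    · have := congrFun hx ⟨(n + M).toNat, by omega⟩
      have e : -(M : ℤ) + ((n + M).toNat : ℤ) = n := by omega
      simp only [c, LinearMap.coe_mk, AddHom.coe_mk, e, Pi.zero_apply] at this
      exact this
  · intro w
    refine ⟨Submodule.Quotient.mk ⟨∑ i : Fin (2 * M), HahnSeries.single (-(M : ℤ) + i) (w i), ?_⟩, ?_⟩
    · refine Submodule.sum_mem _ fun i _ n hn => ?_
      rw [HahnSeries.coeff_single_of_ne (by omega)]
    · funext j
      show (∑ i : Fin (2 * M), HahnSeries.single (-(M : ℤ) + i) (w i) : F⸨X⸩).coeff (-(M : ℤ) + j) = w j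
      rw [HahnSeries.coeff_sum, Finset.sum_eq_single_of_mem j (Finset.mem_univ j), HahnSeries.coeff_single_same]
      intro i _ hne
      exact HahnSeries.coeff_single_of_ne fun h => hne (Fin.ext (by omega))

theorem finite_band (M : ℕ) : FiniteDimensional k (Band (ordGE k F (-(M : ℤ))) (ordGE k F M)) :=
  Module.Finite.equiv (bandCoord M).symm

theorem top_bot_le {a b : F⸨X⸩} {M : ℕ} (ha : a ∈ ordGE k F (-(M : ℤ))) (hb : b ∈ ordGE k F (-(M : ℤ))) :
    top' (ordGE k F 0) (mulOp k b) ≤ ordGE k F (-((2 * M : ℕ) : ℤ)) ∧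
      ordGE k F ((2 * M : ℕ) : ℤ) ≤ bot' (ordGE k F 0) (mulOp k a) (mulOp k b) := by
  refine ⟨sup_le (ordGE_mono (by omega)) ?_, fun x hx => ⟨?_, ?_⟩⟩
  · rintro _ ⟨x, hx, rfl⟩
    exact ordGE_mono (by omega) (mul_mem_ordGE hb hx)
  · exact ordGE_mono (by omega) (mul_mem_ordGE ha hx)
  · exact ordGE_mono (by omega) (mul_mem_ordGE ha (mul_mem_ordGE hb hx))

/-- Tate's trace on Laurent series is the traced residue of `a db`. -/
theorem laurent_tateTr (a b : F⸨X⸩) :
    TateTr (ordGE k F 0) (mulOp k a) (mulOp k b) (Algebra.trace k F (LocRes.res F (a * LocRes.D F b))) := by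
  obtain ⟨M₁, h₁⟩ := exists_ordGE (k := k) a
  obtain ⟨M₂, h₂⟩ := exists_ordGE (k := k) b
  set M₀ := max M₁ M₂
  have ha₀ : a ∈ ordGE k F (-(M₀ : ℤ)) := ordGE_mono (by omega) h₁
  have hb₀ : b ∈ ordGE k F (-(M₀ : ℤ)) := ordGE_mono (by omega) h₂
  obtain ⟨hL, hH⟩ := top_bot_le ha₀ hb₀
  set M := 2 * M₀ with hM
  have ha : a ∈ ordGE k F (-(M : ℤ)) := ordGE_mono (by omega) ha₀
  have hb : b ∈ ordGE k F (-(M : ℤ)) := ordGE_mono (by omega) hb₀
  have := finite_band (k := k) (F := F) M
  have := finite_band_mono (k := k) hL hH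
  have hcomm : ∀ x, mulOp k a (mulOp k b x) = mulOp k b (mulOp k a x) := fun x => mul_left_comm a b x
  refine tateTr_of isProj_trunc hcomm ?_
  set C := op (trunc k F) (mulOp k a) (mulOp k b)
  have hr : ∀ x, C x ∈ ordGE k F (-(M : ℤ)) := fun x => hL (op_mem isProj_trunc _ _ x)
  have hk : ∀ x ∈ ordGE k F (M : ℤ), C x = 0 := fun x hx => op_kill isProj_trunc hcomm (hH hx)
  suffices hτ : LinearMap.trace k _ (band C hr hk) = Algebra.trace k F (LocRes.res F (a * LocRes.D F b)) by
    rw [← hτ]; exact hasTr_band hr hk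
  rw [← LinearMap.trace_conj' (band C hr hk) (bandCoord M), trace_pi_eq]
  -- the diagonal entries
  let d : ℤ → F := fun n => ∑ i ∈ Finset.Icc (-(M : ℤ)) M,
    a.coeff i * b.coeff (-i) * ((if 0 ≤ n then 1 else 0) - (if 0 ≤ n + i then 1 else 0))
  have hdiag : ∀ n : ℤ, ∀ c : F, (C (HahnSeries.single n c)).coeff n = d n * c := fun n c => by
    let t : F⸨X⸩ := ⟨fun i => if 0 ≤ n + i then a.coeff i else 0, a.isPWO_support.mono fun i hi => by
      simp only [Function.mem_support, ne_eq] at hi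
      exact fun h => hi (by simp [h])⟩
    have ht : t ∈ ordGE k F (-(M : ℤ)) := fun i hi => by simp [t, ha i hi]
    have e1 : trunc k F (a * HahnSeries.single n c) = t * HahnSeries.single n c := by
      ext m
      rw [trunc_coeff, show m = (m - n) + n by ring, HahnSeries.coeff_mul_single_add,
        HahnSeries.coeff_mul_single_add]
      simp only [t]
      rw [show n + (m - n) = m - n + n by ring]
      split_ifs <;> simp
    show (trunc k F (a * (b * HahnSeries.single n c)) - b * trunc k F (a * HahnSeries.single n c)).coeff n = d n * c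
    rw [HahnSeries.coeff_sub, e1, trunc_coeff, ← mul_assoc, ← mul_assoc]
    have ec : ∀ h : F⸨X⸩, (h * HahnSeries.single n c).coeff n = h.coeff 0 * c := fun h => by
      have := HahnSeries.coeff_mul_single_add (r := c) (x := h) (a := (0 : ℤ)) (b := n)
      rwa [zero_add] at this
    rw [ec, ec, mul_comm b t, coeff_zero_mul ha hb, coeff_zero_mul ht hb]
    simp only [d, t, mul_sub, Finset.sum_sub_distrib, sub_mul, Finset.sum_mul]
    congr 1
    · split_ifs <;> simp [Finset.sum_mul]
    · exact Finset.sum_congr rfl fun i _ => by split_ifs <;> simp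
  have hblock : ∀ i : Fin (2 * M), LinearMap.trace k F (LinearMap.proj i ∘ₗ
      ((bandCoord M).conj (band C hr hk)) ∘ₗ LinearMap.single k (fun _ => F) i) =
        Algebra.trace k F (d (-(M : ℤ) + i)) := fun i => by
    rw [Algebra.trace_apply]
    congr 1
    refine LinearMap.ext fun c => ?_
    show bandCoord (k := k) (F := F) M (band C hr hk ((bandCoord (k := k) (F := F) M).symm (Pi.single i c))) i = d (-(M : ℤ) + i) * c
    have hsymm : (bandCoord (k := k) (F := F) M).symm (Pi.single i c) = Submodule.Quotient.mk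
        ⟨HahnSeries.single (-(M : ℤ) + i) c, fun n hn => HahnSeries.coeff_single_of_ne (by omega)⟩ := by
      rw [LinearEquiv.symm_apply_eq]
      funext j
      show (Pi.single i c : Fin (2 * M) → F) j = (HahnSeries.single (-(M : ℤ) + i) c).coeff (-(M : ℤ) + j)
      by_cases hji : j = i
      · subst hji; rw [Pi.single_eq_same, HahnSeries.coeff_single_same]
      · rw [Pi.single_eq_of_ne hji, HahnSeries.coeff_single_of_ne fun h => hji (Fin.ext (by omega))]
    rw [hsymm, band_mk]
    exact hdiag _ c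
  rw [Finset.sum_congr rfl fun i _ => hblock i, ← map_sum]
  congr 1
  -- sum the diagonal
  have hsum : ∀ i ∈ Finset.Icc (-(M : ℤ)) M, (∑ n : Fin (2 * M),
      (((if 0 ≤ -(M : ℤ) + n then 1 else 0 : F)) - (if 0 ≤ -(M : ℤ) + n + i then 1 else 0))) = ((-i : ℤ) : F) := by
    intro i hi
    rw [Finset.mem_Icc] at hi
    have hcount : ∀ m : ℕ, m ≤ 2 * M → (∑ n : Fin (2 * M), if m ≤ (n : ℕ) then (1 : F) else 0) = ((2 * M - m : ℕ) : F) :=
      fun m hm => by
        rw [Fin.sum_univ_eq_sum_range (fun n => if m ≤ n then (1 : F) else 0), Finset.sum_boole,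
          show (Finset.range (2 * M)).filter (fun n => m ≤ n) = Finset.Ico m (2 * M) by
            ext n; simp [and_comm], Nat.card_Ico]
    rw [Finset.sum_sub_distrib,
      Finset.sum_congr rfl (g := fun n : Fin (2 * M) => if M ≤ (n : ℕ) then (1 : F) else 0) (fun n _ => by
        congr 1; rw [eq_iff_iff]; omega),
      Finset.sum_congr rfl (s₁ := (Finset.univ : Finset (Fin (2 * M))))
        (f := fun n : Fin (2 * M) => if 0 ≤ -(M : ℤ) + n + i then (1 : F) else 0)
        (g := fun n : Fin (2 * M) => if ((M : ℤ) - i).toNat ≤ (n : ℕ) then (1 : F) else 0) (fun n _ => by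
        congr 1; rw [eq_iff_iff]; omega),
      hcount M (by omega), hcount _ (by omega)]
    rw [← Int.cast_natCast, ← Int.cast_natCast (R := F) (2 * M - ((M : ℤ) - i).toNat), ← Int.cast_sub]
    congr 1; omega
  simp only [d]
  rw [Finset.sum_comm, LocRes.res_apply, show ((-1 : ℤ)) = -1 + 0 by ring]
  have hD : LocRes.D F b * HahnSeries.single 1 (1 : F) ∈ ordGE k F (-(M : ℤ)) := fun n hn => by
    rw [show n = (n - 1) + 1 by ring, HahnSeries.coeff_mul_single_add, LocRes.D_coeff, sub_add_cancel, hb n hn,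
      smul_zero, zero_mul]
  have hres : (a * LocRes.D F b).coeff (-1) = (a * (LocRes.D F b * HahnSeries.single 1 (1 : F))).coeff 0 := by
    rw [← mul_assoc, show (0 : ℤ) = -1 + 1 by ring, HahnSeries.coeff_mul_single_add, mul_one]
  rw [add_zero, hres, coeff_zero_mul ha hD]
  refine Finset.sum_congr rfl fun i hi => ?_
  rw [← Finset.mul_sum, hsum i hi, show (-i : ℤ) = (-i - 1) + 1 by ring, HahnSeries.coeff_mul_single_add,
    LocRes.D_coeff, mul_one, zsmul_eq_mul]
  push_cast
  ring_nf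

end Groth.Agent.FunFldLib.Tate
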