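import Groth.Agent.FunFld.Tate
import Mathlib.LinearAlgebra.Pi

/-!
Transport and block decomposition of Tate traces.
-/

namespace Groth.Agent.FunFldLib.Tate

variable {k : Type*} [Field k] {V : Type*} [AddCommGroup V] [Module k V]

theorem finite_band_mono {L H L' H' : Submodule k V} [FiniteDimensional k (Band L H)] (hL : L' ≤ L) (hH : H ≤ H') :
    FiniteDimensional k (Band L' H') := by
  let q : L' →ₗ[k] Band L H := Submodule.mkQ _ ∘ₗ Submodule.inclusion hL
  have hq : LinearMap.ker q ≤ H'.comap L'.subtype := fun x hx => by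
    rw [LinearMap.mem_ker] at hx
    exact hH ((Submodule.Quotient.mk_eq_zero (H.comap L.subtype) (x := Submodule.inclusion hL x)).1 hx)
  have : FiniteDimensional k (L' ⧸ LinearMap.ker q) := q.quotKerEquivRange.symm.finiteDimensional
  exact Module.Finite.of_surjective (Submodule.factor hq) (Submodule.factor_surjective hq)

theorem hasTr_sum {L H : Submodule k V} [FiniteDimensional k (Band L H)] {ι : Type*} (s : Finset ι)
    {C : ι → V →ₗ[k] V} {τ : ι → k} (hr : ∀ i ∈ s, ∀ x, C i x ∈ L) (hk : ∀ i ∈ s, ∀ x ∈ H, C i x = 0)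
    (h : ∀ i ∈ s, HasTr (C i) (τ i)) : HasTr (∑ i ∈ s, C i) (∑ i ∈ s, τ i) := by
  classical
  induction s using Finset.induction_on with
  | empty =>
    rw [Finset.sum_empty, Finset.sum_empty]
    exact hasTr_zero_of_pow (n := 1) fun x => by simp
  | insert a s ha ih =>
    rw [Finset.sum_insert ha, Finset.sum_insert ha]
    refine HasTr.add_band (L := L) (H := H) (hr a (Finset.mem_insert_self a s)) (hk a (Finset.mem_insert_self a s))
      (fun x => ?_) (fun x hx => ?_) (h a (Finset.mem_insert_self a s))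
      (ih (fun i hi => hr i (Finset.mem_insert_of_mem hi)) (fun i hi => hk i (Finset.mem_insert_of_mem hi))
        fun i hi => h i (Finset.mem_insert_of_mem hi))
    · rw [LinearMap.sum_apply]; exact Submodule.sum_mem _ fun i hi => hr i (Finset.mem_insert_of_mem hi) x
    · rw [LinearMap.sum_apply]; exact Finset.sum_eq_zero fun i hi => hk i (Finset.mem_insert_of_mem hi) x hx

/-- A dense injective intertwiner preserves the trace. -/
theorem TateTr.transport {V' : Type*} [AddCommGroup V'] [Module k V'] {A' : Submodule k V'}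
    {f' g' : V' →ₗ[k] V'} {τ : k} (h : TateTr A' f' g' τ) (hfg' : ∀ x, f' (g' x) = g' (f' x))
    (j : V →ₗ[k] V') (hj : Function.Injective j) {f g : V →ₗ[k] V}
    (hf : ∀ v, j (f v) = f' (j v)) (hg : ∀ v, j (g v) = g' (j v))
    (hdA : ∀ x, ∃ v, x - j v ∈ A') (hdH : ∀ x, ∃ v, x - j v ∈ bot' A' f' g') :
    TateTr (A'.comap j) f g τ := by
  intro π hπ
  obtain ⟨π₀, hπ₀⟩ := exists_isProj A'
  -- extend `π` along `j`
  let P : V × A' →ₗ[k] V' := j.coprod A'.subtype
  have hP : Function.Surjective P := fun x =>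
    let ⟨v, hv⟩ := hdA x
    ⟨(v, ⟨_, hv⟩), by simp [P]⟩
  let Φ : V × A' →ₗ[k] V' := (j ∘ₗ π).coprod A'.subtype
  have hker : LinearMap.ker P ≤ LinearMap.ker Φ := fun p hp => by
    rw [LinearMap.mem_ker] at hp ⊢
    simp only [P, Φ, LinearMap.coprod_apply, LinearMap.comp_apply, Submodule.coe_subtype] at hp ⊢
    have hv : p.1 ∈ A'.comap j := by
      show j p.1 ∈ A'
      rw [eq_neg_of_add_eq_zero_left hp]; exact neg_mem p.2.2
    rw [hπ.2 _ hv]; exact hp
  let π' : V' →ₗ[k] V' := (LinearMap.ker P).liftQ Φ hker ∘ₗ (P.quotKerEquivOfSurjective hP).symm.toLinearMap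
  have hπ' : ∀ p, π' (P p) = Φ p := fun p => by
    show (LinearMap.ker P).liftQ Φ hker ((P.quotKerEquivOfSurjective hP).symm (P p)) = Φ p
    rw [show (P.quotKerEquivOfSurjective hP).symm (P p) = Submodule.Quotient.mk p from
      (LinearEquiv.symm_apply_eq _).2 rfl]
    rfl
  have hπj : ∀ v, π' (j v) = j (π v) := fun v => by
    have := hπ' (v, 0)
    simpa [P, Φ] using this
  have hproj : IsProj A' π' := by
    refine ⟨fun x => ?_, fun x hx => ?_⟩
    · obtain ⟨p, rfl⟩ := hP x
      rw [hπ']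
      exact add_mem (hπ.1 p.1) p.2.2
    · have := hπ' (0, ⟨x, hx⟩)
      simpa [P, Φ] using this
  have hC : ∀ v, op π' f' g' (j v) = j (op π f g v) := fun v => by
    rw [op_apply, op_apply, map_sub, ← hg, ← hf, ← hf, hπj, hπj, ← hg]
  have hrange : ∀ x, op π' f' g' x ∈ LinearMap.range j := fun x => by
    obtain ⟨v, hv⟩ := hdH x
    have h1 := op_kill hproj hfg' hv
    rw [map_sub, sub_eq_zero, hC] at h1
    exact ⟨_, h1.symm⟩
  let C0 : V' →ₗ[k] V := (LinearEquiv.ofInjective j hj).symm.toLinearMap ∘ₗ (op π' f' g').codRestrict _ hrange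
  have e1 : op π' f' g' = j ∘ₗ C0 := LinearMap.ext fun x => by
    show _ = j ((LinearEquiv.ofInjective j hj).symm ⟨_, hrange x⟩)
    have := congrArg Subtype.val ((LinearEquiv.ofInjective j hj).apply_symm_apply ⟨_, hrange x⟩)
    exact this.symm
  have e2 : op π f g = C0 ∘ₗ j := LinearMap.ext fun v => hj (by
    rw [← hC, e1]; rfl)
  rw [e2]
  exact HasTr.swap (a := j) (b := C0) (e1 ▸ h π' hproj)

section Pi

variable {ι : Type*} [Fintype ι] [DecidableEq ι] {W : ι → Type*} [∀ i, AddCommGroup (W i)] [∀ i, Module k (W i)]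

/-- A matrix of maps. -/
def blockMap (M : ∀ i j, W j →ₗ[k] W i) : (∀ i, W i) →ₗ[k] ∀ i, W i :=
  LinearMap.pi fun i => ∑ j, M i j ∘ₗ LinearMap.proj j

theorem blockMap_apply (M : ∀ i j, W j →ₗ[k] W i) (x : ∀ i, W i) (i : ι) : blockMap M x i = ∑ j, M i j (x j) := by
  simp [blockMap]

theorem finite_band_pi (L H : ∀ i, Submodule k (W i)) [∀ i, FiniteDimensional k (Band (L i) (H i))] :
    FiniteDimensional k (Band (Submodule.pi Set.univ L) (Submodule.pi Set.univ H)) := by
  let q : (Submodule.pi Set.univ L : Submodule k (∀ i, W i)) →ₗ[k] ∀ i, Band (L i) (H i) :=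
    LinearMap.pi fun i => Submodule.mkQ _ ∘ₗ
      (LinearMap.proj i ∘ₗ Submodule.subtype _).codRestrict (L i) fun x => x.2 i trivial
  have hker : LinearMap.ker q = (Submodule.pi Set.univ H).comap (Submodule.pi Set.univ L).subtype := by
    ext x
    rw [LinearMap.mem_ker, funext_iff, Submodule.mem_comap, Submodule.mem_pi]
    constructor
    · intro h i _
      have h2 : Submodule.Quotient.mk (p := (H i).comap (L i).subtype) ⟨x.1 i, x.2 i trivial⟩ = 0 := h i
      have h3 := (Submodule.Quotient.mk_eq_zero _).1 h2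
      exact h3
    · intro h i
      show Submodule.Quotient.mk (p := (H i).comap (L i).subtype) ⟨x.1 i, x.2 i trivial⟩ = 0
      exact (Submodule.Quotient.mk_eq_zero _).2 (h i trivial)
  exact Module.Finite.equiv ((Submodule.quotEquivOfEq _ _ hker).symm.trans q.quotKerEquivRange).symm

/-- The trace on a product is the sum over the diagonal blocks. -/
theorem tateTr_pi (A L H : ∀ i, Submodule k (W i)) [∀ i, FiniteDimensional k (Band (L i) (H i))]
    (M : ∀ i j, W j →ₗ[k] W i) (g : ∀ i, W i →ₗ[k] W i) (hc : ∀ i j x, M i j (g j x) = g i (M i j x))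
    (hAL : ∀ i, A i ≤ L i) (hgL : ∀ i, (A i).map (g i) ≤ L i)
    (hH : ∀ i j, ∀ x ∈ H j, M i j x ∈ A i ∧ M i j (g j x) ∈ A i)
    {τ : ι → k} (h : ∀ i, TateTr (A i) (M i i) (g i) (τ i)) :
    TateTr (Submodule.pi Set.univ A) (blockMap M) (LinearMap.pi fun i => g i ∘ₗ LinearMap.proj i) (∑ i, τ i) := by
  set G : (∀ i, W i) →ₗ[k] ∀ i, W i := LinearMap.pi fun i => g i ∘ₗ LinearMap.proj i
  set F := blockMap M
  have := finite_band_pi (k := k) L H
  choose π hπ using fun i => exists_isProj (A i)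
  set Pp : (∀ i, W i) →ₗ[k] ∀ i, W i := LinearMap.pi fun i => π i ∘ₗ LinearMap.proj i
  have hPp : IsProj (Submodule.pi Set.univ A) Pp :=
    ⟨fun x i _ => (hπ i).1 (x i), fun x hx => funext fun i => (hπ i).2 (x i) (hx i trivial)⟩
  have hL : top' (Submodule.pi Set.univ A) G ≤ Submodule.pi Set.univ L := by
    refine sup_le (fun x hx i _ => hAL i (hx i trivial)) ?_
    rintro _ ⟨x, hx, rfl⟩ i -
    exact hgL i (Submodule.mem_map_of_mem (hx i trivial))
  have hB : Submodule.pi Set.univ H ≤ bot' (Submodule.pi Set.univ A) F G := fun x hx => by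
    refine ⟨fun i _ => ?_, fun i _ => ?_⟩
    · rw [blockMap_apply]; exact Submodule.sum_mem _ fun j _ => (hH i j _ (hx j trivial)).1
    · show F (G x) i ∈ A i
      rw [blockMap_apply]; exact Submodule.sum_mem _ fun j _ => (hH i j _ (hx j trivial)).2
  have := finite_band_mono (k := k) hL hB
  have hFG : ∀ x, F (G x) = G (F x) := fun x => funext fun i => by
    show F (G x) i = g i (F x i)
    rw [blockMap_apply, blockMap_apply, map_sum]
    exact Finset.sum_congr rfl fun j _ => hc i j _
  refine tateTr_of hPp hFG ?_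
  -- split into blocks
  let c : ∀ p : ι × ι, W p.2 →ₗ[k] W p.1 := fun p =>
    π p.1 ∘ₗ M p.1 p.2 ∘ₗ g p.2 - g p.1 ∘ₗ π p.1 ∘ₗ M p.1 p.2
  let C : ι × ι → (∀ i, W i) →ₗ[k] ∀ i, W i := fun p =>
    LinearMap.single k W p.1 ∘ₗ c p ∘ₗ LinearMap.proj p.2
  have hsum : op Pp F G = ∑ p, C p := LinearMap.ext fun x => funext fun i => by
    rw [LinearMap.sum_apply, Finset.sum_apply, Fintype.sum_prod_type, op_apply,
      Finset.sum_eq_single_of_mem i (Finset.mem_univ i) fun i' _ hne => Finset.sum_eq_zero fun j _ => by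
        simp [C, Ne.symm hne]]
    show π i (F (G x) i) - g i (π i (F x i)) = _
    rw [blockMap_apply, blockMap_apply, map_sum, map_sum, map_sum, ← Finset.sum_sub_distrib]
    exact Finset.sum_congr rfl fun j _ => by simp [C, c, G]
  have hr : ∀ p : ι × ι, ∀ x, C p x ∈ (Submodule.pi Set.univ L : Submodule k (∀ i, W i)) := fun p x i _ => by
    rcases eq_or_ne i p.1 with rfl | hne
    · simp only [C, c, LinearMap.comp_apply, LinearMap.single_apply, Pi.single_eq_same, LinearMap.sub_apply]
      exact sub_mem (hAL _ ((hπ _).1 _)) (hgL _ (Submodule.mem_map_of_mem ((hπ _).1 _)))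
    · simp [C, Pi.single_eq_of_ne hne]
  have hk : ∀ p : ι × ι, ∀ x ∈ (Submodule.pi Set.univ H : Submodule k (∀ i, W i)), C p x = 0 := fun p x hx => by
    have h1 := hH p.1 p.2 _ (hx p.2 trivial)
    simp only [C, c, LinearMap.comp_apply, LinearMap.sub_apply, LinearMap.proj_apply]
    rw [(hπ p.1).2 _ h1.2, (hπ p.1).2 _ h1.1, hc, sub_self, map_zero]
  have htr : ∀ p : ι × ι, HasTr (C p) (if p.1 = p.2 then τ p.1 else 0) := fun p => by
    obtain ⟨i, j⟩ := p
    rcases eq_or_ne i j with rfl | hne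
    · rw [if_pos rfl]
      refine HasTr.swap (a := c (i, i) ∘ₗ LinearMap.proj i) (b := LinearMap.single k W i) ?_
      have e : (c (i, i) ∘ₗ LinearMap.proj i) ∘ₗ LinearMap.single k W i = op (π i) (M i i) (g i) :=
        LinearMap.ext fun x => by simp [c, op]
      rw [e]
      exact h i _ (hπ i)
    · rw [if_neg hne]
      refine hasTr_zero_of_pow (n := 2) fun x => ?_
      rw [pow_two, Module.End.mul_apply]
      simp [C, Pi.single_eq_of_ne hne.symm]
  have := hasTr_sum (L := Submodule.pi Set.univ L) (H := Submodule.pi Set.univ H) Finset.univ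
    (fun p _ => hr p) (fun p _ => hk p) fun p _ => htr p
  rw [← hsum, Fintype.sum_prod_type] at this
  simpa using this

end Pi

end Groth.Agent.FunFldLib.Tate
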