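import Groth.Agent.FunFld.TraceSplit
import Mathlib.RingTheory.DedekindDomain.Different

/-!
The trace dual of the integral closure at a place, through residues: one expansion upstairs suffices.
-/

namespace Groth.Agent.FunFldLib

open FunFld WithZero Tate
open scoped LaurentSeries

set_option linter.unusedSectionVars false

variable {k K K' : Type*} [Field k] [Field K] [Field K'] [Algebra k K] [Algebra K K'] [Algebra k K']
  [IsScalarTower k K K'] [FiniteDimensional K K']
  {F F' : Type*} [Field F] [Algebra k F] [Field F'] [Algebra k F']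
  {P : Place k K} {Q : Place k K'} {e : ℕ} {φ : K →ₐ[k] F⸨X⸩} {ψ : K' →ₐ[k] F'⸨X⸩} {x : K}

variable (hK : IsFunctionField k K) (hg : IsGeometric k K) (he : IsOverWith Q P e)
  (hφ : LocRes.IsExpansionAt P.1 φ) (hψ : LocRes.IsExpansionAt Q.1 ψ)
  (hx : LocRes.vDiff φ 1 x ≠ 0) (hx' : LocRes.vDiff ψ 1 (algebraMap K K' x) ≠ 0) [Algebra.IsSeparable K K']

include hK hg hφ hψ hx hx' in
theorem coeff_fields_separable :
    (FiniteDimensional k F ∧ Algebra.IsSeparable k F) ∧ FiniteDimensional k F' ∧ Algebra.IsSeparable k F' := by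
  rw [LocRes.vDiff, map_one, one_mul] at hx hx'
  have h1 := isSeparable_of_expansion (K' := K) hK hg hφ (x := x) (by simpa using (Valuation.ne_zero_iff Valued.v).1 hx)
  have h2 := isSeparable_of_expansion hK hg hψ (x := x) ((Valuation.ne_zero_iff Valued.v).1 hx')
  letI : Module k (IsLocalRing.ResidueField P.O) := Algebra.toModule
  letI : Module k (IsLocalRing.ResidueField Q.O) := Algebra.toModule
  obtain ⟨r, -⟩ := exists_residue_equiv (K' := K) hφ
  obtain ⟨r', -⟩ := exists_residue_equiv hψ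
  have : FiniteDimensional k (IsLocalRing.ResidueField P.O) := Module.finite_of_finrank_pos (deg_pos hK P)
  have : FiniteDimensional k (IsLocalRing.ResidueField Q.O) :=
    Module.finite_of_finrank_pos (deg_pos_ff (isFF_of_finite hK) Q)
  exact ⟨⟨r.toLinearEquiv.finiteDimensional, Algebra.IsSeparable.of_algHom k _ r.symm.toAlgHom⟩,
    r'.toLinearEquiv.finiteDimensional, Algebra.IsSeparable.of_algHom k _ r'.symm.toAlgHom⟩

include hK hg he hφ hψ hx hx' in
/-- Elements of the trace dual are bounded by the different exponent. -/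
theorem dual_le {y : K'} (hy : ∀ z : K', IntAbove P z → P.1 (Algebra.trace K K' (y * z)) ≤ 1) :
    Q.1 y ≤ exp (LocRes.diffExp φ ψ e x) := by
  classical
  obtain ⟨⟨_, _⟩, _, _⟩ := coeff_fields_separable hK hg hφ hψ hx hx'
  obtain ⟨t, ht⟩ := exists_val_eq P (-1)
  obtain ⟨hne, hd⟩ := diffExp_eq_ord_param hK hg he hφ hψ hx hx' ht
  have ht1 : P.1 t ≤ 1 := by rw [ht, ← exp_zero, exp_le_exp]; omega
  by_contra hlt
  push Not at hlt
  have hy0 : y ≠ 0 := fun h => by rw [h, map_zero] at hlt; exact not_lt.2 zero_le hlt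
  set w := ψ y * LocRes.D F' (ψ (algebraMap K K' t))
  have hw : 1 < Valued.v w := by
    rw [map_mul, hψ.1, ← exp_log ((Valuation.ne_zero_iff Valued.v).2 hne),
      show log (Valued.v (LocRes.D F' (ψ (algebraMap K K' t)))) = -LocRes.diffExp φ ψ e x by rw [hd, neg_neg],
      exp_neg, ← div_eq_mul_inv, one_lt_div₀ exp_pos]
    exact hlt
  obtain ⟨m, a, ha, hne0⟩ := exists_res_ne_zero hψ hw
  obtain ⟨z, hz⟩ := exists_approx (insert Q (finite_isOver (K' := K') hK P).toFinset) (fun R => if R = Q then a else 0)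
    (fun R => if R = Q then -(m : ℤ) - 1 else min 0 (R.ord y))
  have hzQ : Q.1 (z - a) ≤ exp (-(m : ℤ) - 1) := by simpa using hz Q (Finset.mem_insert_self _ _)
  have hzR : ∀ R, IsOver R P → R ≠ Q → R.1 z ≤ exp (min 0 (R.ord y)) := fun R hR hne' => by
    simpa [hne'] using hz R (Finset.mem_insert_of_mem ((finite_isOver hK P).mem_toFinset.2 hR))
  have hint : IntAbove P z := fun R hR => by
    by_cases hne' : R = Q
    · subst hne'
      refine (R.1.map_add_le (hzQ.trans (exp_le_exp.2 (by omega))) (ha.trans (exp_le_exp.2 le_rfl))).trans' ?_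
        |>.trans (by rw [← exp_zero, exp_le_exp]; omega : exp (-(m : ℤ)) ≤ 1)
      rw [sub_add_cancel]
    · exact (hzR R hR hne').trans (by rw [← exp_zero, exp_le_exp]; omega)
  have hyz : ∀ R : Place k K', IsOver R P → R ≠ Q → R.1 (y * z) ≤ 1 := fun R hR hne' => by
    rw [map_mul, val_eq_exp R hy0]
    refine (mul_le_mul' le_rfl (hzR R hR hne')).trans ?_
    rw [← exp_add, ← exp_zero, exp_le_exp]; omega
  have h := locRes_eq_locRes_trace hK ⟨e, he⟩ hφ hψ (y * z) hyz t ht1
  refine hne0 z hzQ ?_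
  rw [show w * ψ z = ψ (y * z) * LocRes.D F' (ψ (algebraMap K K' t)) by rw [map_mul ψ]; ring]
  refine h.trans ?_
  rw [LocRes.locRes, LocRes.resExp]
  have h1 : Valued.v (φ (Algebra.trace K K' (y * z)) * LocRes.D F (φ t)) ≤ exp (-(0 : ℤ)) := by
    rw [neg_zero, exp_zero, map_mul, hφ.1]
    exact mul_le_one' (hy z hint) (val_D_le_one ((hφ.1 t).trans_le ht1))
  rw [LocRes.res_apply, (LaurentSeries.valuation_le_iff_coeff_lt_eq_zero F).1 h1 (-1) (by norm_num), map_zero]

include hK hg he hφ hψ hx hx' in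
/-- The bound is attained. -/
theorem exists_dual_eq : ∃ y : K', (∀ z : K', IntAbove P z → P.1 (Algebra.trace K K' (y * z)) ≤ 1) ∧
    Q.1 y = exp (LocRes.diffExp φ ψ e x) := by
  classical
  obtain ⟨⟨_, _⟩, _, _⟩ := coeff_fields_separable hK hg hφ hψ hx hx'
  obtain ⟨t, ht⟩ := exists_val_eq P (-1)
  obtain ⟨hne, hd⟩ := diffExp_eq_ord_param hK hg he hφ hψ hx hx' ht
  have ht1 : P.1 t ≤ 1 := by rw [ht, ← exp_zero, exp_le_exp]; omega
  set d := LocRes.diffExp φ ψ e x
  obtain ⟨y₀, hy₀⟩ := exists_val_eq Q d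
  obtain ⟨y, hy⟩ := exists_approx (insert Q (finite_isOver (K' := K') hK P).toFinset) (fun R => if R = Q then y₀ else 0)
    (fun R => if R = Q then d - 1 else 0)
  have hyQ : Q.1 y = exp d := by
    have h := hy Q (Finset.mem_insert_self _ _)
    rw [if_pos rfl, if_pos rfl] at h
    rw [show y = y₀ + (y - y₀) by ring, Q.1.map_add_eq_of_lt_left (h.trans_lt (by rw [hy₀, exp_lt_exp]; omega)), hy₀]
  have hyR : ∀ R, IsOver R P → R ≠ Q → R.1 y ≤ 1 := fun R hR hne' => by
    simpa [hne'] using hy R (Finset.mem_insert_of_mem ((finite_isOver hK P).mem_toFinset.2 hR))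
  refine ⟨y, fun z hz => not_lt.1 fun hlt => ?_, hyQ⟩
  set w := φ (Algebra.trace K K' (y * z)) * LocRes.D F (φ t)
  have hw : 1 < Valued.v w := by
    rw [map_mul, hφ.1, val_D_of_val_eq ((hφ.1 t).trans ht), mul_one]; exact hlt
  obtain ⟨m, a, ha, hne0⟩ := exists_res_ne_zero hφ hw
  have ha1 : P.1 a ≤ 1 := ha.trans (by rw [← exp_zero, exp_le_exp]; omega)
  have hint : ∀ R : Place k K', IsOver R P → R.1 (algebraMap K K' a) ≤ 1 := fun R ⟨eR, heR⟩ => by
    rw [heR]; exact pow_le_one₀ zero_le ha1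
  have h := locRes_eq_locRes_trace hK ⟨e, he⟩ hφ hψ (a • (y * z)) (fun R hR hne' => by
    rw [Algebra.smul_def, map_mul, map_mul]
    exact mul_le_one' (hint R hR) (mul_le_one' (hyR R hR hne') (hz R hR))) t ht1
  refine hne0 a (by rw [sub_self, map_zero]; exact zero_le) ?_
  rw [show w * φ a = φ (Algebra.trace K K' (a • (y * z))) * LocRes.D F (φ t) by
    rw [map_smul (Algebra.trace K K'), smul_eq_mul, map_mul φ]; ring]
  refine h.symm.trans ?_
  rw [LocRes.locRes, LocRes.resExp]
  have h1 : Valued.v (ψ (a • (y * z)) * LocRes.D F' (ψ (algebraMap K K' t))) ≤ exp (-(0 : ℤ)) := by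
    rw [neg_zero, exp_zero, map_mul, hψ.1, Algebra.smul_def, map_mul, map_mul, hyQ,
      show Valued.v (LocRes.D F' (ψ (algebraMap K K' t))) = exp (-d) by
        rw [show d = _ from hd, neg_neg, exp_log ((Valuation.ne_zero_iff Valued.v).2 hne)]]
    calc Q.1 (algebraMap K K' a) * (exp d * Q.1 z) * exp (-d) ≤ 1 * (exp d * 1) * exp (-d) :=
          mul_le_mul' (mul_le_mul' (hint Q ⟨e, he⟩) (mul_le_mul' le_rfl (hz Q ⟨e, he⟩))) le_rfl
      _ = 1 := by rw [one_mul, mul_one, ← exp_add, add_neg_cancel, exp_zero]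
  rw [LocRes.res_apply, (LaurentSeries.valuation_le_iff_coeff_lt_eq_zero F').1 h1 (-1) (by norm_num), map_zero]

section Monogenic

variable [Algebra P.O K'] [IsScalarTower P.O K K'] {y : K'}

include hK in
theorem intAbove_of_mem_adjoin (hy : IsIntegral P.O y) {a : K'} (ha : a ∈ Algebra.adjoin P.O ({y} : Set K')) :
    IntAbove P a :=
  (isIntegral_iff_intAbove hK P a).1 (Algebra.adjoin_le (S := integralClosure P.O K') (Set.singleton_subset_iff.2 hy) ha)

/-- The dual of `O[y]`. -/
theorem dual_adjoin_iff (hgen : IntermediateField.adjoin K ({y} : Set K') = ⊤) (hy : IsIntegral P.O y) (u : K') :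
    (∀ a ∈ Algebra.adjoin P.O ({y} : Set K'), P.1 (Algebra.trace K K' (u * a)) ≤ 1) ↔
      Polynomial.aeval y (Polynomial.derivative (minpoly K y)) * u ∈ Algebra.adjoin P.O ({y} : Set K') := by
  have halg : Algebra.adjoin K ({y} : Set K') = ⊤ := by
    rw [← IntermediateField.adjoin_simple_toSubalgebra_of_isAlgebraic (IsAlgebraic.of_finite K y), hgen,
      IntermediateField.top_toSubalgebra]
  have hd0 : Polynomial.aeval y (Polynomial.derivative (minpoly K y)) ≠ 0 :=
    (Algebra.IsSeparable.isSeparable K y).aeval_derivative_ne_zero (minpoly.aeval K y)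
  have h := congrArg (fun N : Submodule P.O K' => u ∈ N) (traceForm_dualSubmodule_adjoin P.O K halg hy)
  simp only [eq_iff_iff] at h
  rw [← Subalgebra.mem_toSubmodule]
  constructor
  · intro hu
    obtain ⟨a, ha, hau⟩ := (Submodule.mem_smul_pointwise_iff_exists _ _ _).1 (h.1 fun a ha =>
      Submodule.mem_one.2 ⟨⟨_, hu a ha⟩, rfl⟩)
    rw [← hau, smul_eq_mul, mul_inv_cancel_left₀ hd0]
    exact ha
  · intro hu a ha
    obtain ⟨c, hc⟩ := Submodule.mem_one.1 (h.2 ((Submodule.mem_smul_pointwise_iff_exists _ _ _).2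
      ⟨_, hu, by rw [smul_eq_mul, inv_mul_cancel_left₀ hd0]⟩) a ha)
    rw [Algebra.traceForm_apply] at hc
    rw [← hc]
    exact c.2

include hK hg he hφ hψ hx hx' in
/-- `d ≤ ord g'(y)` with the conductor element attaining it. -/
theorem exists_dual_conductor (hgen : IntermediateField.adjoin K ({y} : Set K') = ⊤) (hy : IsIntegral P.O y) :
    LocRes.diffExp φ ψ e x ≤ Q.ord (Polynomial.aeval y (Polynomial.derivative (minpoly K y))) ∧
      ∃ c : K', Q.1 c = exp (LocRes.diffExp φ ψ e x - Q.ord (Polynomial.aeval y (Polynomial.derivative (minpoly K y)))) ∧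
        ∀ z : K', IntAbove P z → c * z ∈ Algebra.adjoin P.O ({y} : Set K') := by
  set δ := Polynomial.aeval y (Polynomial.derivative (minpoly K y))
  have hd0 : δ ≠ 0 := (Algebra.IsSeparable.isSeparable K y).aeval_derivative_ne_zero (minpoly.aeval K y)
  obtain ⟨u, hu, huv⟩ := exists_dual_eq hK hg he hφ hψ hx hx'
  have hall : ∀ z : K', IntAbove P z → δ * u * z ∈ Algebra.adjoin P.O ({y} : Set K') := fun z hz => by
    rw [mul_assoc, ← dual_adjoin_iff hgen hy]
    intro a ha
    rw [mul_assoc]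
    exact hu _ (hz.mul (intAbove_of_mem_adjoin hK hy ha))
  have hc : Q.1 (δ * u) = exp (LocRes.diffExp φ ψ e x - Q.ord δ) := by
    rw [map_mul, huv, val_eq_exp Q hd0, ← exp_add]; congr 1; ring
  refine ⟨?_, δ * u, hc, hall⟩
  have h1 := intAbove_of_mem_adjoin hK hy (hall 1 fun R _ => by rw [map_one]) Q ⟨e, he⟩
  rw [mul_one, hc, ← exp_zero, exp_le_exp] at h1
  omega

include hK hg he hφ hψ hx hx' in
theorem localization_eq (hgen : IntermediateField.adjoin K ({y} : Set K') = ⊤) (hy : IsIntegral P.O y)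
    (heq : Q.ord (Polynomial.aeval y (Polynomial.derivative (minpoly K y))) = LocRes.diffExp φ ψ e x)
    {z : K'} (hz : Q.1 z ≤ 1) :
    ∃ a ∈ Algebra.adjoin P.O ({y} : Set K'), ∃ b ∈ Algebra.adjoin P.O ({y} : Set K'), Q.1 b = 1 ∧ z * b = a := by
  classical
  obtain ⟨-, c, hc, hall⟩ := exists_dual_conductor hK hg he hφ hψ hx hx' hgen hy
  rw [heq, sub_self, exp_zero] at hc
  obtain ⟨b, hb⟩ := exists_approx (insert Q (finite_isOver (K' := K') hK P).toFinset) (fun R => if R = Q then (1 : K') else 0)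
    (fun R => if R = Q then -1 else min 0 (R.ord z))
  have hbQ : Q.1 b = 1 := by
    have h := hb Q (Finset.mem_insert_self _ _)
    rw [if_pos rfl, if_pos rfl] at h
    rw [show b = 1 + (b - 1) by ring,
      Q.1.map_add_eq_of_lt_left (h.trans_lt (by rw [map_one, ← exp_zero, exp_lt_exp]; omega)), map_one]
  have hbR : ∀ R, IsOver R P → R ≠ Q → R.1 b ≤ exp (min 0 (R.ord z)) := fun R hR hne' => by
    simpa [hne'] using hb R (Finset.mem_insert_of_mem ((finite_isOver hK P).mem_toFinset.2 hR))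
  have hbi : IntAbove P b := fun R hR => by
    by_cases hne' : R = Q
    · subst hne'; exact hbQ.le
    · exact (hbR R hR hne').trans (by rw [← exp_zero, exp_le_exp]; omega)
  refine ⟨c * (z * b), hall _ fun R hR => ?_, c * b, hall _ hbi, by rw [map_mul, hc, hbQ, one_mul], by ring⟩
  by_cases hne' : R = Q
  · subst hne'; rw [map_mul, hbQ, mul_one]; exact hz
  rcases eq_or_ne z 0 with rfl | hz0
  · simp
  rw [map_mul, val_eq_exp R hz0]
  refine (mul_le_mul' le_rfl (hbR R hR hne')).trans ?_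
  rw [← exp_add, ← exp_zero, exp_le_exp]; omega

end Monogenic

section Param

variable [Algebra P.O K'] [IsScalarTower P.O K K'] {s : K'}
  (hsurj : ∀ u : K', Q.1 u ≤ 1 → ∃ a : K, P.1 a ≤ 1 ∧ Q.1 (u - algebraMap K K' a) < 1)
  (hs : Q.1 s = exp (-1)) (hs' : ∀ R : Place k K', IsOver R P → R ≠ Q → R.1 s = 1)

include hs hs' in
theorem intAbove_param : IntAbove P s := fun R hR => by
  by_cases hne : R = Q
  · subst hne; rw [hs, ← exp_zero, exp_le_exp]; omega
  · exact (hs' R hR hne).le

include hK he hs hs' in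
/-- An element of `O[s]` that is a unit at `Q` and vanishes at the other places above `P`. -/
theorem exists_separator : ∃ c ∈ Algebra.adjoin P.O ({s} : Set K'),
    Q.1 c = 1 ∧ ∀ R : Place k K', IsOver R P → R ≠ Q → R.1 c < 1 := by
  classical
  have hsi : IsIntegral P.O s := (isIntegral_iff_intAbove hK P s).2 (intAbove_param hs hs')
  set p := minpoly P.O s
  have hex : ∃ j, P.1 (p.coeff j : K) = 1 := ⟨p.natDegree, by rw [(minpoly.monic hsi).coeff_natDegree]; exact map_one _⟩
  set j := Nat.find hex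
  have hj : P.1 (p.coeff j : K) = 1 := Nat.find_spec hex
  have hjle : j ≤ p.natDegree := Nat.find_le (by rw [(minpoly.monic hsi).coeff_natDegree]; exact map_one _)
  have hlow : ∀ i < j, P.1 (p.coeff i : K) < 1 := fun i hi =>
    lt_of_le_of_ne (p.coeff i).2 (Nat.find_min hex hi)
  let a : ℕ → K' := fun i => algebraMap K K' (p.coeff i : K)
  have hval : ∀ (R : Place k K') (eR : ℕ), IsOverWith R P eR → ∀ i, R.1 (a i * s ^ i) =
      P.1 (p.coeff i : K) ^ eR * R.1 s ^ i := fun R eR heR i => by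
    rw [map_mul, map_pow, heR]
  have ha : ∀ i, algebraMap P.O K' (p.coeff i) = a i := fun i => IsScalarTower.algebraMap_apply P.O K K' _
  set c := ∑ i ∈ Finset.range (p.natDegree + 1 - j), a (i + j) * s ^ i
  refine ⟨c, Subalgebra.sum_mem _ fun i _ => mul_mem (ha (i + j) ▸ Subalgebra.algebraMap_mem _ _)
    (pow_mem (Algebra.self_mem_adjoin_singleton _ s) i), ?_, fun R hR hne => ?_⟩
  · have h0 : Q.1 (a (0 + j) * s ^ 0) = 1 := by
      rw [pow_zero, zero_add, mul_one, he]
      exact (congrArg (· ^ e) hj).trans (one_pow e)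
    refine (Q.1.map_sum_eq_of_lt (j := 0) (Finset.mem_range.2 (by omega)) fun i hi => ?_).trans h0
    rw [h0]
    simp only [Finset.mem_sdiff, Finset.mem_singleton] at hi
    rw [map_mul, map_pow, he, hs]
    refine (mul_le_of_le_one_left' (pow_le_one₀ zero_le (p.coeff _).2)).trans_lt ?_
    exact pow_lt_one₀ zero_le (by rw [← exp_zero, exp_lt_exp]; omega) hi.2
  · obtain ⟨eR, heR⟩ := hR
    have hs1 : R.1 s = 1 := hs' R ⟨eR, heR⟩ hne
    have hsplit : ∑ i ∈ Finset.range j, a i * s ^ i + s ^ j * c = 0 := by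
      refine Eq.trans ?_ (minpoly.aeval P.O s)
      rw [Polynomial.aeval_eq_sum_range]
      simp only [Algebra.smul_def]
      simp only [show ∀ i, algebraMap P.O K' ((minpoly P.O s).coeff i) = a i from ha]
      show _ = ∑ i ∈ Finset.range (p.natDegree + 1), a i * s ^ i
      rw [← Finset.sum_range_add_sum_Ico (fun i => a i * s ^ i) (show j ≤ p.natDegree + 1 by omega),
        Finset.sum_Ico_eq_sum_range, Finset.mul_sum]
      refine congrArg _ (Finset.sum_congr rfl fun i _ => ?_)
      rw [add_comm j i, pow_add]; ring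
    have h := congrArg R.1 (eq_neg_of_add_eq_zero_right hsplit)
    rw [map_mul, map_pow, hs1, one_pow, one_mul, Valuation.map_neg] at h
    rw [h]
    refine R.1.map_sum_lt one_ne_zero fun i hi => ?_
    rw [hval R eR heR, hs1, one_pow, mul_one]
    exact pow_lt_one₀ zero_le (hlow i (Finset.mem_range.1 hi)) (isOverWith_pos heR).ne'

include hK hg he hφ hψ hx hx' hsurj hs hs' in
theorem adjoin_param_eq_top : IntermediateField.adjoin K ({s} : Set K') = ⊤ := by
  classical
  obtain ⟨⟨_, _⟩, _, _⟩ := coeff_fields_separable hK hg hφ hψ hx hx'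
  obtain ⟨t, ht⟩ := exists_val_eq P (-1)
  obtain ⟨hne, -⟩ := diffExp_eq_ord_param hK hg he hφ hψ hx hx' ht
  have ht1 : P.1 t ≤ 1 := by rw [ht, ← exp_zero, exp_le_exp]; omega
  set E := IntermediateField.adjoin K ({s} : Set K')
  let θ : K' →ₗ[K] Module.Dual K E := (LinearMap.lcomp K K E.val.toLinearMap).comp (Algebra.traceForm K K')
  have hθ : ∀ w (a : E), θ w a = Algebra.trace K K' (w * a) := fun w a => rfl
  suffices hinj : Function.Injective θ by
    have h := LinearMap.finrank_le_finrank_of_injective hinj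
    rw [Subspace.dual_finrank_eq] at h
    exact IntermediateField.eq_of_le_of_finrank_le le_top (by rwa [IntermediateField.finrank_top'])
  refine (injective_iff_map_eq_zero θ).2 fun y hy => by_contra fun hy0 => ?_
  obtain ⟨c₀, hc₀, hc₀Q, hc₀R⟩ := exists_separator hK he hs hs'
  have hc₀E : c₀ ∈ E := by
    refine Algebra.adjoin_induction (p := fun z _ => z ∈ E) (fun z hz => ?_) (fun r => ?_)
      (fun _ _ _ _ => add_mem) (fun _ _ _ _ => mul_mem) hc₀
    · exact IntermediateField.subset_adjoin K _ hz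
    · rw [IsScalarTower.algebraMap_apply P.O K K']; exact E.algebraMap_mem _
  -- a power killing the poles elsewhere
  obtain ⟨L, hL⟩ : ∃ L : ℕ, ∀ R : Place k K', IsOver R P → R ≠ Q → R.1 (y * c₀ ^ L) ≤ 1 := by
    refine ⟨∑ R ∈ (finite_isOver hK P).toFinset, (-R.ord y).toNat, fun R hR hne' => ?_⟩
    have hle : (-R.ord y).toNat ≤ ∑ R ∈ (finite_isOver (K' := K') hK P).toFinset, (-R.ord y).toNat :=
      Finset.single_le_sum (f := fun R : Place k K' => (-R.ord y).toNat) (fun _ _ => Nat.zero_le _)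
        ((finite_isOver hK P).mem_toFinset.2 hR)
    rw [map_mul, map_pow, val_eq_exp R hy0]
    have h1 : R.1 c₀ ≤ exp (-1) := by
      rcases eq_or_ne c₀ 0 with h | h
      · simp [h]
      have := hc₀R R hR hne'
      rw [val_eq_exp R h, ← exp_zero, exp_lt_exp] at this
      rw [val_eq_exp R h, exp_le_exp]; omega
    refine (mul_le_mul' le_rfl (pow_le_pow_left₀ zero_le h1 _)).trans ?_
    rw [← exp_nsmul, ← exp_add, ← exp_zero, exp_le_exp]
    simp only [nsmul_eq_mul, mul_neg, mul_one]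
    omega
  set w := ψ (y * c₀ ^ L) * LocRes.D F' (ψ (algebraMap K K' t))
  have hw0 : w ≠ 0 := mul_ne_zero (by
    rw [ne_eq, map_eq_zero]
    exact mul_ne_zero hy0 (pow_ne_zero _ fun h => by rw [h, map_zero] at hc₀Q; exact zero_ne_one hc₀Q)) hne
  set o := -log (Valued.v w)
  set r := o.toNat + 1
  have hs0 := ne_zero_of_val Q hs
  have hw1 : 1 < Valued.v (w * ψ ((s ^ r)⁻¹)) := by
    rw [map_mul, hψ.1, map_inv₀, map_pow, hs, ← exp_nsmul, ← exp_neg,
      ← exp_log ((Valuation.ne_zero_iff Valued.v).2 hw0), ← exp_add, ← exp_zero, exp_lt_exp]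
    simp only [nsmul_eq_mul, mul_neg, mul_one, neg_neg]
    omega
  obtain ⟨m, u, hu, hne0⟩ := exists_res_ne_zero hψ hw1
  -- replace `u` by an element of `E`
  obtain ⟨v, hv, hvE⟩ : ∃ v : K', Q.1 (v - u) ≤ exp (-(m : ℤ) - 1) ∧ v ∈ E ∧ ∀ R, IsOver R P → R ≠ Q → R.1 v ≤ 1 := by
    have hu' : Q.1 (u / s ^ m) ≤ 1 := by
      rw [map_div₀, map_pow, hs, div_le_one₀ (pow_pos exp_pos m), ← exp_nsmul]; simpa using hu
    obtain ⟨a, ha, hau⟩ := hsurj _ hu'
    refine ⟨algebraMap K K' a * s ^ m, ?_, mul_mem (E.algebraMap_mem a)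
      (pow_mem (IntermediateField.mem_adjoin_simple_self K s) m), fun R hR hne' => ?_⟩
    · rw [show algebraMap K K' a * s ^ m - u = -((u / s ^ m - algebraMap K K' a) * s ^ m) by
        rw [sub_mul, div_mul_cancel₀ _ (pow_ne_zero _ hs0)]; ring, Valuation.map_neg, map_mul, map_pow, hs,
        ← exp_nsmul]
      rcases eq_or_ne (u / s ^ m - algebraMap K K' a) 0 with h | h
      · rw [h, map_zero, zero_mul]; exact zero_le
      rw [val_eq_exp Q h, ← exp_zero, exp_lt_exp] at hau
      rw [val_eq_exp Q h, ← exp_add, exp_le_exp]; simp; omega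
    · obtain ⟨eR, heR⟩ := hR
      rw [map_mul, map_pow, hs' R ⟨eR, heR⟩ hne', one_pow, mul_one, heR]
      exact pow_le_one₀ zero_le ha
  refine hne0 v hv ?_
  have hmem : c₀ ^ L * (s ^ r)⁻¹ * v ∈ E :=
    mul_mem (mul_mem (pow_mem hc₀E _) (inv_mem (pow_mem (IntermediateField.mem_adjoin_simple_self K s) r))) hvE.1
  have h := locRes_eq_locRes_trace hK ⟨e, he⟩ hφ hψ (y * (c₀ ^ L * (s ^ r)⁻¹ * v)) (fun R hR hne' => by
    rw [show y * (c₀ ^ L * (s ^ r)⁻¹ * v) = y * c₀ ^ L * ((s ^ r)⁻¹ * v) by ring, map_mul, map_mul _ _ v, map_inv₀,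
      map_pow, hs' R hR hne', one_pow, inv_one, one_mul]
    exact mul_le_one' (hL R hR hne') (hvE.2 R hR hne')) t ht1
  have h0 : Algebra.trace K K' (y * (c₀ ^ L * (s ^ r)⁻¹ * v)) = 0 := by
    have := LinearMap.congr_fun hy ⟨_, hmem⟩
    rwa [hθ] at this
  rw [h0, LocRes.locRes, LocRes.locRes, LocRes.resExp, LocRes.resExp] at h
  simp only [map_zero, zero_mul] at h
  rw [show w * ψ ((s ^ r)⁻¹) * ψ v =
    ψ (y * (c₀ ^ L * (s ^ r)⁻¹ * v)) * LocRes.D F' (ψ (algebraMap K K' t)) by simp only [w, map_mul]; ring]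
  exact h

include hK hg he hφ hψ hx hx' hsurj hs hs' in
theorem diffExp_param :
    Q.ord (Polynomial.aeval s (Polynomial.derivative (minpoly K s))) = LocRes.diffExp φ ψ e x := by
  classical
  have hgen := adjoin_param_eq_top hK hg he hφ hψ hx hx' hsurj hs hs'
  have hsi : IsIntegral P.O s := (isIntegral_iff_intAbove hK P s).2 (intAbove_param hs hs')
  refine le_antisymm ?_ (exists_dual_conductor hK hg he hφ hψ hx hx' hgen hsi).1
  set δ := Polynomial.aeval s (Polynomial.derivative (minpoly K s))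
  have hd0 : δ ≠ 0 := (Algebra.IsSeparable.isSeparable K s).aeval_derivative_ne_zero (minpoly.aeval K s)
  set A := Algebra.adjoin P.O ({s} : Set K')
  obtain ⟨t, ht⟩ := exists_val_eq P (-1)
  have ht0 := ne_zero_of_val P ht
  let tO : P.O := ⟨t, show P.1 t ≤ 1 by rw [ht, ← exp_zero, exp_le_exp]; omega⟩
  -- `t^M R ⊆ O[s]`
  have hclear : ∀ z : K', ∃ M : ℕ, ∀ M' ≥ M, algebraMap K K' t ^ M' * z ∈ A := fun z => by
    have hz : z ∈ Algebra.adjoin K ({s} : Set K') := by
      rw [← IntermediateField.adjoin_simple_toSubalgebra_of_isAlgebraic (IsAlgebraic.of_finite K s), hgen]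
      exact IntermediateField.mem_top
    rw [Algebra.adjoin_singleton_eq_range_aeval] at hz
    obtain ⟨p, rfl⟩ := hz
    refine ⟨∑ i ∈ Finset.range (p.natDegree + 1), (-P.ord (p.coeff i)).toNat, fun M' hM' => ?_⟩
    show algebraMap K K' t ^ M' * Polynomial.aeval s p ∈ A
    rw [Polynomial.aeval_eq_sum_range, Finset.mul_sum]
    refine Subalgebra.sum_mem _ fun i hi => ?_
    have hb : P.1 (t ^ M' * p.coeff i) ≤ 1 := by
      rcases eq_or_ne (p.coeff i) 0 with h | h
      · simp [h]
      rw [map_mul, map_pow, ht, val_eq_exp P h, ← exp_nsmul, ← exp_add, ← exp_zero, exp_le_exp]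
      have : (-P.ord (p.coeff i)).toNat ≤ M' :=
        (Finset.single_le_sum (f := fun i => (-P.ord (p.coeff i)).toNat) (fun _ _ => Nat.zero_le _) hi).trans hM'
      simp; omega
    rw [Algebra.smul_def, ← map_pow, ← mul_assoc, ← map_mul,
      show algebraMap K K' (t ^ M' * p.coeff i) = algebraMap P.O K' ⟨_, hb⟩ from
        (IsScalarTower.algebraMap_apply P.O K K' ⟨_, hb⟩).symm, ← Algebra.smul_def]
    exact Subalgebra.smul_mem _ (pow_mem (Algebra.self_mem_adjoin_singleton _ s) i) _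
  obtain ⟨B, hB, hrep, -, -⟩ := exists_local_basis (K' := K') hK P
  choose Mi hMi using fun i => hclear (B i)
  set M := ∑ i, Mi i
  have hexp : ∀ (i : Fin (Module.finrank K K')) (a : K) (ha : P.1 a ≤ 1) (z : K'), z ∈ A → a • z ∈ A :=
    fun i a ha z hz => by
      rw [show a • z = (⟨a, ha⟩ : P.O) • z from IsScalarTower.algebraMap_smul K (⟨a, ha⟩ : P.O) z]
      exact Subalgebra.smul_mem _ hz _
  have hMA : ∀ z : K', IntAbove P z → algebraMap K K' t ^ M * z ∈ A := fun z hz => by
    rw [← B.sum_repr z, Finset.mul_sum]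
    refine Subalgebra.sum_mem _ fun i _ => ?_
    rw [mul_smul_comm]
    exact hexp i _ (hrep z hz i) _ (hMi i M (Finset.single_le_sum (f := Mi) (fun _ _ => Nat.zero_le _) (Finset.mem_univ i)))
  -- expansion in `s`
  have hs0 := ne_zero_of_val Q hs
  have hsA : ∀ N : ℕ, ∀ z : K', IntAbove P z → ∃ p ∈ A, ∃ r, IntAbove P r ∧ z = p + s ^ N * r := by
    intro N
    induction N with
    | zero => exact fun z hz => ⟨0, zero_mem _, z, hz, by simp⟩
    | succ N ih =>
      intro z hz
      obtain ⟨p, hp, r, hr, rfl⟩ := ih z hz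
      obtain ⟨a, ha, har⟩ := hsurj r (hr Q ⟨e, he⟩)
      refine ⟨p + s ^ N * algebraMap P.O K' ⟨a, ha⟩, add_mem hp (mul_mem (pow_mem (Algebra.self_mem_adjoin_singleton _ s) N)
        (Subalgebra.algebraMap_mem _ _)), (r - algebraMap K K' a) / s, fun R hR => ?_, ?_⟩
      · by_cases hne : R = Q
        · subst hne
          rw [map_div₀, hs, div_le_one₀ exp_pos]
          rcases eq_or_ne (r - algebraMap K K' a) 0 with h | h
          · rw [h, map_zero]; exact zero_le
          rw [val_eq_exp R h, ← exp_zero, exp_lt_exp] at har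
          rw [val_eq_exp R h, exp_le_exp]; omega
        · rw [map_div₀, hs' R hR hne, div_one]
          refine (R.1.map_sub _ _).trans (max_le (hr R hR) ?_)
          obtain ⟨eR, heR⟩ := hR
          rw [heR]; exact pow_le_one₀ zero_le ha
      · rw [IsScalarTower.algebraMap_apply P.O K K', pow_succ, add_assoc]
        show p + s ^ N * r = p + (s ^ N * algebraMap K K' a + s ^ N * s * ((r - algebraMap K K' a) / s))
        rw [mul_assoc (s ^ N) s, mul_div_cancel₀ _ hs0]; ring
  obtain ⟨c₀, hc₀, hc₀Q, hc₀R⟩ := exists_separator hK he hs hs'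
  set L := M * ∑ R ∈ (finite_isOver (K' := K') hK P).toFinset, ramIdx R P
  set c := c₀ ^ L
  have hcA : c ∈ A := pow_mem hc₀ L
  have hcR : ∀ z : K', IntAbove P z → c * z ∈ A := fun z hz => by
    obtain ⟨p, hp, r, hr, rfl⟩ := hsA (e * M) z hz
    rw [mul_add]
    refine add_mem (mul_mem hcA hp) ?_
    set T := algebraMap K K' t ^ M
    have hT0 : T ≠ 0 := pow_ne_zero _ ((map_ne_zero _).2 ht0)
    rw [show c * (s ^ (e * M) * r) = T * (c * s ^ (e * M) / T * r) by field_simp]
    refine hMA _ fun R hR => ?_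
    rw [map_mul]
    refine mul_le_one' ?_ (hr R hR)
    obtain ⟨eR, heR⟩ := hR
    have hTv : R.1 T = exp (-((M * eR : ℕ) : ℤ)) := by
      rw [map_pow, heR, ht, ← exp_nsmul, ← exp_nsmul]; congr 1; push_cast; ring
    rw [map_div₀, hTv, div_le_one₀ exp_pos, map_mul, map_pow, map_pow]
    by_cases hne : R = Q
    · subst hne
      rw [hc₀Q, one_pow, one_mul, hs, ← exp_nsmul, exp_le_exp]
      have h1 : eR = e := by rw [← ramIdx_eq heR, ramIdx_eq he]
      subst h1
      push_cast; simp; rw [mul_comm]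
    · rw [hs' R ⟨eR, heR⟩ hne, one_pow, mul_one]
      rcases eq_or_ne c₀ 0 with h | h
      · rw [h, map_zero] at hc₀Q; exact absurd hc₀Q zero_ne_one
      have h1 := hc₀R R ⟨eR, heR⟩ hne
      rw [val_eq_exp R h, ← exp_zero, exp_lt_exp] at h1
      have h2 : eR ≤ ∑ R ∈ (finite_isOver (K' := K') hK P).toFinset, ramIdx R P := by
        rw [← ramIdx_eq heR]
        exact Finset.single_le_sum (f := fun R : Place k K' => ramIdx R P) (fun _ _ => Nat.zero_le _)
          ((finite_isOver hK P).mem_toFinset.2 ⟨eR, heR⟩)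
      have h3 : M * eR ≤ L := Nat.mul_le_mul_left M h2
      rw [val_eq_exp R h, ← exp_nsmul, exp_le_exp, nsmul_eq_mul]
      have h5 : ((M * eR : ℕ) : ℤ) ≤ (L : ℤ) := by exact_mod_cast h3
      nlinarith [Int.natCast_nonneg L, show 1 ≤ R.ord c₀ by omega]
  have hu : ∀ z : K', IntAbove P z → P.1 (Algebra.trace K K' (c / δ * z)) ≤ 1 := fun z hz => by
    have := (dual_adjoin_iff hgen hsi (c / δ * z)).2 (by rw [← mul_assoc, mul_div_cancel₀ _ hd0]; exact hcR z hz) 1
      (one_mem _)
    rwa [mul_one] at this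
  have h1 := dual_le hK hg he hφ hψ hx hx' hu
  rw [map_div₀, map_pow, hc₀Q, one_pow, val_eq_exp Q hd0, one_div, ← exp_neg, neg_neg, exp_le_exp] at h1
  exact h1

end Param

end Groth.Agent.FunFldLib
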