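import Groth.Agent.FunFld.ResidueThm
import Groth.Agent.FunFld.Unramified

/-!
Residues and the trace in a finite extension.
-/

namespace Groth.Agent.FunFldLib

open FunFld WithZero Tate
open scoped LaurentSeries

variable {k K K' : Type*} [Field k] [Field K] [Field K'] [Algebra k K] [Algebra K K'] [Algebra k K']
  [IsScalarTower k K K'] [FiniteDimensional K K']

variable (k) in
/-- The elements integral at every place over `P`. -/
def intLattice (P : Place k K) : Submodule k K' where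
  carrier := {z | ∀ Q : Place k K', IsOver Q P → Q.1 z ≤ 1}
  add_mem' {a b} ha hb Q hQ := (Q.1.map_add a b).trans (max_le (ha Q hQ) (hb Q hQ))
  zero_mem' Q _ := by simp
  smul_mem' c a ha Q hQ := by
    rw [Algebra.smul_def, map_mul]; exact (mul_le_mul' (Q.2.1 c) (ha Q hQ)).trans_eq (one_mul _)

/-- The trace read above: a sum over the places over `P`. -/
theorem tateTr_above (hK : IsFunctionField k K) (P : Place k K) (Qs : Finset (Place k K'))
    (hQs : ∀ Q, Q ∈ Qs ↔ IsOver Q P) {F' : Place k K' → Type*} [∀ Q, Field (F' Q)] [∀ Q, Algebra k (F' Q)]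
    [∀ Q, FiniteDimensional k (F' Q)] {ψ : ∀ Q, K' →ₐ[k] (F' Q)⸨X⸩}
    (hψ : ∀ Q ∈ Qs, LocRes.IsExpansionAt Q.1 (ψ Q)) (y x : K') :
    TateTr (intLattice k (K' := K') P) (LinearMap.mulLeft k y) (LinearMap.mulLeft k x)
      (∑ Q ∈ Qs, LocRes.locRes (ψ Q) y x) := by
  classical
  let W : Qs → Type _ := fun Q => (F' Q.1)⸨X⸩
  let A' : ∀ Q : Qs, Submodule k (W Q) := fun Q => ordGE k (F' Q.1) 0
  choose M₁ hM₁ using fun Q : Qs => exists_ordGE (k := k) (ψ Q.1 y)
  choose M₂ hM₂ using fun Q : Qs => exists_ordGE (k := k) (ψ Q.1 x)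
  let N : Qs → ℕ := fun Q => 2 * max (M₁ Q) (M₂ Q)
  let L' : ∀ Q : Qs, Submodule k (W Q) := fun Q => ordGE k (F' Q.1) (-(N Q : ℤ))
  let H : ∀ Q : Qs, Submodule k (W Q) := fun Q => ordGE k (F' Q.1) (N Q : ℤ)
  have : ∀ Q : Qs, FiniteDimensional k (Band (L' Q) (H Q)) := fun Q => finite_band _
  have hbnd : ∀ Q : Qs, top' (A' Q) (mulOp k (ψ Q.1 x)) ≤ L' Q ∧
      H Q ≤ bot' (A' Q) (mulOp k (ψ Q.1 y)) (mulOp k (ψ Q.1 x)) :=
    fun Q => top_bot_le (ordGE_mono (by simp) (hM₁ Q)) (ordGE_mono (by simp) (hM₂ Q))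
  let M : ∀ i j : Qs, W j →ₗ[k] W i := fun i => Pi.single (M := fun j => W j →ₗ[k] W i) i (mulOp k (ψ i.1 y))
  let g : ∀ Q : Qs, W Q →ₗ[k] W Q := fun Q => mulOp k (ψ Q.1 x)
  have hMii : ∀ i, M i i = mulOp k (ψ i.1 y) := fun i => Pi.single_eq_same _ _
  have hMij : ∀ i j, j ≠ i → M i j = 0 := fun i j h => Pi.single_eq_of_ne (M := fun j => W j →ₗ[k] W i) h _
  have hF : ∀ v i, blockMap M v i = ψ i.1 y * v i := fun v i => by
    rw [blockMap_apply, Finset.sum_eq_single_of_mem i (Finset.mem_univ i) fun j _ hj => by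
      rw [hMij i j hj]; rfl, hMii]
    rfl
  have hH : ∀ i j : Qs, ∀ v ∈ H j, M i j v ∈ A' i ∧ M i j (g j v) ∈ A' i := fun i j v hv => by
    by_cases h : j = i
    · subst h; rw [hMii]; exact ⟨((hbnd _).2 hv).1, ((hbnd _).2 hv).2⟩
    · rw [hMij i j h]; exact ⟨zero_mem _, zero_mem _⟩
  have htot : TateTr (Submodule.pi Set.univ A') (blockMap M) (LinearMap.pi fun i => g i ∘ₗ LinearMap.proj i)
      (∑ Q : Qs, LocRes.locRes (ψ Q.1) y x) := by
    refine tateTr_pi A' L' H M g (fun i j v => ?_) (fun i => le_sup_left.trans (hbnd i).1)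
      (fun i => le_sup_right.trans (hbnd i).1) hH fun i => ?_
    · by_cases h : j = i
      · subst h; rw [hMii]; exact mul_left_comm _ _ _
      · rw [hMij i j h]; simp
    · rw [hMii]; exact laurent_tateTr _ _
  let j : K' →ₗ[k] ∀ Q : Qs, W Q := LinearMap.pi fun Q => expLin (ψ Q.1)
  have hj : Function.Injective j := fun a b h => by
    obtain ⟨Q, hQ⟩ := exists_above (K' := K') hK P
    exact (ψ Q).toRingHom.injective (congrFun h ⟨Q, (hQs Q).2 hQ⟩)
  have hdense : ∀ v : ∀ Q : Qs, W Q, ∀ m : Qs → ℕ, ∃ z, ∀ Q : Qs, (v - j z) Q ∈ ordGE k (F' Q.1) (m Q) := by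
    intro v m
    choose a ha using fun Q : Qs => exists_approx_series (hψ Q.1 Q.2) (v Q) (m Q)
    obtain ⟨z, hz⟩ := exists_approx Qs (fun Q => if h : Q ∈ Qs then a ⟨Q, h⟩ else 0)
      (fun Q => if h : Q ∈ Qs then -(m ⟨Q, h⟩ : ℤ) else 0)
    refine ⟨z, fun Q => ?_⟩
    have h1 := hz Q.1 Q.2
    rw [dif_pos Q.2, dif_pos Q.2] at h1
    show v Q - ψ Q.1 z ∈ ordGE k (F' Q.1) (m Q)
    have e : v Q - ψ Q.1 z = (v Q - ψ Q.1 (a Q)) - ψ Q.1 (z - a Q) := by rw [map_sub]; ring
    rw [e]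
    exact sub_mem (ha Q) (mem_ordGE_iff.2 (by rw [(hψ Q.1 Q.2).1]; exact h1))
  have hres := htot.transport (fun v => funext fun i => by
      rw [hF]
      show ψ i.1 y * (ψ i.1 x * v i) = ψ i.1 x * blockMap M v i
      rw [hF]; ring)
    j hj (f := LinearMap.mulLeft k y) (g := LinearMap.mulLeft k x)
    (fun z => funext fun i => by rw [hF]; exact map_mul (ψ i.1) y z)
    (fun z => funext fun i => map_mul (ψ i.1) x z)
    (fun v => by
      obtain ⟨z, hz⟩ := hdense v fun _ => 0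
      exact ⟨z, fun Q _ => by simpa using hz Q⟩)
    (fun v => by
      obtain ⟨z, hz⟩ := hdense v N
      exact ⟨z, fun Q _ => by
        rw [blockMap_apply]
        exact Submodule.sum_mem _ fun j _ => (hH Q j _ (hz j)).1, fun Q _ => by
        show blockMap M _ Q ∈ A' Q
        rw [blockMap_apply]
        exact Submodule.sum_mem _ fun j _ => (hH Q j _ (hz j)).2⟩)
  rw [← Finset.sum_coe_sort]
  convert hres using 1
  refine Submodule.ext fun z => ⟨fun h Q _ => ?_, fun h Q hQ => ?_⟩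
  · exact mem_ordGE_iff.2 (by rw [neg_zero, exp_zero]; exact ((hψ Q.1 Q.2).1 z).trans_le (h Q.1 ((hQs Q.1).1 Q.2)))
  · have h2 : ψ Q z ∈ ordGE k (F' Q) 0 := h ⟨Q, (hQs Q).2 hQ⟩ trivial
    rw [mem_ordGE_iff, neg_zero, exp_zero, (hψ Q ((hQs Q).2 hQ)).1] at h2
    exact h2

/-- The trace read below, through an integral basis. -/
theorem tateTr_below (hK : IsFunctionField k K) (P : Place k K) {F : Type*} [Field F] [Algebra k F]
    [FiniteDimensional k F] {φ : K →ₐ[k] F⸨X⸩} (hφ : LocRes.IsExpansionAt P.1 φ) (y : K') (x : K) :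
    TateTr (intLattice k (K' := K') P) (LinearMap.mulLeft k y) (LinearMap.mulLeft k (algebraMap K K' x))
      (LocRes.locRes φ (Algebra.trace K K' y) x) := by
  classical
  set n := Module.finrank K K'
  obtain ⟨B, hB, hBint, -, -⟩ : ∃ z : Module.Basis (Fin n) K K', (∀ i, IntAbove P (z i)) ∧
      (∀ x : K', IntAbove P x → ∀ i, P.1 (z.repr x i) ≤ 1) ∧ True ∧ True :=
    let ⟨z, h1, h2, _⟩ := exists_local_basis (K' := K') hK P
    ⟨z, h1, h2, trivial, trivial⟩
  let m : Fin n → Fin n → K := fun i l => B.repr (y * B l) i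
  let M : ∀ i l : Fin n, F⸨X⸩ →ₗ[k] F⸨X⸩ := fun i l => mulOp k (φ (m i l))
  choose Nm hNm using fun p : Fin n × Fin n => exists_ordGE (k := k) (φ (m p.1 p.2))
  obtain ⟨Nx, hNx⟩ := exists_ordGE (k := k) (φ x)
  set N₀ := max (Finset.univ.sup Nm) Nx
  have hNle : ∀ i l, Nm (i, l) ≤ N₀ := fun i l => (Finset.le_sup (f := Nm) (Finset.mem_univ (i, l))).trans (le_max_left _ _)
  have hbnd : ∀ i l : Fin n, top' (ordGE k F 0) (mulOp k (φ x)) ≤ ordGE k F (-((2 * N₀ : ℕ) : ℤ)) ∧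
      ordGE k F ((2 * N₀ : ℕ) : ℤ) ≤ bot' (ordGE k F 0) (M i l) (mulOp k (φ x)) := fun i l =>
    top_bot_le (ordGE_mono (by have := hNle i l; omega) (hNm (i, l)))
      (ordGE_mono (by have := le_max_right (Finset.univ.sup Nm) Nx; omega) hNx)
  have : ∀ _i : Fin n, FiniteDimensional k (Band (ordGE k F (-((2 * N₀ : ℕ) : ℤ))) (ordGE k F ((2 * N₀ : ℕ) : ℤ))) :=
    fun _ => finite_band _
  have htot : TateTr (Submodule.pi Set.univ fun _ : Fin n => ordGE k F 0) (blockMap M)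
      (LinearMap.pi fun i => mulOp k (φ x) ∘ₗ LinearMap.proj (R := k) (φ := fun _ : Fin n => F⸨X⸩) i)
      (∑ i, Algebra.trace k F (LocRes.res F (φ (m i i) * LocRes.D F (φ x)))) :=
    tateTr_pi (fun _ => ordGE k F 0) (fun _ => ordGE k F (-((2 * N₀ : ℕ) : ℤ))) (fun _ => ordGE k F ((2 * N₀ : ℕ) : ℤ))
      M (fun _ => mulOp k (φ x)) (fun i l v => mul_left_comm _ _ _)
      (fun i => le_sup_left.trans (hbnd i i).1) (fun i => le_sup_right.trans (hbnd i i).1)
      (fun i l v hv => ⟨((hbnd i l).2 hv).1, ((hbnd i l).2 hv).2⟩) fun i => laurent_tateTr _ _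
  have hτ : (∑ i, Algebra.trace k F (LocRes.res F (φ (m i i) * LocRes.D F (φ x)))) =
      LocRes.locRes φ (Algebra.trace K K' y) x := by
    rw [LocRes.locRes, LocRes.resExp, ← map_sum, Algebra.trace_eq_matrix_trace B, Matrix.trace, map_sum φ,
      Finset.sum_mul, map_sum (LocRes.res F)]
    simp only [Matrix.diag_apply, Algebra.leftMulMatrix_eq_repr_mul, m]
  rw [hτ] at htot
  let j : K' →ₗ[k] (Fin n → F⸨X⸩) := LinearMap.pi fun i => expLin φ ∘ₗ (B.coord i).restrictScalars k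
  have hjv : ∀ z i, j z i = φ (B.repr z i) := fun z i => rfl
  have hj : Function.Injective j := fun a b h => by
    refine B.repr.injective (Finsupp.ext fun i => φ.toRingHom.injective ?_)
    exact congrFun h i
  have hdense : ∀ v : Fin n → F⸨X⸩, ∀ N : ℤ, ∃ z, ∀ i, (v - j z) i ∈ ordGE k F N := by
    intro v N
    choose a ha using fun i => exists_approx_series hφ (v i) N
    refine ⟨∑ i, a i • B i, fun i => ?_⟩
    rw [Pi.sub_apply, hjv, B.repr_sum_self]
    exact ha i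
  have hres := htot.transport (fun v => funext fun i => by
      rw [blockMap_apply]
      show _ = φ x * blockMap M v i
      rw [blockMap_apply, Finset.mul_sum]
      exact Finset.sum_congr rfl fun l _ => mul_left_comm _ _ _)
    j hj (f := LinearMap.mulLeft k y) (g := LinearMap.mulLeft k (algebraMap K K' x))
    (fun z => funext fun i => by
      rw [hjv, blockMap_apply]
      show φ (B.repr (y * z) i) = ∑ l, φ (m i l) * φ (B.repr z l)
      conv_lhs => rw [← B.sum_repr z, Finset.mul_sum, map_sum, Finsupp.finsetSum_apply, map_sum]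
      refine Finset.sum_congr rfl fun l _ => ?_
      rw [mul_smul_comm, map_smul, Finsupp.smul_apply, smul_eq_mul, map_mul, mul_comm])
    (fun z => funext fun i => by
      show φ (B.repr (algebraMap K K' x * z) i) = φ x * φ (B.repr z i)
      rw [← Algebra.smul_def, map_smul, Finsupp.smul_apply, smul_eq_mul, map_mul])
    (fun v => by
      obtain ⟨z, hz⟩ := hdense v 0
      exact ⟨z, fun i _ => hz i⟩)
    (fun v => by
      obtain ⟨z, hz⟩ := hdense v ((2 * N₀ : ℕ) : ℤ)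
      exact ⟨z, fun i _ => by
        rw [blockMap_apply]
        exact Submodule.sum_mem _ fun l _ => ((hbnd i l).2 (hz l)).1, fun i _ => by
        show blockMap M _ i ∈ _
        rw [blockMap_apply]
        exact Submodule.sum_mem _ fun l _ => ((hbnd i l).2 (hz l)).2⟩)
  convert hres using 1
  refine Submodule.ext fun z => ⟨fun h i _ => ?_, fun h Q hQ => ?_⟩
  · exact mem_ordGE_iff.2 (by rw [neg_zero, exp_zero, hjv, hφ.1]; exact hBint z h i)
  · rw [← B.sum_repr z]
    refine Q.1.map_sum_le fun i _ => ?_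
    obtain ⟨e, he⟩ := hQ
    rw [Algebra.smul_def, map_mul, he]
    refine mul_le_one' (pow_le_one₀ zero_le ?_) (hB i Q ⟨e, he⟩)
    have h2 : φ (B.repr z i) ∈ ordGE k F 0 := h i trivial
    rw [mem_ordGE_iff, neg_zero, exp_zero, hφ.1] at h2
    exact h2

theorem locRes_trace_eq_sum (hK : IsFunctionField k K) (P : Place k K) {F : Type*} [Field F] [Algebra k F]
    [FiniteDimensional k F] {φ : K →ₐ[k] F⸨X⸩} (hφ : LocRes.IsExpansionAt P.1 φ)
    (Qs : Finset (Place k K')) (hQs : ∀ Q, Q ∈ Qs ↔ IsOver Q P) {F' : Place k K' → Type*} [∀ Q, Field (F' Q)]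
    [∀ Q, Algebra k (F' Q)] [∀ Q, FiniteDimensional k (F' Q)] {ψ : ∀ Q, K' →ₐ[k] (F' Q)⸨X⸩}
    (hψ : ∀ Q ∈ Qs, LocRes.IsExpansionAt Q.1 (ψ Q)) (y : K') (x : K) :
    LocRes.locRes φ (Algebra.trace K K' y) x = ∑ Q ∈ Qs, LocRes.locRes (ψ Q) y (algebraMap K K' x) :=
  (tateTr_below hK P hφ y x).unique (tateTr_above hK P Qs hQs hψ y _)

end Groth.Agent.FunFldLib
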