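import Groth.Agent.FunFld.TraceFormula
import Groth.Agent.FunFld.ResiduePairing

/-!
Splitting the Tate trace of a semilocal lattice at one place.
-/

namespace Groth.Agent.FunFldLib

open FunFld WithZero Tate
open scoped LaurentSeries

set_option linter.unusedSectionVars false

section Product

variable {k : Type*} [Field k] {W : Type*} [AddCommGroup W] [Module k W] {V : Type*} [AddCommGroup V] [Module k V]

/-- A factor stable under both operators does not contribute to the Tate trace. -/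
theorem tateTr_prod_stable {A : Submodule k W} {f g : W →ₗ[k] W} {τ : k} (h : TateTr A f g τ)
    (hfg : ∀ x, f (g x) = g (f x)) [FiniteDimensional k (Band (top' A g) (bot' A f g))]
    {B : Submodule k V} {f₁ g₁ : V →ₗ[k] V} (hfg₁ : ∀ x, f₁ (g₁ x) = g₁ (f₁ x))
    (hf : ∀ x ∈ B, f₁ x ∈ B) (hg : ∀ x ∈ B, g₁ x ∈ B) :
    TateTr (A.prod B) (f.prodMap f₁) (g.prodMap g₁) τ := by
  set F := f.prodMap f₁
  set G := g.prodMap g₁
  have hL : ∀ z ∈ top' (A.prod B) G, z.1 ∈ top' A g ∧ z.2 ∈ B := fun z hz => by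
    obtain ⟨a, ha, _, ⟨c, hc, rfl⟩, rfl⟩ := Submodule.mem_sup.1 hz
    exact ⟨add_mem (Submodule.mem_sup_left ha.1) (Submodule.mem_sup_right ⟨c.1, hc.1, rfl⟩),
      add_mem ha.2 (hg _ hc.2)⟩
  have hL' : ∀ u ∈ top' A g, (u, (0 : V)) ∈ top' (A.prod B) G := fun u hu => by
    obtain ⟨a, ha, _, ⟨c, hc, rfl⟩, rfl⟩ := Submodule.mem_sup.1 hu
    exact Submodule.mem_sup.2 ⟨(a, 0), ⟨ha, zero_mem _⟩, G (c, 0), ⟨(c, 0), ⟨hc, zero_mem _⟩, rfl⟩, by simp [G]⟩
  let φ : Band (top' A g) (bot' A f g) →ₗ[k] Band (top' (A.prod B) G) (bot' (A.prod B) F G) :=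
    Submodule.mapQ _ _ ((LinearMap.inl k W V).restrict hL') fun u hu => by
      refine ⟨⟨hu.1, ?_⟩, hu.2, ?_⟩
      · show f₁ 0 ∈ B; rw [map_zero]; exact zero_mem _
      · show f₁ (g₁ 0) ∈ B; rw [map_zero, map_zero]; exact zero_mem _
  have : FiniteDimensional k (Band (top' (A.prod B) G) (bot' (A.prod B) F G)) :=
    Module.Finite.of_surjective φ fun z => by
      induction z using Submodule.Quotient.induction_on with
      | H z =>
        refine ⟨Submodule.Quotient.mk ⟨z.1.1, (hL _ z.2).1⟩, ?_⟩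
        show Submodule.Quotient.mk _ = Submodule.Quotient.mk _
        rw [Submodule.Quotient.eq]
        show ((z.1.1, (0 : V)) - z.1) ∈ bot' (A.prod B) F G
        rw [show ((z.1.1, (0 : V)) - z.1) = (0, -z.1.2) by ext <;> simp]
        have hb := neg_mem (hL _ z.2).2
        refine ⟨⟨?_, hf _ hb⟩, ?_, hf _ (hg _ hb)⟩
        · show f 0 ∈ A; rw [map_zero]; exact zero_mem _
        · show f (g 0) ∈ A; rw [map_zero, map_zero]; exact zero_mem _
  obtain ⟨π, hπ⟩ := exists_isProj A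
  obtain ⟨π₁, hπ₁⟩ := exists_isProj B
  have hproj : IsProj (A.prod B) (π.prodMap π₁) := ⟨fun x => ⟨hπ.1 _, hπ₁.1 _⟩, fun x hx =>
    Prod.ext (hπ.2 _ hx.1) (hπ₁.2 _ hx.2)⟩
  refine tateTr_of hproj (fun x => Prod.ext (hfg _) (hfg₁ _)) ?_
  obtain ⟨U, hfin, hU, ⟨n, hn⟩, hτ⟩ := h π hπ
  set C := op (π.prodMap π₁) F G
  set c := op π f g
  have hC : ∀ x : W × V, C x = (c x.1, op π₁ f₁ g₁ x.2) := fun x => rfl
  have hN : ∀ x, op π₁ f₁ g₁ (op π₁ f₁ g₁ x) = 0 := fun x => by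
    have hy : op π₁ f₁ g₁ x ∈ B := sub_mem (hπ₁.1 _) (hg _ (hπ₁.1 _))
    generalize op π₁ f₁ g₁ x = y at hy
    rw [op_apply, hπ₁.2 _ (hf _ (hg _ hy)), hπ₁.2 _ (hf _ hy), hfg₁, sub_self]
  have hpow : ∀ (m : ℕ) (x : W × V), (C ^ m) x = ((c ^ m) x.1, ((op π₁ f₁ g₁) ^ m) x.2) := fun m => by
    induction m with
    | zero => exact fun x => rfl
    | succ m ih => intro x; rw [pow_succ, pow_succ, pow_succ, Module.End.mul_apply, ih, hC]; rfl
  let U' : Submodule k (W × V) := U.map (LinearMap.inl k W V)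
  have hU' : ∀ x ∈ U', C x ∈ U' := by
    rintro _ ⟨u, hu, rfl⟩
    refine ⟨c u, hU u hu, ?_⟩
    rw [hC]; simp
  refine ⟨U', inferInstance, hU', ⟨n + 2, fun x => ?_⟩, ?_⟩
  · refine ⟨(c ^ (n + 2)) x.1, ?_, ?_⟩
    · rw [pow_add, Module.End.mul_apply]; exact hn _
    · rw [hpow]
      refine Prod.ext rfl ?_
      show (0 : V) = ((op π₁ f₁ g₁) ^ (n + 2)) x.2
      rw [pow_add, Module.End.mul_apply, pow_two, Module.End.mul_apply, hN, map_zero]
  · let e : U ≃ₗ[k] U' := Submodule.equivMapOfInjective _ LinearMap.inl_injective U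
    rw [← hτ, ← LinearMap.trace_conj' (c.restrict hU) e]
    congr 1
    refine LinearMap.ext fun z => Subtype.ext ?_
    obtain ⟨u, rfl⟩ := e.surjective z
    rw [LinearEquiv.conj_apply_apply, LinearEquiv.symm_apply_apply]
    show C (u.1, (0 : V)) = (c u.1, (0 : V))
    rw [hC]; simp

end Product

variable {k K K' : Type*} [Field k] [Field K] [Field K'] [Algebra k K] [Algebra K K'] [Algebra k K']
  [IsScalarTower k K K'] [FiniteDimensional K K']
  {F F' : Type*} [Field F] [Algebra k F] [Field F'] [Algebra k F']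
  {P : Place k K} {Q : Place k K'} {e : ℕ} {φ : K →ₐ[k] F⸨X⸩} {ψ : K' →ₐ[k] F'⸨X⸩} {x : K}

/-- One place sees the whole trace if the integrand is integral at the others. -/
theorem locRes_eq_locRes_trace [FiniteDimensional k F] [FiniteDimensional k F'] (hK : IsFunctionField k K)
    (hQ : IsOver Q P) (hφ : LocRes.IsExpansionAt P.1 φ) (hψ : LocRes.IsExpansionAt Q.1 ψ) (y : K')
    (hy : ∀ R : Place k K', IsOver R P → R ≠ Q → R.1 y ≤ 1) (t : K) (ht : P.1 t ≤ 1) :
    LocRes.locRes ψ y (algebraMap K K' t) = LocRes.locRes φ (Algebra.trace K K' y) t := by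
  classical
  have hfin := finite_isOver (K' := K') hK P
  set T := algebraMap K K' t
  have hT : ∀ R : Place k K', IsOver R P → R.1 T ≤ 1 := fun R ⟨eR, heR⟩ => by
    rw [heR]; exact pow_le_one₀ zero_le ht
  let B : Submodule k K' :=
    { carrier := {z | ∀ R : Place k K', IsOver R P → R ≠ Q → R.1 z ≤ 1}
      add_mem' := fun {a b} ha hb R hR hne => (R.1.map_add a b).trans (max_le (ha R hR hne) (hb R hR hne))
      zero_mem' := fun R _ _ => by simp
      smul_mem' := fun c a ha R hR hne => by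
        rw [Algebra.smul_def, map_mul]; exact (mul_le_mul' (R.2.1 c) (ha R hR hne)).trans_eq (one_mul _) }
  obtain ⟨M₁, hM₁⟩ := exists_ordGE (k := k) (ψ y)
  obtain ⟨M₂, hM₂⟩ := exists_ordGE (k := k) (ψ T)
  set M := max M₁ M₂
  have hb := top_bot_le (k := k) (ordGE_mono (show -(M : ℤ) ≤ -(M₁ : ℤ) by omega) hM₁)
    (ordGE_mono (show -(M : ℤ) ≤ -(M₂ : ℤ) by omega) hM₂)
  have := finite_band (k := k) (F := F') (2 * M)
  have : FiniteDimensional k (Band (top' (ordGE k F' 0) (mulOp k (ψ T)))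
      (bot' (ordGE k F' 0) (mulOp k (ψ y)) (mulOp k (ψ T)))) :=
    finite_band_mono hb.1 hb.2
  have h1 := tateTr_prod_stable (laurent_tateTr (k := k) (ψ y) (ψ T)) (fun u => mul_left_comm _ _ _)
    (B := B) (f₁ := LinearMap.mulLeft k y) (g₁ := LinearMap.mulLeft k T) (fun u => mul_left_comm _ _ _)
    (fun z hz R hR hne => by
      rw [LinearMap.mulLeft_apply, map_mul]; exact mul_le_one' (hy R hR hne) (hz R hR hne))
    fun z hz R hR hne => by
      rw [LinearMap.mulLeft_apply, map_mul]; exact mul_le_one' (hT R hR) (hz R hR hne)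
  let j : K' →ₗ[k] F'⸨X⸩ × K' := (expLin ψ).prod LinearMap.id
  have hdense : ∀ (u : F'⸨X⸩ × K') (N : ℕ), ∃ z, (u - j z).1 ∈ ordGE k F' (N : ℤ) ∧ (u - j z).2 ∈ B := by
    intro u N
    obtain ⟨a, ha⟩ := exists_approx_series hψ u.1 (N : ℤ)
    obtain ⟨z, hz⟩ := exists_approx (insert Q hfin.toFinset) (fun R => if R = Q then a else u.2)
      (fun R => if R = Q then -(N : ℤ) else 0)
    refine ⟨z, ?_, fun R hR hne => ?_⟩
    · have h := hz Q (Finset.mem_insert_self _ _)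
      rw [if_pos rfl, if_pos rfl] at h
      show u.1 - ψ z ∈ ordGE k F' (N : ℤ)
      rw [show u.1 - ψ z = (u.1 - ψ a) - ψ (z - a) by rw [map_sub]; ring]
      exact sub_mem ha (mem_ordGE_iff.2 (by rw [hψ.1]; exact h))
    · have h := hz R (Finset.mem_insert_of_mem (hfin.mem_toFinset.2 hR))
      rw [if_neg hne, if_neg hne, exp_zero] at h
      show R.1 (u.2 - z) ≤ 1
      rwa [R.1.map_sub_swap]
  have h2 := h1.transport (fun u => Prod.ext (mul_left_comm _ _ _) (mul_left_comm _ _ _)) j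
    (fun a b h => congrArg Prod.snd h) (f := LinearMap.mulLeft k y) (g := LinearMap.mulLeft k T)
    (fun z => Prod.ext (map_mul ψ y z) rfl) (fun z => Prod.ext (map_mul ψ T z) rfl)
    (fun u => by
      obtain ⟨z, hz1, hz2⟩ := hdense u 0
      exact ⟨z, by simpa using hz1, hz2⟩)
    (fun u => by
      obtain ⟨z, hz1, hz2⟩ := hdense u (2 * M)
      have hb' := hb.2 hz1
      refine ⟨z, ⟨hb'.1, ?_⟩, hb'.2, ?_⟩
      · exact fun R hR hne => by
          show R.1 (y * _) ≤ 1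
          rw [map_mul]; exact mul_le_one' (hy R hR hne) (hz2 R hR hne)
      · exact fun R hR hne => by
          show R.1 (y * (T * _)) ≤ 1
          rw [map_mul, map_mul]; exact mul_le_one' (hy R hR hne) (mul_le_one' (hT R hR) (hz2 R hR hne)))
  refine TateTr.unique ?_ (tateTr_below hK P hφ y t)
  convert h2 using 1
  swap; · rfl
  refine Submodule.ext fun z => ⟨fun h => ⟨?_, fun R hR _ => h R hR⟩, fun h R hR => ?_⟩
  · show ψ z ∈ ordGE k F' 0
    rw [mem_ordGE_iff, neg_zero, exp_zero, hψ.1]; exact h Q hQ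
  · by_cases hne : R = Q
    · subst hne
      have h0 : ψ z ∈ ordGE k F' 0 := h.1
      rwa [mem_ordGE_iff, neg_zero, exp_zero, hψ.1] at h0
    · exact h.2 R hR hne

/-- A series with a pole pairs nontrivially with an integral element. -/
theorem exists_res_ne_zero {L : Type*} [Field L] [Algebra k L] {R : Place k L} {F₀ : Type*} [Field F₀] [Algebra k F₀]
    [FiniteDimensional k F₀] [Algebra.IsSeparable k F₀] {θ : L →ₐ[k] F₀⸨X⸩} (hθ : LocRes.IsExpansionAt R.1 θ)
    {w : F₀⸨X⸩} (hw : 1 < Valued.v w) :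
    ∃ (m : ℕ) (a : L), R.1 a ≤ exp (-(m : ℤ)) ∧ ∀ a' : L, R.1 (a' - a) ≤ exp (-(m : ℤ) - 1) →
      Algebra.trace k F₀ (LocRes.res F₀ (w * θ a')) ≠ 0 := by
  have hw0 : Valued.v w ≠ 0 := (zero_lt_one.trans hw).ne'
  set o := -log (Valued.v w)
  have hvo : Valued.v w = exp (-o) := by rw [neg_neg, exp_log hw0]
  have ho : o ≤ -1 := by rw [hvo, ← exp_zero, exp_lt_exp] at hw; omega
  have hw1 : w ∈ ordGE k F₀ o := mem_ordGE_iff.2 hvo.le
  have hw2 : w.coeff o ≠ 0 := fun h => by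
    have : w ∈ ordGE k F₀ (o + 1) := fun n hn => by
      rcases lt_or_eq_of_le (Int.lt_add_one_iff.1 hn) with h' | h'
      · exact hw1 n h'
      · rw [h', h]
    rw [mem_ordGE_iff, hvo, exp_le_exp] at this
    omega
  obtain ⟨σ, hσ⟩ : ∃ σ : F₀, Algebra.trace k F₀ σ ≠ 0 := by
    by_contra! h
    exact Algebra.trace_ne_zero k F₀ (LinearMap.ext h)
  obtain ⟨a, ha, hac⟩ := exists_coeff_eq hθ (-1 - o) (σ / w.coeff o)
  refine ⟨(-1 - o).toNat, a, ?_, fun a' ha' => ?_⟩
  · rw [← hθ.1, Int.toNat_of_nonneg (by omega)]; exact mem_ordGE_iff.1 ha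
  rw [Int.toNat_of_nonneg (by omega), ← hθ.1] at ha'
  have hd : θ (a' - a) ∈ ordGE k F₀ ((-1 - o) + 1) := mem_ordGE_iff.2 (ha'.trans_eq (by congr 1; ring))
  have ha'1 : θ a' ∈ ordGE k F₀ (-1 - o) := by
    rw [show θ a' = θ a + θ (a' - a) by rw [map_sub]; ring]
    exact add_mem ha (ordGE_mono (by omega) hd)
  have hc : (θ a').coeff (-1 - o) = σ / w.coeff o := by
    rw [show θ a' = θ a + θ (a' - a) by rw [map_sub]; ring, HahnSeries.coeff_add, hac, hd _ (by omega), add_zero]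
  rw [LocRes.res_apply, show (-1 : ℤ) = o + (-1 - o) by ring, coeff_mul_lead hw1 ha'1, hc, mul_div_cancel₀ _ hw2]
  exact hσ

end Groth.Agent.FunFldLib
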