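import Groth.Agent.FunFld.Over
import Groth.Agent.FunFld.Local
import Groth.Agent.FunFld.Separating

/-!
A parameter at a place with separable residue field is a separating element.
-/

namespace Groth.Agent.FunFldLib

open FunFld WithZero

variable {k K : Type*} [Field k] [Field K] [Algebra k K]

theorem uniformizer_notMem_Epow (hK : IsFunctionField k K) (hg : IsGeometric k K) (p : ℕ) [Fact p.Prime]
    [CharP K p] {P : Place k K} [Algebra.IsSeparable k (IsLocalRing.ResidueField P.O)] {t : K}
    (ht : P.1 t = exp (-1)) : t ∉ Epow k K p := fun hmem => by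
  classical
  have hp : p.Prime := Fact.out
  set L := Epow k K p
  have hrank : Module.finrank L K = p := finrank_Epow hK hg p
  have : FiniteDimensional L K := Module.finite_of_finrank_pos (by rw [hrank]; exact hp.pos)
  have hL : IsFunctionField k L := by
    obtain ⟨x, hx, -⟩ := hK.1
    have hxp : Transcendental k (x ^ p) := fun h => hx (IsAlgebraic.of_pow hp.pos h)
    set u : L := ⟨x ^ p, IntermediateField.subset_adjoin k _ ⟨x, rfl⟩⟩
    have hu : Transcendental k u := fun h => hxp (h.algebraMap (A := K))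
    refine ⟨⟨u, hu, Module.finite_of_finrank_pos (Nat.pos_of_mul_pos_right (b := Module.finrank L K) ?_)⟩, fun z hz => ?_⟩
    · rw [← finrank_adjoin_algebraMap (K' := K) u]
      have := finiteDimensional_adjoin hK hxp
      exact Module.finrank_pos (R := IntermediateField.adjoin k ({x ^ p} : Set K)) (M := K)
    · obtain ⟨c, hc⟩ := hK.2 (z : K) (hz.algebraMap (A := K))
      exact ⟨c, Subtype.ext hc⟩
  set P' := below (K := L) P
  have hover : IsOver P P' := isOver_below P
  have he := isOverWith_ramIdx hover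
  have he1 : ramIdx P P' = 1 := by
    have h := he ⟨t, hmem⟩
    have ht0 : (⟨t, hmem⟩ : L) ≠ 0 := fun h0 => ne_zero_of_val P ht (congrArg Subtype.val h0)
    rw [show algebraMap L K ⟨t, hmem⟩ = t from rfl, ht, val_eq_exp P' ht0, ← exp_nsmul, exp_inj, nsmul_eq_mul] at h
    have h2 : (ramIdx P P' : ℤ) ∣ 1 := ⟨P'.ord (⟨t, hmem⟩ : L), by linarith⟩
    exact_mod_cast Int.eq_one_of_dvd_one (Int.natCast_nonneg _) h2
  have hiff : ∀ (R : Place k K), IsOver R P' → ∀ z : L, R.1 (z : K) ≤ 1 ↔ P'.1 z ≤ 1 := fun R hR z => by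
    show R.1 (algebraMap L K z) ≤ 1 ↔ _
    rw [isOverWith_ramIdx hR, pow_le_one_iff_of_nonneg zero_le (isOverWith_pos (isOverWith_ramIdx hR)).ne']
  have huniq : ∀ R : Place k K, IsOver R P' → R = P := fun R hR => by
    refine (place_ext fun z hz => ?_).symm
    have h1 : P.1 (z ^ p) ≤ 1 := by rw [map_pow]; exact pow_le_one₀ zero_le hz
    let w : L := ⟨z ^ p, IntermediateField.subset_adjoin k _ ⟨z, rfl⟩⟩
    have h2 : R.1 (w : K) ≤ 1 := (hiff R hR w).2 ((hiff P hover w).1 h1)
    rw [map_pow] at h2
    exact (pow_le_one_iff_of_nonneg zero_le hp.ne_zero).1 h2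
  have hsum := (finite_isOver_and_sum (K' := K) hL P').2 {P} fun R => by
    rw [Finset.mem_singleton]
    exact ⟨fun h => h ▸ hover, huniq R⟩
  rw [Finset.sum_singleton, he1, one_mul, hrank] at hsum
  -- the residue fields agree
  let ι : P'.O →+* P.O := ((algebraMap L K).comp P'.O.subtype).codRestrict P.O.toSubring fun z =>
    (hiff P hover z.1).2 z.2
  have : IsLocalHom ι := ⟨fun z hz => by
    by_contra hnu
    have h1 : P'.1 (z : L) < 1 := (val_lt_one_iff_residue P' z).2 (IsLocalRing.residue_eq_zero_iff _ |>.2 hnu)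
    have h2 : P.1 ((ι z : P.O) : K) < 1 := by
      show P.1 (algebraMap L K (z : L)) < 1
      rw [he, he1, pow_one]; exact h1
    exact (IsLocalRing.residue_eq_zero_iff _).1 ((val_lt_one_iff_residue P (ι z)).1 h2) hz⟩
  let ρ : IsLocalRing.ResidueField P'.O →ₐ[k] IsLocalRing.ResidueField P.O :=
    { IsLocalRing.ResidueField.map ι with
      commutes' := fun c => by
        show IsLocalRing.ResidueField.map ι (IsLocalRing.residue P'.O (algebraMap k P'.O c)) = _
        rw [IsLocalRing.ResidueField.map_residue]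
        rfl }
  have hsurj : Function.Surjective ρ := by
    intro a
    obtain ⟨b, rfl⟩ := IsLocalRing.residue_surjective a
    have : CharP k p := (algebraMap k K).charP (algebraMap k K).injective p
    have : ExpChar k p := ExpChar.prime hp
    let w : L := ⟨(b : K) ^ p, IntermediateField.subset_adjoin k _ ⟨b, rfl⟩⟩
    have hw : P'.1 w ≤ 1 := (hiff P hover w).1 (show P.1 ((b : K) ^ p) ≤ 1 by
      rw [map_pow]; exact pow_le_one₀ zero_le b.2)
    let S : IntermediateField k (IsLocalRing.ResidueField P.O) := ρ.fieldRange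
    have hb : IsLocalRing.residue P.O b ^ p ∈ S := ⟨IsLocalRing.residue P'.O ⟨w, hw⟩, by
      show IsLocalRing.ResidueField.map ι _ = _
      rw [IsLocalRing.ResidueField.map_residue, ← map_pow]; rfl⟩
    have : ExpChar S p := expChar_of_injective_algebraMap (algebraMap k S).injective p
    have hsep : IsSeparable S (IsLocalRing.residue P.O b) :=
      IsSeparable.tower_top S (Algebra.IsSeparable.isSeparable k _)
    have hbot : IsLocalRing.residue P.O b ^ p ∈ (⊥ : IntermediateField S (IsLocalRing.ResidueField P.O)) :=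
      IntermediateField.mem_bot.2 ⟨⟨_, hb⟩, rfl⟩
    have hz := IntermediateField.mem_adjoin_simple_self S (IsLocalRing.residue P.O b)
    rw [IntermediateField.adjoin_simple_eq_adjoin_pow_expChar_pow_of_isSeparable (F := S)
      (E := IsLocalRing.ResidueField P.O) hsep p 1, pow_one,
      IntermediateField.adjoin_simple_eq_bot_iff.2 hbot, IntermediateField.mem_bot] at hz
    obtain ⟨⟨c, d, rfl⟩, hcd⟩ := hz
    exact ⟨d, hcd⟩
  have hdeg : P'.deg = P.deg :=
    LinearEquiv.finrank_eq (LinearEquiv.ofBijective ρ.toLinearMap ⟨ρ.toRingHom.injective, hsurj⟩)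
  rw [← hdeg] at hsum
  have := deg_pos hL P'
  have := hp.one_lt
  nlinarith

theorem isSepVar_of_separable_residue (hK : IsFunctionField k K) (hg : IsGeometric k K) {P : Place k K}
    [Algebra.IsSeparable k (IsLocalRing.ResidueField P.O)] {t : K} (ht : P.1 t = exp (-1)) :
    Transcendental k t ∧ IsSepVar k t := by
  have htt : Transcendental k t :=
    transcendental_of_val_lt_one (P := P) (ne_zero_of_val P ht) (by rw [ht, Ne, exp_eq_one]; omega) hK.2
  refine ⟨htt, ?_⟩
  obtain _ | ⟨p, hp, hpK⟩ := CharP.exists' K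
  · have := finiteDimensional_adjoin hK htt
    infer_instance
  · exact isSepVar_of_notMem_Epow hK hg p (uniformizer_notMem_Epow hK hg p ht)

end Groth.Agent.FunFldLib
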