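import Groth.Agent.FunFld.WDiv
import Groth.Agent.FunFld.CanDeg
import Groth.Agent.S12606

/-!
The Weierstrass divisor is effective; its degree; its coefficient at a normalised place.
-/

namespace Groth.Agent.FunFldLib

open FunFld WithZero

variable {k K : Type*} [Field k] [IsAlgClosed k] [Field K] [Algebra k K]
  (hK : IsFunctionField k K) {n : ℕ} (τ : K →ₐ[k] K)
include hK

omit [IsAlgClosed k] in
theorem finiteDimensional_fieldRange : FiniteDimensional τ.fieldRange K := by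
  obtain ⟨x, hx, -⟩ := hK.1
  have hτx : Transcendental k (τ x) := fun h => hx ((isAlgebraic_algHom_iff τ τ.injective).1 h)
  haveI := finiteDimensional_adjoin hK hτx
  have hle : IntermediateField.adjoin k ({τ x} : Set K) ≤ τ.fieldRange :=
    IntermediateField.adjoin_le_iff.2 (Set.singleton_subset_iff.2 ⟨x, rfl⟩)
  letI := (IntermediateField.inclusion hle).toRingHom.toAlgebra
  haveI : IsScalarTower (IntermediateField.adjoin k ({τ x} : Set K)) τ.fieldRange K :=
    IsScalarTower.of_algebraMap_eq' rfl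
  exact Module.Finite.of_restrictScalars_finite (IntermediateField.adjoin k ({τ x} : Set K)) _ _

/-- At every place the tuple can be normalised without changing orders and divisor. -/
theorem exists_normalized {φ : Fin (n + 1) → K} (hφ : LinearIndependent k φ) {J : Fin n → ℕ}
    {s : K} {H : K →ₐ[k] PowerSeries K} (hH : LocRes.IsHasseFamily s H) (hJ : IsOrders K (hcol τ H φ) J)
    {Φ : Place k K → (K →ₐ[k] LaurentSeries k)} (hΦ : ∀ P : Place k K, LocRes.IsExpansionAt P.1 (Φ P))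
    (P : Place k K) {t : K} {Ht : K →ₐ[k] PowerSeries K} (hHt : LocRes.IsHasseFamily t Ht) :
    ∃ y : K, y ≠ 0 ∧ LinearIndependent k (y • φ) ∧ (1 : K) ∈ Submodule.span k (Set.range (y • φ)) ∧
      (∀ i, P.1 ((y • φ) i) ≤ 1) ∧ IsOrders K (hcol τ Ht (y • φ)) J ∧
      wDiv τ H Φ s φ J = wDiv τ Ht Φ t (y • φ) J := by
  have hg := isGeometric_of_isAlgClosed (k := k) (K := K)
  obtain ⟨m, -, hm⟩ := Finset.exists_max_image Finset.univ (fun i => P.1 (φ i)) Finset.univ_nonempty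
  have hy : (φ m)⁻¹ ≠ 0 := inv_ne_zero (hφ.ne_zero m)
  have hli : LinearIndependent k ((φ m)⁻¹ • φ) :=
    hφ.map' (LinearMap.mulLeft k (φ m)⁻¹) (LinearMap.ker_eq_bot.2 (mul_right_injective₀ hy))
  have hJy : IsOrders K (hcol τ H ((φ m)⁻¹ • φ)) J :=
    (isOrders_congr (fun j => colSpan_smul τ H φ _ hy j) J).2 hJ
  refine ⟨(φ m)⁻¹, hy, hli, Submodule.subset_span ⟨m, inv_mul_cancel₀ (hφ.ne_zero m)⟩, fun i => ?_,
    (isOrders_congr (fun j => colSpan_change τ hK hg hH hHt _ j) J).2 hJy, ?_⟩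
  · show P.1 ((φ m)⁻¹ * φ i) ≤ 1
    rw [map_mul, map_inv₀, inv_mul_le_iff₀ (zero_lt_iff.2 (val_ne_zero P (hφ.ne_zero m))), mul_one]
    exact hm i (Finset.mem_univ i)
  · rw [wDiv_change hK τ hli hH hHt hJy hΦ, wDiv_smul hK τ hφ hH hJ hΦ hy]

theorem wDiv_nonneg {φ : Fin (n + 1) → K} (hφ : LinearIndependent k φ) {J : Fin n → ℕ}
    {s : K} {H : K →ₐ[k] PowerSeries K} (hH : LocRes.IsHasseFamily s H) (hJ : IsOrders K (hcol τ H φ) J)
    {Φ : Place k K → (K →ₐ[k] LaurentSeries k)} (hΦ : ∀ P : Place k K, LocRes.IsExpansionAt P.1 (Φ P)) :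
    0 ≤ wDiv τ H Φ s φ J := fun P => by
  classical
  obtain ⟨t, ht⟩ := exists_val_eq P (-1)
  obtain ⟨Ht, hHt⟩ := exists_hasse_param hK ht
  obtain ⟨e⟩ := exists_paramExp hK ht
  obtain ⟨y, -, hli, h1, hint, hJ', hw⟩ := exists_normalized hK τ hφ hH hJ hΦ P hHt
  set ψ := y • φ
  rw [hw, wDiv_apply hK τ J hHt hΦ P ht hHt, mapDiv_eq_zero_of_unit hK hint h1, hasseD_one_self hHt, ord_one,
    mul_zero, mul_zero, add_zero, add_zero, mapDiv_apply hK.1, Finsupp.zero_apply]
  have hdet := det_orders_ne_zero τ hli hJ'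
  obtain ⟨q, -, hq⟩ := Finset.exists_mem_eq_inf' Finset.univ_nonempty (fun i => P.ord ((τ ∘ ψ) i))
  rw [hq]
  have hψq : τ (ψ q) ≠ 0 := (map_ne_zero τ).2 (hli.ne_zero q)
  let M' := (wrMat τ Ht ψ J).updateCol 0 fun i => τ (ψ i) / τ (ψ q)
  have hcol0 : wrMat τ Ht ψ J = M'.updateCol 0 (τ (ψ q) • fun i => τ (ψ i) / τ (ψ q)) := by
    ext i c
    rw [Matrix.updateCol_apply]
    split_ifs with hc
    · subst hc; simp [wrMat, mul_div_cancel₀ _ hψq]
    · simp [M', Matrix.updateCol_apply, hc]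
  have hM' : P.1 M'.det ≤ 1 := val_det_le_one' P _ fun i c => by
    simp only [M', Matrix.updateCol_apply]
    split_ifs with hc
    · have hi : τ (ψ i) ≠ 0 := (map_ne_zero τ).2 (hli.ne_zero i)
      rw [val_le_one_iff P (div_ne_zero hi hψq), ord_div P hi hψq]
      have := Finset.inf'_le (fun i => P.ord ((τ ∘ ψ) i)) (Finset.mem_univ i)
      rw [hq] at this
      simp only [Function.comp_apply] at this
      omega
    · obtain ⟨l, rfl⟩ := Fin.exists_succ_eq.2 hc
      exact e.hasseD_le_one hK ht hHt (hint i) (J l)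
  have hd : (wrMat τ Ht ψ J).det = τ (ψ q) * M'.det := by
    rw [hcol0, Matrix.det_updateCol_smul]
    simp [M']
  rw [hd] at hdet ⊢
  rw [val_le_one_iff P (right_ne_zero_of_mul hdet)] at hM'
  rw [ord_mul P hψq (right_ne_zero_of_mul hdet)]
  simp only [Function.comp_apply]
  omega

theorem deg_wDiv {φ : Fin (n + 1) → K} (hφ : LinearIndependent k φ) (J : Fin n → ℕ)
    {s : K} {H : K →ₐ[k] PowerSeries K} (hH : LocRes.IsHasseFamily s H)
    {Φ : Place k K → (K →ₐ[k] LaurentSeries k)} (hΦ : ∀ P : Place k K, LocRes.IsExpansionAt P.1 (Φ P)) :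
    (wDiv τ H Φ s φ J).deg = ((Module.finrank τ.fieldRange K : ℤ) + n) * (mapDiv k φ).deg +
      (2 * (genus k K : ℤ) - 2) * ∑ l, (J l : ℤ) := by
  have := finiteDimensional_fieldRange hK τ
  rw [wDiv, deg_add, deg_add, deg_add, deg_zsmul, deg_zsmul, deg_div hK, deg_divDiff hK hH one_ne_zero hΦ,
    deg_mapDiv_algHom hK τ φ hφ.ne_zero]
  ring

/-- At a strong fixed point the coefficient is at least `∑ (J'_l - J_l)`. -/
theorem le_wDiv_strong {φ : Fin (n + 1) → K} {J : Fin n → ℕ} {P : Place k K} (hP : IsStrongFixedPt τ P)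
    (hφ : LinearIndependent k φ) (heff : (1 : K) ∈ Submodule.span k (Set.range φ)) (hint : ∀ i, P.1 (φ i) ≤ 1)
    {t : K} (ht : P.1 t = exp (-1)) {Ht : K →ₐ[k] PowerSeries K} (hHt : LocRes.IsHasseFamily t Ht)
    (hJ : IsOrders K (hcol τ Ht φ) J) {J' : Fin n → ℕ}
    (hJ' : IsOrders (IsLocalRing.ResidueField P.O) (hcolAt P Ht φ) J')
    {Φ : Place k K → (K →ₐ[k] LaurentSeries k)} (hΦ : ∀ P : Place k K, LocRes.IsExpansionAt P.1 (Φ P)) :
    ∑ l, ((J' l : ℤ) - J l) ≤ wDiv τ Ht Φ t φ J P := by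
  have hfix : IsFixedPt τ P := fun z hz => (hP z hz).trans_lt (by rw [← exp_zero, exp_lt_exp]; omega)
  obtain ⟨e⟩ := exists_paramExp hK ht
  have h := (det_estimate' e ht hHt τ hK hfix hφ heff hint hJ' J).1
  rw [val_le_exp_iff P (det_orders_ne_zero τ hφ hJ)] at h
  rw [wDiv_apply_normalized hK τ J hfix hint heff ht hHt hΦ]
  omega

omit hK in
/-- Orders at a place exist. -/
theorem exists_orders_at (hK : IsFunctionField k K) {φ : Fin (n + 1) → K} (hφ : LinearIndependent k φ)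
    {P : Place k K} (hint : ∀ i, P.1 (φ i) ≤ 1) (heff : (1 : K) ∈ Submodule.span k (Set.range φ))
    {t : K} (ht : P.1 t = exp (-1)) {Ht : K →ₐ[k] PowerSeries K} (hHt : LocRes.IsHasseFamily t Ht) :
    ∃ J : Fin n → ℕ, IsOrders (IsLocalRing.ResidueField P.O) (hcolAt P Ht φ) J := by
  classical
  obtain ⟨e⟩ := exists_paramExp hK ht
  refine exists_isOrders (fun h0 => ?_) ?_ (Module.finrank_fin_fun _)
  · obtain ⟨b, hb⟩ := (Submodule.mem_span_range_iff_exists_fun k).1 heff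
    have h := evalP_comb e hK ht hHt hint b 0
    rw [hb, e.cf_one, map_one, Finset.sum_eq_zero fun i _ => ?_] at h
    · exact zero_ne_one h
    · rw [hasseD_zero_apply hHt, show evalP P (φ i) = 0 from congrFun h0 i, mul_zero]
  by_contra hne
  obtain ⟨f, hf, hker⟩ := Submodule.exists_le_ker_of_lt_top _ (lt_top_iff_ne_top.2 hne)
  choose a ha using fun i => e.residue_surjective (f (Pi.single i 1))
  have hcomb : ∑ i, a i • φ i = 0 := e.eq_zero_of_cf (val_comb_le_one hint a) fun j => by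
    have h0 : f (hcolAt P Ht φ (j + 1)) = 0 := hker (Submodule.subset_span ⟨j + 1, rfl⟩)
    rw [pi_eq_sum_univ' (hcolAt P Ht φ (j + 1)), map_sum] at h0
    refine (map_eq_zero (algebraMap k (IsLocalRing.ResidueField P.O))).1 ?_
    rw [← evalP_comb e hK ht hHt hint, ← h0]
    refine Finset.sum_congr rfl fun i _ => ?_
    rw [map_smul, smul_eq_mul, ha, mul_comm]
    rfl
  have ha0 := Fintype.linearIndependent_iff.1 hφ a hcomb
  refine hf (LinearMap.pi_ext fun i x => ?_)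
  rw [show (Pi.single i x : Fin (n + 1) → IsLocalRing.ResidueField P.O) = x • Pi.single i 1 by
    rw [← Pi.single_smul', smul_eq_mul, mul_one], map_smul, ← ha i, ha0 i]
  simp

/-- Every strong fixed point occurs in the Weierstrass divisor with multiplicity at least `n`. -/
theorem n_le_wDiv_strong {φ : Fin (n + 1) → K} (hφ : LinearIndependent k φ) {J : Fin n → ℕ}
    {s : K} {H : K →ₐ[k] PowerSeries K} (hH : LocRes.IsHasseFamily s H) (hJ : IsOrders K (hcol τ H φ) J)
    {Φ : Place k K → (K →ₐ[k] LaurentSeries k)} (hΦ : ∀ P : Place k K, LocRes.IsExpansionAt P.1 (Φ P))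
    (hτφ : ¬ ∃ y : K, ∀ i, τ (φ i) = y * φ i) {P : Place k K} (hP : IsStrongFixedPt τ P) :
    (n : ℤ) ≤ wDiv τ H Φ s φ J P := by
  obtain ⟨t, ht⟩ := exists_val_eq P (-1)
  obtain ⟨Ht, hHt⟩ := exists_hasse_param hK ht
  obtain ⟨e⟩ := exists_paramExp hK ht
  obtain ⟨y, hy, hli, h1, hint, hJy, hw⟩ := exists_normalized hK τ hφ hH hJ hΦ P hHt
  rcases Nat.eq_zero_or_pos n with hn | hn
  · subst hn
    exact (absurd ⟨τ (φ 0) / φ 0, fun i => by rw [Fin.eq_zero i, div_mul_cancel₀ _ (hφ.ne_zero 0)]⟩ hτφ)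
  obtain ⟨J', hJ'⟩ := exists_orders_at hK hli hint h1 ht hHt
  have hτψ : ¬ ∃ z : K, ∀ i, τ ((y • φ) i) = z * (y • φ) i := fun ⟨z, hz⟩ => hτφ ⟨z * y / τ y, fun i => by
    have := hz i
    simp only [Pi.smul_apply, smul_eq_mul, map_mul] at this
    field_simp [(map_ne_zero τ).2 hy]
    linear_combination this⟩
  have hle := Groth.Agent.S12606.result k K hK τ P hP hn _ hli h1 hint hτψ t ht Ht hHt J hJy J' hJ'
  have hpos := orders_at_pos e hK ht hHt hint hJ' ⟨0, hn⟩
  rw [hw]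
  refine le_trans ?_ (le_wDiv_strong hK τ hP hli h1 hint ht hHt hJy hJ' hΦ)
  refine le_trans (by simp) (Finset.sum_le_sum fun l (_ : l ∈ Finset.univ) =>
    show (1 : ℤ) ≤ (J' l : ℤ) - J l from by have := hle l; omega)

end Groth.Agent.FunFldLib
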