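import Groth.Agent.FunFld.Canonical

/-!
Weierstrass points in large or zero characteristic: weights, their number, hyperelliptic dichotomy,
finiteness of the automorphism group.
-/

namespace Groth.Agent.FunFldLib

open FunFld WithZero

variable {k K : Type*} [Field k] [IsAlgClosed k] [Field K] [Algebra k K] (hK : IsFunctionField k K)
include hK

theorem finrank_fieldRange_id : Module.finrank (AlgHom.id k K).fieldRange K = 1 := by
  rw [IntermediateField.finrank_eq_one_iff_eq_top]
  exact eq_top_iff.2 fun x _ => ⟨x, rfl⟩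

theorem ell_two_le (hg : 1 < genus k K) (P : Place k K) : ell (Finsupp.single P 2 : Divisor k K) ≤ 2 := by
  have h := clifford_point hK (deg_eq_one hK P) (n := 2) (by push_cast; omega)
  push_cast at h
  omega

section Weights

variable (hg : 1 < genus k K) (hchar : ringChar k = 0 ∨ 2 * genus k K - 2 < ringChar k)
  {C : Divisor k K} (hC : IsCanonical k K C) {n : ℕ} {φ : Fin (n + 1) → K} (hφ : LinearIndependent k φ)
  (hspan : Submodule.span k (Set.range φ) = L C) {s : K} {H : K →ₐ[k] PowerSeries K}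
  (hH : LocRes.IsHasseFamily s H) {J : Fin n → ℕ} (hJ : IsOrders K (hcol (AlgHom.id k K) H φ) J)
  {Φ : Place k K → (K →ₐ[k] LaurentSeries k)} (hΦ : ∀ P : Place k K, LocRes.IsExpansionAt P.1 (Φ P))
include hg hchar hC hφ hspan hH hJ hΦ

omit hJ hΦ hH in
theorem char_big : ringChar k = 0 ∨ (mapDiv k φ).deg < ringChar k := by
  rw [mapDiv_canonical hK hC hφ hspan, (canonical_ell_deg hK hC).2]
  rcases hchar with h | h
  · exact Or.inl h
  · right; omega

theorem orders_eq : J = fun l : Fin n => (l : ℕ) + 1 :=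
  isOrders_unique hJ (orders_id_classical hK hφ (char_big hK hg hchar hC hφ hspan) hH)

/-- The weight at a place, in terms of orders of a normalised canonical tuple there. -/
theorem exists_weight (P : Place k K) : ∃ J' : Fin n → ℕ,
    wDiv (AlgHom.id k K) H Φ s φ J P = ∑ l, ((J' l : ℤ) - ((l : ℕ) + 1)) ∧
    (∀ l : Fin n, (l : ℕ) + 1 ≤ J' l ∧ J' l ≤ 2 * ((l : ℕ) + 1)) ∧
    ((∀ l : Fin n, J' l = (l : ℕ) + 1) ↔ ell (Finsupp.single P ((n : ℤ) + 1)) = 1) ∧
    (2 ≤ ell (Finsupp.single P 2 : Divisor k K) → ∀ l : Fin n, J' l = 2 * ((l : ℕ) + 1)) ∧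
    (ell (Finsupp.single P 2 : Divisor k K) ≤ 1 → ∀ l : Fin n, (l : ℕ) = 0 → J' l = 1) := by
  obtain ⟨t, ht⟩ := exists_val_eq P (-1)
  obtain ⟨Ht, hHt⟩ := exists_hasse_param hK ht
  obtain ⟨e⟩ := exists_paramExp hK ht
  obtain ⟨y, hy, hli, heff, hint, hJy, hw⟩ := exists_normalized hK (AlgHom.id k K) hφ hH hJ hΦ P hHt
  obtain ⟨J', hJ'⟩ := exists_orders_at hK hli hint heff ht hHt
  have hJe := orders_eq hK hg hchar hC hφ hspan hH hJ hΦ
  have hgn := genus_pos_of_tuple hK hC hφ hspan
  have hpos := orders_at_pos e hK ht hHt hint hJ'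
  have hbd : ∀ r, (J' r : ℤ) ≤ (mapDiv k φ).deg := fun r =>
    (orders_at_le_deg hK hli heff hint ht hHt hJ' r).trans_eq (deg_mapDiv_smul hK hφ hy)
  have hcd : (mapDiv k φ).deg = 2 * (genus k K : ℤ) - 2 := by
    rw [mapDiv_canonical hK hC hφ hspan, (canonical_ell_deg hK hC).2]
  have hgap : ∀ j : ℕ, j ≠ 0 → (j ∈ Set.range J' ↔
      L (Finsupp.single P ((j : ℤ) + 1)) = L (Finsupp.single P (j : ℤ))) := fun j hj => by
    rw [← exists_order_iff hK hC hφ hspan hy heff hint, ← mem_orders_at_iff e hK ht hHt hint hJ' heff]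
    simp [hj]
  have hlow : ∀ l : Fin n, (l : ℕ) + 1 ≤ J' l := fun l => by
    obtain ⟨l, hl⟩ := l
    induction l with
    | zero => exact hpos _
    | succ m ih =>
      have := hJ'.1 (show (⟨m, by omega⟩ : Fin n) < ⟨m + 1, hl⟩ from Nat.lt_succ_self m)
      have := ih (by omega)
      simp only at *
      omega
  have hup : ∀ l : Fin n, J' l ≤ 2 * ((l : ℕ) + 1) := fun l => by
    have h1 := le_ell_order hK hC hφ hspan hy heff hint ht hHt hJ' l
    have h2 := clifford_point hK (deg_eq_one hK P) (n := J' l) (by have := hbd l; omega)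
    have := hlow l
    omega
  refine ⟨J', ?_, fun l => ⟨hlow l, hup l⟩, weierstrass_iff hK hC hφ hspan hy heff hint ht hHt hJ', ?_, ?_⟩
  · rw [hw, wDiv_apply_normalized hK (AlgHom.id k K) J (fun z hz => hz) hint heff ht hHt hΦ]
    have hd := ((det_estimate' e ht hHt (AlgHom.id k K) hK (fun z hz => hz) hli heff hint hJ'
      fun l : Fin n => (l : ℕ) + 1).2 (Or.inl fun l => Nat.succ_pos _)).2
      (det_binom_succ (char_big hK hg hchar hC hφ hspan) J' hJ'.1.injective hpos hbd)
    rw [hJe, ord_eq_of_val P hd, neg_neg]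
    push_cast
    rfl
  · -- a pole order `2` makes every even number a pole order
    intro h2 l
    have hpole : ∀ i : ℕ, IsPoleOrder P (2 * i) := fun i => by
      induction i with
      | zero => exact isPoleOrder_zero hK P
      | succ i ih =>
        refine ih.add ((isPoleOrder_iff_L_ne hK P 2).2 fun heq => ?_)
        have h1 := ell_single_eq_one hK (K := K) (by omega) (deg_eq_one hK P)
        push_cast at heq
        rw [ell, heq] at h2
        simp only [ell] at h1
        norm_num at h2 h1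
        omega
    have heven : ∀ r, ∃ i, J' r = 2 * i := fun r => by
      rcases Nat.even_or_odd' (J' r) with ⟨i, hi | hi⟩
      · exact ⟨i, hi⟩
      · exfalso
        have h3 := (hgap (J' r) (hpos r).ne').1 ⟨r, rfl⟩
        refine (isPoleOrder_iff_L_ne hK P (2 * (i + 1))).1 (hpole (i + 1)) ?_
        rw [show ((2 * (i + 1) : ℕ) : ℤ) = (J' r : ℤ) + 1 by rw [hi]; push_cast; ring, add_sub_cancel_right]
        exact h3
    refine le_antisymm (hup l) ?_
    obtain ⟨l, hl⟩ := l
    induction l with
    | zero =>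
      obtain ⟨i, hi⟩ := heven ⟨0, hl⟩
      have := hpos ⟨0, hl⟩
      simp only at *
      omega
    | succ m ih =>
      obtain ⟨i, hi⟩ := heven ⟨m + 1, hl⟩
      obtain ⟨i', hi'⟩ := heven ⟨m, by omega⟩
      have := hJ'.1 (show (⟨m, by omega⟩ : Fin n) < ⟨m + 1, hl⟩ from Nat.lt_succ_self m)
      have := ih (by omega)
      simp only at *
      omega
  · intro h2 l hl
    have h1 : ell (Finsupp.single P 1 : Divisor k K) = 1 := ell_single_eq_one hK (by omega) (deg_eq_one hK P)
    have := finiteDimensional_L hK (Finsupp.single P (2 : ℤ))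
    obtain ⟨q, hq⟩ : (1 : ℕ) ∈ Set.range J' := by
      refine (hgap 1 one_ne_zero).2 ?_
      rw [Nat.cast_one, show (1 : ℤ) + 1 = 2 by norm_num]
      refine (Submodule.eq_of_le_of_finrank_le (L_mono (Finsupp.single_mono (by norm_num))) ?_).symm
      simp only [ell] at h1 h2
      omega
    have hl0 : l ≤ q := by rw [Fin.le_def]; omega
    have := hJ'.1.monotone hl0
    have := hlow l
    omega

theorem wDiv_ne_zero_iff (P : Place k K) :
    wDiv (AlgHom.id k K) H Φ s φ J P ≠ 0 ↔ 2 ≤ ell (Finsupp.single P (genus k K : ℤ)) := by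
  obtain ⟨J', hw, hb, hiff, -, -⟩ := exists_weight hK hg hchar hC hφ hspan hH hJ hΦ P
  rw [genus_pos_of_tuple hK hC hφ hspan, Nat.cast_add, Nat.cast_one, hw]
  have hpos : 1 ≤ ell (Finsupp.single P ((n : ℤ) + 1)) := by
    rw [← ell_zero hK]; exact ell_mono hK (Finsupp.single_nonneg.2 (by positivity))
  constructor
  · intro h
    by_contra hlt
    refine h (Finset.sum_eq_zero fun l _ => ?_)
    rw [hiff.2 (by omega) l]; push_cast; ring
  · intro h hsum
    have hall := (Finset.sum_eq_zero_iff_of_nonneg fun l _ => by have := (hb l).1; omega).1 hsum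
    have := hiff.1 fun l => by have := hall l (Finset.mem_univ l); omega
    omega

/-- The weights add up to `(g-1) g (g+1)`; each is at most `g (g-1) / 2`. -/
theorem count_weierstrass :
    {P : Place k K | wDiv (AlgHom.id k K) H Φ s φ J P ≠ 0}.Finite ∧
    ((∃ P₀ : Place k K, 2 ≤ ell (Finsupp.single P₀ 2 : Divisor k K)) →
      (∀ P, wDiv (AlgHom.id k K) H Φ s φ J P ≠ 0 → 2 ≤ ell (Finsupp.single P 2 : Divisor k K)) →
      Set.ncard {P : Place k K | wDiv (AlgHom.id k K) H Φ s φ J P ≠ 0} = 2 * genus k K + 2) ∧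
    ((∀ P : Place k K, ell (Finsupp.single P 2 : Divisor k K) ≤ 1) →
      2 * genus k K + 2 < Set.ncard {P : Place k K | wDiv (AlgHom.id k K) H Φ s φ J P ≠ 0}) := by
  set W := wDiv (AlgHom.id k K) H Φ s φ J
  have hset : {P : Place k K | W P ≠ 0} = ↑W.support := by ext P; simp
  have hJe := orders_eq hK hg hchar hC hφ hspan hH hJ hΦ
  have hgn := genus_pos_of_tuple hK hC hφ hspan
  have hn : 0 < n := by omega
  have hgauss : (∑ l : Fin n, (((l : ℕ) : ℤ) + 1)) * 2 = (n : ℤ) * (n + 1) := by
    have : ∀ m : ℕ, (∑ l ∈ Finset.range m, ((l : ℤ) + 1)) * 2 = (m : ℤ) * (m + 1) := fun m => by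
      induction m with
      | zero => simp
      | succ m ih => rw [Finset.sum_range_succ, add_mul, ih]; push_cast; ring
    rw [Fin.sum_univ_eq_sum_range fun i => (i : ℤ) + 1]
    exact this n
  have hdeg : W.deg * 1 = (n : ℤ) * (n + 1) * (n + 2) := by
    rw [mul_one, deg_wDiv hK (AlgHom.id k K) hφ J hH hΦ, mapDiv_canonical hK hC hφ hspan,
      (canonical_ell_deg hK hC).2, finrank_fieldRange_id hK, hgn, hJe]
    push_cast
    linear_combination (n : ℤ) * hgauss
  have hsum : W.deg = ∑ P ∈ W.support, W P := by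
    rw [Divisor.deg, Finsupp.sum]
    exact Finset.sum_congr rfl fun P _ => by rw [deg_eq_one hK P, Nat.cast_one, mul_one]
  have hmax : ∀ P : Place k K, (2 ≤ ell (Finsupp.single P 2 : Divisor k K) → W P * 2 = (n : ℤ) * (n + 1)) ∧
      (ell (Finsupp.single P 2 : Divisor k K) ≤ 1 → W P * 2 + 2 ≤ (n : ℤ) * (n + 1)) := fun P => by
    obtain ⟨J', hw, hb, -, heq, hone⟩ := exists_weight hK hg hchar hC hφ hspan hH hJ hΦ P
    refine ⟨fun h => ?_, fun h => ?_⟩
    · rw [← hgauss]
      show W P * 2 = _
      rw [hw]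
      congr 1
      exact Finset.sum_congr rfl fun l _ => by rw [heq h l]; push_cast; ring
    · rw [← hgauss]
      show W P * 2 + 2 ≤ _
      rw [hw]
      have hlt : ∑ l, ((J' l : ℤ) - ((l : ℕ) + 1)) < ∑ l : Fin n, (((l : ℕ) : ℤ) + 1) := by
        refine Finset.sum_lt_sum (fun l _ => by have := (hb l).2; omega) ⟨⟨0, hn⟩, Finset.mem_univ _, ?_⟩
        rw [hone h ⟨0, hn⟩ rfl]
        norm_num
      omega
  refine ⟨hset ▸ W.support.finite_toSet, fun _ hall => ?_, fun hall => ?_⟩ <;> rw [hset, Set.ncard_coe_finset]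
  · have h1 : W.deg * 2 = (W.support.card : ℤ) * ((n : ℤ) * (n + 1)) := by
      rw [hsum, Finset.sum_mul, Finset.sum_congr rfl fun P hP => (hmax P).1 (hall P (Finsupp.mem_support_iff.1 hP)),
        Finset.sum_const, nsmul_eq_mul]
    have h2 : (n : ℤ) * (n + 1) * (2 * ((n : ℤ) + 2)) = (n : ℤ) * (n + 1) * W.support.card := by
      linear_combination h1 - 2 * hdeg
    have h3 := mul_left_cancel₀ (by positivity) h2
    omega
  · have h1 : W.deg * 2 ≤ (W.support.card : ℤ) * ((n : ℤ) * (n + 1) - 2) := by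
      rw [hsum, Finset.sum_mul, ← nsmul_eq_mul, ← Finset.sum_const]
      exact Finset.sum_le_sum fun P _ => by have := (hmax P).2 (hall P); omega
    by_contra hlt
    push Not at hlt
    have h2 : (W.support.card : ℤ) ≤ 2 * (n : ℤ) + 4 := by omega
    have h4 : (2 : ℤ) ≤ (n : ℤ) * (n + 1) := by nlinarith
    nlinarith [mul_le_mul_of_nonneg_right h2 (show (0 : ℤ) ≤ (n : ℤ) * (n + 1) - 2 by omega)]

end Weights

section Hyperelliptic

variable (hg : 1 < genus k K) {P₀ : Place k K} {x : K} (hxL : x ∈ L (Finsupp.single P₀ 2))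
  (hxt : Transcendental k x)
include hg hxL hxt

theorem hyper_basic : (polesDiv k x) = Finsupp.single P₀ 2 ∧
    Module.finrank (IntermediateField.adjoin k ({x} : Set K)) K = 2 := by
  have hx0 : x ≠ 0 := fun h => hxt (h ▸ isAlgebraic_zero)
  have h0 : (0 : Divisor k K) ≤ Finsupp.single P₀ 2 := Finsupp.single_nonneg.2 (by norm_num)
  have hle := polesDiv_le hK h0 hx0 hxL
  have hfr := finrank_le_deg hK h0 hxt hxL
  have hd2 : Divisor.deg (Finsupp.single P₀ 2 : Divisor k K) = 2 := by
    rw [deg_single, deg_eq_one hK P₀]; norm_num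
  rw [hd2] at hfr
  have := finiteDimensional_adjoin hK hxt
  have hpos : 0 < Module.finrank (IntermediateField.adjoin k ({x} : Set K)) K := Module.finrank_pos
  have hne : Module.finrank (IntermediateField.adjoin k ({x} : Set K)) K ≠ 1 := fun h => by
    have := (genus_eq_zero_of_adjoin_eq_top hK (IntermediateField.finrank_eq_one_iff_eq_top.1 h)).1
    omega
  have h2 : Module.finrank (IntermediateField.adjoin k ({x} : Set K)) K = 2 := by omega
  refine ⟨eq_of_le_of_deg_le hK hle ?_, h2⟩
  rw [hd2, deg_poles hK hxt, h2]; norm_num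

/-- A place with a nongap `≤ g` is a zero of order `2` of some `x - c`, or the pole. -/
theorem hyper_ramified {Q : Place k K} (hQ : 2 ≤ ell (Finsupp.single Q (genus k K : ℤ))) (hne : Q ≠ P₀) :
    ∃ c : k, 2 ≤ Q.ord (x - algebraMap k K c) := by
  classical
  obtain ⟨hpoles, -⟩ := hyper_basic hK hg hxL hxt
  have hx0 : x ≠ 0 := fun h => hxt (h ▸ isAlgebraic_zero)
  have hxQ : Q.1 x ≤ 1 := by
    have := hxL Q
    rwa [Finsupp.single_eq_of_ne hne, exp_zero] at this
  obtain ⟨c, hc⟩ := exists_sub_const_val_lt_one hK Q (deg_eq_one hK Q) hxQ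
  refine ⟨c, ?_⟩
  set z := x - algebraMap k K c with hz
  have hz0 : z ≠ 0 := fun h => hxt (sub_eq_zero.1 h ▸ isAlgebraic_algebraMap c)
  have hzpos := (val_lt_one_iff Q hz0).1 hc
  by_contra hlt
  have hQz : Q.1 z = exp (-1) := by rw [val_eq_exp Q hz0, show Q.ord z = 1 by omega]
  obtain ⟨N, hN⟩ : ∃ N, genus k K = N + 1 := ⟨genus k K - 1, by omega⟩
  obtain ⟨C, hC⟩ := exists_isCanonical hK
  set D : Divisor k K := Finsupp.single P₀ (2 * (N : ℤ)) with hD
  have hDdeg : D.deg = 2 * (N : ℤ) := by rw [hD, deg_single, deg_eq_one hK P₀]; simp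
  -- the powers of `x`
  have hzt : Transcendental k z := fun h => hxt (by
    have := h.add (isAlgebraic_algebraMap (A := K) c)
    rwa [hz, sub_add_cancel] at this)
  have hmem : ∀ i : Fin (N + 1), z ^ (i : ℕ) ∈ L D := fun i P => by
    rw [map_pow]
    have h1 : P.1 z ≤ exp ((Finsupp.single P₀ 2 : Divisor k K) P) :=
      P.1.map_sub_le (hxL P) ((P.2.1 c).trans (by
        rw [← exp_zero, exp_le_exp, Finsupp.single_apply]; split_ifs <;> norm_num))
    refine (pow_le_pow_left₀ zero_le h1 _).trans ?_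
    rw [← exp_nsmul, exp_le_exp, hD, Finsupp.single_apply, Finsupp.single_apply, nsmul_eq_mul]
    have := i.2
    split_ifs <;> push_cast <;> nlinarith
  have hli : LinearIndependent k fun i : Fin (N + 1) => (⟨z ^ (i : ℕ), hmem i⟩ : L D) := by
    refine LinearIndependent.of_comp (L D).subtype ?_
    exact (genus_eq_zero_of_adjoin_eq_top.linearIndependent_pow_of_transcendental hzt).comp _ Fin.val_injective
  have := finiteDimensional_L hK D
  have hlow := hli.fintype_card_le_finrank
  rw [Fintype.card_fin] at hlow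
  -- `C - D` is principal
  have hrr := riemann_roch hK hC D
  rw [hDdeg] at hrr
  simp only [ell] at hlow hrr
  obtain ⟨f, hf0, hf⟩ := exists_ne_zero_of_ell_pos (D := C - D) (by simp only [ell]; omega)
  have heq : C - D + div k f = 0 := (eq_of_le_of_deg_le hK (nonneg_of_mem_L hK hf0 hf) (by
    rw [deg_add, deg_div hK, deg_sub, (canonical_ell_deg hK hC).2, hDdeg, deg_zero]; omega)).symm
  have hellD : ell D = N + 1 := by
    have := ell_add_div hK C hf0
    rw [show C + div k f = D by rw [← sub_eq_zero, ← heq]; abel] at this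
    rw [this]; have := (canonical_ell_deg hK hC).1; omega
  -- so `g Q` has no nonconstant function
  have := finiteDimensional_L hK (D - Finsupp.single Q (genus k K : ℤ))
  have hsub : ell (C - Finsupp.single Q (genus k K : ℤ)) = 0 := by
    rw [← ell_add_div hK _ hf0, show C - Finsupp.single Q (genus k K : ℤ) + div k f =
      D - Finsupp.single Q (genus k K : ℤ) by rw [← sub_eq_zero]; rw [← heq]; abel, ell,
      Submodule.finrank_eq_zero]
    refine (Submodule.eq_bot_iff _).2 fun w hw => by_contra fun hw0 => ?_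
    have hwD : w ∈ L D := L_mono (sub_le_self _ (Finsupp.single_nonneg.2 (Int.natCast_nonneg _))) hw
    have htop : (⟨w, hwD⟩ : L D) ∈ Submodule.span k (Set.range fun i : Fin (N + 1) => (⟨z ^ (i : ℕ), hmem i⟩ : L D)) := by
      rw [hli.span_eq_top_of_card_eq_finrank' (by rw [Fintype.card_fin]; simp only [ell] at hellD; omega)]
      exact Submodule.mem_top
    obtain ⟨a, ha⟩ := (Submodule.mem_span_range_iff_exists_fun k).1 htop
    have hwsum : ∑ i, a i • z ^ (i : ℕ) = w := by
      have := congrArg (Subtype.val : L D → K) ha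
      simpa [Submodule.coe_sum] using this
    have hex : (Finset.univ.filter fun i => a i ≠ 0).Nonempty := by
      by_contra h
      rw [Finset.not_nonempty_iff_eq_empty] at h
      refine hw0 (hwsum ▸ Finset.sum_eq_zero fun i _ => ?_)
      have : i ∉ Finset.univ.filter fun i => a i ≠ 0 := by rw [h]; exact Finset.notMem_empty i
      simp at this
      rw [this, zero_smul]
    set i₀ := (Finset.univ.filter fun i => a i ≠ 0).min' hex
    have hi₀ : a i₀ ≠ 0 := (Finset.mem_filter.1 (Finset.min'_mem _ hex)).2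
    have hterm : Q.1 (a i₀ • z ^ (i₀ : ℕ)) = exp (-((i₀ : ℕ) : ℤ)) := by
      rw [Algebra.smul_def, map_mul, val_algebraMap Q hi₀, one_mul, map_pow, hQz, ← exp_nsmul]
      simp
    have hrest : Q.1 (∑ i ∈ Finset.univ.erase i₀, a i • z ^ (i : ℕ)) < exp (-((i₀ : ℕ) : ℤ)) := by
      refine Q.1.map_sum_lt exp_ne_zero fun i hi => ?_
      rcases eq_or_ne (a i) 0 with h | h
      · simp [h]
      rw [Algebra.smul_def, map_mul, val_algebraMap Q h, one_mul, map_pow, hQz, ← exp_nsmul, exp_lt_exp]
      have h1 : i₀ ≤ i := Finset.min'_le _ i (Finset.mem_filter.2 ⟨Finset.mem_univ _, h⟩)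
      have h2 := Finset.ne_of_mem_erase hi
      have : (i₀ : ℕ) < i := lt_of_le_of_ne h1 fun h3 => h2 (Fin.ext h3.symm)
      simp
      omega
    have hval : Q.1 w = exp (-((i₀ : ℕ) : ℤ)) := by
      rw [← hwsum, ← Finset.add_sum_erase _ _ (Finset.mem_univ i₀),
        Q.1.map_add_eq_of_lt_left (hterm ▸ hrest), hterm]
    have := (mem_L_iff hw0).1 hw Q
    rw [ord_eq_of_val Q hval, Finsupp.sub_apply, hD, Finsupp.single_eq_same,
      Finsupp.single_eq_of_ne hne] at this
    have := i₀.2
    omega
  have h := riemann_roch hK hC (Finsupp.single Q (genus k K : ℤ))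
  rw [hsub, deg_single, deg_eq_one hK Q] at h
  push_cast at h
  omega

theorem hyper_two_le {Q : Place k K} {c : k} (hc : 2 ≤ Q.ord (x - algebraMap k K c)) :
    (∀ R : Place k K, 0 < R.ord (x - algebraMap k K c) → R = Q) ∧
      2 ≤ ell (Finsupp.single Q 2 : Divisor k K) := by
  classical
  obtain ⟨hpoles, hdeg2⟩ := hyper_basic hK hg hxL hxt
  set z := x - algebraMap k K c with hz
  have hzt : Transcendental k z := fun h => hxt (by
    have := h.add (isAlgebraic_algebraMap (A := K) c)
    rwa [hz, sub_add_cancel] at this)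
  have hz0 : z ≠ 0 := fun h => hzt (h ▸ isAlgebraic_zero)
  have hadj : IntermediateField.adjoin k ({z} : Set K) = IntermediateField.adjoin k ({x} : Set K) := by
    refine le_antisymm (IntermediateField.adjoin_simple_le_iff.2 ?_) (IntermediateField.adjoin_simple_le_iff.2 ?_)
    · exact sub_mem (IntermediateField.mem_adjoin_simple_self k x) (IntermediateField.algebraMap_mem _ c)
    · have := add_mem (IntermediateField.mem_adjoin_simple_self k z)
        (IntermediateField.algebraMap_mem (IntermediateField.adjoin k ({z} : Set K)) c)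
      rwa [hz, sub_add_cancel] at this
  have hzd : (polesDiv k z⁻¹).deg = 2 := by rw [deg_zeros hK hzt, hadj, hdeg2]; norm_num
  have hsingle : Finsupp.single Q 2 ≤ polesDiv k z⁻¹ := fun R => by
    rw [polesDiv_apply hK, ord_inv, neg_neg]
    rcases eq_or_ne R Q with rfl | hR
    · rw [Finsupp.single_eq_same]; omega
    · rw [Finsupp.single_eq_of_ne hR]; exact le_max_right _ _
  have heq : (Finsupp.single Q 2 : Divisor k K) = polesDiv k z⁻¹ :=
    eq_of_le_of_deg_le hK hsingle (by rw [hzd, deg_single, deg_eq_one hK Q]; norm_num)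
  refine ⟨fun R hR => by_contra fun hne => ?_, ?_⟩
  · have := congrArg (fun D : Divisor k K => D R) heq
    simp only [Finsupp.single_eq_of_ne hne, polesDiv_apply hK, ord_inv, neg_neg] at this
    omega
  · have hmem : z⁻¹ ∈ L (Finsupp.single Q 2) := (mem_L_iff (inv_ne_zero hz0)).2 fun R => by
      have := congrArg (fun D : Divisor k K => D R) heq
      simp only [polesDiv_apply hK, ord_inv, neg_neg] at this
      rw [this, ord_inv]
      omega
    have := finiteDimensional_L hK (Finsupp.single Q (2 : ℤ))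
    have hone : (1 : K) ∈ L (Finsupp.single Q (2 : ℤ)) := (mem_L_iff one_ne_zero).2 fun R => by
      rw [ord_one, Finsupp.single_apply]; split_ifs <;> norm_num
    have hli : LinearIndependent k ![(⟨1, hone⟩ : L (Finsupp.single Q (2 : ℤ))), ⟨z⁻¹, hmem⟩] := by
      rw [LinearIndependent.pair_iff]
      intro a b hab
      have h1 : a • (1 : K) + b • z⁻¹ = 0 := congrArg Subtype.val hab
      rcases eq_or_ne b 0 with rfl | hb
      · simp only [zero_smul, add_zero, smul_eq_zero, one_ne_zero, or_false] at h1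
        exact ⟨h1, rfl⟩
      · exfalso
        refine hzt ?_
        rw [show z = (z⁻¹)⁻¹ from (inv_inv z).symm,
          show z⁻¹ = algebraMap k K (-(a / b)) by
            rw [Algebra.smul_def, Algebra.smul_def, mul_one] at h1
            rw [map_neg, map_div₀, eq_neg_iff_add_eq_zero]
            field_simp [(map_ne_zero (algebraMap k K)).2 hb] at h1 ⊢
            linear_combination h1, ← map_inv₀]
        exact isAlgebraic_algebraMap _
    simpa [ell] using hli.fintype_card_le_finrank

end Hyperelliptic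

theorem ell_comapPlace (P : Place k K) (σ : K ≃ₐ[k] K) (m : ℤ) :
    ell (Finsupp.single (comapPlace P σ) m : Divisor k K) = ell (Finsupp.single P m : Divisor k K) := by
  classical
  have hmap : (L (Finsupp.single (comapPlace P σ) m)).map (σ.toLinearEquiv : K →ₗ[k] K) =
      L (Finsupp.single P m) := by
    ext z
    rw [Submodule.mem_map_equiv]
    refine ⟨fun h R => ?_, fun h R => ?_⟩
    · have h' : R.1 (σ (σ.symm z)) ≤ exp ((Finsupp.single (comapPlace P σ) m : Divisor k K) (comapPlace R σ)) :=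
        h (comapPlace R σ)
      rw [AlgEquiv.apply_symm_apply] at h'
      refine h'.trans (le_of_eq ?_)
      congr 1
      rw [Finsupp.single_apply, Finsupp.single_apply, (comapPlace_injective σ).eq_iff]
    · obtain ⟨R', rfl⟩ : ∃ R', comapPlace R' σ = R :=
        ⟨comapPlace R σ.symm, Subtype.ext (Valuation.ext fun v => by simp [comapPlace_val])⟩
      show R'.1 (σ (σ.symm z)) ≤ _
      rw [AlgEquiv.apply_symm_apply]
      refine (h R').trans (le_of_eq ?_)
      congr 1
      rw [Finsupp.single_apply, Finsupp.single_apply, (comapPlace_injective σ).eq_iff]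
  rw [ell, ell, ← hmap]
  exact (LinearEquiv.finrank_map_eq σ.toLinearEquiv _).symm

/-- The two cases: no place with a nongap `2`, or a double covering branched at all Weierstrass points. -/
theorem dichotomy (hg : 1 < genus k K) (hchar : ringChar k = 0 ∨ 2 * genus k K - 2 < ringChar k)
    {C : Divisor k K} (hC : IsCanonical k K C) {n : ℕ} {φ : Fin (n + 1) → K} (hφ : LinearIndependent k φ)
    (hspan : Submodule.span k (Set.range φ) = L C) {s : K} {H : K →ₐ[k] PowerSeries K}
    (hH : LocRes.IsHasseFamily s H) {J : Fin n → ℕ} (hJ : IsOrders K (hcol (AlgHom.id k K) H φ) J)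
    {Φ : Place k K → (K →ₐ[k] LaurentSeries k)} (hΦ : ∀ P : Place k K, LocRes.IsExpansionAt P.1 (Φ P)) :
    (2 * genus k K + 2 < Set.ncard {P : Place k K | wDiv (AlgHom.id k K) H Φ s φ J P ≠ 0} ∧
      ∀ σ : K ≃ₐ[k] K, (∀ P : Place k K, wDiv (AlgHom.id k K) H Φ s φ J P ≠ 0 →
        IsFixedPt (σ : K →ₐ[k] K) P) → σ = AlgEquiv.refl) ∨
    (Set.ncard {P : Place k K | wDiv (AlgHom.id k K) H Φ s φ J P ≠ 0} = 2 * genus k K + 2 ∧
      ∃ x : K, Module.finrank (IntermediateField.adjoin k ({x} : Set K)) K = 2 ∧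
        ∀ σ : K ≃ₐ[k] K, (∀ P : Place k K, wDiv (AlgHom.id k K) H Φ s φ J P ≠ 0 →
          IsFixedPt (σ : K →ₐ[k] K) P) ↔ σ x = x) := by
  classical
  have hiff := wDiv_ne_zero_iff hK hg hchar hC hφ hspan hH hJ hΦ
  obtain ⟨hfin, hcount, hmany⟩ := count_weierstrass hK hg hchar hC hφ hspan hH hJ hΦ
  set W := {P : Place k K | wDiv (AlgHom.id k K) H Φ s φ J P ≠ 0}
  by_cases hex : ∃ P₀ : Place k K, 2 ≤ ell (Finsupp.single P₀ 2 : Divisor k K)
  swap
  · push Not at hex
    have hbig := hmany fun P => by have := hex P; omega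
    refine Or.inl ⟨hbig, fun σ hσ => by_contra fun hne => ?_⟩
    have := fixed_le hK hne hfin.toFinset fun P hP => hσ P (hfin.mem_toFinset.1 hP)
    rw [← Set.ncard_eq_toFinset_card W hfin] at this
    omega
  obtain ⟨P₀, hP₀⟩ := hex
  obtain ⟨x, hxL, hxt⟩ := exists_transcendental_mem_L hK (D := Finsupp.single P₀ 2) (by omega)
  obtain ⟨hpoles, hdeg2⟩ := hyper_basic hK hg hxL hxt
  have hx0 : x ≠ 0 := fun h => hxt (h ▸ isAlgebraic_zero)
  have hram : ∀ Q ∈ W, Q ≠ P₀ → ∃ c : k, 2 ≤ Q.ord (x - algebraMap k K c) := fun Q hQ hne =>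
    hyper_ramified hK hg hxL hxt ((hiff Q).1 hQ) hne
  have hncard : W.ncard = 2 * genus k K + 2 := hcount ⟨P₀, hP₀⟩ fun Q hQ => by
    rcases eq_or_ne Q P₀ with rfl | hne
    · exact hP₀
    · obtain ⟨c, hc⟩ := hram Q hQ hne
      exact (hyper_two_le hK hg hxL hxt hc).2
  refine Or.inr ⟨hncard, x, hdeg2, fun σ => ⟨fun hfix => ?_, fun hσx P hP => ?_⟩⟩
  · -- an automorphism fixing the branch places fixes `x`
    have hP₀W : P₀ ∈ W := (hiff P₀).2 (hP₀.trans (ell_mono hK (Finsupp.single_mono (by exact_mod_cast hg))))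
    have hfix₀ := (isFixedPt_iff hK σ P₀).1 (hfix P₀ hP₀W)
    have hσL : σ x ∈ L (Finsupp.single P₀ (2 : ℤ)) := fun R => by
      show (comapPlace R σ).1 x ≤ _
      refine (hxL (comapPlace R σ)).trans (le_of_eq ?_)
      congr 1
      conv_lhs => rw [← hfix₀]
      rw [Finsupp.single_apply, Finsupp.single_apply, (comapPlace_injective σ).eq_iff]
    have := finiteDimensional_L hK (Finsupp.single P₀ (2 : ℤ))
    have hone : (1 : K) ∈ L (Finsupp.single P₀ (2 : ℤ)) := (mem_L_iff one_ne_zero).2 fun R => by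
      rw [ord_one, Finsupp.single_apply]; split_ifs <;> norm_num
    have hspan2 : L (Finsupp.single P₀ (2 : ℤ)) = Submodule.span k {1, x} := by
      refine (Submodule.eq_of_le_of_finrank_le (Submodule.span_le.2 ?_) ?_).symm
      · rintro z (rfl | rfl)
        exacts [hone, hxL]
      · have hli : LinearIndependent k ![(1 : K), x] := by
          rw [LinearIndependent.pair_iff]
          intro a b hab
          rcases eq_or_ne b 0 with rfl | hb
          · simp only [zero_smul, add_zero, smul_eq_zero, one_ne_zero, or_false] at hab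
            exact ⟨hab, rfl⟩
          · exfalso
            refine hxt ?_
            rw [show x = algebraMap k K (-(a / b)) by
              rw [Algebra.smul_def, Algebra.smul_def, mul_one] at hab
              rw [map_neg, map_div₀, eq_neg_iff_add_eq_zero]
              field_simp [(map_ne_zero (algebraMap k K)).2 hb]
              linear_combination hab]
            exact isAlgebraic_algebraMap _
        rw [show ({1, x} : Set K) = Set.range ![(1 : K), x] by simp [Set.pair_comm],
          finrank_span_eq_card hli, Fintype.card_fin]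
        exact ell_two_le hK hg P₀
    rw [hspan2, Submodule.mem_span_pair] at hσL
    obtain ⟨a, b, hab⟩ := hσL
    rw [Algebra.smul_def, Algebra.smul_def, mul_one] at hab
    -- the values of `x` at two branch places
    have hval : ∀ Q ∈ W, Q ≠ P₀ → ∃ c : k, 2 ≤ Q.ord (x - algebraMap k K c) ∧ a + b * c = c := fun Q hQ hne => by
      obtain ⟨c, hc⟩ := hram Q hQ hne
      refine ⟨c, hc, ?_⟩
      have hz0 : x - algebraMap k K c ≠ 0 := fun h => hxt (sub_eq_zero.1 h ▸ isAlgebraic_algebraMap c)
      have hlt : Q.1 (x - algebraMap k K c) < 1 := (val_lt_one_iff Q hz0).2 (by omega)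
      have h1 : Q.1 (σ x - algebraMap k K c) < 1 := by
        have := hfix Q hQ _ hlt
        simpa using this
      refine sub_const_unique ?_ h1
      rw [show σ x - algebraMap k K (a + b * c) = algebraMap k K b * (x - algebraMap k K c) by
        rw [← hab, map_add, map_mul]; ring, map_mul]
      exact (mul_le_of_le_one_left' (Q.2.1 b)).trans_lt hlt
    obtain ⟨Q, hQ, R, hR, hQR, hQne, hRne⟩ : ∃ Q ∈ W, ∃ R ∈ W, Q ≠ R ∧ Q ≠ P₀ ∧ R ≠ P₀ := by
      have h2 : 1 < (W \ {P₀}).ncard := by
        rw [Set.ncard_diff_singleton_of_mem hP₀W, hncard]; omega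
      obtain ⟨Q, hQ, R, hR, hne⟩ := (Set.one_lt_ncard (hfin.subset Set.sdiff_subset)).1 h2
      exact ⟨Q, hQ.1, R, hR.1, hne, hQ.2, hR.2⟩
    obtain ⟨c, hc, hca⟩ := hval Q hQ hQne
    obtain ⟨d, hd, hda⟩ := hval R hR hRne
    have hcd : c ≠ d := fun h => hQR (((hyper_two_le hK hg hxL hxt hc).1 R (h ▸ (by omega))).symm)
    have hb : b = 1 := mul_right_cancel₀ (sub_ne_zero.2 hcd) (show b * (c - d) = 1 * (c - d) by linear_combination hca - hda)
    subst hb
    have ha : a = 0 := by linear_combination hca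
    subst ha
    rw [← hab, map_zero, map_one, zero_add, one_mul]
  · -- an automorphism fixing `x` fixes the branch places
    rw [isFixedPt_iff hK]
    rcases eq_or_ne P P₀ with rfl | hne
    · by_contra hne'
      have h1 : (polesDiv k x) (comapPlace P σ) = (polesDiv k x) P := by
        rw [polesDiv_apply hK, polesDiv_apply hK, show (comapPlace P σ).ord x = P.ord (σ x) from rfl, hσx]
      rw [hpoles, Finsupp.single_eq_of_ne hne', Finsupp.single_eq_same] at h1
      norm_num at h1
    · obtain ⟨c, hc⟩ := hram P hP hne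
      refine (hyper_two_le hK hg hxL hxt hc).1 _ ?_
      rw [show (comapPlace P σ).ord (x - algebraMap k K c) = P.ord (σ (x - algebraMap k K c)) from rfl,
        map_sub, AlgEquiv.commutes, hσx]
      omega

theorem finite_aut (hg : 1 < genus k K) (hchar : ringChar k = 0 ∨ 2 * genus k K - 2 < ringChar k) :
    Finite (K ≃ₐ[k] K) := by
  classical
  obtain ⟨C, hC⟩ := exists_isCanonical hK
  have hgC := (canonical_ell_deg hK hC).1
  obtain ⟨n, hn⟩ : ∃ n, genus k K = n + 1 := ⟨genus k K - 1, by omega⟩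
  have := finiteDimensional_L hK C
  let b : Module.Basis (Fin (n + 1)) k (L C) := Module.finBasisOfFinrankEq k (L C) (by simp only [ell] at hgC; omega)
  let φ : Fin (n + 1) → K := fun i => (b i : K)
  have hli : LinearIndependent k φ := b.linearIndependent.map' (L C).subtype (Submodule.ker_subtype _)
  have hspan : Submodule.span k (Set.range φ) = L C := by
    rw [show Set.range φ = (L C).subtype '' Set.range b by rw [← Set.range_comp]; rfl, ← Submodule.map_span,
      b.span_eq, Submodule.map_top, Submodule.range_subtype]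
  obtain ⟨P⟩ := exists_place hK
  choose π hπ using fun Q : Place k K => exists_val_eq Q (-1)
  obtain ⟨H, hH⟩ := exists_hasse_param hK (hπ P)
  obtain ⟨J, hJ⟩ := exists_orders (AlgHom.id k K) hK hH hli
  have hΦ : ∀ Q : Place k K, LocRes.IsExpansionAt Q.1 ((exists_paramExp hK (hπ Q)).some.φ) :=
    fun Q => (exists_paramExp hK (hπ Q)).some.isExp
  have hiff := wDiv_ne_zero_iff hK hg hchar hC hli hspan hH hJ hΦ
  have hfin := (count_weierstrass hK hg hchar hC hli hspan hH hJ hΦ).1
  have hdic := dichotomy hK hg hchar hC hli hspan hH hJ hΦ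
  set W := {Q : Place k K | wDiv (AlgHom.id k K) H (fun Q => (exists_paramExp hK (hπ Q)).some.φ) (π P) φ J Q ≠ 0}
  have := hfin.to_subtype
  -- the action on the Weierstrass places
  have hmem : ∀ (σ : K ≃ₐ[k] K) (Q : W), comapPlace (Q : Place k K) σ ∈ W := fun σ Q =>
    (hiff _).2 (by rw [ell_comapPlace hK]; exact (hiff _).1 Q.2)
  let act : (K ≃ₐ[k] K) → (W → W) := fun σ Q => ⟨comapPlace (Q : Place k K) σ, hmem σ Q⟩
  let Ker := {σ : K ≃ₐ[k] K | ∀ Q ∈ W, IsFixedPt (σ : K →ₐ[k] K) Q}
  have hKer : Ker.Finite := by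
    rcases hdic with ⟨-, h⟩ | ⟨-, x, hx, h⟩
    · exact (Set.finite_singleton AlgEquiv.refl).subset fun σ hσ => h σ hσ
    · have : FiniteDimensional (IntermediateField.adjoin k ({x} : Set K)) K :=
        Module.finite_of_finrank_pos (by omega)
      let toHom : Ker → (K →ₐ[IntermediateField.adjoin k ({x} : Set K)] K) := fun σ =>
        { (σ.1 : K →+* K) with
          commutes' := fun y => by
            obtain ⟨y, hy⟩ := y
            show σ.1 y = y
            induction hy using IntermediateField.adjoin_induction with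
            | mem z hz => rw [Set.mem_singleton_iff.1 hz]; exact (h σ.1).1 σ.2
            | algebraMap c => exact σ.1.commutes c
            | add u v _ _ hu hv => rw [map_add, hu, hv]
            | inv u _ hu => rw [map_inv₀, hu]
            | mul u v _ _ hu hv => rw [map_mul, hu, hv] }
      have hinj : Function.Injective toHom := fun σ τ hστ =>
        Subtype.ext (AlgEquiv.ext fun z => congrArg (fun f : K →ₐ[IntermediateField.adjoin k ({x} : Set K)] K => f z) hστ)
      exact Set.finite_coe_iff.1 (Finite.of_injective toHom hinj)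
  have := hKer.to_subtype
  let rep : (W → W) → (K ≃ₐ[k] K) := fun f => if h : ∃ σ, act σ = f then h.choose else AlgEquiv.refl
  have hrep : ∀ σ, act (rep (act σ)) = act σ := fun σ => by
    simp only [rep, dif_pos (⟨σ, rfl⟩ : ∃ τ, act τ = act σ)]
    exact (⟨σ, rfl⟩ : ∃ τ, act τ = act σ).choose_spec
  refine Finite.of_injective (β := (W → W) × Ker) (fun σ => (act σ, ⟨σ.trans (rep (act σ)).symm, fun Q hQ => ?_⟩))
    fun σ τ h => ?_
  · rw [isFixedPt_iff hK]
    -- `Q ∘ σ = Q ∘ rep`
    obtain ⟨R, hR⟩ : ∃ R : W, (R : Place k K) = comapPlace Q (rep (act σ)).symm := by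
      -- the action of the representative is a permutation of `W`
      have hmap : ∀ T : W, comapPlace (T : Place k K) (rep (act σ)).symm ∈ W := fun T => hmem _ T
      exact ⟨⟨_, hmap ⟨Q, hQ⟩⟩, rfl⟩
    have h1 := congrArg Subtype.val (congrFun (hrep σ) R)
    change comapPlace (R : Place k K) (rep (act σ)) = comapPlace (R : Place k K) σ at h1
    rw [hR] at h1
    refine Eq.trans (Subtype.ext (Valuation.ext fun v => ?_)) ((h1.symm).trans
      (Subtype.ext (Valuation.ext fun v => by simp [comapPlace_val])))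
    simp [comapPlace_val, AlgEquiv.trans_apply]
  · have h1 := congrArg Prod.fst h
    have h2 := congrArg (fun p : (W → W) × Ker => (p.2 : K ≃ₐ[k] K)) h
    simp only at h1 h2
    rw [h1] at h2
    exact AlgEquiv.ext fun z => (rep (act τ)).symm.injective (congrArg (fun f : K ≃ₐ[k] K => f z) h2)

end Groth.Agent.FunFldLib
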