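import Groth.Agent.FunFld.FixCount
import Groth.Prelude.Def_W4bk4goldsch45
import Mathlib.RingTheory.PowerSeries.Trunc
import Mathlib.FieldTheory.Finiteness

/-!
The zeta series of a function field over a finite field: effective divisors, classes, the functional
equation, and the recursion with the point counts.
-/

namespace Groth.Agent.FunFldLib

open FunFld WithZero

variable {k K : Type*} [Field k] [Finite k] [Field K] [Algebra k K]

section DegOne

theorem finite_places_deg_le (hK : IsFunctionField k K) (n : ℕ) : {P : Place k K | P.deg ≤ n}.Finite := by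
  obtain ⟨C, hC⟩ := pointCount_bound hK
  exact (hC n.factorial (Nat.factorial_pos n)).1.subset fun P hP =>
    Nat.dvd_factorial (deg_pos hK P) hP

omit [Finite k] in
theorem single_le_of_nonneg {D : Divisor k K} (h : 0 ≤ D) (P : Place k K) : Finsupp.single P (D P) ≤ D := by
  classical
  intro R
  rcases eq_or_ne R P with rfl | hne
  · rw [Finsupp.single_eq_same]
  · rw [Finsupp.single_eq_of_ne hne]; exact h R

omit [Finite k] in
theorem coeff_mul_deg_le {D : Divisor k K} (h : 0 ≤ D) (P : Place k K) : D P * P.deg ≤ D.deg := by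
  rw [← deg_single]; exact deg_mono (single_le_of_nonneg h P)

theorem exists_deg_one (hK : IsFunctionField k K) : ∃ D : Divisor k K, D.deg = 1 := by
  obtain ⟨C, hC⟩ := pointCount_bound hK
  obtain ⟨M, hM⟩ := pow_unbounded_of_one_lt (C ^ 2) (one_lt_two : (1 : ℝ) < 2)
  have hex : ∀ m, M ≤ m → 0 < m → ∃ P : Place k K, P.deg ∣ m := fun m hMm hm => by
    by_contra hnone
    push Not at hnone
    have hzero : pointCount k K m = 0 := by
      rw [pointCount, show {P : Place k K | P.deg ∣ m} = ∅ from Set.eq_empty_iff_forall_notMem.2 hnone]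
      simp
    have h := (hC m hm).2
    rw [hzero, Nat.cast_zero, zero_sub, abs_neg, abs_of_nonneg (by positivity)] at h
    have hq : (2 : ℝ) ^ m ≤ (Nat.card k : ℝ) ^ m :=
      pow_le_pow_left₀ (by norm_num) (by exact_mod_cast Finite.one_lt_card) m
    have hMm' : (2 : ℝ) ^ M ≤ (2 : ℝ) ^ m := pow_le_pow_right₀ one_le_two hMm
    set Q := (Nat.card k : ℝ) ^ m
    have hQpos : 0 < Q := lt_of_lt_of_le (by positivity) hq
    have hs := Real.mul_self_sqrt hQpos.le
    have hspos : 0 < Real.sqrt Q := Real.sqrt_pos.2 hQpos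
    have h1 : Real.sqrt Q ≤ C := le_of_mul_le_mul_right (hs.symm ▸ h) hspos
    nlinarith
  obtain ⟨ℓ₁, hℓ₁, hp₁⟩ := Nat.exists_infinite_primes M
  obtain ⟨ℓ₂, hℓ₂, hp₂⟩ := Nat.exists_infinite_primes (ℓ₁ + 1)
  obtain ⟨P₁, hP₁⟩ := hex ℓ₁ hℓ₁ hp₁.pos
  obtain ⟨P₂, hP₂⟩ := hex ℓ₂ (by omega) hp₂.pos
  have hco : Nat.Coprime P₁.deg P₂.deg :=
    Nat.Coprime.of_dvd hP₁ hP₂ ((Nat.coprime_primes hp₁ hp₂).2 (by omega))
  obtain ⟨a, b, hab⟩ : IsCoprime (P₁.deg : ℤ) (P₂.deg : ℤ) := Nat.isCoprime_iff_coprime.2 hco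
  exact ⟨Finsupp.single P₁ a + Finsupp.single P₂ b, by rw [deg_add, deg_single, deg_single, hab]⟩

theorem finite_effective (hK : IsFunctionField k K) (n : ℤ) :
    {D : Divisor k K | 0 ≤ D ∧ D.deg = n}.Finite := by
  classical
  have hS := finite_places_deg_le hK n.toNat
  have hzero : ∀ D : Divisor k K, 0 ≤ D → D.deg = n → ∀ P, D P ≠ 0 → P.deg ≤ n.toNat ∧ D P ≤ n := by
    intro D h0 hn P hP
    have h1 := coeff_mul_deg_le h0 P
    have h2 : 0 ≤ D P := h0 P
    have h3 : (1 : ℤ) ≤ P.deg := by exact_mod_cast deg_pos hK P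
    rw [hn] at h1
    constructor
    · have : (P.deg : ℤ) ≤ n := le_trans (le_mul_of_one_le_left (by positivity) (by omega)) h1
      omega
    · nlinarith
  have : Finite {P : Place k K | P.deg ≤ n.toNat} := hS.to_subtype
  let f : {D : Divisor k K | 0 ≤ D ∧ D.deg = n} → ({P : Place k K | P.deg ≤ n.toNat} → Fin (n.toNat + 1)) :=
    fun D P => ⟨(D.1 P.1).toNat, by
      rcases eq_or_ne (D.1 P.1) 0 with h | h
      · simp [h]
      · have := (hzero D.1 D.2.1 D.2.2 _ h).2; omega⟩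
  refine Set.finite_coe_iff.1 (Finite.of_injective f fun D E h => Subtype.ext (Finsupp.ext fun P => ?_))
  by_cases hP : P.deg ≤ n.toNat
  · have h' : (D.1 P).toNat = (E.1 P).toNat := congrArg Fin.val (congrFun h ⟨P, hP⟩)
    have h1 : 0 ≤ D.1 P := D.2.1 P
    have h2 : 0 ≤ E.1 P := E.2.1 P
    omega
  · rw [not_not.1 fun hne => hP (hzero D.1 D.2.1 D.2.2 P hne).1,
      not_not.1 fun hne => hP (hzero E.1 E.2.1 E.2.2 P hne).1]

end DegOne

section Classes

variable (k K) in
/-- Divisor classes of degree zero. -/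
abbrev Cl0 : Type _ := (degHom k K).ker ⧸ (prinDivs k K).addSubgroupOf (degHom k K).ker

omit [Finite k] in
theorem degHom_apply (D : Divisor k K) : degHom k K D = D.deg := (deg_eq_degHom_sum D).symm

omit [Finite k] in
theorem mem_prinDivs_iff (hK : IsFunctionField k K) {D : Divisor k K} :
    D ∈ prinDivs k K ↔ ∃ x : K, x ≠ 0 ∧ div k x = D := by
  constructor
  · intro h
    induction h using AddSubgroup.closure_induction with
    | mem u hu =>
      obtain ⟨x, rfl⟩ := hu
      rcases eq_or_ne x 0 with rfl | hx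
      · exact ⟨1, one_ne_zero, Finsupp.ext fun P => by simp [div_apply hK]⟩
      · exact ⟨x, hx, rfl⟩
    | zero => exact ⟨1, one_ne_zero, Finsupp.ext fun P => by simp [div_apply hK]⟩
    | add u v _ _ hu hv =>
      obtain ⟨x, hx, rfl⟩ := hu
      obtain ⟨y, hy, rfl⟩ := hv
      exact ⟨x * y, mul_ne_zero hx hy, div_mul hK hx hy⟩
    | neg u _ hu =>
      obtain ⟨x, hx, rfl⟩ := hu
      exact ⟨x⁻¹, inv_ne_zero hx, div_inv hK x⟩
  · rintro ⟨x, -, rfl⟩
    exact AddSubgroup.subset_closure ⟨x, rfl⟩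

variable (D₁ : Divisor k K)

/-- The degree-zero class of `D`, normalised by a divisor of degree one. -/
noncomputable def clsMap (h₁ : D₁.deg = 1) : Divisor k K →+ Cl0 k K :=
  (QuotientAddGroup.mk' _).comp
    { toFun := fun D => ⟨D - D.deg • D₁, by
        rw [AddMonoidHom.mem_ker, degHom_apply, deg_sub, deg_zsmul, h₁, mul_one, sub_self]⟩
      map_zero' := Subtype.ext (by simp [deg_eq_degHom_sum])
      map_add' := fun D E => Subtype.ext (by
        simp only [deg_add, add_smul, AddMemClass.coe_add]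
        abel) }

/-- A representative of degree `n` of a class. -/
noncomputable def repDiv (c : Cl0 k K) (n : ℤ) : Divisor k K := (c.out : Divisor k K) + n • D₁

omit [Finite k] in
theorem deg_repDiv (h₁ : D₁.deg = 1) (c : Cl0 k K) (n : ℤ) : (repDiv D₁ c n).deg = n := by
  have h : degHom k K (c.out : Divisor k K) = 0 := c.out.2
  rw [degHom_apply] at h
  rw [repDiv, deg_add, deg_zsmul, h₁, h, mul_one, zero_add]

omit [Finite k] in
theorem clsMap_repDiv (h₁ : D₁.deg = 1) (c : Cl0 k K) (n : ℤ) : clsMap D₁ h₁ (repDiv D₁ c n) = c := by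
  refine Eq.trans ?_ (QuotientAddGroup.out_eq' c)
  show QuotientAddGroup.mk (⟨_, _⟩ : (degHom k K).ker) = _
  congr 1
  refine Subtype.ext ?_
  show repDiv D₁ c n - (repDiv D₁ c n).deg • D₁ = _
  rw [deg_repDiv D₁ h₁]
  simp [repDiv]

omit [Finite k] in
theorem exists_div_of_clsMap (hK : IsFunctionField k K) (h₁ : D₁.deg = 1) {D E : Divisor k K}
    (hd : D.deg = E.deg) (hc : clsMap D₁ h₁ D = clsMap D₁ h₁ E) :
    ∃ x : K, x ≠ 0 ∧ E = D + div k x := by
  have h := QuotientAddGroup.eq.1 hc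
  rw [AddSubgroup.mem_addSubgroupOf] at h
  change -(D - D.deg • D₁) + (E - E.deg • D₁) ∈ prinDivs k K at h
  rw [hd] at h
  obtain ⟨x, hx, hdiv⟩ := (mem_prinDivs_iff hK).1 h
  exact ⟨x, hx, by rw [hdiv]; abel⟩

omit [Finite k] in
theorem clsMap_div (hK : IsFunctionField k K) (h₁ : D₁.deg = 1) {x : K} (hx : x ≠ 0) :
    clsMap D₁ h₁ (div k x) = 0 := by
  refine (QuotientAddGroup.eq_zero_iff _).2 ?_
  rw [AddSubgroup.mem_addSubgroupOf]
  show div k x - (div k x).deg • D₁ ∈ prinDivs k K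
  rw [deg_div hK, zero_smul, sub_zero]
  exact (mem_prinDivs_iff hK).2 ⟨x, hx, rfl⟩

omit [Finite k] in
theorem ell_repDiv (hK : IsFunctionField k K) (h₁ : D₁.deg = 1) (D : Divisor k K) :
    ell (repDiv D₁ (clsMap D₁ h₁ D) D.deg) = ell D := by
  obtain ⟨x, hx, hD⟩ := exists_div_of_clsMap D₁ hK h₁ (deg_repDiv D₁ h₁ _ _) (clsMap_repDiv D₁ h₁ (clsMap D₁ h₁ D) D.deg)
  conv_rhs => rw [hD, ell_add_div hK _ hx]

theorem finite_cl0 (hK : IsFunctionField k K) : Finite (Cl0 k K) := by
  obtain ⟨D₁, h₁⟩ := exists_deg_one hK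
  have : Finite {D : Divisor k K | 0 ≤ D ∧ D.deg = (genus k K : ℤ)} := (finite_effective hK _).to_subtype
  refine Finite.of_surjective (fun D : {D : Divisor k K | 0 ≤ D ∧ D.deg = (genus k K : ℤ)} => clsMap D₁ h₁ D.1)
    fun c => ?_
  have h := delta_le_genus hK (repDiv D₁ c (genus k K))
  rw [delta, deg_repDiv D₁ h₁] at h
  obtain ⟨y, hy, hyL⟩ := exists_ne_zero_of_ell_pos (D := repDiv D₁ c (genus k K)) (by omega)
  exact ⟨⟨_, nonneg_of_mem_L hK hy hyL, by rw [deg_add, deg_repDiv D₁ h₁, deg_div hK, add_zero]⟩,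
    by
      show clsMap D₁ h₁ (repDiv D₁ c (genus k K) + div k y) = c
      rw [map_add, clsMap_repDiv, clsMap_div D₁ hK h₁ hy, add_zero]⟩

/-- `(q - 1) · #(effective divisors in a class) + 1 = q ^ ℓ`. -/
theorem card_effective_class (hK : IsFunctionField k K) (h₁ : D₁.deg = 1) (c : Cl0 k K) (n : ℤ) :
    (Nat.card k - 1) * Nat.card {D : Divisor k K // (0 ≤ D ∧ D.deg = n) ∧ clsMap D₁ h₁ D = c} + 1 =
      Nat.card k ^ ell (repDiv D₁ c n) := by
  classical
  set R := repDiv D₁ c n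
  have := finiteDimensional_L hK R
  have : Finite (L R) := Module.finite_of_finite k
  have : Fintype (L R) := Fintype.ofFinite _
  let T := {D : Divisor k K // (0 ≤ D ∧ D.deg = n) ∧ clsMap D₁ h₁ D = c}
  have hsec : ∀ D : T, ∃ y : K, y ≠ 0 ∧ y ∈ L R ∧ R + div k y = D.1 := fun D => by
    obtain ⟨y, hy, hD⟩ := exists_div_of_clsMap D₁ hK h₁ ((deg_repDiv D₁ h₁ c n).trans D.2.1.2.symm)
      ((clsMap_repDiv D₁ h₁ c n).trans D.2.2.symm)
    refine ⟨y, hy, (mem_L_iff hy).2 fun P => ?_, hD.symm⟩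
    have h := D.2.1.1 P
    rw [hD, Finsupp.add_apply, div_apply hK, Finsupp.zero_apply] at h
    show -(repDiv D₁ c n P) ≤ P.ord y
    omega
  choose sec hne hmem hdiv using hsec
  let F : T × kˣ → {y : L R // y ≠ 0} := fun a =>
    ⟨(a.2 : k) • ⟨sec a.1, hmem a.1⟩, smul_ne_zero a.2.ne_zero fun h => hne a.1 (congrArg Subtype.val h)⟩
  have hval : ∀ a, ((F a).1 : K) = (a.2 : k) • sec a.1 := fun a => rfl
  have hbij : Function.Bijective F := by
    constructor
    · intro a b hab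
      have h : (a.2 : k) • sec a.1 = (b.2 : k) • sec b.1 := by rw [← hval, ← hval, hab]
      have hTab : a.1 = b.1 := Subtype.ext (by
        rw [← hdiv a.1, ← hdiv b.1]
        congr 1
        refine Finsupp.ext fun P => ?_
        rw [div_apply hK, div_apply hK, ← ord_smul P a.2.ne_zero, h, ord_smul P b.2.ne_zero])
      rw [hTab] at h
      exact Prod.ext hTab (Units.ext (smul_left_injective k (hne b.1) h))
    · rintro ⟨⟨y, hyL⟩, hy⟩
      have hy0 : y ≠ 0 := fun h => hy (Subtype.ext h)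
      let D : T := ⟨R + div k y, ⟨nonneg_of_mem_L hK hy0 hyL,
        by rw [deg_add, deg_repDiv D₁ h₁, deg_div hK, add_zero]⟩,
        by rw [map_add, clsMap_repDiv, clsMap_div D₁ hK h₁ hy0, add_zero]⟩
      have hord : ∀ P : Place k K, P.ord (sec D) = P.ord y := fun P => by
        have h := congrArg (fun E : Divisor k K => E P) (hdiv D)
        simp only [D, Finsupp.add_apply, div_apply hK] at h
        linarith
      obtain ⟨u, hu⟩ := mem_range_of_ord_nonneg hK (x := y / sec D) fun P => by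
        rw [ord_div P hy0 (hne D), hord P, sub_self]
      have hu0 : u ≠ 0 := fun h => div_ne_zero hy0 (hne D) (by rw [← hu, h, map_zero])
      refine ⟨(D, Units.mk0 u hu0), Subtype.ext (Subtype.ext ?_)⟩
      show u • sec D = y
      rw [Algebra.smul_def, hu, div_mul_cancel₀ y (hne D)]
  have h := Nat.card_eq_of_bijective F hbij
  rw [Nat.card_prod, Nat.card_units, Nat.card_eq_fintype_card (α := {y : L R // y ≠ 0}),
    Fintype.card_subtype_compl, Fintype.card_subtype_eq, ← Nat.card_eq_fintype_card,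
    Module.natCard_eq_pow_finrank (K := k) (V := L R)] at h
  have hpos : 0 < Nat.card k ^ ell R := Nat.pow_pos Nat.card_pos
  change _ = Nat.card k ^ ell R - 1 at h
  rw [mul_comm, h]
  omega

open scoped Classical in
/-- `∑_c q ^ ℓ(c, n)`. -/
noncomputable def classSum (n : ℤ) : ℚ := ∑ᶠ c : Cl0 k K, (Nat.card k : ℚ) ^ ell (repDiv D₁ c n)

theorem effDivCount_classSum (hK : IsFunctionField k K) (h₁ : D₁.deg = 1) (n : ℕ) :
    ((Nat.card k : ℚ) - 1) * (effDivCount k K n : ℚ) = classSum D₁ n - (classNum k K : ℚ) := by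
  classical
  have := finite_cl0 hK
  have : Fintype (Cl0 k K) := Fintype.ofFinite _
  have : Finite {D : Divisor k K // 0 ≤ D ∧ D.deg = (n : ℤ)} := (finite_effective hK n).to_subtype
  have hsum : effDivCount k K n =
      ∑ c : Cl0 k K, Nat.card {D : Divisor k K // (0 ≤ D ∧ D.deg = (n : ℤ)) ∧ clsMap D₁ h₁ D = c} := by
    rw [effDivCount, ← Nat.card_congr (Equiv.sigmaFiberEquiv
      fun D : {D : Divisor k K // 0 ≤ D ∧ D.deg = (n : ℤ)} => clsMap D₁ h₁ D.1), Nat.card_sigma]
    exact Finset.sum_congr rfl fun c _ => Nat.card_congr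
      (Equiv.subtypeSubtypeEquivSubtypeInter _ fun D => clsMap D₁ h₁ D = c)
  have hterm : ∀ c : Cl0 k K,
      ((Nat.card k : ℚ) - 1) *
        (Nat.card {D : Divisor k K // (0 ≤ D ∧ D.deg = (n : ℤ)) ∧ clsMap D₁ h₁ D = c} : ℚ) =
        (Nat.card k : ℚ) ^ ell (repDiv D₁ c n) - 1 := fun c => by
    have h := congrArg (fun i : ℕ => (i : ℚ)) (card_effective_class D₁ hK h₁ c n)
    simp only [Nat.cast_add, Nat.cast_mul, Nat.cast_pow, Nat.cast_one,
      Nat.cast_sub (show 1 ≤ Nat.card k from Nat.card_pos)] at h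
    linarith
  rw [hsum, Nat.cast_sum, Finset.mul_sum, Finset.sum_congr rfl fun c _ => hterm c, Finset.sum_sub_distrib,
    classSum, finsum_eq_sum_of_fintype, classNum, Nat.card_eq_fintype_card (α := Cl0 k K)]
  simp

theorem classSum_of_neg (hK : IsFunctionField k K) (h₁ : D₁.deg = 1) {n : ℤ} (hn : n < 0) :
    classSum D₁ n = (classNum k K : ℚ) := by
  have := finite_cl0 hK
  have : Fintype (Cl0 k K) := Fintype.ofFinite _
  rw [classSum, finsum_eq_sum_of_fintype, classNum, Nat.card_eq_fintype_card (α := Cl0 k K),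
    Finset.sum_congr rfl fun c _ => by
      rw [ell_eq_zero_of_deg_neg hK (D := repDiv D₁ c n) (by rw [deg_repDiv D₁ h₁]; exact hn), pow_zero]]
  simp

theorem classSum_of_large (hK : IsFunctionField k K) (h₁ : D₁.deg = 1) {n : ℤ}
    (hn : 2 * (genus k K : ℤ) - 1 ≤ n) :
    classSum D₁ n = (classNum k K : ℚ) * (Nat.card k : ℚ) ^ (n + 1 - genus k K) := by
  have := finite_cl0 hK
  have : Fintype (Cl0 k K) := Fintype.ofFinite _
  rw [classSum, finsum_eq_sum_of_fintype, classNum, Nat.card_eq_fintype_card (α := Cl0 k K),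
    Finset.sum_congr rfl fun c _ => by
      rw [← zpow_natCast, ell_eq_of_deg_ge hK (D := repDiv D₁ c n) (by rw [deg_repDiv D₁ h₁]; exact hn),
        deg_repDiv D₁ h₁]]
  simp [Finset.card_univ]

theorem classSum_symm (hK : IsFunctionField k K) (h₁ : D₁.deg = 1) (n : ℤ) :
    classSum D₁ n =
      (Nat.card k : ℚ) ^ (n + 1 - genus k K) * classSum D₁ (2 * genus k K - 2 - n) := by
  have := finite_cl0 hK
  have : Fintype (Cl0 k K) := Fintype.ofFinite _
  obtain ⟨C, hC⟩ := exists_isCanonical hK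
  have hq : (Nat.card k : ℚ) ≠ 0 := Nat.cast_ne_zero.2 Nat.card_pos.ne'
  rw [classSum, classSum, finsum_eq_sum_of_fintype, finsum_eq_sum_of_fintype, Finset.mul_sum]
  refine Fintype.sum_equiv (Equiv.subLeft (clsMap D₁ h₁ C)) _ _ fun c => ?_
  have h := riemann_roch hK hC (repDiv D₁ c n)
  rw [deg_repDiv D₁ h₁] at h
  have h2 : ell (C - repDiv D₁ c n) =
      ell (repDiv D₁ (clsMap D₁ h₁ C - c) (2 * genus k K - 2 - n)) := by
    rw [← ell_repDiv D₁ hK h₁ (C - repDiv D₁ c n), map_sub, clsMap_repDiv, deg_sub, deg_repDiv D₁ h₁,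
      (canonical_ell_deg hK hC).2]
  rw [Equiv.subLeft_apply, ← h2, ← zpow_natCast _ (ell (C - _)), ← zpow_add₀ hq, ← h, zpow_natCast]

/-- `a(n)` continued to negative `n`. -/
noncomputable def effA (n : ℤ) : ℚ := (classSum D₁ n - (classNum k K : ℚ)) / ((Nat.card k : ℚ) - 1)

/-- The coefficients of the numerator continued to negative `n`. -/
noncomputable def numB (n : ℤ) : ℚ :=
  effA D₁ n - ((Nat.card k : ℚ) + 1) * effA D₁ (n - 1) + (Nat.card k : ℚ) * effA D₁ (n - 2)

theorem card_sub_one_ne : (Nat.card k : ℚ) - 1 ≠ 0 :=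
  sub_ne_zero.2 (by exact_mod_cast (Finite.one_lt_card (α := k)).ne')

theorem effA_nat (hK : IsFunctionField k K) (h₁ : D₁.deg = 1) (n : ℕ) :
    effA D₁ n = (effDivCount k K n : ℚ) := by
  rw [effA, ← effDivCount_classSum D₁ hK h₁, mul_div_cancel_left₀ _ card_sub_one_ne]

theorem effA_neg (hK : IsFunctionField k K) (h₁ : D₁.deg = 1) {n : ℤ} (hn : n < 0) : effA D₁ n = 0 := by
  rw [effA, classSum_of_neg D₁ hK h₁ hn, sub_self, zero_div]

theorem numB_eq (n : ℤ) : numB D₁ n =
    (classSum D₁ n - ((Nat.card k : ℚ) + 1) * classSum D₁ (n - 1) + (Nat.card k : ℚ) * classSum D₁ (n - 2)) /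
      ((Nat.card k : ℚ) - 1) := by
  simp only [numB, effA]
  field_simp
  ring

theorem numB_symm (hK : IsFunctionField k K) (h₁ : D₁.deg = 1) (n : ℤ) :
    numB D₁ (2 * genus k K - n) = (Nat.card k : ℚ) ^ ((genus k K : ℤ) - n) * numB D₁ n := by
  have hq : (Nat.card k : ℚ) ≠ 0 := Nat.cast_ne_zero.2 Nat.card_pos.ne'
  rw [numB_eq, numB_eq, classSum_symm D₁ hK h₁ (2 * genus k K - n),
    classSum_symm D₁ hK h₁ (2 * genus k K - n - 1), classSum_symm D₁ hK h₁ (2 * genus k K - n - 2)]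
  rw [show (2 * (genus k K : ℤ) - 2 - (2 * genus k K - n)) = n - 2 by ring,
    show (2 * (genus k K : ℤ) - 2 - (2 * genus k K - n - 1)) = n - 1 by ring,
    show (2 * (genus k K : ℤ) - 2 - (2 * genus k K - n - 2)) = n by ring,
    show 2 * (genus k K : ℤ) - n + 1 - genus k K = ((genus k K : ℤ) - n) + 1 by ring,
    show 2 * (genus k K : ℤ) - n - 1 + 1 - genus k K = ((genus k K : ℤ) - n) by ring,
    show 2 * (genus k K : ℤ) - n - 2 + 1 - genus k K = ((genus k K : ℤ) - n) - 1 by ring,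
    zpow_add_one₀ hq, zpow_sub_one₀ hq]
  field_simp
  ring

theorem numB_neg (hK : IsFunctionField k K) (h₁ : D₁.deg = 1) {n : ℤ} (hn : n < 0) : numB D₁ n = 0 := by
  rw [numB, effA_neg D₁ hK h₁ hn, effA_neg D₁ hK h₁ (by omega), effA_neg D₁ hK h₁ (by omega)]
  ring

theorem coeff_numerZ (hK : IsFunctionField k K) (h₁ : D₁.deg = 1) (n : ℕ) :
    ((PowerSeries.coeff n (numerZ k K) : ℤ) : ℚ) = numB D₁ n := by
  have hexp : numerZ k K = zetaZ k K - PowerSeries.C ((Nat.card k : ℤ) + 1) * (PowerSeries.X * zetaZ k K) +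
      PowerSeries.C (Nat.card k : ℤ) * (PowerSeries.X * (PowerSeries.X * zetaZ k K)) := by
    rw [numerZ, map_add, map_one]; ring
  have hz : ∀ i : ℕ, ((PowerSeries.coeff i (zetaZ k K) : ℤ) : ℚ) = effA D₁ i := fun i => by
    rw [zetaZ, PowerSeries.coeff_mk, effA_nat D₁ hK h₁, Int.cast_natCast]
  rw [hexp, map_add, map_sub, PowerSeries.coeff_C_mul, PowerSeries.coeff_C_mul, numB]
  rcases n with _ | _ | n
  · rw [PowerSeries.coeff_zero_X_mul, PowerSeries.coeff_zero_X_mul, effA_neg D₁ hK h₁ (n := ((0 : ℕ) : ℤ) - 1) (by omega),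
      effA_neg D₁ hK h₁ (n := ((0 : ℕ) : ℤ) - 2) (by omega), ← hz 0]
    push_cast; ring
  · rw [PowerSeries.coeff_succ_X_mul, PowerSeries.coeff_succ_X_mul, PowerSeries.coeff_zero_X_mul,
      effA_neg D₁ hK h₁ (n := ((0 + 1 : ℕ) : ℤ) - 2) (by omega),
      show (((0 + 1 : ℕ) : ℤ) - 1) = ((0 : ℕ) : ℤ) by omega, ← hz 0, ← hz (0 + 1)]
    push_cast; ring
  · rw [PowerSeries.coeff_succ_X_mul, PowerSeries.coeff_succ_X_mul, PowerSeries.coeff_succ_X_mul,
      show (((n + 1 + 1 : ℕ) : ℤ) - 1) = ((n + 1 : ℕ) : ℤ) by omega,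
      show (((n + 1 + 1 : ℕ) : ℤ) - 2) = ((n : ℕ) : ℤ) by omega, ← hz n, ← hz (n + 1), ← hz (n + 1 + 1)]
    push_cast; ring

theorem effDivCount_zero (hK : IsFunctionField k K) : effDivCount k K 0 = 1 := by
  refine Nat.card_eq_one_iff_unique.2 ⟨⟨fun D E => Subtype.ext ?_⟩, ⟨⟨0, le_rfl, by simp [deg_eq_degHom_sum]⟩⟩⟩
  rw [← eq_of_le_of_deg_le hK D.2.1 (by rw [D.2.2]; simp [deg_eq_degHom_sum]),
    ← eq_of_le_of_deg_le hK E.2.1 (by rw [E.2.2]; simp [deg_eq_degHom_sum])]

theorem numB_zero (hK : IsFunctionField k K) (h₁ : D₁.deg = 1) : numB D₁ 0 = 1 := by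
  rw [numB, effA_neg D₁ hK h₁ (n := 0 - 1) (by omega), effA_neg D₁ hK h₁ (n := 0 - 2) (by omega),
    show ((0 : ℤ)) = ((0 : ℕ) : ℤ) from rfl, effA_nat D₁ hK h₁, effDivCount_zero hK]
  simp

theorem sum_numB (hK : IsFunctionField k K) (h₁ : D₁.deg = 1) {N : ℕ} (hN : 2 * genus k K ≤ N) :
    ∑ i ∈ Finset.range (N + 1), numB D₁ i = (classNum k K : ℚ) := by
  have htel : ∀ M : ℕ, ∑ i ∈ Finset.range (M + 1), numB D₁ i =
      effA D₁ M - (Nat.card k : ℚ) * effA D₁ ((M : ℤ) - 1) := fun M => by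
    induction M with
    | zero =>
      rw [Finset.sum_range_one, numB, Nat.cast_zero, effA_neg D₁ hK h₁ (n := 0 - 1) (by omega),
        effA_neg D₁ hK h₁ (n := 0 - 2) (by omega)]
      ring
    | succ M ih =>
      rw [Finset.sum_range_succ, ih, numB, show (((M + 1 : ℕ) : ℤ) - 1) = (M : ℤ) by omega,
        show (((M + 1 : ℕ) : ℤ) - 2) = (M : ℤ) - 1 by omega]
      ring
  have hq : (Nat.card k : ℚ) ≠ 0 := Nat.cast_ne_zero.2 Nat.card_pos.ne'
  rw [htel, effA, effA, classSum_of_large D₁ hK h₁ (by omega), classSum_of_large D₁ hK h₁ (by omega),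
    show (N : ℤ) + 1 - genus k K = ((N : ℤ) - 1 + 1 - genus k K) + 1 by ring, zpow_add_one₀ hq]
  have := card_sub_one_ne (k := k)
  field_simp
  ring

end Classes

section Recursion

/-- Counting `(D, a point of D)` in two ways. -/
theorem mul_effDivCount (hK : IsFunctionField k K) (n : ℕ) :
    n * effDivCount k K n =
      ∑ m ∈ Finset.range (n + 1), (if m = 0 then 0 else pointCount k K m) * effDivCount k K (n - m) := by
  classical
  set E := (finite_effective hK (n : ℤ)).toFinset with hE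
  set S := (finite_places_deg_le hK n).toFinset with hS
  have hEcard : effDivCount k K n = E.card := by
    rw [effDivCount, ← Nat.card_eq_finsetCard]
    exact Nat.card_congr (Equiv.subtypeEquivRight fun D => (finite_effective hK (n : ℤ)).mem_toFinset.symm)
  set J := Finset.Icc 1 n
  have hdeg : ∀ D ∈ E, (n : ℤ) = ∑ P ∈ S, ∑ j ∈ J, if (j : ℤ) ≤ D P then (P.deg : ℤ) else 0 := fun D hD => by
    rw [hE, Set.Finite.mem_toFinset] at hD
    obtain ⟨h0, hn⟩ := hD
    have hsub : D.support ⊆ S := fun P hP => by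
      rw [Finsupp.mem_support_iff] at hP
      rw [hS, Set.Finite.mem_toFinset, Set.mem_ofPred_eq]
      have h1 := coeff_mul_deg_le h0 P
      have h2 : 0 ≤ D P := h0 P
      rw [hn] at h1
      have : (P.deg : ℤ) ≤ n := le_trans (le_mul_of_one_le_left (by positivity) (by omega)) h1
      omega
    rw [← hn, Divisor.deg, Finsupp.sum_of_support_subset D hsub (fun P i => i * (P.deg : ℤ)) (by simp)]
    refine Finset.sum_congr rfl fun P _ => ?_
    rw [← Finset.sum_filter, Finset.sum_const, nsmul_eq_mul]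
    congr 1
    have hle : D P ≤ n := by
      have h1 := coeff_mul_deg_le h0 P
      have h2 : 0 ≤ D P := h0 P
      have h3 : (1 : ℤ) ≤ P.deg := by exact_mod_cast deg_pos hK P
      rw [hn] at h1; nlinarith
    rw [show J.filter (fun j : ℕ => (j : ℤ) ≤ D P) = Finset.Icc 1 (D P).toNat from Finset.ext fun j => by
      simp only [J, Finset.mem_filter, Finset.mem_Icc]; omega, Nat.card_Icc]
    have h2 : 0 ≤ D P := h0 P
    omega
  have hcount : ∀ P : Place k K, ∀ j ∈ J, (E.filter fun D => (j : ℤ) ≤ D P).card =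
      if j * P.deg ≤ n then effDivCount k K (n - j * P.deg) else 0 := fun P j _ => by
    split_ifs with hj
    · rw [effDivCount, ← Nat.card_eq_finsetCard]
      have h1 : ∀ D : {D : Divisor k K // 0 ≤ D ∧ D.deg = ((n - j * P.deg : ℕ) : ℤ)},
          D.1 + Finsupp.single P (j : ℤ) ∈ E.filter fun D => (j : ℤ) ≤ D P := fun D => ?_
      have h2 : ∀ D : {D // D ∈ E.filter fun D => (j : ℤ) ≤ D P},
          0 ≤ D.1 - Finsupp.single P (j : ℤ) ∧
            (D.1 - Finsupp.single P (j : ℤ)).deg = ((n - j * P.deg : ℕ) : ℤ) := fun D => ?_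
      exact (Nat.card_congr
        ({ toFun := fun D => ⟨_, h1 D⟩
           invFun := fun D => ⟨_, h2 D⟩
           left_inv := fun D => Subtype.ext (add_sub_cancel_right _ _)
           right_inv := fun D => Subtype.ext (sub_add_cancel _ _) } :
          {D : Divisor k K // 0 ≤ D ∧ D.deg = ((n - j * P.deg : ℕ) : ℤ)} ≃
            {D // D ∈ E.filter fun D => (j : ℤ) ≤ D P})).symm
      swap
      · rw [Finset.mem_filter, hE, Set.Finite.mem_toFinset]
        refine ⟨⟨add_nonneg D.2.1 (Finsupp.single_nonneg.2 (by positivity)), ?_⟩, ?_⟩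
        · rw [deg_add, deg_single, D.2.2]; push_cast [Nat.cast_sub hj]; ring
        · rw [Finsupp.add_apply, Finsupp.single_eq_same]; exact le_add_of_nonneg_left (D.2.1 P)
      · obtain ⟨hD, hDj⟩ := Finset.mem_filter.1 D.2
        replace hD := (finite_effective hK (n : ℤ)).mem_toFinset.1 hD
        refine ⟨fun R => ?_, ?_⟩
        · rw [Finsupp.sub_apply, Finsupp.zero_apply]
          rcases eq_or_ne R P with rfl | hne
          · rw [Finsupp.single_eq_same]; omega
          · rw [Finsupp.single_eq_of_ne hne, sub_zero]; exact hD.1 R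
        · rw [deg_sub, deg_single, hD.2]; push_cast [Nat.cast_sub hj]; ring
    · rw [Finset.card_eq_zero, Finset.filter_eq_empty_iff]
      intro D hD hDj
      rw [hE, Set.Finite.mem_toFinset] at hD
      have h1 := coeff_mul_deg_le hD.1 P
      rw [hD.2] at h1
      have : ((j * P.deg : ℕ) : ℤ) ≤ n := by
        push_cast; exact le_trans (mul_le_mul_of_nonneg_right hDj (by positivity)) h1
      omega
  have hpc : ∀ m ∈ Finset.range (n + 1), m ≠ 0 →
      pointCount k K m = ∑ P ∈ S, if P.deg ∣ m then P.deg else 0 := fun m hm hm0 => by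
    rw [Finset.mem_range] at hm
    rw [← Finset.sum_filter, pointCount]
    refine finsum_mem_eq_sum_of_inter_support_eq _ ?_
    ext P
    simp only [Set.mem_inter_iff, Set.mem_ofPred_eq, Function.mem_support, Finset.coe_filter, hS,
      Set.Finite.mem_toFinset]
    exact ⟨fun ⟨h, h'⟩ => ⟨⟨(Nat.le_of_dvd (by omega) h).trans (by omega), h⟩, h'⟩,
      fun ⟨⟨_, h⟩, h'⟩ => ⟨h, h'⟩⟩
  have hL : (n * effDivCount k K n : ℤ) =
      ∑ P ∈ S, ∑ j ∈ J, (P.deg : ℤ) * ((E.filter fun D => (j : ℤ) ≤ D P).card : ℤ) := by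
    rw [hEcard, show (n : ℤ) * (E.card : ℤ) = ∑ D ∈ E, (n : ℤ) by rw [Finset.sum_const, nsmul_eq_mul, mul_comm],
      Finset.sum_congr rfl hdeg, Finset.sum_comm]
    refine Finset.sum_congr rfl fun P _ => ?_
    rw [Finset.sum_comm]
    refine Finset.sum_congr rfl fun j _ => ?_
    rw [← Finset.sum_filter, Finset.sum_const, nsmul_eq_mul, mul_comm]
  have hR : ∑ m ∈ Finset.range (n + 1), (if m = 0 then 0 else pointCount k K m) * effDivCount k K (n - m) =
      ∑ P ∈ S, ∑ m ∈ (Finset.range (n + 1)).filter (fun m => m ≠ 0 ∧ P.deg ∣ m),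
        P.deg * effDivCount k K (n - m) := by
    simp only [Finset.sum_filter]
    rw [Finset.sum_comm]
    refine Finset.sum_congr rfl fun m hm => ?_
    rcases eq_or_ne m 0 with rfl | hm0
    · simp
    · rw [if_neg hm0, hpc m hm hm0, Finset.sum_mul]
      exact Finset.sum_congr rfl fun P _ => by simp [hm0, ite_mul]
  rw [hR]
  have hL' : n * effDivCount k K n =
      ∑ P ∈ S, ∑ j ∈ J, P.deg * (E.filter fun D => (j : ℤ) ≤ D P).card := by exact_mod_cast hL
  rw [hL']
  refine Finset.sum_congr rfl fun P _ => ?_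
  have hd := deg_pos hK P
  rw [Finset.sum_congr rfl fun j hj => by rw [hcount P j hj, mul_ite, mul_zero], ← Finset.sum_filter]
  refine Finset.sum_nbij' (fun j => j * P.deg) (fun m => m / P.deg) (fun j hj => ?_) (fun m hm => ?_)
    (fun j _ => Nat.mul_div_cancel j hd) (fun m hm => ?_) (fun j _ => rfl)
  · simp only [J, Finset.mem_filter, Finset.mem_Icc] at hj
    simp only [Finset.mem_filter, Finset.mem_range]
    exact ⟨by omega, Nat.mul_ne_zero (by omega) hd.ne', dvd_mul_left _ _⟩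
  · simp only [Finset.mem_filter, Finset.mem_range] at hm
    obtain ⟨hm1, hm0, c, rfl⟩ := hm
    simp only [J, Finset.mem_filter, Finset.mem_Icc, Nat.mul_div_cancel_left c hd]
    rw [mul_comm] at hm1 hm0 ⊢
    refine ⟨⟨Nat.pos_of_ne_zero fun h => hm0 (by simp [h]), ?_⟩, by rw [mul_comm]; omega⟩
    nlinarith
  · simp only [Finset.mem_filter] at hm
    exact Nat.div_mul_cancel hm.2.2

end Recursion

end Groth.Agent.FunFldLib
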