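import Groth.Agent.FunFld.ZetaFin
import Mathlib.RingTheory.PowerSeries.Derivative
import Mathlib.RingTheory.Polynomial.RationalRoot
import Mathlib.Analysis.Complex.Polynomial.Basic
import Mathlib.Algebra.Polynomial.Reverse

/-!
The reciprocal roots of the numerator of the zeta series and their absolute values.
-/

namespace Groth.Agent.FunFldLib

open FunFld

section Series

open PowerSeries

/-- `∑_{m ≥ 1} rᵐ tᵐ`. -/
noncomputable def geomSeries (r : ℂ) : PowerSeries ℂ := mk fun m => if m = 0 then 0 else r ^ m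

/-- `∑_{m ≥ 1} N(m) tᵐ`. -/
noncomputable def countSeries (N : ℕ → ℕ) : PowerSeries ℂ := mk fun m => if m = 0 then 0 else (N m : ℂ)

theorem hasLog_one_sub (r : ℂ) :
    X * derivative ℂ (1 - C r * X) = -geomSeries r * (1 - C r * X) := by
  have h : geomSeries r * (1 - C r * X) = C r * X := by
    ext n
    rw [mul_sub, mul_one, map_sub, ← mul_assoc, mul_comm (geomSeries r) (C r), mul_assoc, coeff_C_mul,
      geomSeries, coeff_mk]
    rcases n with _ | _ | n
    · simp
    · rw [coeff_succ_mul_X, coeff_mk]; simp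
    · rw [coeff_succ_mul_X, coeff_mk, coeff_C_mul, coeff_X, if_neg (by omega), if_neg (by omega),
        if_neg (by omega), mul_zero]
      ring
  rw [neg_mul, h, map_sub, Derivation.map_one_eq_zero, Derivation.leibniz, derivative_C, derivative_X,
    smul_zero, add_zero, smul_eq_mul, mul_one]
  ring

theorem hasLog_mul {F₁ F₂ G₁ G₂ : PowerSeries ℂ} (h₁ : X * derivative ℂ F₁ = G₁ * F₁)
    (h₂ : X * derivative ℂ F₂ = G₂ * F₂) :
    X * derivative ℂ (F₁ * F₂) = (G₁ + G₂) * (F₁ * F₂) := by
  rw [Derivation.leibniz, smul_eq_mul, smul_eq_mul]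
  linear_combination F₂ * h₁ + F₁ * h₂

theorem hasLog_prod {ι : Type*} (s : Finset ι) (α : ι → ℂ) :
    X * derivative ℂ (∏ i ∈ s, (1 - C (α i) * X)) =
      (-∑ i ∈ s, geomSeries (α i)) * ∏ i ∈ s, (1 - C (α i) * X) := by
  classical
  induction s using Finset.induction_on with
  | empty => simp
  | insert a s ha ih =>
    rw [Finset.prod_insert ha, Finset.sum_insert ha, hasLog_mul (hasLog_one_sub (α a)) ih]
    ring

theorem hasLog_unique {F₁ F₂ G : PowerSeries ℂ} (h₁ : X * derivative ℂ F₁ = G * F₁)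
    (h₂ : X * derivative ℂ F₂ = G * F₂) (hG : constantCoeff G = 0)
    (hc : constantCoeff F₁ = constantCoeff F₂) : F₁ = F₂ := by
  ext n
  induction n using Nat.strong_induction_on with
  | _ n ih =>
  rcases n with _ | n
  · simpa [coeff_zero_eq_constantCoeff] using hc
  have e : ∀ F : PowerSeries ℂ, X * derivative ℂ F = G * F →
      coeff (n + 1) F * ((n : ℂ) + 1) = ∑ p ∈ Finset.HasAntidiagonal.antidiagonal (n + 1), coeff p.1 G * coeff p.2 F :=
    fun F hF => by rw [← coeff_derivative, ← coeff_succ_X_mul, hF, coeff_mul]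
  refine mul_right_cancel₀ (b := ((n : ℂ) + 1)) (Nat.cast_add_one_ne_zero n) ?_
  rw [e _ h₁, e _ h₂]
  refine Finset.sum_congr rfl fun p hp => ?_
  rw [Finset.HasAntidiagonal.mem_antidiagonal] at hp
  rcases Nat.eq_zero_or_pos p.1 with h0 | h0
  · rw [h0, coeff_zero_eq_constantCoeff, hG, zero_mul, zero_mul]
  · rw [ih p.2 (by omega)]

end Series

section Reverse

open Polynomial

theorem reverse_X_sub_C (a : ℂ) : (X - C a).reverse = 1 - C a * X := by
  ext n
  rw [coeff_reverse, natDegree_X_sub_C, coeff_sub, coeff_sub, coeff_C_mul]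
  rcases n with _ | _ | n
  · rw [revAt_le (Nat.zero_le 1)]; simp
  · rw [revAt_le le_rfl]; simp [coeff_one]
  · rw [revAt_eq_self_of_lt (by omega)]; simp [coeff_X, coeff_C, coeff_one]

theorem reverse_one_sub_C_mul_X {a : ℂ} (ha : a ≠ 0) : (1 - C a * X).reverse = X - C a := by
  have hdeg : (1 - C a * X : ℂ[X]).natDegree = 1 := by
    rw [natDegree_sub, natDegree_sub_eq_left_of_natDegree_lt (by simp [natDegree_C_mul_X a ha]),
      natDegree_C_mul_X a ha]
  ext n
  rw [coeff_reverse, hdeg, coeff_sub, coeff_sub, coeff_C_mul]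
  rcases n with _ | _ | n
  · rw [revAt_le (Nat.zero_le 1)]; simp [coeff_one]
  · rw [revAt_le le_rfl]; simp [coeff_one]
  · rw [revAt_eq_self_of_lt (by omega)]; simp [coeff_X, coeff_C, coeff_one]

theorem reverse_prod_X_sub_C (s : Multiset ℂ) :
    (s.map fun a => X - C a).prod.reverse = (s.map fun a => 1 - C a * X).prod := by
  induction s using Multiset.induction_on with
  | empty => simp [reverse]
  | cons a s ih => simp only [Multiset.map_cons, Multiset.prod_cons, reverse_mul_of_domain, reverse_X_sub_C, ih]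

theorem reverse_prod_one_sub (s : Multiset ℂ) (hs : ∀ a ∈ s, a ≠ 0) :
    (s.map fun a => 1 - C a * X).prod.reverse = (s.map fun a => X - C a).prod := by
  induction s using Multiset.induction_on with
  | empty => simp [reverse]
  | cons a s ih =>
    simp only [Multiset.map_cons, Multiset.prod_cons, reverse_mul_of_domain,
      reverse_one_sub_C_mul_X (hs a (Multiset.mem_cons_self a s)),
      ih fun b hb => hs b (Multiset.mem_cons_of_mem hb)]

/-- A multiset invariant under `a ↦ q/a` with the right product splits into pairs. -/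
theorem exists_half {q r : ℂ} (hr : r ^ 2 = q) (hr0 : r ≠ 0) (s : Multiset ℂ) (h0 : ∀ a ∈ s, a ≠ 0)
    (hmap : s.map (fun a => q / a) = s) (heven : Even (Multiset.card s))
    (hprod : s.prod = r ^ Multiset.card s) : ∃ t : Multiset ℂ, s = t + t.map fun a => q / a := by
  induction s using Multiset.strongInductionOn with
  | _ s ih =>
  have hq0 : q ≠ 0 := hr ▸ pow_ne_zero 2 hr0
  have hinv : ∀ a : ℂ, a ≠ 0 → q / (q / a) = a := fun a ha => by field_simp
  by_cases hex : ∃ a ∈ s, q / a ≠ a
  · obtain ⟨a, ha, hne⟩ := hex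
    have hιa : q / a ∈ s := hmap ▸ Multiset.mem_map_of_mem (fun a => q / a) ha
    obtain ⟨s₁, rfl⟩ := Multiset.exists_cons_of_mem ha
    have hιa₁ : q / a ∈ s₁ := (Multiset.mem_cons.1 hιa).resolve_left hne
    obtain ⟨s₂, rfl⟩ := Multiset.exists_cons_of_mem hιa₁
    have ha0 : a ≠ 0 := h0 a ha
    rw [Multiset.map_cons, Multiset.map_cons, hinv a ha0, Multiset.cons_swap] at hmap
    simp only [Multiset.cons_inj_right] at hmap
    simp only [Multiset.card_cons] at heven hprod
    rw [Multiset.prod_cons, Multiset.prod_cons, ← mul_assoc, mul_div_cancel₀ _ ha0, pow_add, pow_add, pow_one,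
      mul_assoc (r ^ _), ← pow_two, hr, mul_comm _ q] at hprod
    obtain ⟨t, ht⟩ := ih s₂ ((Multiset.lt_cons_self s₂ _).trans (Multiset.lt_cons_self _ a))
      (fun b hb => h0 b (Multiset.mem_cons_of_mem (Multiset.mem_cons_of_mem hb))) hmap
      (by
        obtain ⟨c, hc⟩ := heven
        exact ⟨c - 1, by omega⟩) (mul_left_cancel₀ hq0 hprod)
    refine ⟨a ::ₘ t, ?_⟩
    rw [Multiset.map_cons, Multiset.cons_add, Multiset.add_cons, ← ht]
  · push Not at hex
    have hcases : ∀ a ∈ s, a = r ∨ a = -r := fun a ha => sq_eq_sq_iff_eq_or_eq_neg.1 (by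
      have h := hex a ha
      rw [div_eq_iff (h0 a ha)] at h
      rw [hr, pow_two, ← h])
    have hA : s.filter (fun a => a = r) = Multiset.replicate (Multiset.card (s.filter fun a => a = r)) r :=
      Multiset.eq_replicate_card.2 fun a ha => (Multiset.mem_filter.1 ha).2
    have hB : s.filter (fun a => ¬a = r) =
        Multiset.replicate (Multiset.card (s.filter fun a => ¬a = r)) (-r) :=
      Multiset.eq_replicate_card.2 fun a ha =>
        (hcases a (Multiset.mem_filter.1 ha).1).resolve_left (Multiset.mem_filter.1 ha).2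
    set m := Multiset.card (s.filter fun a => a = r)
    set m' := Multiset.card (s.filter fun a => ¬a = r)
    have hs : s = Multiset.replicate m r + Multiset.replicate m' (-r) := by
      rw [← hA, ← hB, Multiset.filter_add_not]
    rw [hs, Multiset.prod_add, Multiset.prod_replicate, Multiset.prod_replicate, Multiset.card_add,
      Multiset.card_replicate, Multiset.card_replicate, neg_pow, pow_add, ← mul_assoc, mul_comm (r ^ m),
      mul_assoc] at hprod
    have hone : (-1 : ℂ) ^ m' = 1 :=
      mul_right_cancel₀ (mul_ne_zero (pow_ne_zero _ hr0) (pow_ne_zero _ hr0)) (hprod.trans (one_mul _).symm)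
    have hm' : Even m' := (neg_one_pow_eq_one_iff_even (by norm_num)).1 hone
    rw [hs, Multiset.card_add, Multiset.card_replicate, Multiset.card_replicate] at heven
    have hm : Even m := by
      have := Nat.even_add.1 heven
      exact this.2 hm'
    obtain ⟨a, ha⟩ := hm
    obtain ⟨b, hb⟩ := hm'
    refine ⟨Multiset.replicate a r + Multiset.replicate b (-r), ?_⟩
    rw [hs, ha, hb, Multiset.map_add, Multiset.map_replicate, Multiset.map_replicate,
      show q / r = r by rw [div_eq_iff hr0, ← pow_two, hr],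
      show q / -r = -r by rw [div_eq_iff (neg_ne_zero.2 hr0), ← hr]; ring,
      Multiset.replicate_add, Multiset.replicate_add]
    exact add_add_add_comm _ _ _ _

end Reverse

section Numerator

variable {k K : Type*} [Field k] [Finite k] [Field K] [Algebra k K]

variable (k K) in
/-- The numerator as a polynomial. -/
noncomputable def numPoly : Polynomial ℤ := PowerSeries.trunc (2 * genus k K + 1) (numerZ k K)

theorem coeff_numerZ_eq_zero (hK : IsFunctionField k K) {n : ℕ} (hn : 2 * genus k K < n) :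
    PowerSeries.coeff n (numerZ k K) = 0 := by
  obtain ⟨D₁, h₁⟩ := exists_deg_one hK
  have h := coeff_numerZ D₁ hK h₁ n
  have hq : (Nat.card k : ℚ) ^ ((genus k K : ℤ) - n) ≠ 0 := zpow_ne_zero _ (Nat.cast_ne_zero.2 Nat.card_pos.ne')
  have hs := numB_symm D₁ hK h₁ n
  rw [numB_neg D₁ hK h₁ (by omega), ← h] at hs
  exact_mod_cast (mul_eq_zero.1 hs.symm).resolve_left hq

theorem numPoly_coe (hK : IsFunctionField k K) : (numPoly k K : PowerSeries ℤ) = numerZ k K := by
  ext n
  rw [Polynomial.coeff_coe, numPoly, PowerSeries.coeff_trunc]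
  split_ifs with h
  · rfl
  · rw [coeff_numerZ_eq_zero hK (by omega)]

theorem coeff_numerZ_symm (hK : IsFunctionField k K) {i : ℕ} (hi : i ≤ 2 * genus k K) :
    (((PowerSeries.coeff (2 * genus k K - i) (numerZ k K) : ℤ)) : ℚ) =
      (Nat.card k : ℚ) ^ ((genus k K : ℤ) - i) * (((PowerSeries.coeff i (numerZ k K) : ℤ)) : ℚ) := by
  obtain ⟨D₁, h₁⟩ := exists_deg_one hK
  rw [coeff_numerZ D₁ hK h₁, coeff_numerZ D₁ hK h₁,
    show ((2 * genus k K - i : ℕ) : ℤ) = 2 * (genus k K : ℤ) - i by omega, numB_symm D₁ hK h₁]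

theorem coeff_zero_numerZ (hK : IsFunctionField k K) : PowerSeries.coeff 0 (numerZ k K) = 1 := by
  obtain ⟨D₁, h₁⟩ := exists_deg_one hK
  have h := coeff_numerZ D₁ hK h₁ 0
  rw [Nat.cast_zero, numB_zero D₁ hK h₁] at h
  exact_mod_cast h

theorem coeff_top_numerZ (hK : IsFunctionField k K) :
    PowerSeries.coeff (2 * genus k K) (numerZ k K) = (Nat.card k : ℤ) ^ genus k K := by
  have h := coeff_numerZ_symm hK (Nat.zero_le _)
  rw [Nat.sub_zero, coeff_zero_numerZ hK, Int.cast_one, mul_one, Nat.cast_zero, sub_zero, zpow_natCast] at h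
  exact_mod_cast h

theorem natDegree_numPoly (hK : IsFunctionField k K) : (numPoly k K).natDegree = 2 * genus k K := by
  refine le_antisymm (Polynomial.natDegree_le_iff_coeff_eq_zero.2 fun n hn => ?_) (Polynomial.le_natDegree_of_ne_zero ?_)
  · rw [← Polynomial.coeff_coe, numPoly_coe hK, coeff_numerZ_eq_zero hK hn]
  · rw [← Polynomial.coeff_coe, numPoly_coe hK, coeff_top_numerZ hK]
    exact pow_ne_zero _ (Int.natCast_ne_zero.2 Nat.card_pos.ne')

theorem coeff_mul_pow_symm (hK : IsFunctionField k K) {i : ℕ} (hi : i ≤ 2 * genus k K) :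
    (numPoly k K).coeff (2 * genus k K - i) * (Nat.card k : ℤ) ^ i =
      (Nat.card k : ℤ) ^ genus k K * (numPoly k K).coeff i := by
  have hq : (Nat.card k : ℚ) ≠ 0 := Nat.cast_ne_zero.2 Nat.card_pos.ne'
  simp only [← Polynomial.coeff_coe, numPoly_coe hK]
  have h := coeff_numerZ_symm hK hi
  have h2 : (((PowerSeries.coeff (2 * genus k K - i) (numerZ k K) : ℤ)) : ℚ) * (Nat.card k : ℚ) ^ i =
      (Nat.card k : ℚ) ^ genus k K * (((PowerSeries.coeff i (numerZ k K) : ℤ)) : ℚ) := by
    rw [h, mul_right_comm, ← zpow_natCast _ i, ← zpow_add₀ hq, sub_add_cancel, zpow_natCast]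
  exact_mod_cast h2

open Polynomial in
/-- The reciprocal roots, in pairs `α ↦ q/α`. -/
theorem exists_alpha (hK : IsFunctionField k K) :
    ∃ α : Fin (2 * genus k K) → ℂ, (∀ i, IsIntegral ℤ (α i)) ∧
      (numPoly k K).map (Int.castRingHom ℂ) = ∏ i, (1 - C (α i) * X) ∧
      (∀ i, α i * α (Fin.rev i) = (Nat.card k : ℂ)) := by
  classical
  set g := genus k K with hg
  set q : ℂ := (Nat.card k : ℂ)
  have hq0 : q ≠ 0 := Nat.cast_ne_zero.2 Nat.card_pos.ne'
  set P := numPoly k K
  set φ := Int.castRingHom ℂ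
  have hφ : Function.Injective φ := Int.cast_injective
  set pc := P.map φ
  have hP0 : P.coeff 0 = 1 := by rw [← coeff_coe, numPoly_coe hK, coeff_zero_numerZ hK]
  have hPd : P.natDegree = 2 * g := natDegree_numPoly hK
  have hpd : pc.natDegree = 2 * g := by rw [natDegree_map_eq_of_injective hφ, hPd]
  have hR : P.reverse.natDegree = 2 * g := by
    rw [reverse_natDegree, hPd, natTrailingDegree_eq_zero.2 (Or.inr (by rw [hP0]; exact one_ne_zero)), Nat.sub_zero]
  have hRm : P.reverse.Monic := by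
    rw [Monic, reverse_leadingCoeff, trailingCoeff,
      natTrailingDegree_eq_zero.2 (Or.inr (by rw [hP0]; exact one_ne_zero)), hP0]
  set R := P.reverse.map φ
  have hRd : R.natDegree = 2 * g := by rw [natDegree_map_eq_of_injective hφ, hR]
  have hRc : ∀ n, n ≤ 2 * g → R.coeff n = φ (P.coeff (2 * g - n)) := fun n hn => by
    rw [coeff_map, coeff_reverse, hPd, revAt_le hn]
  set s := R.roots
  have hsplit : R.Splits := IsAlgClosed.splits R
  have hcard : Multiset.card s = 2 * g := by rw [← hRd, hsplit.natDegree_eq_card_roots]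
  have hRprod : R = (s.map fun a => X - C a).prod := hsplit.eq_prod_roots_of_monic (hRm.map φ)
  have hrev : R.reverse = pc := by
    ext n
    rw [coeff_reverse, hRd, coeff_map, coeff_map, coeff_reverse, hPd, revAt_invol]
  have hpc : pc = (s.map fun a => 1 - C a * X).prod := by rw [← hrev, hRprod, reverse_prod_X_sub_C]
  have hneg : (s.map fun a => -a).prod = q ^ g := by
    have h := hRc 0 (Nat.zero_le _)
    have htop : P.coeff (2 * g) = (Nat.card k : ℤ) ^ g := by
      rw [← coeff_coe, numPoly_coe hK, coeff_top_numerZ hK]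
    rw [Nat.sub_zero, htop, hRprod, coeff_zero_multiset_prod, Multiset.map_map] at h
    refine Eq.trans ?_ (h.trans (by simp [φ, q, g]))
    exact congrArg Multiset.prod (Multiset.map_congr rfl fun a _ => by simp)
  have h0 : ∀ a ∈ s, a ≠ 0 := fun a ha h => by
    refine pow_ne_zero g hq0 (hneg.symm.trans (Multiset.prod_eq_zero (Multiset.mem_map.2 ⟨a, ha, ?_⟩)))
    rw [h, neg_zero]
  have hprod : s.prod = q ^ g := by
    rw [← hneg, Multiset.prod_map_neg, hcard, pow_mul, neg_one_sq, one_pow, one_mul]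
  -- invariance under `a ↦ q / a`
  have hcomp : R.comp (C q * X) = C (q ^ g) * pc := by
    ext n
    rw [comp_C_mul_X_coeff, coeff_C_mul, show pc.coeff n = φ (P.coeff n) from coeff_map φ n]
    rcases le_or_gt n (2 * g) with hn | hn
    · rw [hRc n hn]
      have h := congrArg φ (coeff_mul_pow_symm hK hn)
      simpa [φ, q, P, hg] using h
    · rw [coeff_eq_zero_of_natDegree_lt (p := R) (hRd ▸ hn), coeff_eq_zero_of_natDegree_lt (p := P) (hPd ▸ hn),
        map_zero, zero_mul, mul_zero]
  have hinvariant : ((s.map fun a => q / a).map fun a => 1 - C a * X).prod = pc := by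
    refine mul_left_cancel₀ (C_ne_zero.2 (pow_ne_zero g hq0)) ?_
    rw [← hcomp, hRprod, multiset_prod_comp, Multiset.map_map, Multiset.map_map, ← hneg,
      map_multiset_prod, Multiset.map_map, ← Multiset.prod_map_mul]
    refine congrArg Multiset.prod (Multiset.map_congr rfl fun a ha => ?_)
    simp only [Function.comp_apply, sub_comp, X_comp, C_comp, C_neg]
    rw [mul_sub, mul_one, ← mul_assoc, neg_mul, ← C_mul, mul_div_cancel₀ _ (h0 a ha)]
    ring
  have hmap : s.map (fun a => q / a) = s := by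
    have h := congrArg reverse (hinvariant.trans hpc)
    rw [reverse_prod_one_sub _ h0, reverse_prod_one_sub _ fun b hb => by
      obtain ⟨a, ha, rfl⟩ := Multiset.mem_map.1 hb
      exact div_ne_zero hq0 (h0 a ha)] at h
    rw [← roots_multiset_prod_X_sub_C (s.map fun a => q / a), h, roots_multiset_prod_X_sub_C]
  set r : ℂ := ((Real.sqrt (Nat.card k) : ℝ) : ℂ)
  have hr : r ^ 2 = q := by
    rw [← Complex.ofReal_pow, Real.sq_sqrt (Nat.cast_nonneg _), Complex.ofReal_natCast]
  have hr0 : r ≠ 0 := fun h => hq0 (by rw [← hr, h]; ring)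
  obtain ⟨t, ht⟩ := exists_half hr hr0 s h0 hmap (by rw [hcard]; exact ⟨g, two_mul g⟩)
    (by rw [hprod, hcard, pow_mul, hr])
  have htcard : t.toList.length = g := by
    rw [Multiset.length_toList]
    have h := congrArg Multiset.card ht
    rw [hcard, Multiset.card_add, Multiset.card_map] at h
    omega
  set l := t.toList
  let α : Fin (2 * g) → ℂ := fun i =>
    if h : (i : ℕ) < g then l[(i : ℕ)]'(htcard.symm ▸ h)
    else q / l[2 * g - 1 - (i : ℕ)]'(by have := i.2; omega)
  have hmemt : ∀ j (hj : j < l.length), l[j] ∈ t := fun j hj => Multiset.mem_toList.1 (List.getElem_mem hj)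
  have hne : ∀ a ∈ t, a ≠ 0 := fun a ha => h0 a (ht.symm ▸ Multiset.mem_add.2 (Or.inl ha))
  have hαmem : ∀ i, α i ∈ s := fun i => by
    rw [ht, Multiset.mem_add]
    simp only [α]
    split_ifs with h
    · exact Or.inl (hmemt _ _)
    · exact Or.inr (Multiset.mem_map_of_mem (fun a => q / a) (hmemt _ _))
  refine ⟨α, fun i => ?_, ?_, fun i => ?_⟩
  · exact ⟨P.reverse, hRm, by rw [Subsingleton.elim (algebraMap ℤ ℂ) φ, ← eval_map]; exact (mem_roots'.1 (hαmem i)).2⟩
  · rw [hpc, ht, Multiset.map_add, Multiset.prod_add, Multiset.map_map]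
    let e : Fin g ⊕ Fin g ≃ Fin (2 * g) := finSumFinEquiv.trans (finCongr (two_mul g).symm)
    rw [← e.prod_comp, Fintype.prod_sum_type]
    have hlist : ∀ f : ℂ → ℂ[X], (t.map f).prod = ∏ i : Fin g, f (l[(i : ℕ)]'(htcard.symm ▸ i.2)) := fun f => by
      rw [← Multiset.coe_toList t, Multiset.map_coe, Multiset.prod_coe, ← List.ofFn_getElem (xs := t.toList.map f),
        List.prod_ofFn]
      refine Fintype.prod_equiv (finCongr (by rw [List.length_map]; exact htcard)) _ _ fun i => ?_
      simp [l]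
    rw [hlist, hlist]
    refine congrArg₂ (· * ·) (Finset.prod_congr rfl fun i _ => ?_)
      (Fintype.prod_equiv Fin.revPerm _ _ fun i => ?_)
    · have hi : ((e (Sum.inl i) : Fin (2 * g)) : ℕ) = i := by simp [e]
      simp only [α, hi, dif_pos i.2]
    · have hi : ((e (Sum.inr (Fin.rev i)) : Fin (2 * g)) : ℕ) = g + (g - (i + 1)) := by simp [e]; omega
      simp only [Function.comp_apply, Fin.revPerm_apply, α, hi,
        dif_neg (show ¬g + (g - ((i : ℕ) + 1)) < g by omega)]
      simp only [show 2 * g - 1 - (g + (g - ((i : ℕ) + 1))) = (i : ℕ) by omega]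
  · have hi := i.2
    simp only [α, Fin.val_rev]
    rcases lt_or_ge (i : ℕ) g with h | h
    · rw [dif_pos h, dif_neg (by omega)]
      simp only [show 2 * g - 1 - (2 * g - ((i : ℕ) + 1)) = (i : ℕ) by omega]
      exact mul_div_cancel₀ _ (hne _ (hmemt _ _))
    · rw [dif_neg (by omega), dif_pos (show 2 * g - ((i : ℕ) + 1) < g by omega)]
      simp only [show 2 * g - ((i : ℕ) + 1) = 2 * g - 1 - (i : ℕ) by omega]
      exact div_mul_cancel₀ _ (hne _ (hmemt _ _))

/-- Being a family of reciprocal roots. -/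
def IsAlpha (k K : Type*) [Field k] [Field K] [Algebra k K] {ι : Type*} [Fintype ι] (α : ι → ℂ) : Prop :=
  PowerSeries.map (Int.castRingHom ℂ) (numerZ k K) =
    ((∏ i, (1 - Polynomial.C (α i) * Polynomial.X) : Polynomial ℂ) : PowerSeries ℂ)

theorem coe_prod_one_sub {ι : Type*} [Fintype ι] (α : ι → ℂ) :
    ((∏ i, (1 - Polynomial.C (α i) * Polynomial.X) : Polynomial ℂ) : PowerSeries ℂ) =
      ∏ i, (1 - PowerSeries.C (α i) * PowerSeries.X) := by
  rw [← Polynomial.coeToPowerSeries.ringHom_apply, map_prod]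
  refine Finset.prod_congr rfl fun i _ => ?_
  simp

omit [Finite k] in
theorem map_numerZ : PowerSeries.map (Int.castRingHom ℂ) (numerZ k K) =
    (1 - PowerSeries.C (1 : ℂ) * PowerSeries.X) * (1 - PowerSeries.C (Nat.card k : ℂ) * PowerSeries.X) *
      PowerSeries.map (Int.castRingHom ℂ) (zetaZ k K) := by
  simp [numerZ]

theorem hasLog_zeta (hK : IsFunctionField k K) :
    PowerSeries.X * PowerSeries.derivative ℂ (PowerSeries.map (Int.castRingHom ℂ) (zetaZ k K)) =
      countSeries (pointCount k K) * PowerSeries.map (Int.castRingHom ℂ) (zetaZ k K) := by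
  ext n
  have h := congrArg (fun i : ℕ => (i : ℂ)) (mul_effDivCount hK n)
  simp only [Nat.cast_sum, Nat.cast_mul] at h
  conv_rhs => rw [PowerSeries.coeff_mul, Finset.Nat.sum_antidiagonal_eq_sum_range_succ_mk]
  have hrhs : ∀ m, PowerSeries.coeff m (countSeries (pointCount k K)) *
      PowerSeries.coeff (n - m) (PowerSeries.map (Int.castRingHom ℂ) (zetaZ k K)) =
      ((if m = 0 then 0 else pointCount k K m : ℕ) : ℂ) * (effDivCount k K (n - m) : ℂ) := fun m => by
    rw [countSeries, PowerSeries.coeff_mk, PowerSeries.coeff_map, zetaZ, PowerSeries.coeff_mk]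
    split_ifs <;> simp
  rw [Finset.sum_congr rfl fun m _ => hrhs m, ← h]
  rcases n with _ | n
  · simp
  · rw [PowerSeries.coeff_succ_X_mul, PowerSeries.coeff_derivative, PowerSeries.coeff_map, zetaZ,
      PowerSeries.coeff_mk]
    simp [mul_comm]

theorem numer_ne_zero (hK : IsFunctionField k K) : PowerSeries.map (Int.castRingHom ℂ) (numerZ k K) ≠ 0 :=
  fun h => by
    have h0 := congrArg (PowerSeries.coeff 0) h
    rw [PowerSeries.coeff_map, coeff_zero_numerZ hK, map_one, map_zero] at h0
    exact one_ne_zero h0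

theorem pointCount_eq (hK : IsFunctionField k K) {ι : Type*} [Fintype ι] {α : ι → ℂ} (hα : IsAlpha k K α)
    {m : ℕ} (hm : 0 < m) : (pointCount k K m : ℂ) = 1 + (Nat.card k : ℂ) ^ m - ∑ i, α i ^ m := by
  have hL := hasLog_mul (hasLog_mul (hasLog_one_sub 1) (hasLog_one_sub (Nat.card k : ℂ))) (hasLog_zeta hK)
  rw [← map_numerZ] at hL
  have hR := hasLog_prod Finset.univ α
  rw [← coe_prod_one_sub, ← hα, hL] at hR
  have h := congrArg (PowerSeries.coeff m) (mul_right_cancel₀ (numer_ne_zero hK) hR)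
  simp only [map_add, map_neg, map_sum, geomSeries, countSeries, PowerSeries.coeff_mk, if_neg hm.ne',
    one_pow] at h
  linear_combination h

theorem norm_le_of_power_sums {ι : Type*} [Fintype ι] (α : ι → ℂ) {B C : ℝ} (hB : 0 < B)
    (h : ∀ m : ℕ, 0 < m → ‖∑ i, α i ^ m‖ ≤ C * B ^ m) (i : ι) : ‖α i‖ ≤ B := by
  classical
  by_contra hlt
  push Not at hlt
  set r := α i
  have hr : 1 < ‖r‖ / B := (one_lt_div hB).2 hlt
  set S := (Finset.univ.image α).erase r
  set f : Polynomial ℂ := ∏ s ∈ S, (Polynomial.X - Polynomial.C s) with hf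
  have hfr : f.eval r ≠ 0 := by
    rw [hf, Polynomial.eval_prod, Finset.prod_ne_zero_iff]
    intro s hs
    simpa [sub_eq_zero] using (Finset.ne_of_mem_erase hs).symm
  set w : ℂ := ((Finset.univ.filter fun j => α j = r).card : ℂ)
  have hw : w ≠ 0 := Nat.cast_ne_zero.2 (Finset.card_pos.2 ⟨i, by simp [r]⟩).ne'
  set d := f.natDegree
  set C' := ∑ c ∈ Finset.range (d + 1), ‖f.coeff c‖ * |C| * B ^ c
  have hkey : ∀ m : ℕ, 0 < m → (‖r‖ / B) ^ m * ‖w * f.eval r‖ ≤ C' := fun m hm => by
    have hsum : ∑ c ∈ Finset.range (d + 1), f.coeff c * ∑ j, α j ^ (m + c) = w * f.eval r * r ^ m := by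
      simp only [Finset.mul_sum]
      rw [Finset.sum_comm]
      have : ∀ j, ∑ c ∈ Finset.range (d + 1), f.coeff c * α j ^ (m + c) = α j ^ m * f.eval (α j) := fun j => by
        rw [Polynomial.eval_eq_sum_range, Finset.mul_sum]
        exact Finset.sum_congr rfl fun c _ => by rw [pow_add]; ring
      rw [Finset.sum_congr rfl fun j _ => this j, ← Finset.sum_filter_add_sum_filter_not Finset.univ (fun j => α j = r),
        Finset.sum_eq_zero (s := Finset.univ.filter fun j => ¬α j = r) fun j hj => by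
          rw [hf, Polynomial.eval_prod, Finset.prod_eq_zero
            (Finset.mem_erase.2 ⟨(Finset.mem_filter.1 hj).2, Finset.mem_image_of_mem α (Finset.mem_univ j)⟩)
            (by simp), mul_zero], add_zero,
        Finset.sum_congr rfl fun j hj => by rw [(Finset.mem_filter.1 hj).2], Finset.sum_const, nsmul_eq_mul]
      ring
    have hnorm : ‖w * f.eval r‖ * ‖r‖ ^ m ≤ C' * B ^ m := by
      rw [← norm_pow, ← norm_mul, ← hsum, Finset.sum_mul]
      refine (norm_sum_le _ _).trans (Finset.sum_le_sum fun c _ => ?_)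
      rw [norm_mul]
      refine (mul_le_mul_of_nonneg_left ((h _ (by omega)).trans
        (mul_le_mul_of_nonneg_right (le_abs_self C) (by positivity))) (norm_nonneg _)).trans (le_of_eq ?_)
      rw [pow_add]; ring
    rw [div_pow, div_mul_eq_mul_div, div_le_iff₀ (by positivity)]
    linarith [hnorm]
  have hpos : 0 < ‖w * f.eval r‖ := norm_pos_iff.2 (mul_ne_zero hw hfr)
  obtain ⟨m, hm⟩ := pow_unbounded_of_one_lt (C' / ‖w * f.eval r‖) hr
  have h2 := hkey (m + 1) m.succ_pos
  have h3 : (‖r‖ / B) ^ m ≤ (‖r‖ / B) ^ (m + 1) := pow_le_pow_right₀ hr.le (Nat.le_succ m)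
  rw [div_lt_iff₀ hpos] at hm
  nlinarith [mul_le_mul_of_nonneg_right h3 hpos.le]

theorem norm_alpha_le (hK : IsFunctionField k K) {ι : Type*} [Fintype ι] {α : ι → ℂ} (hα : IsAlpha k K α)
    (i : ι) : ‖α i‖ ≤ Real.sqrt (Nat.card k) := by
  obtain ⟨C, hC⟩ := pointCount_bound hK
  refine norm_le_of_power_sums α (C := C + 1) (Real.sqrt_pos.2 (by exact_mod_cast Nat.card_pos)) (fun m hm => ?_) i
  have hsq : Real.sqrt ((Nat.card k : ℝ) ^ m) = Real.sqrt (Nat.card k) ^ m := by
    rw [Real.sqrt_eq_iff_eq_sq (by positivity) (by positivity), ← pow_mul, mul_comm, pow_mul,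
      Real.sq_sqrt (Nat.cast_nonneg _)]
  have h := (hC m hm).2
  have he : ∑ i, α i ^ m = 1 - (((pointCount k K m : ℝ) - (Nat.card k : ℝ) ^ m : ℝ) : ℂ) := by
    rw [Complex.ofReal_sub, Complex.ofReal_pow, Complex.ofReal_natCast, Complex.ofReal_natCast,
      pointCount_eq hK hα hm]
    ring
  rw [he]
  refine (norm_sub_le _ _).trans ?_
  rw [norm_one, Complex.norm_real, Real.norm_eq_abs]
  rw [hsq] at h
  have : 1 ≤ Real.sqrt (Nat.card k) ^ m :=
    one_le_pow₀ (Real.one_le_sqrt.2 (by exact_mod_cast Nat.card_pos))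
  linarith

theorem isAlpha_of_map (hK : IsFunctionField k K) {ι : Type*} [Fintype ι] {α : ι → ℂ}
    (h : (numPoly k K).map (Int.castRingHom ℂ) = ∏ i, (1 - Polynomial.C (α i) * Polynomial.X)) :
    IsAlpha k K α := by
  rw [IsAlpha, ← h, ← numPoly_coe hK, Polynomial.polynomial_map_coe]

/-- The reciprocal roots all have absolute value `√q`. -/
theorem exists_alpha_norm (hK : IsFunctionField k K) :
    ∃ α : Fin (2 * genus k K) → ℂ, IsAlpha k K α ∧
      (numPoly k K).map (Int.castRingHom ℂ) = ∏ i, (1 - Polynomial.C (α i) * Polynomial.X) ∧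
      ∀ i, ‖α i‖ = Real.sqrt (Nat.card k) := by
  obtain ⟨α, -, hmap, hpair⟩ := exists_alpha hK
  have hα := isAlpha_of_map hK hmap
  refine ⟨α, hα, hmap, fun i => le_antisymm (norm_alpha_le hK hα i) ?_⟩
  have h := congrArg norm (hpair i)
  rw [norm_mul, Complex.norm_natCast] at h
  have h1 := norm_alpha_le hK hα (Fin.rev i)
  have hpos : 0 < Real.sqrt (Nat.card k) := Real.sqrt_pos.2 (by exact_mod_cast Nat.card_pos)
  have hs := Real.mul_self_sqrt (Nat.cast_nonneg (Nat.card k))
  nlinarith [norm_nonneg (α i)]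

end Numerator

end Groth.Agent.FunFldLib
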